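import Mathlib

/-!
# Relative finite presentation: modules finitely presented over a polynomial ring through a surjection

Helper library (helper11).  For a ring map `φ : P →+* Q` and a `Q`-module `M` we write the restricted
structure as `Module.compHom M φ`.
-/

set_option autoImplicit false
universe u v w

open TensorProduct

namespace Groth.Agent.Lib.Helper11

/-- every element of `Q ⊗[P] K` is a pure tensor `1 ⊗ k` when `P → Q` is surjective. -/
theorem exists_one_tmul_of_surjective {P : Type u} {Q : Type v} [CommRing P] [CommRing Q] [Algebra P Q]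
    (hs : Function.Surjective (algebraMap P Q)) {K : Type w} [AddCommGroup K] [Module P K]
    (w : Q ⊗[P] K) : ∃ k : K, w = (1 : Q) ⊗ₜ[P] k := by
  induction w using TensorProduct.induction_on with
  | zero => exact ⟨0, by simp⟩
  | tmul a k =>
    obtain ⟨a', rfl⟩ := hs a
    refine ⟨a' • k, ?_⟩
    rw [Algebra.algebraMap_eq_smul_one, TensorProduct.smul_tmul]
  | add x y hx hy =>
    obtain ⟨k, rfl⟩ := hx
    obtain ⟨k', rfl⟩ := hy
    exact ⟨k + k', by rw [TensorProduct.tmul_add]⟩

/-- Descent of finite presentation along a surjection: if a `Q`-module `M` is finitely presented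
over `P` through a surjection `φ : P → Q`, it is finitely presented over `Q`. -/
theorem fp_of_fp_compHom {P : Type u} {Q : Type v} [CommRing P] [CommRing Q] (φ : P →+* Q)
    (hφ : Function.Surjective φ) (M : Type w) [AddCommGroup M] [Module Q M]
    (h : @Module.FinitePresentation P M _ _ (Module.compHom M φ)) : Module.FinitePresentation Q M := by
  letI : Module P M := Module.compHom M φ
  letI : Algebra P Q := φ.toAlgebra
  haveI : IsScalarTower P Q M := IsScalarTower.of_algebraMap_smul fun r m => rfl
  haveI : Module.FinitePresentation P M := h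
  let μ : Q ⊗[P] M →ₗ[Q] M := LinearMap.liftBaseChange Q (LinearMap.id : M →ₗ[P] M)
  have hμ : ∀ m : M, μ ((1 : Q) ⊗ₜ[P] m) = m := by
    intro m
    simp [μ]
  have hinj : Function.Injective μ := by
    rw [← LinearMap.ker_eq_bot, LinearMap.ker_eq_bot']
    intro x hx
    obtain ⟨m, rfl⟩ := exists_one_tmul_of_surjective (P := P) (Q := Q) hφ x
    rw [hμ] at hx
    rw [hx, TensorProduct.tmul_zero]
  have hsurj : Function.Surjective μ := fun m => ⟨(1 : Q) ⊗ₜ[P] m, hμ m⟩
  exact Module.FinitePresentation.of_equiv (LinearEquiv.ofBijective μ ⟨hinj, hsurj⟩)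

/-- Restriction of finite presentation along a surjection with finitely generated kernel. -/
theorem fp_compHom_of_fp {P : Type u} {Q : Type v} [CommRing P] [CommRing Q] (φ : P →+* Q)
    (hφ : Function.Surjective φ) (hker : (RingHom.ker φ).FG) (M : Type w) [AddCommGroup M] [Module Q M]
    [Module.FinitePresentation Q M] : @Module.FinitePresentation P M _ _ (Module.compHom M φ) := by
  letI : Module P M := Module.compHom M φ
  letI : Algebra P Q := φ.toAlgebra
  haveI : IsScalarTower P Q M := IsScalarTower.of_algebraMap_smul fun r m => rfl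
  haveI : Module.FinitePresentation P Q := by
    refine Module.finitePresentation_of_surjective (Algebra.linearMap P Q) hφ ?_
    have : LinearMap.ker (Algebra.linearMap P Q) = RingHom.ker φ := by
      ext x
      simp only [LinearMap.mem_ker, Algebra.linearMap_apply, RingHom.mem_ker]
      rfl
    rw [this]
    exact hker
  exact Module.FinitePresentation.trans P M Q

/-- Both directions together. -/
theorem fp_compHom_iff {P : Type u} {Q : Type v} [CommRing P] [CommRing Q] (φ : P →+* Q)
    (hφ : Function.Surjective φ) (hker : (RingHom.ker φ).FG) (M : Type w) [AddCommGroup M] [Module Q M] :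
    @Module.FinitePresentation P M _ _ (Module.compHom M φ) ↔ Module.FinitePresentation Q M :=
  ⟨fun h => fp_of_fp_compHom φ hφ M h, fun h => fp_compHom_of_fp φ hφ hker M⟩

/-- The same, for a composite: `M` an `A`-module, `ψ : Q → A`, `φ : P → Q` surjective with finitely
generated kernel. -/
theorem fp_compHom_comp_iff {P : Type u} {Q : Type v} {A : Type w} [CommRing P] [CommRing Q] [CommRing A]
    (φ : P →+* Q) (hφ : Function.Surjective φ) (hker : (RingHom.ker φ).FG) (ψ : Q →+* A)
    (M : Type w) [AddCommGroup M] [Module A M] :
    @Module.FinitePresentation P M _ _ (Module.compHom M (ψ.comp φ)) ↔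
      @Module.FinitePresentation Q M _ _ (Module.compHom M ψ) := by
  letI : Module Q M := Module.compHom M ψ
  exact fp_compHom_iff φ hφ hker M

/-- Independence of the presentation: for two surjections from polynomial rings onto `A`,
finite presentation of an `A`-module through one is equivalent to finite presentation through the
other. -/
theorem fp_indep {R : Type u} {A : Type w} [CommRing R] [CommRing A] [Algebra R A] (M : Type w)
    [AddCommGroup M] [Module A M] {σ τ : Type*} [Finite σ] [Finite τ]
    (α : MvPolynomial σ R →ₐ[R] A) (hα : Function.Surjective α)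
    (β : MvPolynomial τ R →ₐ[R] A) (hβ : Function.Surjective β) :
    @Module.FinitePresentation (MvPolynomial σ R) M _ _ (Module.compHom M α.toRingHom) ↔
      @Module.FinitePresentation (MvPolynomial τ R) M _ _ (Module.compHom M β.toRingHom) := by
  classical
  choose g hg using fun j : τ => hα (β (MvPolynomial.X j))
  choose h hh using fun i : σ => hβ (α (MvPolynomial.X i))
  let π₁ : MvPolynomial (σ ⊕ τ) R →ₐ[R] MvPolynomial σ R := MvPolynomial.aeval (Sum.elim MvPolynomial.X g)
  let π₂ : MvPolynomial (σ ⊕ τ) R →ₐ[R] MvPolynomial τ R := MvPolynomial.aeval (Sum.elim h MvPolynomial.X)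
  have hπ₁ : Function.Surjective π₁ := by
    intro p
    refine ⟨MvPolynomial.rename Sum.inl p, ?_⟩
    simp only [π₁, MvPolynomial.aeval_rename]
    have : (Sum.elim MvPolynomial.X g ∘ Sum.inl : σ → MvPolynomial σ R) = MvPolynomial.X := by
      ext i; rfl
    rw [this, MvPolynomial.aeval_X_left]
    rfl
  have hπ₂ : Function.Surjective π₂ := by
    intro p
    refine ⟨MvPolynomial.rename Sum.inr p, ?_⟩
    simp only [π₂, MvPolynomial.aeval_rename]
    have : (Sum.elim h MvPolynomial.X ∘ Sum.inr : τ → MvPolynomial τ R) = MvPolynomial.X := by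
      ext i; rfl
    rw [this, MvPolynomial.aeval_X_left]
    rfl
  have hcomm : α.comp π₁ = β.comp π₂ := by
    apply MvPolynomial.algHom_ext
    rintro (i | j)
    · simp [π₁, π₂, hh]
    · simp [π₁, π₂, hg]
  have hk₁ : (RingHom.ker π₁.toRingHom).FG := Algebra.FinitePresentation.ker_fG_of_surjective π₁ hπ₁
  have hk₂ : (RingHom.ker π₂.toRingHom).FG := Algebra.FinitePresentation.ker_fG_of_surjective π₂ hπ₂
  have e₁ := fp_compHom_comp_iff π₁.toRingHom hπ₁ hk₁ α.toRingHom M
  have e₂ := fp_compHom_comp_iff π₂.toRingHom hπ₂ hk₂ β.toRingHom M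
  have hcomm' : α.toRingHom.comp π₁.toRingHom = β.toRingHom.comp π₂.toRingHom := by
    ext x
    · exact congrArg (fun f : MvPolynomial (σ ⊕ τ) R →ₐ[R] A => f (MvPolynomial.C x)) hcomm
    · exact congrArg (fun f : MvPolynomial (σ ⊕ τ) R →ₐ[R] A => f (MvPolynomial.X _)) hcomm
  rw [← e₁, ← e₂, hcomm']

/-- Generalization: a finitely presented `R`-algebra `P` surjecting onto `B` may replace the polynomial
ring. -/
theorem fp_indep_of_finitePresentation {R : Type u} {P : Type v} {B : Type w} [CommRing R] [CommRing P]
    [CommRing B] [Algebra R P] [Algebra R B] [Algebra.FinitePresentation R P] (M : Type w)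
    [AddCommGroup M] [Module B M] (φ : P →ₐ[R] B) (hφ : Function.Surjective φ)
    {τ : Type*} [Finite τ] (β : MvPolynomial τ R →ₐ[R] B) (hβ : Function.Surjective β) :
    @Module.FinitePresentation P M _ _ (Module.compHom M φ.toRingHom) ↔
      @Module.FinitePresentation (MvPolynomial τ R) M _ _ (Module.compHom M β.toRingHom) := by
  obtain ⟨n, f, hf⟩ := Algebra.FiniteType.iff_quotient_mvPolynomial''.1
    (inferInstance : Algebra.FiniteType R P)
  have hk : (RingHom.ker f.toRingHom).FG := Algebra.FinitePresentation.ker_fG_of_surjective f hf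
  have e₁ := fp_compHom_comp_iff f.toRingHom hf hk φ.toRingHom M
  have e₂ := fp_indep M (φ.comp f) (hφ.comp hf) β hβ
  rw [← e₁]
  exact e₂

/-- If `Q` is a finite `P`-algebra and the `Q`-module `M` is finitely presented over `P`, then it is
finitely presented over `Q`. -/
theorem fp_of_fp_restrictScalars {P : Type u} {Q : Type v} [CommRing P] [CommRing Q] [Algebra P Q]
    [Module.Finite P Q] (M : Type w) [AddCommGroup M] [Module P M] [Module Q M] [IsScalarTower P Q M]
    [Module.FinitePresentation P M] : Module.FinitePresentation Q M := by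
  haveI : Module.Finite Q M := Module.Finite.of_restrictScalars_finite P Q M
  obtain ⟨m, g, hg⟩ := Module.Finite.exists_fin' Q M
  refine Module.finitePresentation_of_surjective g hg ?_
  apply Submodule.FG.of_restrictScalars P
  have h := Module.FinitePresentation.fg_ker (g.restrictScalars P) hg
  rwa [LinearMap.ker_restrictScalars] at h

/-- For a finite, finitely presented (as a module) `P`-algebra `Q`, a `Q`-module is finitely presented over
`P` iff it is finitely presented over `Q`. -/
theorem fp_iff_of_finite_of_fp {P : Type u} {Q : Type v} [CommRing P] [CommRing Q] [Algebra P Q]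
    [Module.FinitePresentation P Q] (M : Type w) [AddCommGroup M] [Module P M] [Module Q M]
    [IsScalarTower P Q M] : Module.FinitePresentation P M ↔ Module.FinitePresentation Q M :=
  ⟨fun _ => fp_of_fp_restrictScalars (P := P) (Q := Q) M, fun _ => Module.FinitePresentation.trans P M Q⟩

end Groth.Agent.Lib.Helper11
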