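import Mathlib
import Groth.Agent.Lib.Helper11.RelFP

/-!
# Base change of relatively finitely presented modules (helper11)
-/

set_option autoImplicit false
universe u v w

open TensorProduct

namespace Groth.Agent.Lib.Helper11

/-- A base change over a quotient `A` of `P` is a base change over `P`. -/
theorem isBaseChange_restrictScalars_of_surjective {P A A' : Type*} [CommRing P] [CommRing A]
    [CommRing A'] [Algebra P A] [Algebra A A'] [Algebra P A'] [IsScalarTower P A A']
    (hs : Function.Surjective (algebraMap P A))
    {M T : Type*} [AddCommGroup M] [AddCommGroup T] [Module A M] [Module P M] [IsScalarTower P A M]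
    [Module A' T] [Module A T] [Module P T] [IsScalarTower A A' T] [IsScalarTower P A T]
    [IsScalarTower P A' T]
    (f : M →ₗ[A] T) (hf : IsBaseChange A' f) : IsBaseChange A' (f.restrictScalars P) := by
  apply IsBaseChange.of_lift_unique
  intro Q _ _ _ _ g
  letI : Module A Q := Module.compHom Q (algebraMap A A')
  haveI : IsScalarTower A A' Q := IsScalarTower.of_algebraMap_smul fun a q => rfl
  haveI : IsScalarTower P A Q := IsScalarTower.of_algebraMap_smul fun p q => by
    show algebraMap A A' (algebraMap P A p) • q = p • q
    rw [← IsScalarTower.algebraMap_apply P A A', algebraMap_smul]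
  let gA : M →ₗ[A] Q :=
    { g with
      map_smul' := fun a m => by
        obtain ⟨p, rfl⟩ := hs a
        simp only [AddHom.toFun_eq_coe, LinearMap.coe_toAddHom, RingHom.id_apply]
        rw [algebraMap_smul, algebraMap_smul, map_smul] }
  refine ⟨hf.lift gA, ?_, ?_⟩
  · ext x
    simp only [LinearMap.coe_comp, LinearMap.coe_restrictScalars, Function.comp_apply]
    exact hf.lift_eq gA x
  · intro g' hg'
    apply hf.algHom_ext
    intro x
    rw [hf.lift_eq]
    exact congrArg (fun l : M →ₗ[P] Q => l x) hg'

/-- kernel of `n ↦ 1 ⊗ n` for a surjective algebra map. -/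
theorem ker_mk_one_le_of_surjective {P' A' : Type*} [CommRing P'] [CommRing A'] [Algebra P' A']
    (hs : Function.Surjective (algebraMap P' A')) (N : Type*) [AddCommGroup N] [Module P' N] :
    LinearMap.ker (TensorProduct.mk P' A' N 1) ≤
      (RingHom.ker (algebraMap P' A')) • (⊤ : Submodule P' N) := by
  have hex : Function.Exact ((RingHom.ker (algebraMap P' A')).subtype) (Algebra.linearMap P' A') := by
    intro x
    constructor
    · intro hx
      exact ⟨⟨x, hx⟩, rfl⟩
    · rintro ⟨y, rfl⟩
      exact y.2
  have hE := rTensor_exact N hex hs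
  intro n hn
  have h1 : (LinearMap.rTensor N (Algebra.linearMap P' A')) ((1 : P') ⊗ₜ n) = 0 := by
    simpa using hn
  obtain ⟨w, hw⟩ := (hE _).1 h1
  have hn' : n = TensorProduct.lid P' N
      (LinearMap.rTensor N (RingHom.ker (algebraMap P' A')).subtype w) := by
    rw [hw]; simp
  rw [hn', ← Submodule.map_range_rTensor_subtype_lid]
  exact Submodule.mem_map_of_mem (LinearMap.mem_range_self _ w)

/-- Key lemma: base change of a relatively finitely presented module.  -/
theorem fp_baseChange_aux {P A P' A' : Type*} [CommRing P] [CommRing A] [CommRing P'] [CommRing A']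
    [Algebra P A] [Algebra P P'] [Algebra A A'] [Algebra P' A'] [Algebra P A'] [IsScalarTower P A A']
    [IsScalarTower P P' A']
    (hα : Function.Surjective (algebraMap P A)) (hφ : Function.Surjective (algebraMap P' A'))
    (J : Ideal P') (hJ : J.FG)
    (hker : RingHom.ker (algebraMap P' A') =
      (RingHom.ker (algebraMap P A)).map (algebraMap P P') ⊔ J)
    {M T : Type*} [AddCommGroup M] [AddCommGroup T] [Module A M] [Module P M] [IsScalarTower P A M]
    [Module.FinitePresentation P M]
    [Module A' T] [Module A T] [Module P T] [Module P' T] [IsScalarTower A A' T] [IsScalarTower P A T]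
    [IsScalarTower P A' T] [IsScalarTower P' A' T] [IsScalarTower P P' T]
    (f : M →ₗ[A] T) (hf : IsBaseChange A' f) : Module.FinitePresentation P' T := by
  have hfP : IsBaseChange A' (f.restrictScalars P) :=
    isBaseChange_restrictScalars_of_surjective hα f hf
  have hf₁ : IsBaseChange P' (TensorProduct.mk P P' M 1) := TensorProduct.isBaseChange P M P'
  let h : P' ⊗[P] M →ₗ[P'] T := hf₁.lift (f.restrictScalars P)
  have hcomp : (h.restrictScalars P) ∘ₗ (TensorProduct.mk P P' M 1) = f.restrictScalars P :=
    hf₁.lift_comp _
  have hh : IsBaseChange A' h := IsBaseChange.of_comp hf₁ (by rw [hcomp]; exact hfP)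
  have hequiv : ∀ n : P' ⊗[P] M, hh.equiv ((1 : A') ⊗ₜ n) = h n := by
    intro n
    rw [hh.equiv_tmul, one_smul]
  have hsurj : Function.Surjective h := by
    intro t
    obtain ⟨w, rfl⟩ := hh.equiv.surjective t
    obtain ⟨n, rfl⟩ := TensorProduct.mk_surjective P' (P' ⊗[P] M) A' hφ w
    exact ⟨n, (hequiv n).symm⟩
  have hann : ∀ r ∈ (RingHom.ker (algebraMap P A)).map (algebraMap P P'),
      ∀ n : P' ⊗[P] M, r • n = 0 := by
    have hle : (RingHom.ker (algebraMap P A)).map (algebraMap P P') ≤
        Module.annihilator P' (P' ⊗[P] M) := by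
      rw [Ideal.map_le_iff_le_comap]
      intro i hi
      rw [Ideal.mem_comap, Module.mem_annihilator]
      intro n
      rw [algebraMap_smul]
      induction n using TensorProduct.induction_on with
      | zero => simp
      | tmul p' m =>
        rw [TensorProduct.smul_tmul', TensorProduct.smul_tmul, ← algebraMap_smul A i m,
          (RingHom.mem_ker).1 hi, zero_smul, TensorProduct.tmul_zero]
      | add x y hx hy => rw [smul_add, hx, hy, add_zero]
    intro r hr n
    exact Module.mem_annihilator.1 (hle hr) n
  have hkerh : LinearMap.ker h = J • (⊤ : Submodule P' (P' ⊗[P] M)) := by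
    apply le_antisymm
    · intro n hn
      have hn0 : (TensorProduct.mk P' A' (P' ⊗[P] M) 1) n = 0 := by
        apply hh.equiv.injective
        rw [map_zero]
        show hh.equiv ((1 : A') ⊗ₜ n) = 0
        rw [hequiv n]
        exact hn
      have := ker_mk_one_le_of_surjective hφ (P' ⊗[P] M) hn0
      rw [hker, Submodule.sup_smul] at this
      obtain ⟨y, hy, z, hz, rfl⟩ := Submodule.mem_sup.1 this
      have hy0 : y = 0 := by
        refine Submodule.smul_induction_on hy (fun r hr n _ => hann r hr n) ?_
        intro a b ha hb
        rw [ha, hb, add_zero]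
      rw [hy0, zero_add]
      exact hz
    · rw [Submodule.smul_le]
      intro r hr n _
      rw [LinearMap.mem_ker, map_smul]
      have hr' : algebraMap P' A' r = 0 := by
        have : r ∈ RingHom.ker (algebraMap P' A') := by
          rw [hker]
          exact Ideal.mem_sup_right hr
        exact this
      rw [← algebraMap_smul A' r (h n), hr', zero_smul]
  refine Module.finitePresentation_of_surjective h hsurj ?_
  rw [hkerh]
  exact Submodule.FG.smul hJ Module.Finite.fg_top

/-- Base change of a relatively finitely presented module along a finitely presented ring map: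
`P` a finitely presented `R`-algebra surjecting onto `A`, `M` an `A`-module finitely presented over `P`,
`A'` a finitely presented `A`-algebra, `T` the base change of `M` to `A'`.  Then for every surjection
`γ` from a polynomial ring over `R` onto `A'`, `T` is finitely presented through `γ`. -/
theorem relFP_baseChange {R : Type u} {P : Type v} {A A' : Type w} [CommRing R] [CommRing P]
    [CommRing A] [CommRing A'] [Algebra R P] [Algebra.FinitePresentation R P] [Algebra R A]
    [Algebra A A'] [Algebra R A'] [IsScalarTower R A A'] [Algebra.FinitePresentation A A']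
    (α : P →ₐ[R] A) (hα : Function.Surjective α)
    {M T : Type w} [AddCommGroup M] [AddCommGroup T] [Module A M] [Module A' T] [Module A T]
    [IsScalarTower A A' T]
    (hM : @Module.FinitePresentation P M _ _ (Module.compHom M α.toRingHom))
    (f : M →ₗ[A] T) (hf : IsBaseChange A' f)
    {τ : Type*} [Finite τ] (γ : MvPolynomial τ R →ₐ[R] A') (hγ : Function.Surjective γ) :
    @Module.FinitePresentation (MvPolynomial τ R) T _ _ (Module.compHom T γ.toRingHom) := by
  classical
  obtain ⟨m, fpres, hfs, hfk⟩ := Algebra.FinitePresentation.out (R := A) (A := A')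
  let π : MvPolynomial (Fin m) P →ₐ[R] MvPolynomial (Fin m) A := MvPolynomial.mapAlgHom α
  have hπ : Function.Surjective π := MvPolynomial.map_surjective α.toRingHom hα
  let φ : MvPolynomial (Fin m) P →ₐ[R] A' := (fpres.restrictScalars R).comp π
  have hφ : Function.Surjective φ := hfs.comp hπ
  refine (fp_indep_of_finitePresentation (R := R) (P := MvPolynomial (Fin m) P) T φ hφ γ hγ).1 ?_
  letI : Algebra P A := α.toRingHom.toAlgebra
  letI : Algebra (MvPolynomial (Fin m) P) A' := φ.toRingHom.toAlgebra
  letI : Algebra P A' := ((algebraMap A A').comp α.toRingHom).toAlgebra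
  haveI : IsScalarTower P A A' := IsScalarTower.of_algebraMap_eq' rfl
  haveI : IsScalarTower P (MvPolynomial (Fin m) P) A' := IsScalarTower.of_algebraMap_eq (fun p => by
    show algebraMap A A' (α p) = fpres (MvPolynomial.map α.toRingHom (MvPolynomial.C p))
    rw [MvPolynomial.map_C, ← MvPolynomial.algebraMap_eq, fpres.commutes]
    rfl)
  letI : Module P M := Module.compHom M α.toRingHom
  haveI : IsScalarTower P A M := IsScalarTower.of_algebraMap_smul fun _ _ => rfl
  haveI : Module.FinitePresentation P M := hM
  letI : Module P T := Module.compHom T (algebraMap P A')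
  letI : Module (MvPolynomial (Fin m) P) T := Module.compHom T φ.toRingHom
  haveI : IsScalarTower P A' T := IsScalarTower.of_algebraMap_smul fun _ _ => rfl
  haveI : IsScalarTower (MvPolynomial (Fin m) P) A' T :=
    IsScalarTower.of_algebraMap_smul fun _ _ => rfl
  haveI : IsScalarTower P A T := IsScalarTower.of_algebraMap_smul fun p t => by
    show α p • t = algebraMap A A' (α p) • t
    rw [algebraMap_smul]
  haveI : IsScalarTower P (MvPolynomial (Fin m) P) T :=
    IsScalarTower.of_algebraMap_smul fun p t => by
      show algebraMap (MvPolynomial (Fin m) P) A' (algebraMap P _ p) • t = algebraMap P A' p • t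
      rw [← IsScalarTower.algebraMap_apply P (MvPolynomial (Fin m) P) A']
  obtain ⟨s, hs⟩ := hfk
  let t : Finset (MvPolynomial (Fin m) P) := s.image (Function.surjInv hπ)
  let J : Ideal (MvPolynomial (Fin m) P) := Ideal.span t
  have hJmap : J.map π.toRingHom = RingHom.ker fpres.toRingHom := by
    rw [← hs, Ideal.map_span]
    congr 1
    ext x
    simp only [t, Finset.coe_image, Set.mem_image, Finset.mem_coe, exists_exists_and_eq_and]
    constructor
    · rintro ⟨y, hy, rfl⟩
      have : π (Function.surjInv hπ y) = y := Function.surjInv_eq hπ y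
      rw [show π.toRingHom (Function.surjInv hπ y) = y from this]
      exact hy
    · intro hx
      exact ⟨x, hx, Function.surjInv_eq hπ x⟩
  have hker : RingHom.ker (algebraMap (MvPolynomial (Fin m) P) A') =
      (RingHom.ker (algebraMap P A)).map (algebraMap P (MvPolynomial (Fin m) P)) ⊔ J := by
    have h1 : RingHom.ker (algebraMap (MvPolynomial (Fin m) P) A') =
        Ideal.comap π.toRingHom (RingHom.ker fpres.toRingHom) := by
      ext x
      rw [RingHom.mem_ker, Ideal.mem_comap, RingHom.mem_ker]
      rfl
    rw [h1, ← hJmap, Ideal.comap_map_of_surjective π.toRingHom hπ, sup_comm]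
    congr 1
    exact MvPolynomial.ker_mapAlgHom α
  exact fp_baseChange_aux (P := P) (A := A) (P' := MvPolynomial (Fin m) P) (A' := A') hα hφ J
    ⟨t, rfl⟩ hker f hf

end Groth.Agent.Lib.Helper11
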