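import Mathlib
import Groth.Agent.Lib.Helper11.RelFPBaseChange

/-!
# Relative finite presentation is local (helper11)
-/

set_option autoImplicit false
universe u v w

open TensorProduct

namespace Groth.Agent.Lib.Helper11

/-- If the localization `M_{α g}` (an `A_{α g}`-module) is finitely presented relative to `R`, then the
localization `M_g` of the `P`-module `M` is finitely presented over `P_g`. -/
theorem fp_localizedModule_away_of_relFP {R : Type u} {P : Type v} {A : Type w} [CommRing R] [CommRing P]
    [CommRing A] [Algebra R P] [Algebra.FinitePresentation R P] [Algebra R A] (α : P →ₐ[R] A)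
    (hα : Function.Surjective α) (M : Type w) [AddCommGroup M] [Module A M] [Module P M]
    (hPM : ∀ (p : P) (m : M), p • m = α p • m) (g : P) {τ : Type*} [Finite τ]
    (γ : MvPolynomial τ R →ₐ[R] Localization.Away (α g)) (hγ : Function.Surjective γ)
    (h : @Module.FinitePresentation (MvPolynomial τ R) (LocalizedModule (Submonoid.powers (α g)) M) _ _
      (Module.compHom _ γ.toRingHom)) :
    Module.FinitePresentation (Localization.Away g) (LocalizedModule (Submonoid.powers g) M) := by
  haveI : Algebra.FinitePresentation P (Localization.Away g) :=
    IsLocalization.Away.finitePresentation g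
  haveI : Algebra.FinitePresentation R (Localization.Away g) :=
    Algebra.FinitePresentation.trans R P (Localization.Away g)
  let αg : Localization.Away g →ₐ[R] Localization.Away (α g) := Localization.awayMapₐ α g
  have hαg : Function.Surjective αg := by
    have : Function.Surjective (Localization.awayMap α.toRingHom g) := by
      rw [Localization.awayMap_surjective_iff]
      intro a
      obtain ⟨b, rfl⟩ := hα a
      exact ⟨b, 0, by simp⟩
    exact this
  have h2 := (fp_indep_of_finitePresentation (R := R) (P := Localization.Away g)
    (LocalizedModule (Submonoid.powers (α g)) M) αg hαg γ hγ).2 h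
  letI : Module (Localization.Away g) (LocalizedModule (Submonoid.powers (α g)) M) :=
    Module.compHom _ αg.toRingHom
  letI : Module P (LocalizedModule (Submonoid.powers (α g)) M) := Module.compHom _ α.toRingHom
  haveI : Module.FinitePresentation (Localization.Away g)
    (LocalizedModule (Submonoid.powers (α g)) M) := h2
  haveI : IsScalarTower P (Localization.Away g) (LocalizedModule (Submonoid.powers (α g)) M) :=
    IsScalarTower.of_algebraMap_smul fun p t => by
      show αg (algebraMap P (Localization.Away g) p) • t = α p • t
      have : αg (algebraMap P (Localization.Away g) p) =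
          algebraMap A (Localization.Away (α g)) (α p) := by
        show IsLocalization.Away.map _ _ α.toRingHom g (algebraMap P (Localization.Away g) p) = _
        rw [IsLocalization.Away.map, IsLocalization.map_eq]
        rfl
      rw [this, algebraMap_smul]
  let mkA := LocalizedModule.mkLinearMap (Submonoid.powers (α g)) M
  let ψ : M →ₗ[P] LocalizedModule (Submonoid.powers (α g)) M :=
    { toFun := mkA
      map_add' := mkA.map_add
      map_smul' := fun p m => by
        show mkA (p • m) = α p • mkA m
        rw [hPM, map_smul] }
  haveI : IsLocalizedModule (Submonoid.powers g) ψ :=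
    { map_units := fun x => by
        have hx : α (x : P) ∈ Submonoid.powers (α g) := by
          obtain ⟨n, hn⟩ := x.2
          exact ⟨n, by rw [← hn, map_pow]⟩
        have hu := IsLocalizedModule.map_units mkA ⟨α x, hx⟩
        rw [Module.End.isUnit_iff] at hu ⊢
        exact hu
      surj := fun y => by
        obtain ⟨⟨m, ⟨s, n, hn⟩⟩, hy⟩ := IsLocalizedModule.surj (Submonoid.powers (α g)) mkA y
        refine ⟨(m, ⟨g ^ n, n, rfl⟩), ?_⟩
        show α (g ^ n) • y = mkA m
        rw [map_pow]
        have hn' : (α g) ^ n = s := hn
        rw [hn']
        exact hy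
      exists_of_eq := fun {x₁ x₂} hx => by
        obtain ⟨⟨s, n, hn⟩, hc⟩ := IsLocalizedModule.exists_of_eq (S := Submonoid.powers (α g))
          (f := mkA) hx
        refine ⟨⟨g ^ n, n, rfl⟩, ?_⟩
        show g ^ n • x₁ = g ^ n • x₂
        rw [hPM, hPM, map_pow]
        have hn' : (α g) ^ n = s := hn
        rw [hn']
        exact hc }
  let e : LocalizedModule (Submonoid.powers g) M ≃ₗ[P] LocalizedModule (Submonoid.powers (α g)) M :=
    IsLocalizedModule.iso (Submonoid.powers g) ψ
  let e' := e.extendScalarsOfIsLocalization (Submonoid.powers g) (Localization.Away g)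
  exact Module.FinitePresentation.of_equiv e'.symm

/-- Relative finite presentation can be checked on a standard open cover. -/
theorem relFP_of_localizationSpan {R : Type u} {P : Type v} {A : Type w} [CommRing R] [CommRing P]
    [CommRing A] [Algebra R P] [Algebra.FinitePresentation R P] [Algebra R A] (α : P →ₐ[R] A)
    (hα : Function.Surjective α) (M : Type w) [AddCommGroup M] [Module A M] {ι : Type*} (f : ι → A)
    (hf : Ideal.span (Set.range f) = ⊤) (τ : ι → Type*) [∀ i, Finite (τ i)]
    (γ : ∀ i, MvPolynomial (τ i) R →ₐ[R] Localization.Away (f i))
    (hγ : ∀ i, Function.Surjective (γ i))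
    (h : ∀ i, @Module.FinitePresentation (MvPolynomial (τ i) R)
      (LocalizedModule (Submonoid.powers (f i)) M) _ _ (Module.compHom _ (γ i).toRingHom)) :
    @Module.FinitePresentation P M _ _ (Module.compHom M α.toRingHom) := by
  letI : Module P M := Module.compHom M α.toRingHom
  choose p hp using fun i => hα (f i)
  have hfeq : f = fun i => α (p i) := funext fun i => (hp i).symm
  subst hfeq
  let s : Set P := Set.range p ∪ (RingHom.ker α.toRingHom : Set P)
  have hs : Ideal.span s = ⊤ := by
    have h1 : (1 : A) ∈ Ideal.map α.toRingHom (Ideal.span s) := by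
      have : Ideal.span (Set.range fun i => α (p i)) ≤ Ideal.map α.toRingHom (Ideal.span s) := by
        rw [Ideal.span_le]
        rintro _ ⟨i, rfl⟩
        exact Ideal.mem_map_of_mem _ (Ideal.subset_span (Or.inl ⟨i, rfl⟩))
      apply this
      rw [hf]
      trivial
    obtain ⟨q, hq, hq1⟩ := (Ideal.mem_map_iff_of_surjective α.toRingHom hα).1 h1
    rw [Ideal.eq_top_iff_one]
    have h2 : (1 - q) ∈ Ideal.span s := by
      apply Ideal.subset_span
      right
      show α.toRingHom (1 - q) = 0
      rw [map_sub, map_one, hq1, sub_self]
    have := Ideal.add_mem _ hq h2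
    simpa using this
  apply Module.FinitePresentation.of_localizationSpan s hs
  rintro ⟨g, hg⟩
  rcases hg with ⟨i, rfl⟩ | hg
  · exact fp_localizedModule_away_of_relFP α hα M (fun _ _ => rfl) (p i) (γ i) (hγ i) (h i)
  · haveI : Subsingleton (LocalizedModule.Away g M) := by
      rw [LocalizedModule.subsingleton_iff]
      intro m
      refine ⟨g, Submonoid.mem_powers g, ?_⟩
      show α g • m = 0
      have : α g = 0 := hg
      rw [this, zero_smul]
    infer_instance

end Groth.Agent.Lib.Helper11
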