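import Mathlib

/-!
# A generic "filtered colimit of finitely presented algebras with a property" lemma (helper11)

Given an `A`-algebra `B` and a property `P` of `A`-algebras which is invariant under isomorphism,
stable under tensor products and under quotients by finitely generated ideals mapping to zero in
`B`, and such that every element of `B` is in the image of some finitely presented `A`-algebra
with `P` mapping to `B`: then `B` is a small filtered colimit (in `Under A`) of finitely presented
`A`-algebras with `P`.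
-/

set_option autoImplicit false
universe u
open CategoryTheory Limits TensorProduct

namespace Groth.Agent.Lib.Helper11.GenColim

noncomputable section

variable (A B : Type u) [CommRing A] [CommRing B] [Algebra A B]
variable (P : ∀ (C : Type u) [CommRing C] [Algebra A C], Prop)

/-- the index type: explicitly presented algebras with `P` and a map to `B`. -/
structure Idx : Type u where
  n : ℕ
  I : Ideal (MvPolynomial (Fin n) A)
  g : (MvPolynomial (Fin n) A ⧸ I) →ₐ[A] B
  fg : I.FG
  prop : P (MvPolynomial (Fin n) A ⧸ I)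

/-- the hypotheses on `P`. -/
structure Hyp : Prop where
  iso : ∀ (C C' : Type u) [CommRing C] [CommRing C'] [Algebra A C] [Algebra A C'],
    (C ≃ₐ[A] C') → P C → P C'
  tensor : ∀ (C C' : Type u) [CommRing C] [CommRing C'] [Algebra A C] [Algebra A C'],
    Algebra.FinitePresentation A C → Algebra.FinitePresentation A C' →
    P C → P C' → P (C ⊗[A] C')
  quot : ∀ (C : Type u) [CommRing C] [Algebra A C] (g : C →ₐ[A] B) (I : Ideal C),
    I.FG → (∀ x ∈ I, g x = 0) → P C → P (C ⧸ I)
  claim : ∀ b : B, ∃ (C : Type u) (_ : CommRing C) (_ : Algebra A C) (g : C →ₐ[A] B),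
    Algebra.FinitePresentation A C ∧ P C ∧ ∃ c : C, g c = b

variable {A B P}

/-- the algebra of an index. -/
abbrev Idx.Q (s : Idx A B P) : Type u := MvPolynomial (Fin s.n) A ⧸ s.I

instance (s : Idx A B P) : Algebra.FinitePresentation A s.Q :=
  Algebra.FinitePresentation.quotient s.fg

instance : Category.{u} (Idx A B P) where
  Hom s t := {f : s.Q →ₐ[A] t.Q // t.g.comp f = s.g}
  id s := ⟨AlgHom.id A _, AlgHom.comp_id _⟩
  comp f g := ⟨g.1.comp f.1, by rw [← AlgHom.comp_assoc, g.2, f.2]⟩

theorem Idx.hom_ext {s t : Idx A B P} (f f' : s ⟶ t) (h : f.1 = f'.1) : f = f' := Subtype.ext h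

@[simp] theorem Idx.id_val (s : Idx A B P) : (𝟙 s : s ⟶ s).1 = AlgHom.id A _ := rfl
@[simp] theorem Idx.comp_val {s t r : Idx A B P} (f : s ⟶ t) (g : t ⟶ r) :
    (f ≫ g).1 = g.1.comp f.1 := rfl

variable (A B P) in
/-- the diagram. -/
def F : Idx A B P ⥤ Under (CommRingCat.of A) where
  obj s := Under.mk (CommRingCat.ofHom (algebraMap A s.Q))
  map {s t} f := Under.homMk (CommRingCat.ofHom f.1.toRingHom) (by
    ext a
    exact f.1.commutes a)
  map_id s := by
    ext : 2
    rfl
  map_comp f g := by
    ext : 2
    rfl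

variable (A B P) in
/-- the cocone with point `B`. -/
def cocone : Cocone (F A B P) where
  pt := Under.mk (CommRingCat.ofHom (algebraMap A B))
  ι :=
    { app := fun s => Under.homMk (CommRingCat.ofHom s.g.toRingHom) (by
        ext a
        exact s.g.commutes a)
      naturality := by
        intro s t f
        ext : 2
        simp only [Functor.const_obj_obj, Functor.const_obj_map, Category.comp_id]
        ext x
        exact AlgHom.congr_fun f.2 x }

theorem exists_idx (H : Hyp A B P) (C : Type u) [CommRing C] [Algebra A C] (g : C →ₐ[A] B)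
    (hfp : Algebra.FinitePresentation A C) (hP : P C) :
    ∃ (s : Idx A B P) (e : C ≃ₐ[A] s.Q), ∀ c, s.g (e c) = g c := by
  obtain ⟨n, f, hf, hker⟩ := hfp
  let e0 : (MvPolynomial (Fin n) A ⧸ RingHom.ker f.toRingHom) ≃ₐ[A] C :=
    Ideal.quotientKerAlgEquivOfSurjective hf
  refine ⟨⟨n, RingHom.ker f.toRingHom, g.comp e0.toAlgHom, hker, H.iso _ _ e0.symm hP⟩,
    e0.symm, ?_⟩
  intro c
  show g (e0 (e0.symm c)) = g c
  rw [AlgEquiv.apply_symm_apply]

theorem isFiltered (H : Hyp A B P) : IsFiltered (Idx A B P) := by
  haveI : Nonempty (Idx A B P) := by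
    obtain ⟨C, _, _, g, hfp, hP, -⟩ := H.claim 0
    obtain ⟨s, -, -⟩ := exists_idx H C g hfp hP
    exact ⟨s⟩
  haveI : IsFilteredOrEmpty (Idx A B P) := by
    refine ⟨?_, ?_⟩
    · intro s t
      let g : s.Q ⊗[A] t.Q →ₐ[A] B :=
        Algebra.TensorProduct.lift s.g t.g (fun _ _ => Commute.all _ _)
      have hfp : Algebra.FinitePresentation A (s.Q ⊗[A] t.Q) :=
        Algebra.FinitePresentation.trans A s.Q (s.Q ⊗[A] t.Q)
      obtain ⟨k, e, he⟩ := exists_idx H _ g hfp
        (H.tensor _ _ inferInstance inferInstance s.prop t.prop)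
      refine ⟨k, ⟨e.toAlgHom.comp Algebra.TensorProduct.includeLeft, ?_⟩,
        ⟨e.toAlgHom.comp Algebra.TensorProduct.includeRight, ?_⟩, trivial⟩
      · apply AlgHom.ext
        intro x
        show k.g (e (x ⊗ₜ 1)) = s.g x
        rw [he]
        simp [g]
      · apply AlgHom.ext
        intro x
        show k.g (e (1 ⊗ₜ x)) = t.g x
        rw [he]
        simp [g]
    · intro s t f f'
      let gen : Fin s.n → t.Q := fun i =>
        f.1 (Ideal.Quotient.mk _ (MvPolynomial.X i)) - f'.1 (Ideal.Quotient.mk _ (MvPolynomial.X i))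
      let I : Ideal t.Q := Ideal.span (Set.range gen)
      have hI : I.FG := Submodule.fg_span (Set.finite_range gen)
      have hle : I ≤ RingHom.ker t.g.toRingHom := by
        rw [Ideal.span_le]
        rintro _ ⟨i, rfl⟩
        show t.g (f.1 _ - f'.1 _) = 0
        rw [map_sub, sub_eq_zero]
        exact (AlgHom.congr_fun f.2 _).trans (AlgHom.congr_fun f'.2 _).symm
      have hIg : ∀ x ∈ I, t.g x = 0 := fun x hx => hle hx
      let g' : t.Q ⧸ I →ₐ[A] B := Ideal.Quotient.liftₐ I t.g hIg
      obtain ⟨k, e, he⟩ := exists_idx H _ g' (Algebra.FinitePresentation.quotient hI)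
        (H.quot _ t.g I hI hIg t.prop)
      refine ⟨k, ⟨e.toAlgHom.comp (Ideal.Quotient.mkₐ A I), ?_⟩, ?_⟩
      · apply AlgHom.ext
        intro x
        show k.g (e (Ideal.Quotient.mk I x)) = t.g x
        rw [he]
        rfl
      · apply Idx.hom_ext
        show (e.toAlgHom.comp (Ideal.Quotient.mkₐ A I)).comp f.1 =
          (e.toAlgHom.comp (Ideal.Quotient.mkₐ A I)).comp f'.1
        apply Ideal.Quotient.algHom_ext
        apply MvPolynomial.algHom_ext
        intro i
        show e (Ideal.Quotient.mk I (f.1 (Ideal.Quotient.mk _ (MvPolynomial.X i)))) =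
          e (Ideal.Quotient.mk I (f'.1 (Ideal.Quotient.mk _ (MvPolynomial.X i))))
        congr 1
        rw [Ideal.Quotient.eq]
        exact Ideal.subset_span ⟨i, rfl⟩
  exact {}

attribute [local instance] IsFiltered.isConnected in
theorem isColimit (H : Hyp A B P) : Nonempty (IsColimit (cocone A B P)) := by
  haveI := isFiltered H
  have h1 : IsColimit ((forget CommRingCat).mapCocone
      ((Under.forget (CommRingCat.of A)).mapCocone (cocone A B P))) := by
    apply Types.FilteredColimit.isColimitOf'
    · intro b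
      obtain ⟨C, _, _, g, hfp, hP, c, hc⟩ := H.claim b
      obtain ⟨s, e, he⟩ := exists_idx H C g hfp hP
      refine ⟨s, e c, ?_⟩
      show b = s.g (e c)
      rw [he, hc]
    · intro s (x : s.Q) (y : s.Q) (hxy' : s.g x = s.g y)
      let I : Ideal s.Q := Ideal.span {x - y}
      have hI : I.FG := ⟨{x - y}, by simp [I]⟩
      have hIg : ∀ z ∈ I, s.g z = 0 := by
        have hle : I ≤ RingHom.ker s.g.toRingHom := by
          rw [Ideal.span_le]
          rintro _ rfl
          show s.g (x - y) = 0
          rw [map_sub, hxy', sub_self]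
        exact fun z hz => hle hz
      let g' : s.Q ⧸ I →ₐ[A] B := Ideal.Quotient.liftₐ I s.g hIg
      obtain ⟨k, e, he⟩ := exists_idx H _ g' (Algebra.FinitePresentation.quotient hI)
        (H.quot _ s.g I hI hIg s.prop)
      refine ⟨k, ⟨e.toAlgHom.comp (Ideal.Quotient.mkₐ A I), ?_⟩, ?_⟩
      · apply AlgHom.ext
        intro z
        show k.g (e (Ideal.Quotient.mk I z)) = s.g z
        rw [he]
        rfl
      · show e (Ideal.Quotient.mk I x) = e (Ideal.Quotient.mk I y)
        congr 1
        rw [Ideal.Quotient.eq]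
        exact Ideal.subset_span rfl
  haveI : ReflectsColimit (F A B P ⋙ Under.forget (CommRingCat.of A)) (forget CommRingCat) :=
    reflectsColimit_of_reflectsIsomorphisms _ _
  have h2 : IsColimit ((Under.forget (CommRingCat.of A)).mapCocone (cocone A B P)) :=
    isColimitOfReflects (forget CommRingCat) h1
  exact ⟨isColimitOfReflects (Under.forget (CommRingCat.of A)) h2⟩

end

end Groth.Agent.Lib.Helper11.GenColim
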