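import Mathlib
import Groth.Agent.Lib.Lead.Spectral

/-!
# Helper11: spectral spaces and the constructible topology (on top of Lead/Spectral)
-/

set_option autoImplicit false
universe u v

namespace Groth.Agent.Lib.Helper11.SpecSp

open Topology Groth.Agent.Lib.Lead

variable {X : Type u} [TopologicalSpace X]

/-- The constructible topology of a spectral space is Hausdorff. -/
theorem t2Space_constructibleTopology (X : Type u) [TopologicalSpace X] [SpectralSpace X] :
    @T2Space X (constructibleTopology X) := by
  refine @T2Space.mk X (constructibleTopology X) ?_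
  intro x y hxy
  obtain ⟨U, hU, hxor⟩ := exists_isOpen_xor_mem hxy
  rcases hxor with ⟨hx, hy⟩ | ⟨hy, hx⟩
  · obtain ⟨W, hW, hxW, hWU⟩ :=
      PrespectralSpace.isTopologicalBasis.exists_subset_of_mem_open hx hU
    exact ⟨W, Wᶜ, hW.2.isOpen_constructibleTopology_of_isOpen hW.1,
      (@isOpen_compl_iff X W (constructibleTopology X)).mpr
        (isClosed_constructibleTopology_of_isOpen_isCompact hW.1 hW.2),
      hxW, fun h => hy (hWU h), disjoint_compl_right⟩
  · obtain ⟨W, hW, hyW, hWU⟩ :=
      PrespectralSpace.isTopologicalBasis.exists_subset_of_mem_open hy hU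
    exact ⟨Wᶜ, W, (@isOpen_compl_iff X W (constructibleTopology X)).mpr
        (isClosed_constructibleTopology_of_isOpen_isCompact hW.1 hW.2),
      hW.2.isOpen_constructibleTopology_of_isOpen hW.1,
      fun h => hx (hWU h), hyW, disjoint_compl_left⟩

/-- The identity is continuous from the constructible topology to the original topology. -/
theorem continuous_id_constructibleTopology (X : Type u) [TopologicalSpace X]
    [PrespectralSpace X] : @Continuous X X (constructibleTopology X) _ id :=
  @Continuous.mk X X (constructibleTopology X) _ id
    fun _ hU => isOpen_constructibleTopology_of_isOpen hU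

/-- constructibly closed ⇒ constructibly compact -/
theorem isCompact_cons_of_isClosed_cons [SpectralSpace X] {E : Set X}
    (hE : IsClosed[constructibleTopology X] E) : @IsCompact X (constructibleTopology X) E :=
  @IsClosed.isCompact X (constructibleTopology X) E (compactSpace_constructibleTopology X) hE

/-- constructibly compact ⇒ constructibly closed -/
theorem isClosed_cons_of_isCompact_cons [SpectralSpace X] {E : Set X}
    (hE : @IsCompact X (constructibleTopology X) E) : IsClosed[constructibleTopology X] E :=
  @IsCompact.isClosed X (constructibleTopology X) (t2Space_constructibleTopology X) E hE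

/-- constructibly compact ⇒ quasi-compact -/
theorem isCompact_of_isCompact_cons [PrespectralSpace X] {E : Set X}
    (hE : @IsCompact X (constructibleTopology X) E) : IsCompact E := by
  have := @IsCompact.image X X (constructibleTopology X) _ E id hE
    (continuous_id_constructibleTopology X)
  rwa [Set.image_id] at this

/-- constructibly closed ⇒ quasi-compact -/
theorem isCompact_of_isClosed_cons [SpectralSpace X] {E : Set X}
    (hE : IsClosed[constructibleTopology X] E) : IsCompact E :=
  isCompact_of_isCompact_cons (isCompact_cons_of_isClosed_cons hE)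

/-- Patch compactness: a family of constructibly closed sets with empty intersection has a finite
subfamily with empty intersection. -/
theorem exists_finset_iInter_eq_empty_of_isClosed_cons [SpectralSpace X]
    {ι : Type v} (t : ι → Set X)
    (ht : ∀ i, IsClosed[constructibleTopology X] (t i)) (h : (⋂ i, t i) = ∅) :
    ∃ u : Finset ι, (⋂ i ∈ u, t i) = ∅ := by
  obtain ⟨u, hu⟩ := @IsCompact.elim_finite_subfamily_closed X (constructibleTopology X) Set.univ ι
    (@isCompact_univ X (constructibleTopology X) (compactSpace_constructibleTopology X))
    t ht (by rw [h]; simp)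
  rw [Set.univ_inter] at hu
  exact ⟨u, hu⟩

/-- A spectral map is continuous for the constructible topologies. -/
theorem continuous_cons_of_isSpectralMap {Y : Type v} [TopologicalSpace Y] {f : X → Y}
    (hf : IsSpectralMap f) :
    @Continuous X Y (constructibleTopology X) (constructibleTopology Y) f := by
  refine (@continuous_generateFrom_iff X Y f (constructibleTopology X)
    (constructibleTopologySubbasis Y)).mpr ?_
  rintro s (⟨hso, hsc⟩ | ⟨hscl, hsc⟩)
  · exact (hsc.preimage_of_isOpen hf hso).isOpen_constructibleTopology_of_isOpen
      (hso.preimage hf.continuous)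
  · apply IsCompact.isOpen_constructibleTopology_of_isClosed
    · rw [← Set.preimage_compl]
      exact hsc.preimage_of_isOpen hf hscl.isOpen_compl
    · exact hscl.preimage hf.continuous

/-- In a spectral space, every point of the closure of a constructibly closed set is a
specialization of a point of the set. -/
theorem exists_specializes_of_mem_closure [SpectralSpace X] {E : Set X}
    (hE : IsClosed[constructibleTopology X] E) {x : X} (hx : x ∈ closure E) :
    ∃ e ∈ E, e ⤳ x := by
  by_contra hcon
  push_neg at hcon
  -- the family `E ∩ W`, `W` quasi-compact open neighbourhood of `x`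
  let ι := {W : Set X // IsOpen W ∧ IsCompact W ∧ x ∈ W}
  have hcl : ∀ W : ι, IsClosed[constructibleTopology X] (E ∩ W.1) := fun W =>
    @IsClosed.inter X E W.1 (constructibleTopology X) hE
      (isClosed_constructibleTopology_of_isOpen_isCompact W.2.1 W.2.2.1)
  have hempty : (⋂ W : ι, E ∩ W.1) = ∅ := by
    rw [Set.eq_empty_iff_forall_notMem]
    intro e he
    rw [Set.mem_iInter] at he
    obtain ⟨W₁, hW₁, hxW₁, -⟩ := PrespectralSpace.isTopologicalBasis.exists_subset_of_mem_open
      (Set.mem_univ x) isOpen_univ
    have heE : e ∈ E := (he ⟨W₁, hW₁.1, hW₁.2, hxW₁⟩).1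
    exact hcon e heE (specializes_of_forall_isCompact_isOpen
      fun W hWo hWc hxW => (he ⟨W, hWo, hWc, hxW⟩).2)
  obtain ⟨u, hu⟩ := exists_finset_iInter_eq_empty_of_isClosed_cons _ hcl hempty
  have hopen : IsOpen (⋂ W ∈ u, (W : ι).1) := isOpen_biInter_finset fun W _ => W.2.1
  have hxmem : x ∈ ⋂ W ∈ u, (W : ι).1 := Set.mem_iInter₂.mpr fun W _ => W.2.2.2
  obtain ⟨e, he1, he2⟩ := mem_closure_iff.mp hx _ hopen hxmem
  have : e ∈ ⋂ W ∈ u, E ∩ (W : ι).1 :=
    Set.mem_iInter₂.mpr fun W hW => ⟨he2, Set.mem_iInter₂.mp he1 W hW⟩
  rw [hu] at this
  exact this

/-- A constructibly closed set stable under specialization is closed. -/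
theorem isClosed_of_isClosed_cons_of_stableUnderSpecialization [SpectralSpace X] {E : Set X}
    (hE : IsClosed[constructibleTopology X] E) (hs : StableUnderSpecialization E) :
    IsClosed E := by
  rw [← closure_subset_iff_isClosed]
  intro x hx
  obtain ⟨e, he, hex⟩ := exists_specializes_of_mem_closure hE hx
  exact hs hex he

/-- A constructibly open set stable under generalization is open. -/
theorem isOpen_of_isOpen_cons_of_stableUnderGeneralization [SpectralSpace X] {E : Set X}
    (hE : IsOpen[constructibleTopology X] E) (hs : StableUnderGeneralization E) :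
    IsOpen E := by
  rw [← isClosed_compl_iff]
  exact isClosed_of_isClosed_cons_of_stableUnderSpecialization
    ((@isClosed_compl_iff X (constructibleTopology X) E).mpr hE)
    (stableUnderSpecialization_compl_iff.mpr hs)

/-- The image of a constructibly closed set under a spectral map of spectral spaces is
constructibly closed. -/
theorem isClosed_cons_image {Y : Type v} [TopologicalSpace Y] [SpectralSpace X] [SpectralSpace Y]
    {f : X → Y} (hf : IsSpectralMap f) {E : Set X} (hE : IsClosed[constructibleTopology X] E) :
    IsClosed[constructibleTopology Y] (f '' E) :=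
  isClosed_cons_of_isCompact_cons
    (@IsCompact.image X Y (constructibleTopology X) (constructibleTopology Y) E f
      (isCompact_cons_of_isClosed_cons hE) (continuous_cons_of_isSpectralMap hf))

end Groth.Agent.Lib.Helper11.SpecSp
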