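import Mathlib
import Groth.Prelude.Def_AlgGrp
import Groth.Agent.Lib.Helper22.SmoothRed

/-!
# Points with values in an algebraically closed field (helper11)

Closed points of schemes locally of finite type over a field `k` are images of `K`-points for any
algebraically closed extension `K`; a closed subscheme of a reduced scheme locally of finite type
through which all `K`-points factor is everything.
-/

set_option autoImplicit false
universe u

open CategoryTheory CategoryTheory.Limits AlgebraicGeometry

namespace Groth.Agent.Lib.Helper11.KPts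

variable (k K : Type u) [Field k] [Field K] [Algebra k K]

theorem exists_point_of_isClosed [IsAlgClosed K] {W : Scheme.{u}}
    (fW : W ⟶ Spec (CommRingCat.of k)) [LocallyOfFiniteType fW] (w : W)
    (hw : IsClosed ({w} : Set W)) :
    ∃ p : Spec (CommRingCat.of K) ⟶ W,
      p ≫ fW = Spec.map (CommRingCat.ofHom (algebraMap k K)) ∧ ∀ t, p t = w := by
  have hfin : IsFinite (W.fromSpecResidueField w ≫ fW) := by
    rw [isClosed_singleton_iff_isClosedImmersion] at hw
    rw [isFinite_iff_locallyOfFiniteType_of_jacobsonSpace]
    infer_instance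
  let φ : CommRingCat.of k ⟶ W.residueField w := Spec.preimage (W.fromSpecResidueField w ≫ fW)
  have hφ : Spec.map φ = W.fromSpecResidueField w ≫ fW := Spec.map_preimage _
  have hint : φ.hom.IsIntegral := by
    rw [← IsIntegralHom.SpecMap_iff, hφ]
    infer_instance
  letI : Algebra k (W.residueField w) := φ.hom.toAlgebra
  haveI : Algebra.IsIntegral k (W.residueField w) := ⟨hint⟩
  haveI : Algebra.IsAlgebraic k (W.residueField w) := Algebra.IsIntegral.isAlgebraic
  let ψ : W.residueField w →ₐ[k] K := IsAlgClosed.lift
  refine ⟨Spec.map (CommRingCat.ofHom ψ.toRingHom) ≫ W.fromSpecResidueField w, ?_, ?_⟩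
  · rw [Category.assoc, ← hφ, ← Spec.map_comp]
    congr 1
    ext x
    exact ψ.commutes x
  · intro t
    rw [Scheme.Hom.comp_apply]
    exact Scheme.fromSpecResidueField_apply w _

theorem isIso_of_points_factor [IsAlgClosed K] {W P : Scheme.{u}}
    (fW : W ⟶ Spec (CommRingCat.of k)) [LocallyOfFiniteType fW] [IsReduced W]
    (j : P ⟶ W) [IsClosedImmersion j]
    (h : ∀ p : Spec (CommRingCat.of K) ⟶ W,
      p ≫ fW = Spec.map (CommRingCat.ofHom (algebraMap k K)) →
        ∃ q : Spec (CommRingCat.of K) ⟶ P, q ≫ j = p) : IsIso j := by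
  haveI : JacobsonSpace W := LocallyOfFiniteType.jacobsonSpace fW
  have hcl : IsClosed (Set.range j) := j.isClosedEmbedding.isClosed_range
  have hsub : closedPoints W ⊆ Set.range j := by
    intro w hw
    obtain ⟨p, hp1, hp2⟩ := exists_point_of_isClosed k K fW w hw
    obtain ⟨q, hq⟩ := h p hp1
    let t : Spec (CommRingCat.of K) := IsLocalRing.closedPoint K
    exact ⟨q t, by rw [← Scheme.Hom.comp_apply, hq, hp2]⟩
  have hrange : Set.range j = Set.univ := by
    apply Set.eq_univ_of_univ_subset
    rw [← closure_closedPoints]
    exact hcl.closure_subset_iff.mpr hsub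
  haveI : Surjective j := ⟨fun w => by
    have : w ∈ Set.range j := hrange ▸ Set.mem_univ w
    exact this⟩
  exact isIso_of_isClosedImmersion_of_surjective j

end Groth.Agent.Lib.Helper11.KPts
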