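import Mathlib

/-!
# Tensor products of domains over an algebraically closed field (helper11)
-/

set_option autoImplicit false
universe u

open scoped TensorProduct

namespace Groth.Agent.Lib.Helper11.TensorDomain

variable {k : Type*} [Field k] [IsAlgClosed k]

/-- a character `A → k` with kernel a given maximal ideal, for `A` of finite type over an
algebraically closed field. -/
theorem exists_algHom_ker_eq {A : Type*} [CommRing A] [Algebra k A] [Algebra.FiniteType k A]
    (m : Ideal A) [hm : m.IsMaximal] : ∃ χ : A →ₐ[k] k, RingHom.ker χ.toRingHom = m := by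
  letI : Field (A ⧸ m) := Ideal.Quotient.field m
  haveI : Algebra.FiniteType k (A ⧸ m) :=
    Algebra.FiniteType.of_surjective (Ideal.Quotient.mkₐ k m) (Ideal.Quotient.mkₐ_surjective k m)
  haveI : Module.Finite k (A ⧸ m) := finite_of_finite_type_of_isJacobsonRing k (A ⧸ m)
  haveI : Algebra.IsIntegral k (A ⧸ m) := Algebra.IsIntegral.of_finite k (A ⧸ m)
  have hbij : Function.Bijective (algebraMap k (A ⧸ m)) :=
    IsAlgClosed.algebraMap_bijective_of_isIntegral
  let e : k ≃ₐ[k] (A ⧸ m) := AlgEquiv.ofBijective (Algebra.ofId k (A ⧸ m)) hbij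
  refine ⟨e.symm.toAlgHom.comp (Ideal.Quotient.mkₐ k m), ?_⟩
  ext a
  simp only [RingHom.mem_ker, AlgHom.toRingHom_eq_coe, RingHom.coe_coe, AlgHom.comp_apply]
  constructor
  · intro h
    have : (Ideal.Quotient.mkₐ k m) a = 0 := by
      have := congrArg e h
      simpa using this
    exact Ideal.Quotient.eq_zero_iff_mem.mp this
  · intro h
    have : (Ideal.Quotient.mkₐ k m) a = 0 := Ideal.Quotient.eq_zero_iff_mem.mpr h
    rw [this]
    exact map_zero _


section FG

variable {A B : Type*} [CommRing A] [Algebra k A] [CommRing B] [Algebra k B]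

/-- evaluation `A ⊗ B → B` at a character of `A`. -/
noncomputable def ev (χ : A →ₐ[k] k) : A ⊗[k] B →ₐ[k] B :=
  Algebra.TensorProduct.lift ((Algebra.ofId k B).comp χ) (AlgHom.id k B)
    (fun _ _ => Commute.all _ _)

theorem ev_tmul (χ : A →ₐ[k] k) (a : A) (b : B) :
    ev χ (a ⊗ₜ[k] b) = algebraMap k B (χ a) * b := by
  simp [ev, Algebra.ofId_apply]

theorem repr_ev {ι : Type*} (e : Module.Basis ι k B) (χ : A →ₐ[k] k) (x : A ⊗[k] B) (j : ι) :
    e.repr (ev χ x) j = χ ((Algebra.TensorProduct.basis A e).repr x j) := by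
  induction x using TensorProduct.induction_on with
  | zero => simp
  | tmul a b =>
    rw [ev_tmul, Algebra.TensorProduct.basis_repr_tmul, ← Algebra.smul_def, map_smul]
    simp [mul_comm]
  | add x y hx hy => simp only [map_add, Finsupp.add_apply, hx, hy]

theorem eq_zero_or_eq_zero_of_finiteType [IsDomain A] [Algebra.FiniteType k A] [IsDomain B]
    (x y : A ⊗[k] B) (hxy : x * y = 0) : x = 0 ∨ y = 0 := by
  by_contra hne
  push_neg at hne
  obtain ⟨hx, hy⟩ := hne
  let e := Module.Basis.ofVectorSpace k B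
  set bA := Algebra.TensorProduct.basis A e with hbA
  obtain ⟨j₀, hj₀⟩ : ∃ j, bA.repr x j ≠ 0 := by
    by_contra h
    push_neg at h
    exact hx (bA.repr.injective (by ext j; simpa using h j))
  obtain ⟨j₁, hj₁⟩ : ∃ j, bA.repr y j ≠ 0 := by
    by_contra h
    push_neg at h
    exact hy (bA.repr.injective (by ext j; simpa using h j))
  have hprod : bA.repr x j₀ * bA.repr y j₁ ≠ 0 := mul_ne_zero hj₀ hj₁
  apply hprod
  haveI : IsJacobsonRing A := isJacobsonRing_of_finiteType (A := k) (B := A)
  have hjac : (⊥ : Ideal A).jacobson = ⊥ :=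
    IsJacobsonRing.out' (⊥ : Ideal A) (Ideal.isPrime_bot (α := A)).isRadical
  have hmem : bA.repr x j₀ * bA.repr y j₁ ∈ (⊥ : Ideal A).jacobson := by
    rw [Ideal.jacobson, Ideal.mem_sInf]
    rintro m ⟨-, hm⟩
    haveI := hm
    obtain ⟨χ, hχ⟩ := exists_algHom_ker_eq (k := k) m
    have h0 : ev χ x * ev χ y = 0 := by rw [← map_mul, hxy, map_zero]
    rcases mul_eq_zero.mp h0 with h1 | h1
    · have := repr_ev e χ x j₀
      rw [h1, map_zero, Finsupp.zero_apply] at this
      have hmem : bA.repr x j₀ ∈ m := by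
        rw [← hχ]; exact this.symm
      exact m.mul_mem_right _ hmem
    · have := repr_ev e χ y j₁
      rw [h1, map_zero, Finsupp.zero_apply] at this
      have hmem : bA.repr y j₁ ∈ m := by
        rw [← hχ]; exact this.symm
      exact m.mul_mem_left _ hmem
  rw [hjac] at hmem
  exact hmem

end FG


section General

variable {A B : Type*} [CommRing A] [Algebra k A] [CommRing B] [Algebra k B]

theorem mem_baseChange_of_le {C₁ C₂ : Subalgebra k B} (h : C₁ ≤ C₂) {x : A ⊗[k] B}
    (hx : x ∈ C₁.baseChange A) : x ∈ C₂.baseChange A := by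
  obtain ⟨x₁, rfl⟩ := hx
  refine ⟨Algebra.TensorProduct.map (AlgHom.id A A) (Subalgebra.inclusion h) x₁, ?_⟩
  induction x₁ using TensorProduct.induction_on with
  | zero => simp
  | tmul a c => rfl
  | add u v hu hv => simp only [map_add, hu, hv]

theorem map_val_injective (C : Subalgebra k B) :
    Function.Injective (Algebra.TensorProduct.map (AlgHom.id A A) C.val) := by
  have h := Module.Flat.lTensor_preserves_injective_linearMap (R := k) (M := A)
    C.val.toLinearMap Subtype.val_injective
  intro u v huv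
  apply h
  have e : ∀ w : A ⊗[k] C, (C.val.toLinearMap.lTensor A) w =
      Algebra.TensorProduct.map (AlgHom.id A A) C.val w := by
    intro w
    induction w using TensorProduct.induction_on with
    | zero => simp
    | tmul a c => rfl
    | add u v hu hv => simp only [map_add, hu, hv]
  rw [e, e, huv]

theorem eq_zero_or_eq_zero [IsDomain A] [IsDomain B] (x y : A ⊗[k] B) (hxy : x * y = 0) :
    x = 0 ∨ y = 0 := by
  obtain ⟨C₁, hC₁, hx⟩ := exists_fg_and_mem_baseChange x
  obtain ⟨C₂, hC₂, hy⟩ := exists_fg_and_mem_baseChange y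
  set C := C₁ ⊔ C₂ with hC
  have hCfg : C.FG := hC₁.sup hC₂
  obtain ⟨x₀, rfl⟩ := mem_baseChange_of_le (le_sup_left : C₁ ≤ C) hx
  obtain ⟨y₀, rfl⟩ := mem_baseChange_of_le (le_sup_right : C₂ ≤ C) hy
  have h0 : x₀ * y₀ = 0 := by
    apply map_val_injective (A := A) C
    rw [map_mul, map_zero]
    exact hxy
  haveI : Algebra.FiniteType k C := (Subalgebra.fg_iff_finiteType C).mp hCfg
  have h1 : (Algebra.TensorProduct.comm k A C) x₀ * (Algebra.TensorProduct.comm k A C) y₀ = 0 := by
    rw [← map_mul, h0, map_zero]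
  rcases eq_zero_or_eq_zero_of_finiteType _ _ h1 with h2 | h2
  · left
    have : x₀ = 0 := (Algebra.TensorProduct.comm k A C).injective (by rw [h2, map_zero])
    rw [this, map_zero]
  · right
    have : y₀ = 0 := (Algebra.TensorProduct.comm k A C).injective (by rw [h2, map_zero])
    rw [this, map_zero]

end General


theorem isDomain_tensorProduct {A B : Type*} [CommRing A] [Algebra k A] [CommRing B]
    [Algebra k B] [IsDomain A] [IsDomain B] : IsDomain (A ⊗[k] B) := by
  haveI : Nontrivial (A ⊗[k] B) :=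
    Algebra.TensorProduct.nontrivial_of_algebraMap_injective_of_flat_left (R := k) A B
      (algebraMap k B).injective
  haveI : NoZeroDivisors (A ⊗[k] B) := ⟨fun {x y} h => eq_zero_or_eq_zero x y h⟩
  exact NoZeroDivisors.to_isDomain _

end Groth.Agent.Lib.Helper11.TensorDomain
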