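import Mathlib
import Groth.Prelude.Def_FDesc
import Groth.Agent.Lib.Helper11.TensorDomain

/-!
# Base change of schemes over an algebraically closed field (helper11)
-/

set_option autoImplicit false
universe u

open CategoryTheory CategoryTheory.Limits AlgebraicGeometry
open scoped TensorProduct

namespace Groth.Agent.Lib.Helper11.FBaseLib

open Set Topology in
theorem isConnected_preimage_of_isOpenMap' {α β : Type*} [TopologicalSpace α] [TopologicalSpace β]
    {f : α → β} (hc : Continuous f) (ho : IsOpenMap f)
    (hfib : ∀ t, IsConnected (f ⁻¹' {t})) {s : Set β} (hs : IsConnected s) :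
    IsConnected (f ⁻¹' s) := by
  have hsurj : Function.Surjective f := fun t => by
    obtain ⟨a, ha⟩ := (hfib t).nonempty
    exact ⟨a, ha⟩
  let g := s.restrictPreimage f
  have hgc : Continuous g := hc.restrictPreimage
  have hgo : IsOpenMap g := ho.restrictPreimage s
  have hgs : Function.Surjective g := Set.restrictPreimage_surjective _ hsurj
  have hq : IsQuotientMap g := hgo.isQuotientMap hgc hgs
  have hgf : ∀ t : s, IsConnected (g ⁻¹' {t}) := by
    intro t
    have h1 : (Subtype.val '' (g ⁻¹' {t}) : Set α) = f ⁻¹' {t.1} := by
      ext a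
      constructor
      · rintro ⟨⟨a, ha⟩, hat, rfl⟩
        have : g ⟨a, ha⟩ = t := hat
        simp only [mem_preimage, mem_singleton_iff]
        rw [← this]; rfl
      · intro ha
        have ha' : f a = t.1 := ha
        refine ⟨⟨a, ?_⟩, ?_, rfl⟩
        · show f a ∈ s
          rw [ha']; exact t.2
        · show g _ = t
          exact Subtype.ext ha'
    refine ⟨?_, ?_⟩
    · obtain ⟨a, ha⟩ := hgs t
      exact ⟨a, ha⟩
    · rw [← IsInducing.subtypeVal.isPreconnected_image, h1]
      exact (hfib t.1).isPreconnected
  haveI : ConnectedSpace s := isConnected_iff_connectedSpace.mp hs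
  have := hq.isCoinducing.isConnected_preimage_of_isClosed hgf isClosed_univ isConnected_univ
  rw [preimage_univ] at this
  rw [isConnected_iff_connectedSpace]
  exact connectedSpace_iff_univ.mpr this

variable (k K : Type u) [Field k] [Field K] [Algebra k K]

instance geometricallyIrreducible_SpecMap [IsAlgClosed k] :
    GeometricallyIrreducible (Spec.map (CommRingCat.ofHom (algebraMap k K))) := by
  refine ⟨?_⟩
  rw [geometrically_iff_of_commRing_of_isClosedUnderIsomorphisms]
  intro L _ _
  haveI : IsDomain (K ⊗[k] L) := TensorDomain.isDomain_tensorProduct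
  have e := pullbackSpecIso k K L
  exact (e.hom.homeomorph.irreducibleSpace_iff).mpr inferInstance

instance geometricallyConnected_SpecMap [IsAlgClosed k] :
    GeometricallyConnected (Spec.map (CommRingCat.ofHom (algebraMap k K))) := by
  refine ⟨?_⟩
  rw [geometrically_iff_of_commRing_of_isClosedUnderIsomorphisms]
  intro L _ _
  haveI : IsDomain (K ⊗[k] L) := TensorDomain.isDomain_tensorProduct
  have e := pullbackSpecIso k K L
  haveI : IrreducibleSpace ↥(pullback (Spec.map (CommRingCat.ofHom (algebraMap k K)))
      (Spec.map (CommRingCat.ofHom (algebraMap k L)))) :=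
    (e.hom.homeomorph.irreducibleSpace_iff).mpr inferInstance
  infer_instance

instance universallyOpen_SpecMap :
    UniversallyOpen (Spec.map (CommRingCat.ofHom (algebraMap k K))) := inferInstance

variable {k K}
variable {X : Scheme.{u}} (f : X ⟶ Spec (CommRingCat.of k))

theorem geometricallyIrreducible_of_irreducibleSpace [IsAlgClosed k] [IrreducibleSpace X] :
    GeometricallyIrreducible f := by
  refine ⟨?_⟩
  rw [geometrically_iff_of_commRing_of_isClosedUnderIsomorphisms]
  intro L _ _
  infer_instance

instance geometricallyIrreducible_bcπ [IsAlgClosed k] :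
    GeometricallyIrreducible (FBase.bcπ f K) :=
  MorphismProperty.pullback_fst (P := @GeometricallyIrreducible) f _
    (geometricallyIrreducible_SpecMap k K)

instance geometricallyConnected_bcπ [IsAlgClosed k] :
    GeometricallyConnected (FBase.bcπ f K) :=
  MorphismProperty.pullback_fst (P := @GeometricallyConnected) f _
    (geometricallyConnected_SpecMap k K)

instance universallyOpen_bcπ : UniversallyOpen (FBase.bcπ f K) :=
  MorphismProperty.pullback_fst (P := @UniversallyOpen) f _
    (universallyOpen_SpecMap k K)

theorem isIrreducible_preimage_bcπ [IsAlgClosed k] {Z : Set X} (hZ : IsIrreducible Z) :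
    IsIrreducible ((FBase.bcπ f K).base ⁻¹' Z) :=
  Scheme.Hom.isIrreducible_preimage (FBase.bcπ f K) (Scheme.Hom.isOpenMap _) hZ

theorem geometricallyConnected_of_connectedSpace [IsAlgClosed k] [ConnectedSpace X] :
    GeometricallyConnected f := by
  refine ⟨?_⟩
  rw [geometrically_iff_of_commRing_of_isClosedUnderIsomorphisms]
  intro L _ _
  infer_instance

theorem isConnected_preimage_bcπ [IsAlgClosed k] {Z : Set X} (hZ : _root_.IsConnected Z) :
    _root_.IsConnected ((FBase.bcπ f K).base ⁻¹' Z) :=
  isConnected_preimage_of_isOpenMap' (FBase.bcπ f K).continuous (Scheme.Hom.isOpenMap _)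
    (fun t => Scheme.Hom.isConnected_preimage_singleton (FBase.bcπ f K) t) hZ

end Groth.Agent.Lib.Helper11.FBaseLib
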