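import Mathlib
import Groth.Prelude.Def_FDesc
import Groth.Agent.Lib.Helper11.FBaseLib

set_option autoImplicit false
universe u

namespace Groth.Agent.Lib.Helper11.FBaseLib2

section Top

theorem exists_irreducibleComponent_closure_image {Y X : Type*} [TopologicalSpace Y]
    [TopologicalSpace X] [QuasiSober X] {p : Y → X} (hc : Continuous p)
    (hs : Function.Surjective p) (C : Set X) (hC : C ∈ irreducibleComponents X) :
    ∃ D ∈ irreducibleComponents Y, closure (p '' D) = C := by
  have hCirr : IsIrreducible C := hC.1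
  have hCcl : IsClosed C := isClosed_of_mem_irreducibleComponents C hC
  have hξ : closure {hCirr.genericPoint} = C := hCirr.closure_genericPoint hCcl
  obtain ⟨η, hη⟩ := hs hCirr.genericPoint
  refine ⟨irreducibleComponent η, irreducibleComponent_mem_irreducibleComponents η, ?_⟩
  have hirr : IsIrreducible (closure (p '' irreducibleComponent η)) :=
    (isIrreducible_irreducibleComponent.image p hc.continuousOn).closure
  have hsub : C ⊆ closure (p '' irreducibleComponent η) := by
    rw [← hξ]
    apply closure_minimal _ isClosed_closure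
    rw [Set.singleton_subset_iff]
    exact subset_closure ⟨η, mem_irreducibleComponent, hη⟩
  exact subset_antisymm (hC.2 hirr hsub) hsub

theorem mk_irreducibleComponents_le_of_surjective {Y X : Type u} [TopologicalSpace Y]
    [TopologicalSpace X] [QuasiSober X] {p : Y → X} (hc : Continuous p)
    (hs : Function.Surjective p) :
    Cardinal.mk ↥(irreducibleComponents X) ≤ Cardinal.mk ↥(irreducibleComponents Y) := by
  choose D hD hDC using exists_irreducibleComponent_closure_image hc hs
  refine Cardinal.mk_le_of_injective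
    (f := fun C : irreducibleComponents X => (⟨D C.1 C.2, hD C.1 C.2⟩ : irreducibleComponents Y)) ?_
  intro C C' h
  have h' : D C.1 C.2 = D C'.1 C'.2 := congrArg Subtype.val h
  apply Subtype.ext
  rw [← hDC C.1 C.2, ← hDC C'.1 C'.2, h']

theorem isConnected_preimage_connectedComponent {X' X : Type*} [TopologicalSpace X']
    [TopologicalSpace X] {p : X' → X} (hc : Continuous p) (ho : IsOpenMap p)
    (hcl : IsClosedMap p) (hs : Function.Surjective p) {S : Set X} {y : X} (hy : y ∈ S)
    (hS : _root_.IsPreconnected (p ⁻¹' S)) : IsConnected (p ⁻¹' connectedComponent y) := by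
  have hSC : S ⊆ connectedComponent y := by
    have h1 : IsPreconnected (p '' (p ⁻¹' S)) := hS.image p hc.continuousOn
    rw [Set.image_preimage_eq S hs] at h1
    exact h1.subset_connectedComponent hy
  have hCcl : IsClosed (connectedComponent y) := isClosed_connectedComponent
  have hW : IsClosed (p ⁻¹' connectedComponent y) := hCcl.preimage hc
  refine ⟨?_, ?_⟩
  · obtain ⟨w, hw⟩ := hs y
    exact ⟨w, by show p w ∈ connectedComponent y; rw [hw]; exact mem_connectedComponent⟩
  rw [isPreconnected_iff_subset_of_fully_disjoint_closed hW]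
  intro u v hu hv huv hdisj
  have key : ∀ u v : Set X', IsClosed u → IsClosed v → p ⁻¹' connectedComponent y ⊆ u ∪ v →
      Disjoint u v → (p ⁻¹' connectedComponent y ∩ u).Nonempty → ∃ w ∈ u, p w = y := by
    intro u v hu hv huv hdisj hne
    haveI : ConnectedSpace (connectedComponent y) :=
      isConnected_iff_connectedSpace.mp isConnected_connectedComponent
    let A : Set (connectedComponent y) := {c | ∃ w ∈ u, p w = c.1}
    have hAcl : IsClosed A := by
      have : A = Subtype.val ⁻¹' (p '' (p ⁻¹' connectedComponent y ∩ u)) := by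
        ext c
        constructor
        · rintro ⟨w, hwu, hwc⟩
          exact ⟨w, ⟨by show p w ∈ connectedComponent y; rw [hwc]; exact c.2, hwu⟩, hwc⟩
        · rintro ⟨w, ⟨_, hwu⟩, hwc⟩
          exact ⟨w, hwu, hwc⟩
      rw [this]
      exact (hcl _ (hW.inter hu)).preimage continuous_subtype_val
    have hAop : IsOpen A := by
      have : A = Subtype.val ⁻¹' (p '' vᶜ) := by
        ext c
        constructor
        · rintro ⟨w, hwu, hwc⟩
          exact ⟨w, fun hwv => Set.disjoint_left.mp hdisj hwu hwv, hwc⟩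
        · rintro ⟨w, hwv, hwc⟩
          have hwW : w ∈ p ⁻¹' connectedComponent y := by
            show p w ∈ connectedComponent y; rw [hwc]; exact c.2
          rcases huv hwW with h | h
          · exact ⟨w, h, hwc⟩
          · exact absurd h hwv
      rw [this]
      exact (ho _ hv.isOpen_compl).preimage continuous_subtype_val
    have hA : A = ∅ ∨ A = Set.univ := isClopen_iff.mp ⟨hAcl, hAop⟩
    rcases hA with hA | hA
    · exfalso
      obtain ⟨w, hwW, hwu⟩ := hne
      have : (⟨p w, hwW⟩ : connectedComponent y) ∈ A := ⟨w, hwu, rfl⟩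
      rw [hA] at this; exact this
    · have : (⟨y, mem_connectedComponent⟩ : connectedComponent y) ∈ A := by rw [hA]; trivial
      exact this
  by_contra hcon
  push_neg at hcon
  obtain ⟨hnu, hnv⟩ := hcon
  have hne_v : (p ⁻¹' connectedComponent y ∩ v).Nonempty := by
    obtain ⟨w, hwW, hwu⟩ := Set.not_subset.mp hnu
    rcases huv hwW with h | h
    · exact absurd h hwu
    · exact ⟨w, hwW, h⟩
  have hne_u : (p ⁻¹' connectedComponent y ∩ u).Nonempty := by
    obtain ⟨w, hwW, hwv⟩ := Set.not_subset.mp hnv
    rcases huv hwW with h | h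
    · exact ⟨w, hwW, h⟩
    · exact absurd h hwv
  obtain ⟨w, hwu, hwy⟩ := key u v hu hv huv hdisj hne_u
  obtain ⟨w', hwv', hwy'⟩ := key v u hv hu (by rwa [Set.union_comm]) hdisj.symm hne_v
  have hSuv : p ⁻¹' S ⊆ u ∪ v := fun a ha => huv (hSC ha)
  obtain ⟨z, _, hzu, hzv⟩ := isPreconnected_closed_iff.mp hS u v hu hv hSuv
    ⟨w, by show p w ∈ S; rw [hwy]; exact hy, hwu⟩
    ⟨w', by show p w' ∈ S; rw [hwy']; exact hy, hwv'⟩
  exact Set.disjoint_left.mp hdisj hzu hzv

end Top

section Sch

open CategoryTheory CategoryTheory.Limits AlgebraicGeometry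
open scoped TensorProduct
open Groth.Agent.Lib.Helper11.FBaseLib

theorem exists_compositum (k K Ω : Type u) [Field k] [Field K] [Field Ω] [Algebra k K]
    [Algebra k Ω] :
    ∃ (Ω' : Type u) (_ : Field Ω') (_ : Algebra k Ω') (_ : IsAlgClosed Ω'),
      Nonempty (K →ₐ[k] Ω') ∧ Nonempty (Ω →ₐ[k] Ω') := by
  haveI : Nontrivial (K ⊗[k] Ω) := inferInstance
  obtain ⟨m, hm⟩ := Ideal.exists_maximal (K ⊗[k] Ω)
  letI : Field ((K ⊗[k] Ω) ⧸ m) := Ideal.Quotient.field m
  refine ⟨AlgebraicClosure ((K ⊗[k] Ω) ⧸ m), inferInstance, inferInstance, inferInstance,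
    ⟨?_⟩, ⟨?_⟩⟩
  · exact ((IsScalarTower.toAlgHom k ((K ⊗[k] Ω) ⧸ m) (AlgebraicClosure ((K ⊗[k] Ω) ⧸ m))).comp
      (Ideal.Quotient.mkₐ k m)).comp Algebra.TensorProduct.includeLeft
  · exact ((IsScalarTower.toAlgHom k ((K ⊗[k] Ω) ⧸ m) (AlgebraicClosure ((K ⊗[k] Ω) ⧸ m))).comp
      (Ideal.Quotient.mkₐ k m)).comp Algebra.TensorProduct.includeRight

variable {k : Type u} [Field k] {X : Scheme.{u}} (f : X ⟶ Spec (CommRingCat.of k))

section Tower

variable (K L : Type u) [Field K] [Field L] [Algebra k K] [Algebra k L] [Algebra K L]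
  [IsScalarTower k K L]

/-- The transition map `X_L ⟶ X_K` for a tower `k → K → L`. -/
noncomputable def bcMap : FBase.bc f L ⟶ FBase.bc f K :=
  pullback.lift (FBase.bcπ f L)
    (FBase.bcStr f L ≫ Spec.map (CommRingCat.ofHom (algebraMap K L))) (by
    unfold FBase.bcπ FBase.bcStr
    rw [Category.assoc, ← Spec.map_comp, ← CommRingCat.ofHom_comp,
      ← IsScalarTower.algebraMap_eq]
    exact pullback.condition)

@[reassoc]
lemma bcMap_π : bcMap f K L ≫ FBase.bcπ f K = FBase.bcπ f L :=
  pullback.lift_fst _ _ _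

@[reassoc]
lemma bcMap_str : bcMap f K L ≫ FBase.bcStr f K =
    FBase.bcStr f L ≫ Spec.map (CommRingCat.ofHom (algebraMap K L)) :=
  pullback.lift_snd _ _ _

lemma isPullback_bc (K : Type u) [Field K] [Algebra k K] :
    IsPullback (FBase.bcπ f K) (FBase.bcStr f K) f
      (Spec.map (CommRingCat.ofHom (algebraMap k K))) :=
  IsPullback.of_hasPullback f _

lemma isPullback_bcMap : IsPullback (bcMap f K L) (FBase.bcStr f L) (FBase.bcStr f K)
    (Spec.map (CommRingCat.ofHom (algebraMap K L))) := by
  refine IsPullback.of_right ?_ (bcMap_str f K L) (isPullback_bc f K)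
  rw [bcMap_π, ← Spec.map_comp, ← CommRingCat.ofHom_comp, ← IsScalarTower.algebraMap_eq]
  exact isPullback_bc f L

lemma bcMap_of (P : MorphismProperty Scheme.{u}) [P.IsStableUnderBaseChange]
    (h : P (Spec.map (CommRingCat.ofHom (algebraMap K L)))) : P (bcMap f K L) :=
  MorphismProperty.of_isPullback (isPullback_bcMap f K L).flip h

lemma bcπ_bcMap_apply (z : ↥(FBase.bc f L)) :
    (FBase.bcπ f K) ((bcMap f K L) z) = (FBase.bcπ f L) z := by
  rw [← Scheme.Hom.comp_apply, bcMap_π]

instance surjective_SpecMap_field :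
    Surjective (Spec.map (CommRingCat.ofHom (algebraMap K L))) :=
  ⟨fun _ => ⟨Nonempty.some inferInstance, Subsingleton.elim _ _⟩⟩

instance surjective_bcMap : Surjective (bcMap f K L) :=
  bcMap_of f K L @Surjective (surjective_SpecMap_field K L)

instance universallyOpen_bcMap : UniversallyOpen (bcMap f K L) :=
  bcMap_of f K L @UniversallyOpen (universallyOpen_SpecMap K L)

instance geometricallyConnected_bcMap [IsAlgClosed K] : GeometricallyConnected (bcMap f K L) :=
  bcMap_of f K L @GeometricallyConnected (geometricallyConnected_SpecMap K L)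

instance geometricallyIrreducible_bcMap [IsAlgClosed K] :
    GeometricallyIrreducible (bcMap f K L) :=
  bcMap_of f K L @GeometricallyIrreducible (geometricallyIrreducible_SpecMap K L)

end Tower

instance surjective_bcπ (K : Type u) [Field K] [Algebra k K] : Surjective (FBase.bcπ f K) :=
  MorphismProperty.pullback_fst (P := @Surjective) f _ (surjective_SpecMap_field k K)

theorem mk_connectedComponents_le (K Ω : Type u) [Field K] [Algebra k K] [Field Ω] [Algebra k Ω]
    [IsAlgClosed Ω] :
    Cardinal.mk (_root_.ConnectedComponents ↥(FBase.bc f K)) ≤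
      Cardinal.mk (_root_.ConnectedComponents ↥(FBase.bc f Ω)) := by
  obtain ⟨Ω', _, _, _, ⟨φK⟩, ⟨φΩ⟩⟩ := exists_compositum k K Ω
  have hA : Cardinal.mk (_root_.ConnectedComponents ↥(FBase.bc f K)) ≤
      Cardinal.mk (_root_.ConnectedComponents ↥(FBase.bc f Ω')) := by
    letI := φK.toRingHom.toAlgebra
    haveI : IsScalarTower k K Ω' := IsScalarTower.of_algebraMap_eq (fun x => (φK.commutes x).symm)
    exact Cardinal.mk_le_of_surjective
      ((bcMap f K Ω').continuous.connectedComponentsMap_surjective (bcMap f K Ω').surjective)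
  have hB : Cardinal.mk (_root_.ConnectedComponents ↥(FBase.bc f Ω')) =
      Cardinal.mk (_root_.ConnectedComponents ↥(FBase.bc f Ω)) := by
    letI := φΩ.toRingHom.toAlgebra
    haveI : IsScalarTower k Ω Ω' := IsScalarTower.of_algebraMap_eq (fun x => (φΩ.commutes x).symm)
    exact Cardinal.mk_congr (Scheme.Hom.connectedComponentsHomeomorph (bcMap f Ω Ω')
      (bcMap f Ω Ω').isOpenMap).toEquiv
  exact hA.trans hB.le

theorem mk_irreducibleComponents_le (K Ω : Type u) [Field K] [Algebra k K] [Field Ω]
    [Algebra k Ω] [IsAlgClosed Ω] :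
    Cardinal.mk ↥(irreducibleComponents ↥(FBase.bc f K)) ≤
      Cardinal.mk ↥(irreducibleComponents ↥(FBase.bc f Ω)) := by
  obtain ⟨Ω', _, _, _, ⟨φK⟩, ⟨φΩ⟩⟩ := exists_compositum k K Ω
  have hA : Cardinal.mk ↥(irreducibleComponents ↥(FBase.bc f K)) ≤
      Cardinal.mk ↥(irreducibleComponents ↥(FBase.bc f Ω')) := by
    letI := φK.toRingHom.toAlgebra
    haveI : IsScalarTower k K Ω' := IsScalarTower.of_algebraMap_eq (fun x => (φK.commutes x).symm)
    exact mk_irreducibleComponents_le_of_surjective (bcMap f K Ω').continuous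
      (bcMap f K Ω').surjective
  have hB : Cardinal.mk ↥(irreducibleComponents ↥(FBase.bc f Ω')) =
      Cardinal.mk ↥(irreducibleComponents ↥(FBase.bc f Ω)) := by
    letI := φΩ.toRingHom.toAlgebra
    haveI : IsScalarTower k Ω Ω' := IsScalarTower.of_algebraMap_eq (fun x => (φΩ.commutes x).symm)
    exact Cardinal.mk_congr (Scheme.Hom.irreducibleComponentsEquiv (bcMap f Ω Ω')
      (bcMap f Ω Ω').isOpenMap)
  exact hA.trans hB.le

/-- Transfer lemma: if the preimage of `S ∋ y` in `X ⊗ k̄` is preconnected, then the preimage of the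
connected component of `y` in every `X ⊗ K` is connected. -/
theorem isConnected_preimage_connectedComponent_bcπ (K : Type u) [Field K] [Algebra k K]
    {S : Set ↥X} {y : ↥X} (hy : y ∈ S)
    (hS : _root_.IsPreconnected (⇑(FBase.bcπ f (AlgebraicClosure k)) ⁻¹' S)) :
    _root_.IsConnected (⇑(FBase.bcπ f K) ⁻¹' connectedComponent y) := by
  haveI : IsIntegralHom (Spec.map (CommRingCat.ofHom (algebraMap k (AlgebraicClosure k)))) := by
    rw [IsIntegralHom.SpecMap_iff]
    exact algebraMap_isIntegral_iff.mpr inferInstance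
  haveI : IsIntegralHom (FBase.bcπ f (AlgebraicClosure k)) :=
    MorphismProperty.pullback_fst (P := @IsIntegralHom) f _ inferInstance
  have h1 : _root_.IsConnected (⇑(FBase.bcπ f (AlgebraicClosure k)) ⁻¹' connectedComponent y) :=
    isConnected_preimage_connectedComponent (FBase.bcπ f (AlgebraicClosure k)).continuous
      (FBase.bcπ f (AlgebraicClosure k)).isOpenMap (FBase.bcπ f (AlgebraicClosure k)).isClosedMap
      (FBase.bcπ f (AlgebraicClosure k)).surjective hy hS
  let φ : AlgebraicClosure k →ₐ[k] AlgebraicClosure K := IsAlgClosed.lift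
  letI := φ.toRingHom.toAlgebra
  haveI : IsScalarTower k (AlgebraicClosure k) (AlgebraicClosure K) :=
    IsScalarTower.of_algebraMap_eq (fun x => (φ.commutes x).symm)
  have h2 : _root_.IsConnected
      (⇑(FBase.bcπ f (AlgebraicClosure K)) ⁻¹' connectedComponent y) := by
    have := isConnected_preimage_of_isOpenMap'
      (bcMap f (AlgebraicClosure k) (AlgebraicClosure K)).continuous
      (bcMap f (AlgebraicClosure k) (AlgebraicClosure K)).isOpenMap
      (fun t => Scheme.Hom.isConnected_preimage_singleton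
        (bcMap f (AlgebraicClosure k) (AlgebraicClosure K)) t) h1
    convert this using 1
    ext z
    simp only [Set.mem_preimage]
    rw [bcπ_bcMap_apply]
  have h3 : ⇑(FBase.bcπ f K) ⁻¹' connectedComponent y =
      ⇑(bcMap f K (AlgebraicClosure K)) ''
        (⇑(FBase.bcπ f (AlgebraicClosure K)) ⁻¹' connectedComponent y) := by
    ext z
    constructor
    · intro hz
      obtain ⟨z', rfl⟩ := (bcMap f K (AlgebraicClosure K)).surjective z
      refine ⟨z', ?_, rfl⟩
      simp only [Set.mem_preimage] at hz ⊢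
      rwa [bcπ_bcMap_apply] at hz
    · rintro ⟨z', hz', rfl⟩
      simp only [Set.mem_preimage] at hz' ⊢
      rwa [bcπ_bcMap_apply]
  rw [h3]
  exact h2.image _ (bcMap f K (AlgebraicClosure K)).continuous.continuousOn

/-- Core of S4621/S2502. -/
theorem isConnected_preimage_connectedComponent_of_geometricallyConnected (K : Type u) [Field K]
    [Algebra k K] {Y : Scheme.{u}} (g : Y ⟶ Spec (CommRingCat.of k)) (h : Y ⟶ X) (w : h ≫ f = g)
    [GeometricallyConnected g] (y : ↥Y) :
    _root_.IsConnected (⇑(FBase.bcπ f K) ⁻¹' connectedComponent (h y)) := by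
  refine isConnected_preimage_connectedComponent_bcπ f K (S := Set.range h) ⟨y, rfl⟩ ?_
  let hK : FBase.bc g (AlgebraicClosure k) ⟶ FBase.bc f (AlgebraicClosure k) :=
    pullback.map g _ f _ h (𝟙 _) (𝟙 _) (by simp [w]) (by simp)
  have hK1 : hK ≫ FBase.bcπ f (AlgebraicClosure k) = FBase.bcπ g (AlgebraicClosure k) ≫ h :=
    pullback.lift_fst _ _ _
  have hK2 : hK ≫ FBase.bcStr f (AlgebraicClosure k) = FBase.bcStr g (AlgebraicClosure k) :=
    (pullback.lift_snd _ _ _).trans (Category.comp_id _)
  have hpb : IsPullback hK (FBase.bcπ g (AlgebraicClosure k))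
      (FBase.bcπ f (AlgebraicClosure k)) h := by
    refine IsPullback.of_right ?_ hK1 (isPullback_bc f (AlgebraicClosure k)).flip
    rw [hK2, w]
    exact (isPullback_bc g (AlgebraicClosure k)).flip
  haveI : ConnectedSpace ↥(FBase.bc g (AlgebraicClosure k)) :=
    GeometricallyConnected.geometrically_connectedSpace _ _ _ (isPullback_bc g (AlgebraicClosure k))
  have hrange : ⇑(FBase.bcπ f (AlgebraicClosure k)) ⁻¹' Set.range h = Set.range hK := by
    ext x'
    constructor
    · rintro ⟨y', hy'⟩
      obtain ⟨a, ha, _⟩ := Scheme.exists_preimage_of_isPullback hpb x' y' hy'.symm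
      exact ⟨a, ha⟩
    · rintro ⟨a, rfl⟩
      refine ⟨(FBase.bcπ g (AlgebraicClosure k)) a, ?_⟩
      rw [← Scheme.Hom.comp_apply, ← hK1, Scheme.Hom.comp_apply]
  rw [hrange]
  exact isPreconnected_range hK.continuous

end Sch

end Groth.Agent.Lib.Helper11.FBaseLib2
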