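import Mathlib
import Groth.Prelude.Def_AlgGrp
import Groth.Agent.Lib.Helper11.KPts
import Groth.Agent.Lib.Helper14.SepPointsSch
import Groth.Agent.Lib.Helper14.DenseSmooth

/-!
# Points with values in a separably closed field are dense in smooth / geometrically reduced
schemes over a field (helper11)
-/

set_option autoImplicit false
universe u

open CategoryTheory CategoryTheory.Limits AlgebraicGeometry

namespace Groth.Agent.Lib.Helper11.KPts

theorem fromSpecResidueField_comp {A : Type u} [CommRing A] {X : Scheme.{u}}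
    (f : X ⟶ Spec (CommRingCat.of A)) (x : X) :
    X.fromSpecResidueField x ≫ f = Spec.map (CommRingCat.ofHom ((X.residue x).hom.comp
        ((X.presheaf.germ ⊤ x trivial).hom.comp (Coh.toGlobal f)))) := by
  have h1 : f = X.toSpecΓ ≫ Spec.map f.appTop ≫
      Spec.map (Scheme.ΓSpecIso (CommRingCat.of A)).inv := by
    rw [← Category.assoc, ← Scheme.toSpecΓ_naturality, Category.assoc,
      toSpecΓ_SpecMap_ΓSpecIso_inv, Category.comp_id]
  conv_lhs => rw [h1]
  rw [Scheme.fromSpecResidueField, Category.assoc, Scheme.fromSpecStalk_toSpecΓ_assoc,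
    ← Spec.map_comp, ← Spec.map_comp, ← Spec.map_comp]
  rfl

variable (k K : Type u) [Field k] [Field K] [Algebra k K]

/-- the set of images of `K`-points -/
def pts {W : Scheme.{u}} (fW : W ⟶ Spec (CommRingCat.of k)) : Set W :=
  {w : W | ∃ p : Spec (CommRingCat.of K) ⟶ W,
    p ≫ fW = Spec.map (CommRingCat.ofHom (algebraMap k K)) ∧ ∀ t, p t = w}

theorem dense_pts_of_smooth [IsSepClosed K] {W : Scheme.{u}}
    (fW : W ⟶ Spec (CommRingCat.of k)) [Smooth fW] : Dense (pts k K fW) := by
  refine (Groth.Agent.Lib.Helper14.SepPointsSch.dense_sep_points k fW).mono ?_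
  intro w hw
  letI : Algebra k (W.residueField w) := ((W.residue w).hom.comp
    ((W.presheaf.germ ⊤ w trivial).hom.comp (Coh.toGlobal fW))).toAlgebra
  haveI : Algebra.IsSeparable k (W.residueField w) := hw.2.2
  let ψ : W.residueField w →ₐ[k] K := IsSepClosed.lift
  refine ⟨Spec.map (CommRingCat.ofHom ψ.toRingHom) ≫ W.fromSpecResidueField w, ?_, ?_⟩
  · rw [Category.assoc, fromSpecResidueField_comp, ← Spec.map_comp]
    congr 1
    ext x
    exact ψ.commutes x
  · intro t
    rw [Scheme.Hom.comp_apply]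
    exact Scheme.fromSpecResidueField_apply w _

theorem dense_pts_of_geometricallyReduced [IsSepClosed K] {W : Scheme.{u}}
    (fW : W ⟶ Spec (CommRingCat.of k)) [LocallyOfFiniteType fW] [GeometricallyReduced fW]
    [IsReduced W] : Dense (pts k K fW) := by
  obtain ⟨U, hU, hsm⟩ :=
    (Groth.Agent.Lib.Helper14.DenseSmooth.geomReduced_iff_dense_smooth k fW).mp inferInstance
  haveI : Smooth (U.ι ≫ fW) := hsm
  have h1 := dense_pts_of_smooth k K (U.ι ≫ fW)
  have hdr : DenseRange U.ι := by
    rw [DenseRange, Scheme.Opens.range_ι]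
    exact hU
  have h2 : Dense (U.ι '' pts k K (U.ι ≫ fW)) := hdr.dense_image U.ι.continuous h1
  refine h2.mono ?_
  rintro _ ⟨w', ⟨p, hp1, hp2⟩, rfl⟩
  refine ⟨p ≫ U.ι, by rw [Category.assoc, hp1], fun t => ?_⟩
  rw [Scheme.Hom.comp_apply, hp2]

/-- a closed subscheme of a smooth `k`-scheme through which all `K`-points factor is everything -/
theorem isIso_of_points_factor_of_dense {W P : Scheme.{u}}
    (fW : W ⟶ Spec (CommRingCat.of k)) [IsReduced W] (hd : Dense (pts k K fW))
    (j : P ⟶ W) [IsClosedImmersion j]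
    (h : ∀ p : Spec (CommRingCat.of K) ⟶ W,
      p ≫ fW = Spec.map (CommRingCat.ofHom (algebraMap k K)) →
        ∃ q : Spec (CommRingCat.of K) ⟶ P, q ≫ j = p) : IsIso j := by
  have hcl : IsClosed (Set.range j) := j.isClosedEmbedding.isClosed_range
  have hsub : pts k K fW ⊆ Set.range j := by
    rintro w ⟨p, hp1, hp2⟩
    obtain ⟨q, hq⟩ := h p hp1
    let t : Spec (CommRingCat.of K) := IsLocalRing.closedPoint K
    exact ⟨q t, by rw [← Scheme.Hom.comp_apply, hq, hp2]⟩
  have hrange : Set.range j = Set.univ := by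
    apply Set.eq_univ_of_univ_subset
    rw [← hd.closure_eq]
    exact hcl.closure_subset_iff.mpr hsub
  haveI : Surjective j := ⟨fun w => by
    have : w ∈ Set.range j := hrange ▸ Set.mem_univ w
    exact this⟩
  exact isIso_of_isClosedImmersion_of_surjective j

theorem isIso_of_points_factor_smooth [IsSepClosed K] {W P : Scheme.{u}}
    (fW : W ⟶ Spec (CommRingCat.of k)) [Smooth fW]
    (j : P ⟶ W) [IsClosedImmersion j]
    (h : ∀ p : Spec (CommRingCat.of K) ⟶ W,
      p ≫ fW = Spec.map (CommRingCat.ofHom (algebraMap k K)) →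
        ∃ q : Spec (CommRingCat.of K) ⟶ P, q ≫ j = p) : IsIso j := by
  haveI : IsReduced W := Groth.Agent.Lib.Helper22.SmoothRed.isReduced_of_smooth fW
  exact isIso_of_points_factor_of_dense k K fW (dense_pts_of_smooth k K fW) j h

theorem isIso_of_points_factor_geomReduced [IsSepClosed K] {W P : Scheme.{u}}
    (fW : W ⟶ Spec (CommRingCat.of k)) [LocallyOfFiniteType fW] [GeometricallyReduced fW]
    [IsReduced W] (j : P ⟶ W) [IsClosedImmersion j]
    (h : ∀ p : Spec (CommRingCat.of K) ⟶ W,
      p ≫ fW = Spec.map (CommRingCat.ofHom (algebraMap k K)) →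
        ∃ q : Spec (CommRingCat.of K) ⟶ P, q ≫ j = p) : IsIso j :=
  isIso_of_points_factor_of_dense k K fW (dense_pts_of_geometricallyReduced k K fW) j h

/-- two morphisms from a reduced scheme with dense `K`-points to a separated scheme which agree on
all `K`-points are equal -/
theorem eq_of_pts {W Y Z : Scheme.{u}} (fW : W ⟶ Spec (CommRingCat.of k)) [IsReduced W]
    (hd : Dense (pts k K fW)) (f g : W ⟶ Y) (i : Y ⟶ Z) [IsSeparated i] (H' : f ≫ i = g ≫ i)
    (H : ∀ p : Spec (CommRingCat.of K) ⟶ W,
      p ≫ fW = Spec.map (CommRingCat.ofHom (algebraMap k K)) → p ≫ f = p ≫ g) : f = g := by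
  suffices IsDominant (equalizer.ι f g) from
    ext_of_isDominant_of_isSeparated i H' (equalizer.ι f g) (equalizer.condition _ _)
  refine ⟨.mono ?_ hd⟩
  rintro x ⟨p, hp1, hp2⟩
  let t : Spec (CommRingCat.of K) := IsLocalRing.closedPoint K
  exact ⟨equalizer.lift p (H p hp1) t, by rw [← Scheme.Hom.comp_apply, equalizer.lift_ι, hp2]⟩

/-- geometrically reduced over a field implies reduced -/
theorem isReduced_of_geometricallyReduced {W : Scheme.{u}}
    (fW : W ⟶ Spec (CommRingCat.of k)) [GeometricallyReduced fW] : IsReduced W := by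
  have hgr : GeometricallyReduced fW := inferInstance
  exact hgr.geometrically_isReduced (𝟙 (Spec (CommRingCat.of k))) (𝟙 W) fW
    (IsPullback.of_id_fst)

end Groth.Agent.Lib.Helper11.KPts
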