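import Mathlib

/-!
# Hom vanishing and distinguished triangles (helper11)
-/

set_option autoImplicit false
universe u v

open CategoryTheory CategoryTheory.Limits CategoryTheory.Pretriangulated

namespace Groth.Agent.Lib.Helper11

variable {C : Type u} [Category.{v} C] [HasZeroObject C] [HasShift C ℤ] [Preadditive C]
  [∀ n : ℤ, (shiftFunctor C n).Additive] [Pretriangulated C]

/-- unshifted version -/
theorem subsingleton_hom_obj₂ (T : Triangle C) (hT : T ∈ distTriang C) (X : C)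
    (h₁ : Subsingleton (X ⟶ T.obj₁)) (h₃ : Subsingleton (X ⟶ T.obj₃)) :
    Subsingleton (X ⟶ T.obj₂) := by
  have key : ∀ g : X ⟶ T.obj₂, g = 0 := by
    intro g
    obtain ⟨a, ha⟩ := Triangle.coyoneda_exact₂ _ hT (X := X) g (h₃.elim _ _)
    have ha0 : a = 0 := h₁.elim _ _
    rw [ha, ha0, zero_comp]
  exact ⟨fun g g' => by rw [key g, key g']⟩

/-- middle term: if `Hom(X, T₁[n]) = 0 = Hom(X, T₃[n])` then `Hom(X, T₂[n]) = 0`. -/
theorem subsingleton_hom_shift_obj₂ (T : Triangle C) (hT : T ∈ distTriang C) (X : C) (n : ℤ)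
    (h₁ : Subsingleton (X ⟶ T.obj₁⟦n⟧)) (h₃ : Subsingleton (X ⟶ T.obj₃⟦n⟧)) :
    Subsingleton (X ⟶ T.obj₂⟦n⟧) := by
  have hT' : (Triangle.shiftFunctor C n).obj T ∈ distTriang C :=
    Triangle.shift_distinguished T hT n
  exact subsingleton_hom_obj₂ _ hT' X h₁ h₃

/-- third term: if `Hom(X, T₂[n]) = 0 = Hom(X, T₁[n+1])` then `Hom(X, T₃[n]) = 0`. -/
theorem subsingleton_hom_shift_obj₃ (T : Triangle C) (hT : T ∈ distTriang C) (X : C) (n m : ℤ)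
    (hnm : n + 1 = m)
    (h₂ : Subsingleton (X ⟶ T.obj₂⟦n⟧)) (h₁ : Subsingleton (X ⟶ T.obj₁⟦m⟧)) :
    Subsingleton (X ⟶ T.obj₃⟦n⟧) := by
  subst hnm
  have hT' : ((Triangle.shiftFunctor C n).obj T).rotate ∈ distTriang C :=
    rot_of_distTriang _ (Triangle.shift_distinguished T hT n)
  have h₁' : Subsingleton (X ⟶ (T.obj₁⟦n⟧)⟦(1 : ℤ)⟧) :=
    ⟨fun a b => (cancel_mono ((shiftFunctorAdd' C n 1 (n + 1) rfl).inv.app T.obj₁)).1
      (h₁.elim _ _)⟩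
  exact subsingleton_hom_obj₂ _ hT' X h₂ h₁'

/-- first term: if `Hom(X, T₂[n]) = 0 = Hom(X, T₃[m])`, `m + 1 = n`, then `Hom(X, T₁[n]) = 0`. -/
theorem subsingleton_hom_shift_obj₁ (T : Triangle C) (hT : T ∈ distTriang C) (X : C) (n m : ℤ)
    (hnm : m + 1 = n)
    (h₂ : Subsingleton (X ⟶ T.obj₂⟦n⟧)) (h₃ : Subsingleton (X ⟶ T.obj₃⟦m⟧)) :
    Subsingleton (X ⟶ T.obj₁⟦n⟧) := by
  subst hnm
  have hT' : ((Triangle.shiftFunctor C m).obj T).rotate.rotate ∈ distTriang C :=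
    rot_of_distTriang _ (rot_of_distTriang _ (Triangle.shift_distinguished T hT m))
  have h₂' : Subsingleton (X ⟶ (T.obj₂⟦m⟧)⟦(1 : ℤ)⟧) :=
    ⟨fun a b => (cancel_mono ((shiftFunctorAdd' C m 1 (m + 1) rfl).inv.app T.obj₂)).1
      (h₂.elim _ _)⟩
  have h1' : Subsingleton (X ⟶ (T.obj₁⟦m⟧)⟦(1 : ℤ)⟧) :=
    subsingleton_hom_obj₂ _ hT' X h₃ h₂'
  exact ⟨fun a b => (cancel_mono ((shiftFunctorAdd' C m 1 (m + 1) rfl).hom.app T.obj₁)).1
    (h1'.elim _ _)⟩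

end Groth.Agent.Lib.Helper11
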