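import Groth.Agent.Lib.Helper11.ZsConnB
import Groth.Agent.Lib.Helper13.SerreCrit1
import Groth.Agent.Lib.Helper17.StalkExact
import Groth.Agent.Lib.Helper9.StalkUnit
import Groth.Agent.S0002
import Groth.Agent.Lib.Helper23.T2L

/-!
# Connectedness of the zero locus of a regular section whose inverse powers have no `H¹` (helper11)
-/

set_option autoImplicit false
set_option linter.unusedSectionVars false
set_option linter.style.haveILetI false
universe u
open CategoryTheory CategoryTheory.Limits AlgebraicGeometry TopologicalSpace Opposite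
open Scheme.Modules

noncomputable section

namespace Groth.Agent.Lib.Helper11.ZsConnC

open Groth.Agent.Lib.Helper3 Groth.Agent.Lib.Helper3.QCSec Groth.Agent.Lib.Helper3.InvGen
  Groth.Agent.Lib.Helper3.InvTensor Groth.Agent.Lib.Helper3.InvMonoidal
  Groth.Agent.Lib.Helper11.ZsConnB Groth.Agent.Lib.Helper17.StalkExact
  Groth.Agent.Lib.Helper9.StalkUnit

/-! ### an algebraic global function on a connected scheme has clopen, hence trivial, basic open -/

theorem basicOpen_eq_bot_or_top (k : Type u) [Field k] (X : Scheme.{u}) [PreconnectedSpace X]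
    [Algebra k Γ(X, ⊤)] (f : Γ(X, ⊤)) (hf : IsAlgebraic k f) :
    X.basicOpen f = ⊥ ∨ X.basicOpen f = ⊤ := by
  obtain ⟨P, hP0, hP⟩ := hf
  obtain ⟨Q, hPQ, hQ⟩ := Polynomial.exists_eq_pow_rootMultiplicity_mul_and_not_dvd P hP0 0
  have hq0 : Q.coeff 0 ≠ 0 := by
    intro h
    apply hQ
    rw [map_zero, sub_zero]
    exact Polynomial.X_dvd_iff.mpr h
  have hfg : f ^ (P.rootMultiplicity 0) * Polynomial.aeval f Q = 0 := by
    have h1 := congrArg (Polynomial.aeval f) hPQ
    rw [hP, map_mul, map_pow, map_sub, Polynomial.aeval_X, map_zero, map_zero, sub_zero] at h1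
    exact h1.symm
  have hQ' : Polynomial.aeval f Q =
      Polynomial.aeval f Q.divX * f + algebraMap k Γ(X, ⊤) (Q.coeff 0) := by
    conv_lhs => rw [← Polynomial.divX_mul_X_add Q]
    rw [map_add, map_mul, Polynomial.aeval_X, Polynomial.aeval_C]
  have hunit : IsUnit (algebraMap k Γ(X, ⊤) (Q.coeff 0)) := (IsUnit.mk0 _ hq0).map _
  have hdisj : X.basicOpen f ⊓ X.basicOpen (Polynomial.aeval f Q) = ⊥ := by
    have h1 : X.basicOpen f ≤ X.basicOpen (f ^ (P.rootMultiplicity 0)) := by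
      rcases Nat.eq_zero_or_pos (P.rootMultiplicity 0) with h | h
      · rw [h, pow_zero, Scheme.basicOpen_one]
        exact le_top
      · rw [X.basicOpen_pow f h]
    have h2 : X.basicOpen (f ^ (P.rootMultiplicity 0)) ⊓ X.basicOpen (Polynomial.aeval f Q) = ⊥ := by
      rw [← Scheme.basicOpen_mul, hfg, Scheme.basicOpen_zero]
    exact le_bot_iff.mp (h2 ▸ inf_le_inf_right _ h1)
  have hcov : (⊤ : X.Opens) ≤ X.basicOpen (Polynomial.aeval f Q) ⊔ X.basicOpen f := by
    have h1 : algebraMap k Γ(X, ⊤) (Q.coeff 0) =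
        Polynomial.aeval f Q + (-(Polynomial.aeval f Q.divX)) * f := by
      rw [hQ']
      ring
    have h2 : X.basicOpen (Polynomial.aeval f Q + (-(Polynomial.aeval f Q.divX)) * f) = ⊤ := by
      rw [← h1]
      exact X.basicOpen_of_isUnit hunit
    refine (le_of_eq h2.symm).trans ?_
    refine (X.basicOpen_add_le _ _).trans (sup_le_sup_left ?_ _)
    rw [Scheme.basicOpen_mul]
    exact inf_le_right
  have hclopen : IsClopen (X.basicOpen f : Set X) := by
    refine ⟨?_, (X.basicOpen f).isOpen⟩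
    have hc : (X.basicOpen f : Set X)ᶜ = (X.basicOpen (Polynomial.aeval f Q) : Set X) := by
      ext x
      constructor
      · intro hx
        rcases hcov (show x ∈ (⊤ : X.Opens) from trivial) with h | h
        · exact h
        · exact absurd h hx
      · intro hx hxf
        have : x ∈ X.basicOpen f ⊓ X.basicOpen (Polynomial.aeval f Q) := ⟨hxf, hx⟩
        rw [hdisj] at this
        exact this
    rw [← isOpen_compl_iff, hc]
    exact (X.basicOpen _).isOpen
  rcases isClopen_iff.mp hclopen with h | h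
  · left
    exact Opens.ext h
  · right
    exact Opens.ext h

/-- `H⁰(Y, O_Y) ≃ Γ(Y, ⊤)`, linear over the base ring. -/
def H0structEquiv' (K : Type u) [CommRing K] (Y : Scheme.{u})
    [Y.Over (Spec (CommRingCat.of K))] :
    letI : Algebra K Γ(Y, ⊤) := (Coh.toGlobal (Y ↘ Spec (CommRingCat.of K))).toAlgebra
    Coh.HH Y (Coh.structureModule Y) 0 ≃ₗ[K] Γ(Y, ⊤) :=
  letI : Algebra K Γ(Y, ⊤) := (Coh.toGlobal (Y ↘ Spec (CommRingCat.of K))).toAlgebra
  let e0 : Coh.HH Y (Coh.structureModule Y) 0 ≃+ Γ(Y, ⊤) :=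
    (Groth.Agent.Lib.Helper23.T2.H0equiv (Coh.structureModule Y)).toAddEquiv
  e0.toLinearEquiv
    (fun c x => (Groth.Agent.Lib.Helper23.T2.H0equiv (Coh.structureModule Y)).map_smul
      (Coh.toGlobal (Y ↘ Spec (CommRingCat.of K)) c) x)

variable {X : Scheme.{u}}

/-! ### the stalk of a map to `O_X`, valued in the local ring -/

/-- the stalk map of `Φ : N ⟶ O_X`, valued in the local ring -/
def beta {N : X.Modules} (Φ : N ⟶ Coh.structureModule X) (x : X) :
    N.presheaf.stalk x → X.presheaf.stalk x :=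
  fun n => unitStalkHom x (stalkLin Φ x n)

theorem beta_smul {N : X.Modules} (Φ : N ⟶ Coh.structureModule X) (x : X)
    (r : X.presheaf.stalk x) (n : N.presheaf.stalk x) :
    beta Φ x (r • n) = r * beta Φ x n := by
  unfold beta
  rw [(stalkLin Φ x).map_smul r n, unitStalkHom_smul]

theorem beta_germ {N : X.Modules} (Φ : N ⟶ Coh.structureModule X) (x : X) (U : X.Opens)
    (hx : x ∈ U) (t : Γ(N, U)) :
    beta Φ x (N.presheaf.germ U x hx t) = X.presheaf.germ U x hx (toFun U (Φ.app U t)) := by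
  unfold beta
  rw [stalkLin_apply, QS.stalkMap_germ, unitStalkHom_germ]
  rfl

section setup

variable {L M : X.Modules} (hLi : PicF.IsInvertible L) (hMi : PicF.IsInvertible M)
  (e : CohB1.tensorMod L M ≅ Coh.structureModule X) (s : Coh.structureModule X ⟶ L)

include hLi hMi in
theorem exists_gens (x : X) : ∃ (U : X.Opens) (ε : Γ(L, U)) (μ : Γ(M, U)),
    x ∈ U ∧ IsGen L U ε ∧ IsGen M U μ := by
  obtain ⟨U₁, ε, hx₁, hε⟩ := exists_isGen hLi x
  obtain ⟨U₂, μ, hx₂, hμ⟩ := exists_isGen hMi x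
  exact ⟨U₁ ⊓ U₂, res L inf_le_left ε, res M inf_le_right μ, ⟨hx₁, hx₂⟩,
    hε.mono inf_le_left, hμ.mono inf_le_right⟩

theorem basicOpen_phi {U : X.Opens} {ε : Γ(L, U)} {μ : Γ(M, U)} (hε : IsGen L U ε)
    (hμ : IsGen M U μ) :
    X.basicOpen (toFun U ((phi e s).app U μ)) = CohB1.genLocus L s ⊓ U := by
  obtain ⟨c, hc⟩ := hε.self.exists_coord (sec s U)
  rw [phi_gen e s c hc.symm, Scheme.basicOpen_mul, X.basicOpen_of_isUnit (isUnit_pair e hε hμ),
    genLocus_inf_eq_basicOpen s hε c hc.symm]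
  exact inf_eq_left.mpr (X.basicOpen_le c)

theorem phi_nzd (hs : Mono s) {U : X.Opens} {ε : Γ(L, U)} {μ : Γ(M, U)} (hε : IsGen L U ε)
    (hμ : IsGen M U μ) (r : Γ(X, U)) (h : r * toFun U ((phi e s).app U μ) = 0) : r = 0 := by
  obtain ⟨c, hc⟩ := hε.self.exists_coord (sec s U)
  rw [phi_gen e s c hc.symm, ← mul_assoc] at h
  have h2 : r * c = 0 := (isUnit_pair e hε hμ).mul_left_eq_zero.mp h
  apply ZsConnA.smul_sec_eq_zero_of_mono hs r
  rw [← hc, ← mul_smul, h2, zero_smul]

include hLi hMi in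
theorem mono_Phi_phi (hs : Mono s) (m : ℕ) : Mono (Phi (phi e s) m) := by
  apply mono_Phi
  intro x
  obtain ⟨U, ε, μ, hx, hε, hμ⟩ := exists_gens hLi hMi x
  exact ⟨U, μ, hx, hμ, fun V hV r h => phi_nzd e s hs (hε.mono hV) (hμ.mono hV) r h⟩

include hLi hMi in
/-- off the generating locus, the stalk image of `Phi` lies in the maximal ideal -/
theorem beta_mem_maximalIdeal (m : ℕ) (hm : 0 < m) (x : X) (hx : x ∉ CohB1.genLocus L s)
    (n : (CohB1.tensorPow M m).presheaf.stalk x) :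
    beta (Phi (phi e s) m) x n ∈ IsLocalRing.maximalIdeal (X.presheaf.stalk x) := by
  obtain ⟨U, ε, μ, hxU, hε, hμ⟩ := exists_gens hLi hMi x
  obtain ⟨r, rfl⟩ := H16Mero.exists_smul_germ_eq (isGen_lpow hμ m) hxU n
  rw [beta_smul, beta_germ, Phi_lpow]
  apply Ideal.mul_mem_left
  have h1 : toFun U (ofFun U (toFun U ((phi e s).app U μ) ^ m)) =
      toFun U ((phi e s).app U μ) ^ m := rfl
  rw [h1, map_pow]
  apply Ideal.pow_mem_of_mem _ _ m hm
  rw [IsLocalRing.mem_maximalIdeal, mem_nonunits_iff]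
  intro hu
  have h2 : x ∈ X.basicOpen (toFun U ((phi e s).app U μ)) := (X.mem_basicOpen _ x hxU).mpr hu
  rw [basicOpen_phi e s hε hμ] at h2
  exact hx h2.1

include hLi hMi in
/-- on the generating locus, the stalk map of `Phi` is surjective -/
theorem stalkLin_Phi_surjective (m : ℕ) (x : X) (hx : x ∈ CohB1.genLocus L s) :
    Function.Surjective (stalkLin (Phi (phi e s) m) x) := by
  obtain ⟨U, ε, μ, hxU, hε, hμ⟩ := exists_gens hLi hMi x
  intro o
  have hu : IsUnit (X.presheaf.germ U x hxU (toFun U ((phi e s).app U μ))) := by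
    apply (X.mem_basicOpen _ x hxU).mp
    rw [basicOpen_phi e s hε hμ]
    exact ⟨hx, hxU⟩
  have hv : IsUnit (beta (Phi (phi e s) m) x
      ((CohB1.tensorPow M m).presheaf.germ U x hxU (lpow M μ m))) := by
    rw [beta_germ, Phi_lpow]
    have h1 : toFun U (ofFun U (toFun U ((phi e s).app U μ) ^ m)) =
        toFun U ((phi e s).app U μ) ^ m := rfl
    rw [h1, map_pow]
    exact hu.pow m
  obtain ⟨w, hw⟩ := isUnit_iff_exists_inv'.mp hv
  refine ⟨(unitStalkHom x o * w) • (CohB1.tensorPow M m).presheaf.germ U x hxU (lpow M μ m), ?_⟩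
  apply unitStalkHom_injective x
  have h2 := beta_smul (Phi (phi e s) m) x (unitStalkHom x o * w)
    ((CohB1.tensorPow M m).presheaf.germ U x hxU (lpow M μ m))
  unfold beta at h2 hw
  rw [h2, mul_assoc, hw, mul_one]

end setup

/-- sections of the cokernel vanish where the stalk maps of the kernel are surjective -/
theorem sec_coker_eq_zero (S : ShortComplex X.Modules) (hS : S.ShortExact) (V : X.Opens)
    (hV : ∀ x ∈ V, Function.Surjective (stalkLin S.f x)) (q : Γ(S.X₃, V)) : q = 0 := by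
  haveI := hS.mono_f
  haveI := hS.epi_g
  apply QS.eq_zero_of_subsingleton_stalk
  intro x hx
  obtain ⟨o, ho⟩ := stalkLin_surjective S.g x (S.X₃.presheaf.germ V x hx q)
  obtain ⟨n, rfl⟩ := hV x hx o
  rw [← ho]
  exact (stalkLin_exact S hS.exact x _).mpr ⟨n, rfl⟩

/-- gluing over a cover by two opens whose intersection carries no sections. -/
theorem exists_glue₂ (M : X.Modules) (U₁ U₂ : X.Opens) (hcov : U₁ ⊔ U₂ = ⊤)
    (h0 : ∀ V : X.Opens, V ≤ U₁ → V ≤ U₂ → ∀ s : Γ(M, V), s = 0)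
    (s₁ : Γ(M, U₁)) (s₂ : Γ(M, U₂)) :
    ∃ s : Γ(M, ⊤), res M le_top s = s₁ ∧ res M le_top s = s₂ := by
  let W : ULift.{u} Bool → X.Opens := fun i => Bool.rec U₂ U₁ i.down
  let a : ∀ i, Γ(M, W i) := fun i => match i with
    | ⟨true⟩ => s₁
    | ⟨false⟩ => s₂
  have hc : (⊤ : X.Opens) ≤ ⨆ i, W i := by
    rw [← hcov]
    apply sup_le
    · exact le_iSup W ⟨true⟩
    · exact le_iSup W ⟨false⟩
  obtain ⟨b, hb⟩ := sec_glue M W ⊤ (fun _ => le_top) hc a (by
    rintro ⟨i⟩ ⟨j⟩
    cases i <;> cases j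
    · rfl
    · rw [h0 (W ⟨false⟩ ⊓ W ⟨true⟩) inf_le_right inf_le_left (res M _ (a ⟨false⟩)),
        h0 (W ⟨false⟩ ⊓ W ⟨true⟩) inf_le_right inf_le_left (res M _ (a ⟨true⟩))]
    · rw [h0 (W ⟨true⟩ ⊓ W ⟨false⟩) inf_le_left inf_le_right (res M _ (a ⟨false⟩)),
        h0 (W ⟨true⟩ ⊓ W ⟨false⟩) inf_le_left inf_le_right (res M _ (a ⟨true⟩))]
    · rfl)
  exact ⟨b, hb ⟨true⟩, hb ⟨false⟩⟩

section main

variable (k : Type u) [Field k] [X.Over (Spec (CommRingCat.of k))]
  [IsProper (X ↘ Spec (CommRingCat.of k))]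
  {L M : X.Modules} (hLi : PicF.IsInvertible L) (hMi : PicF.IsInvertible M)
  (e : CohB1.tensorMod L M ≅ Coh.structureModule X) (s : Coh.structureModule X ⟶ L)

include k hLi hMi e in
/-- **the complement of the generating locus cannot be split into two nonempty closed pieces** -/
theorem eq_empty_or_eq_empty [PreconnectedSpace X] (hs : Mono s) (m : ℕ) (hm : 0 < m)
    (h1 : Subsingleton (Coh.HH X (CohB1.tensorPow M m) 1))
    (A B : Set X) (hA : IsClosed A) (hB : IsClosed B) (hdisj : Disjoint A B)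
    (hAB : A ∪ B = ((CohB1.genLocus L s : X.Opens) : Set X)ᶜ) : A = ∅ ∨ B = ∅ := by
  haveI hmono : Mono (Phi (phi e s) m) := mono_Phi_phi hLi hMi e s hs m
  let S : ShortComplex X.Modules := ShortComplex.mk (Phi (phi e s) m)
    (cokernel.π (Phi (phi e s) m)) (cokernel.condition _)
  have hS : S.ShortExact :=
    { exact := ShortComplex.exact_cokernel _
      mono_f := hmono
      epi_g := inferInstanceAs (Epi (cokernel.π (Phi (phi e s) m))) }
  haveI : Mono S.f := hmono
  let U₁ : X.Opens := ⟨Bᶜ, hB.isOpen_compl⟩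
  let U₂ : X.Opens := ⟨Aᶜ, hA.isOpen_compl⟩
  have hcov : U₁ ⊔ U₂ = ⊤ := by
    apply le_antisymm le_top
    intro x _
    by_cases hx : x ∈ B
    · exact Or.inr (fun hx1 => Set.disjoint_left.mp hdisj hx1 hx)
    · exact Or.inl hx
  have h0 : ∀ V : X.Opens, V ≤ U₁ → V ≤ U₂ → ∀ q : Γ(S.X₃, V), q = 0 := by
    intro V hV₁ hV₂ q
    refine sec_coker_eq_zero S hS V (fun x hx => ?_) q
    apply stalkLin_Phi_surjective hLi hMi e s m x
    by_contra hxg
    have h2 : x ∈ A ∪ B := by rw [hAB]; exact hxg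
    rcases h2 with h | h
    · exact hV₂ hx h
    · exact hV₁ hx h
  obtain ⟨t, ht₁, ht₂⟩ := exists_glue₂ S.X₃ U₁ U₂ hcov h0
    (res S.X₃ le_top (S.g.app ⊤ (ofFun ⊤ 1))) 0
  obtain ⟨f', hf'⟩ := Groth.Agent.Lib.Helper13.SerreCrit1.surjective_app_top_of_H1 S hS h1 t
  -- facts at points of `A` and `B`
  have memA : ∀ x ∈ A, x ∈ X.basicOpen (toFun ⊤ f') := by
    intro x hxA
    have hxU : x ∈ U₁ := fun hxB => Set.disjoint_left.mp hdisj hxA hxB
    have hxg : x ∉ CohB1.genLocus L s := by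
      have : x ∈ A ∪ B := Or.inl hxA
      rw [hAB] at this
      exact this
    have hg1 : S.X₃.presheaf.germ ⊤ x trivial (S.g.app ⊤ f') =
        S.X₃.presheaf.germ ⊤ x trivial (S.g.app ⊤ (ofFun ⊤ 1)) := by
      rw [hf', ← TopCat.Presheaf.germ_res_apply S.X₃.presheaf (homOfLE (le_top : U₁ ≤ ⊤)) x hxU t,
        ← TopCat.Presheaf.germ_res_apply S.X₃.presheaf (homOfLE (le_top : U₁ ≤ ⊤)) x hxU
          (S.g.app ⊤ (ofFun ⊤ 1))]
      exact congrArg _ ht₁
    have hg2 : stalkLin S.g x ((Coh.structureModule X).presheaf.germ ⊤ x trivial f' -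
        (Coh.structureModule X).presheaf.germ ⊤ x trivial (ofFun ⊤ 1)) = 0 := by
      rw [map_sub, stalkLin_apply, stalkLin_apply, QS.stalkMap_germ, QS.stalkMap_germ, hg1,
        sub_self]
    obtain ⟨n, hn⟩ := (stalkLin_exact S hS.exact x _).mp hg2
    have hβ := beta_mem_maximalIdeal hLi hMi e s m hm x hxg n
    have hβ' : beta (Phi (phi e s) m) x n =
        X.presheaf.germ ⊤ x trivial (toFun ⊤ f') - 1 := by
      unfold beta
      have hn' : stalkLin (Phi (phi e s) m) x n = _ := hn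
      rw [hn', map_sub, unitStalkHom_germ, unitStalkHom_germ]
      have h1' : X.presheaf.germ ⊤ x trivial (ofFun ⊤ (1 : Γ(X, ⊤))) = 1 :=
        map_one (X.presheaf.germ ⊤ x trivial).hom
      rw [h1']
      rfl
    rw [X.mem_basicOpen_top]
    by_contra hnu
    have h3 : X.presheaf.germ ⊤ x trivial (toFun ⊤ f') ∈
        IsLocalRing.maximalIdeal (X.presheaf.stalk x) :=
      (IsLocalRing.mem_maximalIdeal _).mpr hnu
    have h4 : (1 : X.presheaf.stalk x) ∈ IsLocalRing.maximalIdeal (X.presheaf.stalk x) := by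
      have := Ideal.sub_mem _ h3 hβ
      rw [hβ', sub_sub_cancel] at this
      exact this
    exact (Ideal.ne_top_iff_one _).mp (IsLocalRing.maximalIdeal.isMaximal _).ne_top h4
  have notMemB : ∀ x ∈ B, x ∉ X.basicOpen (toFun ⊤ f') := by
    intro x hxB
    have hxU : x ∈ U₂ := fun hxA => Set.disjoint_left.mp hdisj hxA hxB
    have hxg : x ∉ CohB1.genLocus L s := by
      have : x ∈ A ∪ B := Or.inr hxB
      rw [hAB] at this
      exact this
    have hg1 : S.X₃.presheaf.germ ⊤ x trivial (S.g.app ⊤ f') = 0 := by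
      rw [hf', ← TopCat.Presheaf.germ_res_apply S.X₃.presheaf (homOfLE (le_top : U₂ ≤ ⊤)) x hxU t]
      have : S.X₃.presheaf.map (homOfLE (le_top : U₂ ≤ ⊤)).op t = 0 := ht₂
      rw [this, map_zero]
    have hg2 : stalkLin S.g x ((Coh.structureModule X).presheaf.germ ⊤ x trivial f') = 0 := by
      rw [stalkLin_apply, QS.stalkMap_germ, hg1]
    obtain ⟨n, hn⟩ := (stalkLin_exact S hS.exact x _).mp hg2
    have hβ := beta_mem_maximalIdeal hLi hMi e s m hm x hxg n
    have hβ' : beta (Phi (phi e s) m) x n = X.presheaf.germ ⊤ x trivial (toFun ⊤ f') := by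
      unfold beta
      have hn' : stalkLin (Phi (phi e s) m) x n = _ := hn
      rw [hn', unitStalkHom_germ]
      rfl
    rw [X.mem_basicOpen_top]
    intro hu
    rw [hβ'] at hβ
    exact (IsLocalRing.mem_maximalIdeal _).mp hβ hu
  -- algebraicity
  letI : Algebra k Γ(X, ⊤) := (Coh.toGlobal (X ↘ Spec (CommRingCat.of k))).toAlgebra
  haveI : Module.Finite k (Coh.HH X (Coh.structureModule X) 0) :=
    Groth.Agent.S0002.result k X _ (Groth.Agent.Lib.Helper23.T2.isCoh_structureModule X) 0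
  haveI : Module.Finite k Γ(X, ⊤) :=
    Module.Finite.equiv (H0structEquiv' k X)
  haveI : Algebra.IsIntegral k Γ(X, ⊤) := Algebra.IsIntegral.of_finite k _
  have halg : IsAlgebraic k (toFun ⊤ f') :=
    (Algebra.IsIntegral.isIntegral (R := k) (toFun ⊤ f')).isAlgebraic
  rcases basicOpen_eq_bot_or_top k X (toFun ⊤ f') halg with h | h
  · left
    rw [Set.eq_empty_iff_forall_notMem]
    intro x hxA
    have := memA x hxA
    rw [h] at this
    exact this
  · right
    rw [Set.eq_empty_iff_forall_notMem]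
    intro x hxB
    have := notMemB x hxB
    rw [h] at this
    exact this trivial

include hLi hMi e in
/-- the complement of the generating locus is nonempty when `H⁰(M^m) = 0` -/
theorem nonempty_compl_genLocus [Nonempty X] (hs : Mono s) (m : ℕ)
    (h0 : Subsingleton (Coh.HH X (CohB1.tensorPow M m) 0)) :
    (((CohB1.genLocus L s : X.Opens) : Set X)ᶜ).Nonempty := by
  by_contra hne
  rw [Set.not_nonempty_iff_eq_empty] at hne
  haveI hmono : Mono (Phi (phi e s) m) := mono_Phi_phi hLi hMi e s hs m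
  let S : ShortComplex X.Modules := ShortComplex.mk (Phi (phi e s) m)
    (cokernel.π (Phi (phi e s) m)) (cokernel.condition _)
  have hS : S.ShortExact :=
    { exact := ShortComplex.exact_cokernel _
      mono_f := hmono
      epi_g := inferInstanceAs (Epi (cokernel.π (Phi (phi e s) m))) }
  haveI : Mono S.f := hmono
  have hq : S.g.app ⊤ (ofFun ⊤ 1) = 0 := by
    refine sec_coker_eq_zero S hS ⊤ (fun x _ => ?_) _
    apply stalkLin_Phi_surjective hLi hMi e s m x
    by_contra hxg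
    have : x ∈ ((CohB1.genLocus L s : X.Opens) : Set X)ᶜ := hxg
    rw [hne] at this
    exact this
  obtain ⟨ν, hν⟩ := QCExact.exact_sections S hS.exact ⊤ _ hq
  have hT : IsTerminal (⊤ : X.Opens) := isTerminalTop
  have hν0 : ν = 0 := by
    have hsub : Subsingleton Γ(CohB1.tensorPow M m, ⊤) :=
      (Sheaf.H.equiv₀ (Coh.toAb (CohB1.tensorPow M m)) hT).symm.toEquiv.subsingleton
    exact Subsingleton.elim _ _
  rw [hν0] at hν
  have h1 : (1 : Γ(X, ⊤)) = 0 := by
    have h2 : ofFun ⊤ (1 : Γ(X, ⊤)) = ofFun ⊤ 0 := by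
      rw [← hν]
      exact QCExact.app_zero S.f ⊤
    exact ofFun_injective ⊤ h2
  haveI : Nonempty (⊤ : X.Opens) := by
    obtain ⟨y⟩ : Nonempty X := inferInstance
    exact ⟨⟨y, trivial⟩⟩
  haveI : Nontrivial Γ(X, ⊤) := Scheme.component_nontrivial X ⊤
  exact one_ne_zero h1

end main

end Groth.Agent.Lib.Helper11.ZsConnC
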