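import Mathlib

/-!
# Connected components in a "limit" of finite-fibre levels (helper11)

Pure topology used for S1583 (images of connected components under base field extension).
-/

set_option autoImplicit false

namespace Groth.Agent.Lib.Helper11.ConnLimit

open Set Topology

/-- If `π : Y → X` is continuous, open, closed with finite fibres and `X` is connected, then every
connected component of `Y` is clopen and maps onto `X`. -/
theorem component_clopen_surj {Y X : Type*} [TopologicalSpace Y] [TopologicalSpace X]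
    [ConnectedSpace X] (π : Y → X) (ho : IsOpenMap π) (hcl : IsClosedMap π)
    (hfin : ∀ x, (π ⁻¹' {x}).Finite) (y : Y) :
    IsClopen (connectedComponent y) ∧ π '' connectedComponent y = univ := by
  classical
  obtain ⟨x₀⟩ : Nonempty X := inferInstance
  set Φ : Set Y := π ⁻¹' {x₀} with hΦ
  have himg : ∀ V : Set Y, IsClopen V → V.Nonempty → π '' V = univ := by
    intro V hV hne
    have h1 : IsClopen (π '' V) := ⟨hcl V hV.1, ho V hV.2⟩
    rcases isClopen_iff.mp h1 with h | h
    · exfalso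
      have := hne.image π
      rw [h] at this
      exact this.ne_empty rfl
    · exact h
  have htrace : ∀ V : Set Y, IsClopen V → V.Nonempty → (V ∩ Φ).Nonempty := by
    intro V hV hne
    have : x₀ ∈ π '' V := by rw [himg V hV hne]; trivial
    obtain ⟨v, hv, hvx⟩ := this
    exact ⟨v, hv, hvx⟩
  let S : Set ℕ := {n | ∃ V : Set Y, IsClopen V ∧ y ∈ V ∧ (V ∩ Φ).ncard = n}
  have hS : S.Nonempty := ⟨_, univ, isClopen_univ, mem_univ y, rfl⟩
  obtain ⟨V, hV, hyV, hVn⟩ := Nat.sInf_mem hS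
  have hmin : ∀ W : Set Y, IsClopen W → y ∈ W → (V ∩ Φ).ncard ≤ (W ∩ Φ).ncard := by
    intro W hW hyW
    rw [hVn]
    exact Nat.sInf_le ⟨W, hW, hyW, rfl⟩
  have hVfin : (V ∩ Φ).Finite := (hfin x₀).subset inter_subset_right
  have hclopen : ∀ t t' : Set Y, IsClosed t → IsClosed t' → V ⊆ t ∪ t' → V ∩ (t ∩ t') = ∅ →
      IsClopen (V ∩ t) := by
    intro t t' ht ht' hVtt' hcon
    refine ⟨hV.1.inter ht, ?_⟩
    have : V ∩ t = V ∩ t'ᶜ := by
      ext a
      constructor
      · rintro ⟨haV, hat⟩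
        refine ⟨haV, fun hat' => ?_⟩
        have : a ∈ V ∩ (t ∩ t') := ⟨haV, hat, hat'⟩
        rw [hcon] at this; exact this
      · rintro ⟨haV, hat'⟩
        rcases hVtt' haV with h | h
        · exact ⟨haV, h⟩
        · exact absurd h hat'
    rw [this]
    exact hV.2.inter ht'.isOpen_compl
  have key : ∀ t t' : Set Y, IsClosed t → IsClosed t' → V ⊆ t ∪ t' → (V ∩ t').Nonempty →
      V ∩ (t ∩ t') = ∅ → y ∈ t → False := by
    intro t t' ht ht' hVtt' hne' hcon hyt
    have hW : IsClopen (V ∩ t) := hclopen t t' ht ht' hVtt' hcon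
    have hW' : IsClopen (V ∩ t') :=
      hclopen t' t ht' ht (by rwa [union_comm]) (by rwa [inter_comm t' t])
    obtain ⟨v, ⟨hvV, hvt'⟩, hvΦ⟩ := htrace _ hW' hne'
    have hvt : v ∉ t := fun hvt => by
      have : v ∈ V ∩ (t ∩ t') := ⟨hvV, hvt, hvt'⟩
      rw [hcon] at this; exact this
    have hss : (V ∩ t) ∩ Φ ⊂ V ∩ Φ := by
      refine ⟨fun a ha => ⟨ha.1.1, ha.2⟩, fun h => ?_⟩
      exact hvt (h ⟨hvV, hvΦ⟩).1.2
    have h1 := Set.ncard_lt_ncard hss hVfin
    have h2 := hmin (V ∩ t) hW ⟨hyV, hyt⟩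
    omega
  have hVpre : IsPreconnected V := by
    rw [isPreconnected_closed_iff]
    intro t t' ht ht' hVtt' hne hne'
    by_contra hcon
    rw [not_nonempty_iff_eq_empty] at hcon
    rcases hVtt' hyV with hyt | hyt'
    · exact key t t' ht ht' hVtt' hne' hcon hyt
    · exact key t' t ht' ht (by rwa [union_comm]) hne (by rwa [inter_comm t' t]) hyt'
  have hVeq : connectedComponent y = V :=
    Subset.antisymm (hV.connectedComponent_subset hyV) (hVpre.subset_connectedComponent hyV)
  rw [hVeq]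
  exact ⟨hV, himg V hV ⟨y, hyV⟩⟩

/-- The limit lemma. `Y` is a "limit" of levels `Xi i` over a connected space `X`, the levels
have finite fibres over `X`; then every connected component of `Y` maps onto `X`. -/
theorem exists_mem_connectedComponent_of_levels
    {I : Type*} [Preorder I] [IsDirected I (· ≤ ·)] [Nonempty I]
    {Y X : Type*} [TopologicalSpace Y] [TopologicalSpace X] [ConnectedSpace X]
    (Xi : I → Type*) [∀ i, TopologicalSpace (Xi i)]
    (p : Y → X) (q : ∀ i, Y → Xi i) (π : ∀ i, Xi i → X) (t : ∀ i j, i ≤ j → Xi j → Xi i)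
    (hπq : ∀ i y, π i (q i y) = p y)
    (htq : ∀ i j (h : i ≤ j) y, t i j h (q j y) = q i y)
    (hqc : ∀ i, Continuous (q i)) (hqcl : ∀ i, IsClosedMap (q i))
    (hqs : ∀ i, Function.Surjective (q i))
    (hqf : ∀ i (c : Xi i), IsCompact (q i ⁻¹' {c}))
    (hpf : ∀ x, IsCompact (p ⁻¹' {x}))
    (htc : ∀ i j h, Continuous (t i j h)) (hto : ∀ i j h, IsOpenMap (t i j h))
    (htcl : ∀ i j h, IsClosedMap (t i j h))
    (hπo : ∀ i, IsOpenMap (π i)) (hπcl : ∀ i, IsClosedMap (π i))
    (hπf : ∀ i x, (π i ⁻¹' {x}).Finite)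
    (hbasis : ∀ (y : Y) (W : Set Y), IsOpen W → y ∈ W →
      ∃ (i : I) (V : Set (Xi i)), IsOpen V ∧ q i y ∈ V ∧ q i ⁻¹' V ⊆ W)
    (y₀ : Y) (x : X) : ∃ y ∈ connectedComponent y₀, p y = x := by
  classical
  let C : ∀ i, Set (Xi i) := fun i => connectedComponent (q i y₀)
  have hC : ∀ i, IsClopen (C i) ∧ π i '' C i = univ := fun i =>
    component_clopen_surj (π i) (hπo i) (hπcl i) (hπf i) (q i y₀)
  have hCconn : ∀ i, IsPreconnected (C i) := fun i => isPreconnected_connectedComponent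
  have htC : ∀ i j (h : i ≤ j), t i j h '' C j ⊆ C i := by
    intro i j h
    have h1 : IsPreconnected (t i j h '' C j) := (hCconn j).image _ (htc i j h).continuousOn
    have h2 : q i y₀ ∈ t i j h '' C j := ⟨q j y₀, mem_connectedComponent, htq i j h y₀⟩
    exact h1.subset_connectedComponent h2
  have htC' : ∀ i j (h : i ≤ j), t i j h '' C j = C i := by
    intro i j h
    have hclopen : IsClopen (t i j h '' C j) :=
      ⟨htcl i j h _ (hC j).1.1, hto i j h _ (hC j).1.2⟩
    have hne : (C i ∩ t i j h '' C j).Nonempty :=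
      ⟨q i y₀, mem_connectedComponent, q j y₀, mem_connectedComponent, htq i j h y₀⟩
    exact Subset.antisymm (htC i j h) ((hCconn i).subset_isClopen hclopen hne)
  have hmono : ∀ i j (h : i ≤ j) y, q j y ∈ C j → q i y ∈ C i := by
    intro i j h y hy
    rw [← htq i j h y]
    exact htC i j h ⟨_, hy, rfl⟩
  let Z : Set Y := ⋂ i, q i ⁻¹' C i
  have hZcl : IsClosed Z := isClosed_iInter fun i => (hC i).1.1.preimage (hqc i)
  have hZmem : ∀ y, y ∈ Z ↔ ∀ i, q i y ∈ C i := fun y => by
    simp only [Z, mem_iInter, mem_preimage]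
  have hy₀Z : y₀ ∈ Z := (hZmem y₀).mpr fun i => mem_connectedComponent
  have hlift : ∀ j (c : Xi j), c ∈ C j → ∃ z ∈ Z, q j z = c := by
    intro j c hc
    have hne : (q j ⁻¹' {c} ∩ ⋂ i, q i ⁻¹' C i).Nonempty := by
      refine (hqf j c).inter_iInter_nonempty (fun i => q i ⁻¹' C i)
        (fun i => (hC i).1.1.preimage (hqc i)) ?_
      intro u
      obtain ⟨m, hm⟩ := Finset.exists_le (insert j u)
      have hjm : j ≤ m := hm j (Finset.mem_insert_self j u)
      have : c ∈ t j m hjm '' C m := by rw [htC' j m hjm]; exact hc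
      obtain ⟨c', hc', hc'c⟩ := this
      obtain ⟨z, hz⟩ := hqs m c'
      refine ⟨z, ?_, ?_⟩
      · show q j z = c
        rw [← htq j m hjm z, hz, hc'c]
      · simp only [mem_iInter]
        intro i hi
        exact hmono i m (hm i (Finset.mem_insert_of_mem hi)) z (by rw [hz]; exact hc')
    obtain ⟨z, hz1, hz2⟩ := hne
    exact ⟨z, hz2, hz1⟩
  have hq_onto : ∀ (A B : Set Y), IsClosed A → IsClosed B → Z ⊆ A ∪ B → (Z ∩ A).Nonempty →
      Z ∩ (A ∩ B) = ∅ → ∀ j, q j '' (Z ∩ A) = C j := by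
    intro A B hA hB hZAB hneA hcon j
    have hsub : q j '' (Z ∩ A) ⊆ C j := by
      rintro _ ⟨z, ⟨hzZ, _⟩, rfl⟩
      exact (hZmem z).mp hzZ j
    have hclosed : IsClosed (q j '' (Z ∩ A)) := hqcl j _ (hZcl.inter hA)
    have hopen : IsOpen (q j '' (Z ∩ A)) := by
      rw [isOpen_iff_mem_nhds]
      rintro _ ⟨a, ⟨haZ, haA⟩, rfl⟩
      have haB : a ∉ B := fun h => by
        have : a ∈ Z ∩ (A ∩ B) := ⟨haZ, haA, h⟩
        rw [hcon] at this; exact this
      obtain ⟨i, V, hV, haV, hVB⟩ := hbasis a Bᶜ hB.isOpen_compl haB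
      obtain ⟨m, hjm, him⟩ := exists_ge_ge j i
      have hopen' : IsOpen (t j m hjm '' (C m ∩ (t i m him) ⁻¹' V)) :=
        hto j m hjm _ ((hC m).1.2.inter (hV.preimage (htc i m him)))
      refine Filter.mem_of_superset (hopen'.mem_nhds ?_) ?_
      · refine ⟨q m a, ⟨(hZmem a).mp haZ m, ?_⟩, htq j m hjm a⟩
        show t i m him (q m a) ∈ V
        rw [htq i m him a]; exact haV
      · rintro _ ⟨c, ⟨hcC, hcV⟩, rfl⟩
        obtain ⟨z, hzZ, hzc⟩ := hlift m c hcC
        refine ⟨z, ⟨hzZ, ?_⟩, ?_⟩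
        · rcases hZAB hzZ with h | h
          · exact h
          · exfalso
            have : z ∈ q i ⁻¹' V := by
              show q i z ∈ V
              rw [← htq i m him z, hzc]; exact hcV
            exact hVB this h
        · rw [← htq j m hjm z, hzc]
    have hne : (C j ∩ q j '' (Z ∩ A)).Nonempty := by
      obtain ⟨a, ha⟩ := hneA
      exact ⟨q j a, (hZmem a).mp ha.1 j, a, ha, rfl⟩
    exact Subset.antisymm hsub ((hCconn j).subset_isClopen ⟨hclosed, hopen⟩ hne)
  have hZpre : IsPreconnected Z := by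
    rw [isPreconnected_closed_iff]
    intro A B hA hB hZAB hneA hneB
    by_contra hcon
    rw [not_nonempty_iff_eq_empty] at hcon
    have hA' := hq_onto A B hA hB hZAB hneA hcon
    obtain ⟨b, hbZ, hbB⟩ := hneB
    have hne : (p ⁻¹' {p b} ∩ ⋂ j, (Z ∩ A ∩ q j ⁻¹' closure {q j b})).Nonempty := by
      refine (hpf (p b)).inter_iInter_nonempty _
        (fun j => (hZcl.inter hA).inter (isClosed_closure.preimage (hqc j))) ?_
      intro u
      obtain ⟨m, hm⟩ := Finset.exists_le u
      have : q m b ∈ q m '' (Z ∩ A) := by rw [hA' m]; exact (hZmem b).mp hbZ m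
      obtain ⟨a, haZA, hab⟩ := this
      refine ⟨a, ?_, ?_⟩
      · show p a = p b
        rw [← hπq m a, hab, hπq m b]
      · simp only [mem_iInter]
        intro j hj
        refine ⟨haZA, ?_⟩
        show q j a ∈ closure {q j b}
        rw [← htq j m (hm j hj) a, hab, htq j m (hm j hj) b]
        exact subset_closure rfl
    obtain ⟨a, _, ha⟩ := hne
    rw [mem_iInter] at ha
    obtain ⟨j₀⟩ : Nonempty I := inferInstance
    have haZA : a ∈ Z ∩ A := (ha j₀).1
    have haB : a ∈ B := by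
      by_contra haB
      obtain ⟨i, V, hV, haV, hVB⟩ := hbasis a Bᶜ hB.isOpen_compl haB
      have h1 : q i a ∈ closure {q i b} := (ha i).2
      have h2 : q i b ∈ V := by
        rw [mem_closure_iff] at h1
        obtain ⟨w, hwV, hw⟩ := h1 V hV haV
        rw [mem_singleton_iff] at hw
        rwa [hw] at hwV
      exact hVB h2 hbB
    have : a ∈ Z ∩ (A ∩ B) := ⟨haZA.1, haZA.2, haB⟩
    rw [hcon] at this; exact this
  have hZsub : Z ⊆ connectedComponent y₀ := hZpre.subset_connectedComponent hy₀Z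
  obtain ⟨j₀⟩ : Nonempty I := inferInstance
  have : x ∈ π j₀ '' C j₀ := by rw [(hC j₀).2]; trivial
  obtain ⟨c, hc, hcx⟩ := this
  obtain ⟨z, hzZ, hzc⟩ := hlift j₀ c hc
  exact ⟨z, hZsub hzZ, by rw [← hπq j₀ z, hzc, hcx]⟩

end Groth.Agent.Lib.Helper11.ConnLimit
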