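import Mathlib
import Groth.Prelude.Def_FDesc
import Groth.Agent.Lib.Helper11.FBaseLib2
import Groth.Agent.Lib.Helper11.ConnLimit

/-!
# Finite levels of an algebraic base field extension (helper11)

For `K/k` algebraic and `X` connected over `k`, every connected component of `X_K` maps onto `X`.
-/

set_option autoImplicit false
universe u

open CategoryTheory CategoryTheory.Limits AlgebraicGeometry
open scoped TensorProduct
open Groth.Agent.Lib.Helper11.FBaseLib Groth.Agent.Lib.Helper11.FBaseLib2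

namespace Groth.Agent.Lib.Helper11.BcLevels

/-- elements of a pushout of commutative rings are sums of products -/
theorem exists_sum_of_isPushout {R A B P : CommRingCat.{u}} {f : R ⟶ A} {g : R ⟶ B}
    {inl : A ⟶ P} {inr : B ⟶ P} (h : IsPushout f g inl inr) (x : P) :
    ∃ S : Finset (A × B), x = ∑ i ∈ S, inl.hom i.1 * inr.hom i.2 := by
  letI : Algebra R A := f.hom.toAlgebra
  letI : Algebra R B := g.hom.toAlgebra
  have h' := CommRingCat.isPushout_tensorProduct R A B
  let e := h'.isoIsPushout _ _ h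
  have e1 : (CommRingCat.ofHom (S := A ⊗[R] B)
      (Algebra.TensorProduct.includeLeftRingHom)) ≫ e.hom = inl :=
    IsPushout.inl_isoIsPushout_hom _ _ h' h
  have e2 : (CommRingCat.ofHom (S := A ⊗[R] B)
      (Algebra.TensorProduct.includeRight (R := R) (A := A) (B := B)).toRingHom) ≫ e.hom = inr :=
    IsPushout.inr_isoIsPushout_hom _ _ h' h
  obtain ⟨S, hS⟩ := TensorProduct.exists_finset (R := R) (M := A) (N := B) (e.inv.hom x)
  refine ⟨S, ?_⟩
  have hx : x = e.hom.hom (e.inv.hom x) := by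
    rw [← CommRingCat.comp_apply, e.inv_hom_id]; rfl
  conv_lhs => rw [hx, hS]
  rw [map_sum]
  refine Finset.sum_congr rfl fun i _ => ?_
  have h3 : (i.1 ⊗ₜ[R] i.2 : A ⊗[R] B) =
      (i.1 ⊗ₜ[R] (1 : B)) * ((1 : A) ⊗ₜ[R] i.2) := by
    rw [Algebra.TensorProduct.tmul_mul_tmul, mul_one, one_mul]
  rw [h3, map_mul, ← e1, ← e2]
  rfl

lemma appLE_eq_of_eq {X Y : Scheme.{u}} {f g : X ⟶ Y} (h : f = g) (U : Y.Opens) (V : X.Opens)
    (e : V ≤ f ⁻¹ᵁ U) : f.appLE U V e = g.appLE U V (h ▸ e) := by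
  subst h; rfl

variable {k : Type u} [Field k] {X : Scheme.{u}} (f : X ⟶ Spec (CommRingCat.of k))

section Hom

variable {K L M : Type u} [Field K] [Field L] [Field M] [Algebra k K] [Algebra k L] [Algebra k M]

/-- transition map attached to a `k`-algebra hom -/
noncomputable def bcHom (φ : K →ₐ[k] L) : FBase.bc f L ⟶ FBase.bc f K :=
  pullback.lift (FBase.bcπ f L)
    (FBase.bcStr f L ≫ Spec.map (CommRingCat.ofHom (φ : K →+* L))) (by
    unfold FBase.bcπ FBase.bcStr
    rw [Category.assoc, ← Spec.map_comp, ← CommRingCat.ofHom_comp, φ.comp_algebraMap]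
    exact pullback.condition)

@[reassoc]
lemma bcHom_π (φ : K →ₐ[k] L) : bcHom f φ ≫ FBase.bcπ f K = FBase.bcπ f L :=
  pullback.lift_fst _ _ _

@[reassoc]
lemma bcHom_str (φ : K →ₐ[k] L) : bcHom f φ ≫ FBase.bcStr f K =
    FBase.bcStr f L ≫ Spec.map (CommRingCat.ofHom (φ : K →+* L)) :=
  pullback.lift_snd _ _ _

lemma isPullback_bcHom (φ : K →ₐ[k] L) : IsPullback (bcHom f φ) (FBase.bcStr f L)
    (FBase.bcStr f K) (Spec.map (CommRingCat.ofHom (φ : K →+* L))) := by
  refine IsPullback.of_right ?_ (bcHom_str f φ) (isPullback_bc f K)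
  rw [bcHom_π, ← Spec.map_comp, ← CommRingCat.ofHom_comp, φ.comp_algebraMap]
  exact isPullback_bc f L

lemma bcHom_of (φ : K →ₐ[k] L) (P : MorphismProperty Scheme.{u}) [P.IsStableUnderBaseChange]
    (h : P (Spec.map (CommRingCat.ofHom (φ : K →+* L)))) : P (bcHom f φ) :=
  MorphismProperty.of_isPullback (isPullback_bcHom f φ).flip h

lemma bcHom_comp (φ : K →ₐ[k] L) (ψ : L →ₐ[k] M) :
    bcHom f ψ ≫ bcHom f φ = bcHom f (ψ.comp φ) := by
  apply pullback.hom_ext
  · change _ ≫ FBase.bcπ f K = _ ≫ FBase.bcπ f K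
    rw [Category.assoc, bcHom_π, bcHom_π, bcHom_π]
  · change _ ≫ FBase.bcStr f K = _ ≫ FBase.bcStr f K
    rw [Category.assoc, bcHom_str, bcHom_str_assoc, bcHom_str, ← Spec.map_comp,
      ← CommRingCat.ofHom_comp]
    rfl

lemma bcHom_π_apply (φ : K →ₐ[k] L) (z : ↥(FBase.bc f L)) :
    (FBase.bcπ f K) ((bcHom f φ) z) = (FBase.bcπ f L) z := by
  rw [← Scheme.Hom.comp_apply, bcHom_π]

lemma bcHom_comp_apply (φ : K →ₐ[k] L) (ψ : L →ₐ[k] M) (z : ↥(FBase.bc f M)) :
    (bcHom f φ) ((bcHom f ψ) z) = (bcHom f (ψ.comp φ)) z := by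
  rw [← Scheme.Hom.comp_apply, bcHom_comp]

instance surjective_SpecMap_hom (φ : K →ₐ[k] L) :
    Surjective (Spec.map (CommRingCat.ofHom (φ : K →+* L))) :=
  ⟨fun _ => ⟨Nonempty.some inferInstance, Subsingleton.elim _ _⟩⟩

instance universallyOpen_SpecMap_hom (φ : K →ₐ[k] L) :
    UniversallyOpen (Spec.map (CommRingCat.ofHom (φ : K →+* L))) := inferInstance

lemma isIntegralHom_SpecMap_hom [Algebra.IsIntegral k L] (φ : K →ₐ[k] L) :
    IsIntegralHom (Spec.map (CommRingCat.ofHom (φ : K →+* L))) := by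
  rw [IsIntegralHom.SpecMap_iff]
  refine RingHom.IsIntegral.tower_top (algebraMap k K) (φ : K →+* L) ?_
  rw [φ.comp_algebraMap]
  exact algebraMap_isIntegral_iff.mpr inferInstance

lemma isFinite_SpecMap_hom [Module.Finite k L] (φ : K →ₐ[k] L) :
    IsFinite (Spec.map (CommRingCat.ofHom (φ : K →+* L))) := by
  rw [IsFinite.SpecMap_iff]
  refine RingHom.Finite.of_comp_finite (f := algebraMap k K) (g := (φ : K →+* L)) ?_
  rw [φ.comp_algebraMap]
  exact RingHom.finite_algebraMap.mpr inferInstance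

instance surjective_bcHom (φ : K →ₐ[k] L) : Surjective (bcHom f φ) :=
  bcHom_of f φ @Surjective (surjective_SpecMap_hom φ)

instance universallyOpen_bcHom (φ : K →ₐ[k] L) : UniversallyOpen (bcHom f φ) :=
  bcHom_of f φ @UniversallyOpen (universallyOpen_SpecMap_hom φ)

instance isAffineHom_bcHom (φ : K →ₐ[k] L) : IsAffineHom (bcHom f φ) :=
  bcHom_of f φ @IsAffineHom inferInstance

lemma isIntegralHom_bcHom [Algebra.IsIntegral k L] (φ : K →ₐ[k] L) : IsIntegralHom (bcHom f φ) :=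
  bcHom_of f φ @IsIntegralHom (isIntegralHom_SpecMap_hom φ)

lemma isFinite_bcHom [Module.Finite k L] (φ : K →ₐ[k] L) : IsFinite (bcHom f φ) :=
  bcHom_of f φ @IsFinite (isFinite_SpecMap_hom φ)

end Hom

section Pi

variable (K : Type u) [Field K] [Algebra k K]

instance isAffineHom_bcπ : IsAffineHom (FBase.bcπ f K) :=
  MorphismProperty.pullback_fst (P := @IsAffineHom) f _ inferInstance

lemma isIntegralHom_bcπ [Algebra.IsIntegral k K] : IsIntegralHom (FBase.bcπ f K) := by
  refine MorphismProperty.pullback_fst (P := @IsIntegralHom) f _ ?_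
  rw [IsIntegralHom.SpecMap_iff]
  exact algebraMap_isIntegral_iff.mpr inferInstance

lemma isFinite_bcπ [Module.Finite k K] : IsFinite (FBase.bcπ f K) := by
  refine MorphismProperty.pullback_fst (P := @IsFinite) f _ ?_
  rw [IsFinite.SpecMap_iff]
  exact RingHom.finite_algebraMap.mpr inferInstance

end Pi

section Sections

variable (M : Type u) [Field M] [Algebra k M] (U : X.Opens)

/-- pullback of sections along the projection -/
noncomputable def secα : Γ(X, U) ⟶ Γ(FBase.bc f M, (FBase.bcπ f M) ⁻¹ᵁ U) :=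
  (FBase.bcπ f M).app U

/-- constants -/
noncomputable def secβ : CommRingCat.of M ⟶ Γ(FBase.bc f M, (FBase.bcπ f M) ⁻¹ᵁ U) :=
  (Scheme.ΓSpecIso (CommRingCat.of M)).inv ≫
    (FBase.bcStr f M).appLE ⊤ ((FBase.bcπ f M) ⁻¹ᵁ U) (by simp)

variable {M} {N : Type u} [Field N] [Algebra k N] (φ : M →ₐ[k] N)

lemma preimage_le : (FBase.bcπ f N) ⁻¹ᵁ U ≤ (bcHom f φ) ⁻¹ᵁ ((FBase.bcπ f M) ⁻¹ᵁ U) := by
  rw [← Scheme.Hom.comp_preimage, bcHom_π]

lemma secα_comp :
    secα f M U ≫ (bcHom f φ).appLE _ _ (preimage_le f U φ) = secα f N U := by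
  unfold secα
  rw [Scheme.Hom.app_eq_appLE, Scheme.Hom.appLE_comp_appLE, appLE_eq_of_eq (bcHom_π f φ),
    Scheme.Hom.app_eq_appLE]

lemma secβ_comp :
    secβ f M U ≫ (bcHom f φ).appLE _ _ (preimage_le f U φ) =
      CommRingCat.ofHom (φ : M →+* N) ≫ secβ f N U := by
  unfold secβ
  rw [Category.assoc, Scheme.Hom.appLE_comp_appLE, appLE_eq_of_eq (bcHom_str f φ),
    Scheme.Hom.comp_appLE, ← Category.assoc, ← Category.assoc]
  have := Scheme.ΓSpecIso_inv_naturality (CommRingCat.ofHom (φ : M →+* N))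
  rw [this]
  rfl

lemma secα_comp_apply (a : Γ(X, U)) :
    ((bcHom f φ).appLE _ _ (preimage_le f U φ)).hom ((secα f M U).hom a) = (secα f N U).hom a := by
  rw [← CommRingCat.comp_apply, secα_comp]

lemma secβ_comp_apply (c : M) :
    ((bcHom f φ).appLE _ _ (preimage_le f U φ)).hom ((secβ f M U).hom c) =
      (secβ f N U).hom (φ c) := by
  rw [← CommRingCat.comp_apply, secβ_comp]
  rfl

end Sections


section Basis

variable (K : Type u) [Field K] [Algebra k K]

set_option maxHeartbeats 1000000 in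
/-- every open neighbourhood in `X_K` contains one pulled back from a finite level -/
theorem exists_level_nhds [Algebra.IsAlgebraic k K] (y : ↥(FBase.bc f K))
    (W : Set ↥(FBase.bc f K)) (hW : IsOpen W) (hy : y ∈ W) :
    ∃ (L : IntermediateField k K) (_ : FiniteDimensional k L) (V : Set ↥(FBase.bc f ↥L)),
      IsOpen V ∧ (bcHom f L.val) y ∈ V ∧ ⇑(bcHom f L.val) ⁻¹' V ⊆ W := by
  classical
  obtain ⟨U, hU, hyU⟩ : ∃ U : X.Opens, IsAffineOpen U ∧ (FBase.bcπ f K) y ∈ U := by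
    obtain ⟨_, ⟨U, hU, rfl⟩, hxU, -⟩ := X.isBasis_affineOpens.exists_subset_of_mem_open
      (Set.mem_univ ((FBase.bcπ f K) y)) isOpen_univ
    exact ⟨U, hU, hxU⟩
  have hU' : IsAffineOpen ((FBase.bcπ f K) ⁻¹ᵁ U) := hU.preimage (FBase.bcπ f K)
  obtain ⟨s, hsW, hys⟩ := hU'.exists_basicOpen_le (V := ⟨W, hW⟩) ⟨y, hy⟩ hyU
  have hiso := isIso_pushoutSection_of_isAffineOpen (isPullback_bc f K) (US := ⊤) (UT := ⊤)
    (UX := U) (UY := (FBase.bcπ f K) ⁻¹ᵁ U) (by simp) (by simp) (by simp)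
    (isAffineOpen_top _) (isAffineOpen_top _) hU
  have hpo := (isIso_pushoutSection_iff (isPullback_bc f K) _ _ _).mp hiso
  obtain ⟨S, hS⟩ := exists_sum_of_isPushout hpo s
  -- the constants
  let g : Γ(X, U) × Γ(Spec (CommRingCat.of K), ⊤) → K :=
    fun i => (Scheme.ΓSpecIso (CommRingCat.of K)).hom.hom i.2
  let L : IntermediateField k K := IntermediateField.adjoin k (g '' (S : Set _))
  haveI : Finite ↥(g '' (S : Set _)) := Finite.Set.finite_image _ _
  have hLfin : FiniteDimensional k L :=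
    IntermediateField.finiteDimensional_adjoin (fun x _ => Algebra.IsIntegral.isIntegral x)
  let c' : ↥S → ↥L := fun i =>
    ⟨g i.1, IntermediateField.subset_adjoin k _ ⟨i.1, Finset.mem_coe.mpr i.2, rfl⟩⟩
  let sL : Γ(FBase.bc f ↥L, (FBase.bcπ f ↥L) ⁻¹ᵁ U) :=
    ∑ i : ↥S, (secα f ↥L U).hom i.1.1 * (secβ f ↥L U).hom (c' i)
  have hsL : ((bcHom f L.val).appLE _ _ (preimage_le f U L.val)).hom sL = s := by
    rw [hS, ← Finset.sum_coe_sort S, map_sum]
    refine Finset.sum_congr rfl fun i _ => ?_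
    rw [map_mul, secα_comp_apply, secβ_comp_apply]
    congr 1
    · show ((FBase.bcπ f K).app U).hom i.1.1 = _
      rw [Scheme.Hom.app_eq_appLE]
    · show ((Scheme.ΓSpecIso (CommRingCat.of K)).inv ≫
        (FBase.bcStr f K).appLE ⊤ ((FBase.bcπ f K) ⁻¹ᵁ U) _).hom (g i.1) = _
      rw [CommRingCat.comp_apply]
      congr 1
      show (Scheme.ΓSpecIso (CommRingCat.of K)).inv.hom
        ((Scheme.ΓSpecIso (CommRingCat.of K)).hom.hom i.1.2) = _
      rw [← CommRingCat.comp_apply, Iso.hom_inv_id]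
      rfl
  have hbo : (FBase.bc f K).basicOpen s =
      (FBase.bcπ f K) ⁻¹ᵁ U ⊓ (bcHom f L.val) ⁻¹ᵁ ((FBase.bc f ↥L).basicOpen sL) := by
    rw [← hsL, Scheme.Hom.appLE, CommRingCat.comp_apply, Scheme.basicOpen_res,
      Scheme.preimage_basicOpen]
  refine ⟨L, hLfin, ((FBase.bc f ↥L).basicOpen sL : Set _), ((FBase.bc f ↥L).basicOpen sL).2,
    ?_, ?_⟩
  · have : y ∈ (FBase.bcπ f K) ⁻¹ᵁ U ⊓ (bcHom f L.val) ⁻¹ᵁ ((FBase.bc f ↥L).basicOpen sL) := by
      rw [← hbo]; exact hys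
    exact this.2
  · intro z hz
    have hz1 : (bcHom f L.val) z ∈ (FBase.bcπ f ↥L) ⁻¹ᵁ U :=
      (FBase.bc f ↥L).basicOpen_le sL hz
    have hz2 : z ∈ (FBase.bcπ f K) ⁻¹ᵁ U := by
      show (FBase.bcπ f K) z ∈ U
      rw [← bcHom_π_apply f L.val z]
      exact hz1
    have : z ∈ (FBase.bc f K).basicOpen s := by
      rw [hbo]; exact ⟨hz2, hz⟩
    exact hsW this

end Basis

section Main

variable (K : Type u) [Field K] [Algebra k K]

/-- the index type of finite levels -/
abbrev Level := {L : IntermediateField k K // FiniteDimensional k L}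

instance : IsDirected (Level (k := k) K) (· ≤ ·) :=
  ⟨fun L₁ L₂ => ⟨⟨L₁.1 ⊔ L₂.1, by
    haveI := L₁.2; haveI := L₂.2
    exact IntermediateField.finiteDimensional_sup L₁.1 L₂.1⟩,
    (le_sup_left : L₁.1 ≤ L₁.1 ⊔ L₂.1), (le_sup_right : L₂.1 ≤ L₁.1 ⊔ L₂.1)⟩⟩

instance : Nonempty (Level (k := k) K) :=
  ⟨⟨⊥, inferInstance⟩⟩

set_option maxHeartbeats 1000000 in
/-- algebraic case: components of `X_K` surject onto connected `X` -/
theorem exists_mem_connectedComponent_of_isAlgebraic [Algebra.IsAlgebraic k K] [ConnectedSpace X]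
    (y₀ : ↥(FBase.bc f K)) (x : X) :
    ∃ y ∈ connectedComponent y₀, (FBase.bcπ f K) y = x := by
  haveI : Algebra.IsIntegral k K := inferInstance
  refine ConnLimit.exists_mem_connectedComponent_of_levels
    (I := Level (k := k) K) (Y := ↥(FBase.bc f K)) (X := X)
    (fun i => ↥(FBase.bc f ↥i.1))
    (fun y => (FBase.bcπ f K) y)
    (fun i y => (bcHom f i.1.val) y)
    (fun i c => (FBase.bcπ f ↥i.1) c)
    (fun i j h c => (bcHom f (IntermediateField.inclusion h)) c)
    ?_ ?_ ?_ ?_ ?_ ?_ ?_ ?_ ?_ ?_ ?_ ?_ ?_ ?_ y₀ x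
  · intro i y
    exact bcHom_π_apply f i.1.val y
  · intro i j h y
    exact bcHom_comp_apply f (IntermediateField.inclusion h) j.1.val y
  · intro i
    exact (bcHom f i.1.val).continuous
  · intro i
    haveI := isIntegralHom_bcHom f i.1.val
    exact (bcHom f i.1.val).isClosedMap
  · intro i
    exact (bcHom f i.1.val).surjective
  · intro i c
    exact (bcHom f i.1.val).isCompact_preimage_singleton c
  · intro x
    exact (FBase.bcπ f K).isCompact_preimage_singleton x
  · intro i j h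
    exact (bcHom f (IntermediateField.inclusion h)).continuous
  · intro i j h
    exact (bcHom f (IntermediateField.inclusion h)).isOpenMap
  · intro i j h
    haveI := j.2
    haveI := isFinite_bcHom f (IntermediateField.inclusion h)
    exact (bcHom f (IntermediateField.inclusion h)).isClosedMap
  · intro i
    exact (FBase.bcπ f ↥i.1).isOpenMap
  · intro i
    haveI := i.2
    haveI := isFinite_bcπ f ↥i.1
    exact (FBase.bcπ f ↥i.1).isClosedMap
  · intro i x
    haveI := i.2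
    haveI := isFinite_bcπ f ↥i.1
    exact (FBase.bcπ f ↥i.1).finite_preimage_singleton x
  · intro y W hW hy
    obtain ⟨L, hL, V, hV, hyV, hVW⟩ := exists_level_nhds f K y W hW hy
    exact ⟨⟨L, hL⟩, V, hV, hyV, hVW⟩

end Main

end Groth.Agent.Lib.Helper11.BcLevels
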