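import Mathlib
import Groth.Prelude.Def_FDesc
import Groth.Agent.Lib.Helper11.BcLevels

/-!
# Purely inseparable base field extensions are universal homeomorphisms (helper11)
-/

set_option autoImplicit false
universe u

open CategoryTheory CategoryTheory.Limits AlgebraicGeometry
open Groth.Agent.Lib.Helper11.FBaseLib Groth.Agent.Lib.Helper11.FBaseLib2
  Groth.Agent.Lib.Helper11.BcLevels

namespace Groth.Agent.Lib.Helper11.PurInsep

theorem universallyInjective_SpecMap (K L : Type u) [Field K] [Field L] [Algebra K L]
    [IsPurelyInseparable K L] :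
    UniversallyInjective (Spec.map (CommRingCat.ofHom (algebraMap K L))) := by
  have := (tfae_universallyInjective (Spec.map (CommRingCat.ofHom (algebraMap K L)))).out 0 1
  rw [this]
  intro F _ g₁ g₂ hg
  have h1 : Spec.map (Spec.preimage g₁) = g₁ := Spec.map_preimage g₁
  have h2 : Spec.map (Spec.preimage g₂) = g₂ := Spec.map_preimage g₂
  have hcomp : CommRingCat.ofHom (algebraMap K L) ≫ Spec.preimage g₁ =
      CommRingCat.ofHom (algebraMap K L) ≫ Spec.preimage g₂ := by
    apply Spec.map_injective
    rw [Spec.map_comp, Spec.map_comp, h1, h2]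
    exact hg
  have hinj := IsPurelyInseparable.injective_comp_algebraMap K L F
  have h3 : (Spec.preimage g₁).hom = (Spec.preimage g₂).hom :=
    hinj (congrArg CommRingCat.Hom.hom hcomp)
  rw [← h1, ← h2, CommRingCat.hom_ext h3]

variable {k : Type u} [Field k] {X : Scheme.{u}} (f : X ⟶ Spec (CommRingCat.of k))

theorem isHomeomorph_bcHom {K L : Type u} [Field K] [Field L] [Algebra k K] [Algebra k L]
    (φ : K →ₐ[k] L) (h : letI := (φ : K →+* L).toAlgebra; IsPurelyInseparable K L) :
    IsHomeomorph ⇑(bcHom f φ) := by
  letI := (φ : K →+* L).toAlgebra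
  haveI : UniversallyInjective (Spec.map (CommRingCat.ofHom (φ : K →+* L))) :=
    universallyInjective_SpecMap K L
  haveI : UniversallyInjective (bcHom f φ) := bcHom_of f φ @UniversallyInjective inferInstance
  exact ⟨(bcHom f φ).continuous, (bcHom f φ).isOpenMap,
    (bcHom f φ).injective, (bcHom f φ).surjective⟩

theorem isHomeomorph_bcπ (K : Type u) [Field K] [Algebra k K] [IsPurelyInseparable k K] :
    IsHomeomorph ⇑(FBase.bcπ f K) := by
  haveI : UniversallyInjective (Spec.map (CommRingCat.ofHom (algebraMap k K))) :=
    universallyInjective_SpecMap k K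
  haveI : UniversallyInjective (FBase.bcπ f K) :=
    MorphismProperty.pullback_fst (P := @UniversallyInjective) f _ inferInstance
  exact ⟨(FBase.bcπ f K).continuous, (FBase.bcπ f K).isOpenMap,
    (FBase.bcπ f K).injective, (FBase.bcπ f K).surjective⟩

theorem isHomeomorph_bcMap (K L : Type u) [Field K] [Field L] [Algebra k K] [Algebra k L]
    [Algebra K L] [IsScalarTower k K L] [IsPurelyInseparable K L] :
    IsHomeomorph ⇑(bcMap f K L) := by
  haveI : UniversallyInjective (Spec.map (CommRingCat.ofHom (algebraMap K L))) :=
    universallyInjective_SpecMap K L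
  haveI : UniversallyInjective (bcMap f K L) :=
    bcMap_of f K L @UniversallyInjective inferInstance
  exact ⟨(bcMap f K L).continuous, (bcMap f K L).isOpenMap,
    (bcMap f K L).injective, (bcMap f K L).surjective⟩

end Groth.Agent.Lib.Helper11.PurInsep
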