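import Mathlib
import Groth.Prelude.Def_FDesc
import Groth.Agent.Lib.Helper11.PurInsep

/-!
# Geometric connectedness / irreducibility can be tested over a separable closure (helper11)
-/

set_option autoImplicit false
universe u

open CategoryTheory CategoryTheory.Limits AlgebraicGeometry
open Groth.Agent.Lib.Helper11.FBaseLib Groth.Agent.Lib.Helper11.FBaseLib2
  Groth.Agent.Lib.Helper11.BcLevels Groth.Agent.Lib.Helper11.PurInsep

namespace Groth.Agent.Lib.Helper11.GeomSep

variable {k : Type u} [Field k] {X : Scheme.{u}} (f : X ⟶ Spec (CommRingCat.of k))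

theorem geomConn_bcHom {K Ω : Type u} [Field K] [Field Ω] [Algebra k K] [Algebra k Ω]
    [IsAlgClosed K] (τ : K →ₐ[k] Ω) : GeometricallyConnected (bcHom f τ) := by
  refine bcHom_of f τ @GeometricallyConnected ?_
  letI : Algebra K Ω := (τ : K →+* Ω).toAlgebra
  exact geometricallyConnected_SpecMap K Ω

theorem geomIrred_bcHom {K Ω : Type u} [Field K] [Field Ω] [Algebra k K] [Algebra k Ω]
    [IsAlgClosed K] (τ : K →ₐ[k] Ω) : GeometricallyIrreducible (bcHom f τ) := by
  refine bcHom_of f τ @GeometricallyIrreducible ?_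
  letI : Algebra K Ω := (τ : K →+* Ω).toAlgebra
  exact geometricallyIrreducible_SpecMap K Ω

/-- connectedness over an algebraically closed extension propagates to all extensions -/
theorem connectedSpace_of_algClosed (kb : Type u) [Field kb] [Algebra k kb] [IsAlgClosed kb]
    [ConnectedSpace ↥(FBase.bc f kb)] (K : Type u) [Field K] [Algebra k K] :
    ConnectedSpace ↥(FBase.bc f K) := by
  obtain ⟨Ω', _, _, _, ⟨φb⟩, ⟨φK⟩⟩ := exists_compositum k kb K
  haveI := geomConn_bcHom f φb
  haveI : ConnectedSpace ↥(FBase.bc f Ω') :=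
    GeometricallyConnected.connectedSpace (bcHom f φb) (bcHom f φb).isOpenMap
  exact (bcHom f φK).surjective.connectedSpace (bcHom f φK).continuous

theorem irreducibleSpace_of_algClosed (kb : Type u) [Field kb] [Algebra k kb] [IsAlgClosed kb]
    [IrreducibleSpace ↥(FBase.bc f kb)] (K : Type u) [Field K] [Algebra k K] :
    IrreducibleSpace ↥(FBase.bc f K) := by
  obtain ⟨Ω', _, _, _, ⟨φb⟩, ⟨φK⟩⟩ := exists_compositum k kb K
  haveI := geomIrred_bcHom f φb
  haveI : IrreducibleSpace ↥(FBase.bc f Ω') :=
    GeometricallyIrreducible.irreducibleSpace (bcHom f φb) (bcHom f φb).isOpenMap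
  exact (bcHom f φK).surjective.irreducibleSpace (bcHom f φK).continuous

/-- the homeomorphism `X_{k̄} ≃ X_{k^s}` -/
theorem isHomeomorph_bcMap_sepClosure :
    IsHomeomorph ⇑(bcMap f (SeparableClosure k) (AlgebraicClosure k)) := by
  haveI : UniversallyInjective (Spec.map (CommRingCat.ofHom
      (algebraMap (SeparableClosure k) (AlgebraicClosure k)))) :=
    universallyInjective_SpecMap (SeparableClosure k) (AlgebraicClosure k)
  haveI : UniversallyInjective (bcMap f (SeparableClosure k) (AlgebraicClosure k)) :=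
    bcMap_of f _ _ @UniversallyInjective inferInstance
  exact ⟨(bcMap f _ _).continuous, (bcMap f _ _).isOpenMap,
    (bcMap f _ _).injective, (bcMap f _ _).surjective⟩

theorem geometricallyConnected_of_sepClosure [ConnectedSpace ↥(FBase.bc f (SeparableClosure k))] :
    GeometricallyConnected f := by
  have hh := isHomeomorph_bcMap_sepClosure f
  haveI : ConnectedSpace ↥(FBase.bc f (AlgebraicClosure k)) :=
    (hh.homeomorph _).symm.surjective.connectedSpace (hh.homeomorph _).symm.continuous
  refine ⟨?_⟩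
  rw [geometrically_iff_of_commRing_of_isClosedUnderIsomorphisms]
  intro K _ _
  exact connectedSpace_of_algClosed f (AlgebraicClosure k) K

theorem geometricallyIrreducible_of_sepClosure
    [IrreducibleSpace ↥(FBase.bc f (SeparableClosure k))] :
    GeometricallyIrreducible f := by
  have hh := isHomeomorph_bcMap_sepClosure f
  haveI : IrreducibleSpace ↥(FBase.bc f (AlgebraicClosure k)) :=
    (hh.homeomorph _).symm.surjective.irreducibleSpace (hh.homeomorph _).symm.continuous
  refine ⟨?_⟩
  rw [geometrically_iff_of_commRing_of_isClosedUnderIsomorphisms]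
  intro K _ _
  exact irreducibleSpace_of_algClosed f (AlgebraicClosure k) K

set_option maxHeartbeats 1000000 in
/-- irreducibility at all finite levels gives irreducibility over an algebraic extension -/
theorem irreducibleSpace_of_levels (K : Type u) [Field K] [Algebra k K] [Algebra.IsAlgebraic k K]
    (h : ∀ L : IntermediateField k K, FiniteDimensional k L → IrreducibleSpace ↥(FBase.bc f ↥L)) :
    IrreducibleSpace ↥(FBase.bc f K) := by
  classical
  haveI hbot : IrreducibleSpace ↥(FBase.bc f ↥(⊥ : IntermediateField k K)) := h ⊥ inferInstance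
  obtain ⟨x₀⟩ : Nonempty ↥(FBase.bc f ↥(⊥ : IntermediateField k K)) := inferInstance
  obtain ⟨y₀, _⟩ := (bcHom f (⊥ : IntermediateField k K).val).surjective x₀
  haveI : Nonempty ↥(FBase.bc f K) := ⟨y₀⟩
  have hpre : IsPreirreducible (Set.univ : Set ↥(FBase.bc f K)) := by
    intro U V hU hV hUne hVne
    obtain ⟨u, -, hu⟩ := hUne
    obtain ⟨v, -, hv⟩ := hVne
    obtain ⟨L₁, hL₁, V₁, hV₁, huV₁, hV₁U⟩ := exists_level_nhds f K u U hU hu
    obtain ⟨L₂, hL₂, V₂, hV₂, hvV₂, hV₂V⟩ := exists_level_nhds f K v V hV hv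
    let L : IntermediateField k K := L₁ ⊔ L₂
    haveI : FiniteDimensional k ↥L := IntermediateField.finiteDimensional_sup L₁ L₂
    haveI : IrreducibleSpace ↥(FBase.bc f ↥L) := h L inferInstance
    have h1 : L₁ ≤ L := le_sup_left
    have h2 : L₂ ≤ L := le_sup_right
    let t₁ := bcHom f (IntermediateField.inclusion h1)
    let t₂ := bcHom f (IntermediateField.inclusion h2)
    let q := bcHom f L.val
    have hq1 : ∀ z, t₁ (q z) = (bcHom f L₁.val) z := fun z =>
      bcHom_comp_apply f (IntermediateField.inclusion h1) L.val z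
    have hq2 : ∀ z, t₂ (q z) = (bcHom f L₂.val) z := fun z =>
      bcHom_comp_apply f (IntermediateField.inclusion h2) L.val z
    have hirr := (IrreducibleSpace.isIrreducible_univ ↥(FBase.bc f ↥L)).isPreirreducible
    obtain ⟨w, -, hw1, hw2⟩ := hirr (⇑t₁ ⁻¹' V₁) (⇑t₂ ⁻¹' V₂) (hV₁.preimage t₁.continuous)
      (hV₂.preimage t₂.continuous)
      ⟨q u, trivial, by show t₁ (q u) ∈ V₁; rw [hq1]; exact huV₁⟩
      ⟨q v, trivial, by show t₂ (q v) ∈ V₂; rw [hq2]; exact hvV₂⟩
    obtain ⟨w', rfl⟩ := q.surjective w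
    refine ⟨w', trivial, hV₁U ?_, hV₂V ?_⟩
    · show (bcHom f L₁.val) w' ∈ V₁
      rw [← hq1]; exact hw1
    · show (bcHom f L₂.val) w' ∈ V₂
      rw [← hq2]; exact hw2
  exact (irreducibleSpace_def _).mpr ⟨Set.univ_nonempty, hpre⟩

end Groth.Agent.Lib.Helper11.GeomSep
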