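import Mathlib
import Groth.Prelude.Def_FDesc
import Groth.Agent.Lib.Helper11.GeomSep

/-!
# The number of components over a separably closed extension does not depend on the extension
(helper11)
-/

set_option autoImplicit false
universe u

open CategoryTheory CategoryTheory.Limits AlgebraicGeometry
open Groth.Agent.Lib.Helper11.FBaseLib Groth.Agent.Lib.Helper11.FBaseLib2
  Groth.Agent.Lib.Helper11.BcLevels Groth.Agent.Lib.Helper11.PurInsep
  Groth.Agent.Lib.Helper11.GeomSep

namespace Groth.Agent.Lib.Helper11.CountComp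

theorem encard_irreducibleComponents_of_homeomorph {A B : Type*} [TopologicalSpace A]
    [TopologicalSpace B] (e : A ≃ₜ B) :
    (irreducibleComponents A).encard = (irreducibleComponents B).encard := by
  have h := irreducibleComponentsEquivOfIsPreirreducibleFiber e e.continuous e.isOpenMap
    (fun x => (Set.subsingleton_singleton.preimage e.injective).isPreirreducible) e.surjective
  exact (Set.encard_congr h.toEquiv).symm

theorem card_connectedComponents_of_homeomorph {A B : Type*} [TopologicalSpace A]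
    [TopologicalSpace B] (e : A ≃ₜ B) :
    ENat.card (_root_.ConnectedComponents A) = ENat.card (_root_.ConnectedComponents B) := by
  refine ENat.card_congr ⟨e.continuous.connectedComponentsMap,
    e.symm.continuous.connectedComponentsMap, ?_, ?_⟩
  · intro c
    obtain ⟨a, rfl⟩ := ConnectedComponents.surjective_coe c
    rw [Continuous.connectedComponentsMap_mk, Continuous.connectedComponentsMap_mk,
      e.symm_apply_apply]
  · intro c
    obtain ⟨a, rfl⟩ := ConnectedComponents.surjective_coe c
    rw [Continuous.connectedComponentsMap_mk, Continuous.connectedComponentsMap_mk,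
      e.apply_symm_apply]

variable {κ : Type u} [Field κ] {Z : Scheme.{u}} (φ : Z ⟶ Spec (CommRingCat.of κ))

section Core

variable (F Ω : Type u) [Field F] [Field Ω] [Algebra κ F] [Algebra κ Ω] [IsSepClosed F]
  [IsAlgClosed Ω]

theorem encard_irr_eq_of_hom (τ : F →ₐ[κ] Ω) :
    (irreducibleComponents ↥(FBase.bc φ Ω)).encard = (irreducibleComponents ↥(FBase.bc φ F)).encard := by
  letI : Algebra F Ω := (τ : F →+* Ω).toAlgebra
  haveI : IsScalarTower κ F Ω := IsScalarTower.of_algebraMap_eq (fun x => (τ.commutes x).symm)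
  let l : AlgebraicClosure F →ₐ[F] Ω := IsAlgClosed.lift
  let l' : AlgebraicClosure F →ₐ[κ] Ω := l.restrictScalars κ
  haveI := geomIrred_bcHom φ l'
  have e1 := Scheme.Hom.irreducibleComponentsEquiv (bcHom φ l') (bcHom φ l').isOpenMap
  have h2 := isHomeomorph_bcMap φ F (AlgebraicClosure F)
  rw [Set.encard_congr e1, encard_irreducibleComponents_of_homeomorph (h2.homeomorph _)]

theorem card_conn_eq_of_hom (τ : F →ₐ[κ] Ω) :
    ENat.card (_root_.ConnectedComponents ↥(FBase.bc φ Ω)) =
      ENat.card (_root_.ConnectedComponents ↥(FBase.bc φ F)) := by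
  letI : Algebra F Ω := (τ : F →+* Ω).toAlgebra
  haveI : IsScalarTower κ F Ω := IsScalarTower.of_algebraMap_eq (fun x => (τ.commutes x).symm)
  let l : AlgebraicClosure F →ₐ[F] Ω := IsAlgClosed.lift
  let l' : AlgebraicClosure F →ₐ[κ] Ω := l.restrictScalars κ
  haveI := geomConn_bcHom φ l'
  have e1 := Scheme.Hom.connectedComponentsHomeomorph (bcHom φ l') (bcHom φ l').isOpenMap
  have h2 := isHomeomorph_bcMap φ F (AlgebraicClosure F)
  rw [ENat.card_congr e1.toEquiv, card_connectedComponents_of_homeomorph (h2.homeomorph _)]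

end Core

variable (F₁ F₂ : Type u) [Field F₁] [Field F₂] [Algebra κ F₁] [Algebra κ F₂] [IsSepClosed F₁]
  [IsSepClosed F₂]

theorem encard_irr_eq :
    (irreducibleComponents ↥(FBase.bc φ F₁)).encard =
      (irreducibleComponents ↥(FBase.bc φ F₂)).encard := by
  obtain ⟨Ω', _, _, _, ⟨τ₁⟩, ⟨τ₂⟩⟩ := exists_compositum κ F₁ F₂
  rw [← encard_irr_eq_of_hom φ F₁ Ω' τ₁, ← encard_irr_eq_of_hom φ F₂ Ω' τ₂]

theorem card_conn_eq :
    ENat.card (_root_.ConnectedComponents ↥(FBase.bc φ F₁)) =
      ENat.card (_root_.ConnectedComponents ↥(FBase.bc φ F₂)) := by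
  obtain ⟨Ω', _, _, _, ⟨τ₁⟩, ⟨τ₂⟩⟩ := exists_compositum κ F₁ F₂
  rw [← card_conn_eq_of_hom φ F₁ Ω' τ₁, ← card_conn_eq_of_hom φ F₂ Ω' τ₂]

end Groth.Agent.Lib.Helper11.CountComp
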