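import Mathlib
import Groth.Prelude.Def_FDesc
import Groth.Agent.Lib.Helper11.BcLevels

/-!
# Two points of `X_K` over the same point of `X` come from one point of some `X_Ω` (helper11)
-/

set_option autoImplicit false
universe u

open CategoryTheory CategoryTheory.Limits AlgebraicGeometry
open Groth.Agent.Lib.Helper11.FBaseLib Groth.Agent.Lib.Helper11.FBaseLib2
  Groth.Agent.Lib.Helper11.BcLevels

namespace Groth.Agent.Lib.Helper11.TwoEmb

variable {k : Type u} [Field k] {X : Scheme.{u}} (f : X ⟶ Spec (CommRingCat.of k))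
  (K : Type u) [Field K] [Algebra k K]

set_option maxHeartbeats 1000000 in
theorem exists_two_embeddings (y c : ↥(FBase.bc f K))
    (h : (FBase.bcπ f K) y = (FBase.bcπ f K) c) :
    ∃ (Ω : Type u) (_ : Field Ω) (_ : Algebra k Ω) (τ₁ τ₂ : K →ₐ[k] Ω) (z : ↥(FBase.bc f Ω)),
      (bcHom f τ₁) z = y ∧ (bcHom f τ₂) z = c := by
  let p := FBase.bcπ f K
  let s := FBase.bcStr f K
  obtain ⟨w, hw1, hw2⟩ := Scheme.Pullback.exists_preimage_pullback (f := p) (g := p) y c h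
  let W := pullback p p
  let Ω : Type u := ↑(W.residueField w)
  letI : Field Ω := inferInstanceAs (Field (W.residueField w))
  let ω : Spec (CommRingCat.of Ω) ⟶ W := W.fromSpecResidueField w
  let pr₁ : W ⟶ FBase.bc f K := pullback.fst p p
  let pr₂ : W ⟶ FBase.bc f K := pullback.snd p p
  have hpr : pr₁ ≫ p = pr₂ ≫ p := pullback.condition
  have hps : p ≫ f = s ≫ Spec.map (CommRingCat.ofHom (algebraMap k K)) := pullback.condition
  let g₀ : Spec (CommRingCat.of Ω) ⟶ Spec (CommRingCat.of k) := ω ≫ pr₁ ≫ p ≫ f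
  let ψ : CommRingCat.of k ⟶ CommRingCat.of Ω := Spec.preimage g₀
  have hψ : Spec.map ψ = g₀ := Spec.map_preimage g₀
  letI : Algebra k Ω := ψ.hom.toAlgebra
  let g₁ : Spec (CommRingCat.of Ω) ⟶ Spec (CommRingCat.of K) := ω ≫ pr₁ ≫ s
  let g₂ : Spec (CommRingCat.of Ω) ⟶ Spec (CommRingCat.of K) := ω ≫ pr₂ ≫ s
  let φ₁ : CommRingCat.of K ⟶ CommRingCat.of Ω := Spec.preimage g₁
  let φ₂ : CommRingCat.of K ⟶ CommRingCat.of Ω := Spec.preimage g₂
  have hφ₁ : Spec.map φ₁ = g₁ := Spec.map_preimage g₁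
  have hφ₂ : Spec.map φ₂ = g₂ := Spec.map_preimage g₂
  have hc₁ : CommRingCat.ofHom (algebraMap k K) ≫ φ₁ = ψ := by
    apply Spec.map_injective
    rw [Spec.map_comp, hφ₁, hψ]
    simp only [g₁, g₀, Category.assoc, hps]
  have hc₂ : CommRingCat.ofHom (algebraMap k K) ≫ φ₂ = ψ := by
    apply Spec.map_injective
    rw [Spec.map_comp, hφ₂, hψ]
    simp only [g₂, g₀, Category.assoc]
    rw [← hps, reassoc_of% hpr]
  let τ₁ : K →ₐ[k] Ω := { φ₁.hom with
    commutes' := fun r => congrArg (fun m => m.hom r) hc₁ }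
  let τ₂ : K →ₐ[k] Ω := { φ₂.hom with
    commutes' := fun r => congrArg (fun m => m.hom r) hc₂ }
  have hτ₁ : CommRingCat.ofHom (τ₁ : K →+* Ω) = φ₁ := rfl
  have hτ₂ : CommRingCat.ofHom (τ₂ : K →+* Ω) = φ₂ := rfl
  have hcond : (ω ≫ pr₁ ≫ p) ≫ f =
      𝟙 (Spec (CommRingCat.of Ω)) ≫ Spec.map (CommRingCat.ofHom (algebraMap k Ω)) := by
    rw [Category.id_comp]
    show _ = Spec.map ψ
    rw [hψ]
    simp only [g₀, Category.assoc]
  let z₀ : Spec (CommRingCat.of Ω) ⟶ FBase.bc f Ω :=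
    pullback.lift (ω ≫ pr₁ ≫ p) (𝟙 (Spec (CommRingCat.of Ω))) hcond
  have hz₀π : z₀ ≫ FBase.bcπ f Ω = ω ≫ pr₁ ≫ p := pullback.lift_fst _ _ _
  have hz₀s : z₀ ≫ FBase.bcStr f Ω = 𝟙 _ := pullback.lift_snd _ _ _
  have h1 : z₀ ≫ bcHom f τ₁ = ω ≫ pr₁ := by
    apply pullback.hom_ext
    · change _ ≫ p = _ ≫ p
      rw [Category.assoc, bcHom_π, hz₀π, Category.assoc]
    · change _ ≫ s = _ ≫ s
      rw [Category.assoc, bcHom_str, reassoc_of% hz₀s, hτ₁, hφ₁, Category.assoc]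
  have h2 : z₀ ≫ bcHom f τ₂ = ω ≫ pr₂ := by
    apply pullback.hom_ext
    · change _ ≫ p = _ ≫ p
      rw [Category.assoc, bcHom_π, hz₀π, Category.assoc, hpr]
    · change _ ≫ s = _ ≫ s
      rw [Category.assoc, bcHom_str, reassoc_of% hz₀s, hτ₂, hφ₂, Category.assoc]
  obtain ⟨pt⟩ : Nonempty ↥(Spec (CommRingCat.of Ω)) := inferInstance
  have hpt : ω pt = w := Scheme.fromSpecResidueField_apply w pt
  refine ⟨Ω, inferInstance, inferInstance, τ₁, τ₂, z₀ pt, ?_, ?_⟩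
  · rw [← Scheme.Hom.comp_apply, h1, Scheme.Hom.comp_apply, hpt]
    exact hw1
  · rw [← Scheme.Hom.comp_apply, h2, Scheme.Hom.comp_apply, hpt]
    exact hw2

end Groth.Agent.Lib.Helper11.TwoEmb
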