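import Mathlib
import Groth.Prelude.Def_FDesc
import Groth.Agent.Lib.Helper11.TwoEmb

/-!
# Fibres of `X_K → X` and fields in which `k` is separably closed (helper11)

* `irreducible_map_of_sepClosed`: if `k` is separably closed in `F`, a separable irreducible
  polynomial over `k` stays irreducible over `F`.
* `eq_bot_of_isPrime_tensor`: then `F ⊗[k] K` has `⊥` as its only prime, for `K/k` separable algebraic.
* `fibre_subsingleton`: the fibre of `X_K → X` over `x` is a quotient of `Spec (κ(x) ⊗[k] K)`.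
* `exists_bcHom_eq`: two points of `X_K` over the same point of `X` are Galois conjugate (`K/k` normal).
-/

set_option autoImplicit false
universe u

open CategoryTheory CategoryTheory.Limits AlgebraicGeometry Polynomial TensorProduct
open Groth.Agent.Lib.Helper11.FBaseLib Groth.Agent.Lib.Helper11.FBaseLib2
  Groth.Agent.Lib.Helper11.BcLevels Groth.Agent.Lib.Helper11.TwoEmb

namespace Groth.Agent.Lib.Helper11.SepFibre

section Ring

variable {k F : Type*} [Field k] [Field F] [Algebra k F]

theorem mem_lifts_of_monic_of_dvd_map_of_sepClosed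
    (hsc : ∀ a : F, IsSeparable k a → a ∈ Set.range (algebraMap k F))
    {m : k[X]} (hm : m.Separable) {g : F[X]} (hg : g.Monic)
    (hdvd : g ∣ m.map (algebraMap k F)) : g ∈ Polynomial.lifts (algebraMap k F) := by
  classical
  let E := AlgebraicClosure F
  have hsplit : (g.map (algebraMap F E)).Splits := IsAlgClosed.splits _
  have hmonic : (g.map (algebraMap F E)).Monic := hg.map _
  have hroots : ∀ β ∈ (g.map (algebraMap F E)).roots,
      β ∈ (algebraMap (separableClosure k E) E).range := by
    intro β hβ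
    have hβ0 : Polynomial.aeval β m = 0 := by
      have h1 : (g.map (algebraMap F E)) ∣ m.map (algebraMap k E) := by
        have := Polynomial.map_dvd (algebraMap F E) hdvd
        rwa [Polynomial.map_map, ← IsScalarTower.algebraMap_eq] at this
      have h2 : (m.map (algebraMap k E)).IsRoot β := (Polynomial.mem_roots'.mp hβ).2.dvd h1
      rwa [Polynomial.IsRoot.def, Polynomial.eval_map_algebraMap] at h2
    have hsep : IsSeparable k β := hm.of_dvd (minpoly.dvd k β hβ0)
    exact ⟨⟨β, mem_separableClosure_iff.mpr hsep⟩, rfl⟩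
  have hl : g.map (algebraMap F E) ∈ Polynomial.lifts (algebraMap (separableClosure k E) E) :=
    hsplit.mem_lift_of_roots_mem_range hmonic _ hroots
  rw [Polynomial.lifts_iff_coeff_lifts] at hl ⊢
  intro n
  obtain ⟨c, hc⟩ := hl n
  rw [Polynomial.coeff_map] at hc
  have h3 : IsSeparable k (algebraMap F E (g.coeff n)) := by
    rw [← hc]
    exact mem_separableClosure_iff.mp c.2
  have h4 : IsSeparable k (g.coeff n) := by
    unfold IsSeparable at h3 ⊢
    rwa [minpoly.algebraMap_eq (algebraMap F E).injective] at h3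
  exact hsc _ h4

theorem irreducible_map_of_sepClosed
    (hsc : ∀ a : F, IsSeparable k a → a ∈ Set.range (algebraMap k F))
    {m : k[X]} (hm : m.Separable) (hirr : Irreducible m) :
    Irreducible (m.map (algebraMap k F)) := by
  have hm0 : m.map (algebraMap k F) ≠ 0 := Polynomial.map_ne_zero hirr.ne_zero
  have hnu : ¬ IsUnit (m.map (algebraMap k F)) := by
    intro hu
    have h1 := Polynomial.degree_eq_zero_of_isUnit hu
    rw [Polynomial.degree_map] at h1
    have h2 := Polynomial.degree_pos_of_irreducible hirr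
    rw [h1] at h2
    exact lt_irrefl _ h2
  obtain ⟨g, hgirr, hgdvd⟩ := WfDvdMonoid.exists_irreducible_factor hnu hm0
  have hlc : g.leadingCoeff ≠ 0 := Polynomial.leadingCoeff_ne_zero.mpr hgirr.ne_zero
  have hg'monic : (g * C g.leadingCoeff⁻¹).Monic := Polynomial.monic_mul_leadingCoeff_inv hgirr.ne_zero
  have hunit : IsUnit (C g.leadingCoeff⁻¹ : F[X]) :=
    Polynomial.isUnit_C.mpr (IsUnit.mk0 _ (inv_ne_zero hlc))
  have hassoc : Associated g (g * C g.leadingCoeff⁻¹) := by
    obtain ⟨u, hu⟩ := hunit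
    exact ⟨u, by rw [hu]⟩
  have hg'dvd : (g * C g.leadingCoeff⁻¹) ∣ m.map (algebraMap k F) := hassoc.dvd_iff_dvd_left.mp hgdvd
  have hg'irr : Irreducible (g * C g.leadingCoeff⁻¹) := hassoc.irreducible hgirr
  obtain ⟨G, hG⟩ := (Polynomial.mem_lifts _).mp
    (mem_lifts_of_monic_of_dvd_map_of_sepClosed hsc hm hg'monic hg'dvd)
  have hGdvd : G ∣ m := (Polynomial.map_dvd_map' (algebraMap k F)).mp (hG ▸ hg'dvd)
  have hGnu : ¬ IsUnit G := fun hu => hg'irr.not_isUnit (by
    rw [← hG]
    exact hu.map (Polynomial.mapRingHom (algebraMap k F)))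
  have hGm : Associated m G := (hirr.dvd_iff.mp hGdvd).resolve_left hGnu
  have h5 : Associated (m.map (algebraMap k F)) (g * C g.leadingCoeff⁻¹) := by
    rw [← hG]
    exact hGm.map (Polynomial.mapRingHom (algebraMap k F))
  exact h5.symm.irreducible hg'irr

theorem eq_bot_of_isPrime_tensor_finite
    (hsc : ∀ a : F, IsSeparable k a → a ∈ Set.range (algebraMap k F))
    (L : Type*) [Field L] [Algebra k L] [FiniteDimensional k L] [Algebra.IsSeparable k L]
    (𝔭 : Ideal (F ⊗[k] L)) [𝔭.IsPrime] : 𝔭 = ⊥ := by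
  classical
  obtain ⟨α, hα⟩ := Field.exists_primitive_element k L
  have hαint : IsIntegral k α := Algebra.IsIntegral.isIntegral α
  have hmirr : Irreducible (minpoly k α) := minpoly.irreducible hαint
  have hmsep : (minpoly k α).Separable := Algebra.IsSeparable.isSeparable k α
  have hdeg : (minpoly k α).natDegree = Module.finrank k L := by
    rw [← IntermediateField.adjoin.finrank hαint, hα, IntermediateField.finrank_top']
  let β : (F ⊗[k] L) ⧸ 𝔭 := Ideal.Quotient.mk 𝔭 (1 ⊗ₜ α)
  have hβ : Polynomial.aeval β ((minpoly k α).map (algebraMap k F)) = 0 := by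
    rw [Polynomial.aeval_map_algebraMap]
    let ψ : L →ₐ[k] (F ⊗[k] L) ⧸ 𝔭 :=
      (Ideal.Quotient.mkₐ k 𝔭).comp (Algebra.TensorProduct.includeRight : L →ₐ[k] F ⊗[k] L)
    have hψ : β = ψ α := rfl
    rw [hψ, Polynomial.aeval_algHom_apply, minpoly.aeval, map_zero]
  have hβint : IsIntegral F β := Algebra.IsIntegral.isIntegral β
  have hdvd : minpoly F β ∣ (minpoly k α).map (algebraMap k F) := minpoly.dvd F β hβ
  have hmapirr := irreducible_map_of_sepClosed hsc hmsep hmirr
  have heq : (minpoly k α).map (algebraMap k F) = minpoly F β :=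
    Polynomial.eq_of_monic_of_associated ((minpoly.monic hαint).map _) (minpoly.monic hβint)
      ((hmapirr.dvd_iff.mp hdvd).resolve_left (minpoly.not_isUnit F β))
  have hnat : (minpoly F β).natDegree = Module.finrank k L := by
    rw [← heq, Polynomial.natDegree_map, hdeg]
  have hli := linearIndependent_pow (K := F) β
  have h1 : (minpoly F β).natDegree ≤ Module.finrank F ((F ⊗[k] L) ⧸ 𝔭) := by
    simpa using hli.fintype_card_le_finrank
  have h2 : Module.finrank F (F ⊗[k] L) = Module.finrank k L := Module.finrank_baseChange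
  have hsurj : Function.Surjective (Ideal.Quotient.mkₐ F 𝔭).toLinearMap :=
    Ideal.Quotient.mk_surjective
  have h3 : Module.finrank F ((F ⊗[k] L) ⧸ 𝔭) ≤ Module.finrank F (F ⊗[k] L) :=
    LinearMap.finrank_le_finrank_of_surjective hsurj
  have h4 : Module.finrank F (F ⊗[k] L) = Module.finrank F ((F ⊗[k] L) ⧸ 𝔭) :=
    le_antisymm (by omega) h3
  have hinj : Function.Injective (Ideal.Quotient.mkₐ F 𝔭).toLinearMap :=
    (LinearMap.injective_iff_surjective_of_finrank_eq_finrank h4).mpr hsurj
  rw [eq_bot_iff]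
  intro b hb
  have hb0 : (Ideal.Quotient.mkₐ F 𝔭).toLinearMap b = (Ideal.Quotient.mkₐ F 𝔭).toLinearMap 0 := by
    rw [map_zero]
    exact Ideal.Quotient.eq_zero_iff_mem.mpr hb
  exact hinj hb0

theorem range_map_mono (K : Type*) [Field K] [Algebra k K] {L L' : IntermediateField k K}
    (h : L ≤ L') :
    (Algebra.TensorProduct.map (AlgHom.id F F) L.val).range ≤
      (Algebra.TensorProduct.map (AlgHom.id F F) L'.val).range := by
  have h1 : Algebra.TensorProduct.map (AlgHom.id F F) L.val =
      (Algebra.TensorProduct.map (AlgHom.id F F) L'.val).comp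
        (Algebra.TensorProduct.map (AlgHom.id F F) (IntermediateField.inclusion h)) := by
    rw [← Algebra.TensorProduct.map_comp]
    rfl
  rw [h1]
  exact AlgHom.range_comp_le_range _ _

theorem exists_level (K : Type*) [Field K] [Algebra k K] [Algebra.IsAlgebraic k K]
    (x : F ⊗[k] K) :
    ∃ L : IntermediateField k K, FiniteDimensional k L ∧
      x ∈ (Algebra.TensorProduct.map (AlgHom.id F F) L.val).range := by
  induction x using TensorProduct.induction_on with
  | zero => exact ⟨⊥, inferInstance, Subalgebra.zero_mem _⟩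
  | tmul a b =>
    refine ⟨IntermediateField.adjoin k {b},
      IntermediateField.adjoin.finiteDimensional (Algebra.IsIntegral.isIntegral b),
      ⟨a ⊗ₜ ⟨b, IntermediateField.mem_adjoin_simple_self k b⟩, rfl⟩⟩
  | add x y hx hy =>
    obtain ⟨L₁, h₁, hx⟩ := hx
    obtain ⟨L₂, h₂, hy⟩ := hy
    haveI := h₁
    haveI := h₂
    exact ⟨L₁ ⊔ L₂, inferInstance,
      Subalgebra.add_mem _ (range_map_mono K le_sup_left hx) (range_map_mono K le_sup_right hy)⟩

theorem eq_bot_of_isPrime_tensor
    (hsc : ∀ a : F, IsSeparable k a → a ∈ Set.range (algebraMap k F))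
    (K : Type*) [Field K] [Algebra k K] [Algebra.IsSeparable k K]
    (𝔭 : Ideal (F ⊗[k] K)) [𝔭.IsPrime] : 𝔭 = ⊥ := by
  rw [eq_bot_iff]
  intro x hx
  obtain ⟨L, hL, y, rfl⟩ := exists_level (F := F) K x
  haveI := hL
  have h1 := eq_bot_of_isPrime_tensor_finite hsc L
    (𝔭.comap (Algebra.TensorProduct.map (AlgHom.id F F) L.val))
  have hy : y ∈ 𝔭.comap (Algebra.TensorProduct.map (AlgHom.id F F) L.val) := hx
  rw [h1] at hy
  rw [Ideal.mem_bot.mp hy, map_zero]
  exact Ideal.zero_mem _

theorem subsingleton_primeSpectrum_tensor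
    (hsc : ∀ a : F, IsSeparable k a → a ∈ Set.range (algebraMap k F))
    (K : Type*) [Field K] [Algebra k K] [Algebra.IsSeparable k K] :
    Subsingleton (PrimeSpectrum (F ⊗[k] K)) :=
  ⟨fun p q => PrimeSpectrum.ext (by
    rw [eq_bot_of_isPrime_tensor hsc K p.asIdeal, eq_bot_of_isPrime_tensor hsc K q.asIdeal])⟩

end Ring

section Scheme

variable {k : Type u} [Field k] {X : Scheme.{u}} (f : X ⟶ Spec (CommRingCat.of k))

/-- the fibre of `X_K → X` over `x` is covered by `Spec (κ(x) ⊗[k] K)` -/
theorem fibre_subsingleton (x : X) (φ : k →+* X.residueField x)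
    (hφ : Spec.map (CommRingCat.ofHom φ) = X.fromSpecResidueField x ≫ f)
    (K : Type u) [Field K] [Algebra k K]
    (h : letI := φ.toAlgebra; Subsingleton (PrimeSpectrum ((X.residueField x) ⊗[k] K))) :
    ((FBase.bcπ f K) ⁻¹' {x}).Subsingleton := by
  letI := φ.toAlgebra
  let e := pullbackSpecIso k (X.residueField x) K
  let m : pullback (Spec.map (CommRingCat.ofHom (algebraMap k (X.residueField x))))
      (Spec.map (CommRingCat.ofHom (algebraMap k K))) ⟶ FBase.bc f K :=
    pullback.map _ _ f _ (X.fromSpecResidueField x) (𝟙 _) (𝟙 _)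
      (by rw [Category.comp_id]; exact hφ) (by simp)
  have hr : Set.range m = (FBase.bcπ f K) ⁻¹' {x} := by
    refine (Scheme.Pullback.range_map _ _ _ _ _ _ _ _ _).trans ?_
    rw [Scheme.range_fromSpecResidueField]
    ext z
    simp only [Set.mem_inter_iff, Set.mem_preimage, Set.mem_singleton_iff]
    constructor
    · rintro ⟨h1, -⟩
      exact h1
    · intro h1
      exact ⟨h1, ⟨_, rfl⟩⟩
  haveI : Subsingleton ↥(Spec (CommRingCat.of ((X.residueField x) ⊗[k] K))) := h
  intro z₁ hz₁ z₂ hz₂
  rw [← hr] at hz₁ hz₂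
  obtain ⟨q₁, rfl⟩ := hz₁
  obtain ⟨q₂, rfl⟩ := hz₂
  congr 1
  exact (Scheme.homeoOfIso e).injective (Subsingleton.elim _ _)

/-- two points of `X_K` over the same point of `X` are conjugate (`K/k` normal) -/
theorem exists_bcHom_eq (K : Type u) [Field K] [Algebra k K] [Normal k K]
    (y t : ↥(FBase.bc f K)) (h : (FBase.bcπ f K) y = (FBase.bcπ f K) t) :
    ∃ σ : K ≃ₐ[k] K, y = (bcHom f (σ : K →ₐ[k] K)) t := by
  obtain ⟨Ω, _, _, τ₁, τ₂, z, hz1, hz2⟩ := exists_two_embeddings f K y t h
  -- two embeddings of a normal extension differ by an automorphism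
  have key : ∃ σ : K ≃ₐ[k] K, ∀ x, τ₂ (σ x) = τ₁ x := by
    let e : K ≃ₐ[k] τ₂.fieldRange := τ₂.equivFieldRange
    haveI : Normal k ↥τ₂.fieldRange := Normal.of_algEquiv e
    have hrange : (τ₁.comp (e.symm : ↥τ₂.fieldRange →ₐ[k] K)).fieldRange = τ₂.fieldRange :=
      AlgHom.fieldRange_of_normal _
    have H : τ₁.fieldRange = τ₂.fieldRange := by
      rw [← hrange]
      ext y
      constructor
      · intro hy
        obtain ⟨x, rfl⟩ := AlgHom.mem_fieldRange.mp hy
        exact AlgHom.mem_fieldRange.mpr ⟨e x, by simp⟩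
      · intro hy
        obtain ⟨a, rfl⟩ := AlgHom.mem_fieldRange.mp hy
        exact AlgHom.mem_fieldRange.mpr ⟨e.symm a, rfl⟩
    refine ⟨τ₁.equivFieldRange.trans ((IntermediateField.equivOfEq H).trans e.symm), fun x => ?_⟩
    have h1 : τ₂ (e.symm (IntermediateField.equivOfEq H (τ₁.equivFieldRange x))) =
        ↑(e (e.symm (IntermediateField.equivOfEq H (τ₁.equivFieldRange x)))) :=
      (AlgHom.equivFieldRange_apply_coe τ₂ _).symm
    show τ₂ (e.symm (IntermediateField.equivOfEq H (τ₁.equivFieldRange x))) = τ₁ x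
    rw [h1, e.apply_symm_apply]
    rfl
  obtain ⟨σ, hσ⟩ := key
  have hτ : τ₂.comp (σ : K →ₐ[k] K) = τ₁ := AlgHom.ext hσ
  refine ⟨σ, ?_⟩
  rw [← hz1, ← hz2, bcHom_comp_apply, hτ]

end Scheme

end Groth.Agent.Lib.Helper11.SepFibre
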