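import Mathlib
import Groth.Prelude.Def_FDesc
import Groth.Agent.Lib.Helper11.SepFibre
import Groth.Agent.Lib.Helper11.PurInsep

/-!
# Galois action on `X_K` and irreducible components (helper11)

* `bcHom_id`, `isIso_bcHom_equiv`, `isHomeomorph_bcHom_equiv`: automorphisms of `K/k` act on `X_K`
  by isomorphisms.
* `image_mem_irreducibleComponents_bcHom`: they permute the irreducible components.
* `map_genericPoint_of_component`: generic points of components of `X_K` map to generic points.
* `eq_genericPoint_of_mem`: a point of a component of `X_K` lying over the image of its generic point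
  is the generic point (`K/k` normal).
* `fibre_subsingleton'`, `fibre_subsingleton_of_purelyInseparable`.
-/

set_option autoImplicit false
universe u

open CategoryTheory CategoryTheory.Limits AlgebraicGeometry
open Groth.Agent.Lib.Helper11.FBaseLib Groth.Agent.Lib.Helper11.FBaseLib2
  Groth.Agent.Lib.Helper11.BcLevels Groth.Agent.Lib.Helper11.TwoEmb
  Groth.Agent.Lib.Helper11.SepFibre Groth.Agent.Lib.Helper11.PurInsep

namespace Groth.Agent.Lib.Helper11.GalComp

variable {k : Type u} [Field k] {X : Scheme.{u}} (f : X ⟶ Spec (CommRingCat.of k))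

section Aut

variable (K : Type u) [Field K] [Algebra k K]

lemma bcHom_id : bcHom f (AlgHom.id k K) = 𝟙 _ := by
  apply pullback.hom_ext
  · change _ ≫ FBase.bcπ f K = _ ≫ FBase.bcπ f K
    rw [bcHom_π, Category.id_comp]
  · change _ ≫ FBase.bcStr f K = _ ≫ FBase.bcStr f K
    rw [bcHom_str, Category.id_comp]
    have : CommRingCat.ofHom ((AlgHom.id k K : K →ₐ[k] K) : K →+* K) = 𝟙 (CommRingCat.of K) := rfl
    rw [this, Spec.map_id, Category.comp_id]

variable {K}

lemma bcHom_equiv_comp (σ : K ≃ₐ[k] K) :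
    bcHom f (σ : K →ₐ[k] K) ≫ bcHom f (σ.symm : K →ₐ[k] K) = 𝟙 _ := by
  rw [bcHom_comp]
  have : (σ : K →ₐ[k] K).comp (σ.symm : K →ₐ[k] K) = AlgHom.id k K := by
    ext x
    simp
  rw [this, bcHom_id]

lemma bcHom_equiv_comp' (σ : K ≃ₐ[k] K) :
    bcHom f (σ.symm : K →ₐ[k] K) ≫ bcHom f (σ : K →ₐ[k] K) = 𝟙 _ := by
  rw [bcHom_comp]
  have : (σ.symm : K →ₐ[k] K).comp (σ : K →ₐ[k] K) = AlgHom.id k K := by
    ext x
    simp
  rw [this, bcHom_id]

instance isIso_bcHom_equiv (σ : K ≃ₐ[k] K) : IsIso (bcHom f (σ : K →ₐ[k] K)) :=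
  ⟨⟨bcHom f (σ.symm : K →ₐ[k] K), bcHom_equiv_comp f σ, bcHom_equiv_comp' f σ⟩⟩

/-- the homeomorphism of `X_K` attached to an automorphism of `K/k` -/
noncomputable def galHomeo (σ : K ≃ₐ[k] K) : ↥(FBase.bc f K) ≃ₜ ↥(FBase.bc f K) :=
  Scheme.homeoOfIso (asIso (bcHom f (σ : K →ₐ[k] K)))

lemma galHomeo_apply (σ : K ≃ₐ[k] K) (z : ↥(FBase.bc f K)) :
    galHomeo f σ z = (bcHom f (σ : K →ₐ[k] K)) z := rfl

theorem image_mem_irreducibleComponents_bcHom (σ : K ≃ₐ[k] K) {T : Set ↥(FBase.bc f K)}
    (hT : T ∈ irreducibleComponents ↥(FBase.bc f K)) :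
    (bcHom f (σ : K →ₐ[k] K)) '' T ∈ irreducibleComponents ↥(FBase.bc f K) := by
  have h1 : (bcHom f (σ : K →ₐ[k] K)) '' T = (galHomeo f σ).symm ⁻¹' T := by
    rw [← Homeomorph.image_eq_preimage_symm]
    rfl
  rw [h1]
  refine preimage_mem_irreducibleComponents hT (galHomeo f σ).symm.isOpenEmbedding ?_
  rw [(galHomeo f σ).symm.surjective.range_eq, Set.inter_univ]
  exact hT.1.1

end Aut

section Generic

variable (K : Type u) [Field K] [Algebra k K]

/-- generic points of components of `X_K` map to generic points of components of `X` -/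
theorem map_genericPoint_of_component {T : Set X} (hT : T ∈ irreducibleComponents X)
    {ξ : X} (hξ : IsGenericPoint ξ T) {T' : Set ↥(FBase.bc f K)}
    (hT' : T' ∈ irreducibleComponents ↥(FBase.bc f K)) (hsub : (FBase.bcπ f K) '' T' ⊆ T)
    {η' : ↥(FBase.bc f K)} (hη' : IsGenericPoint η' T') : (FBase.bcπ f K) η' = ξ := by
  haveI : Flat (Spec.map (CommRingCat.ofHom (algebraMap k K))) := by
    rw [Flat.SpecMap_iff]
    show (algebraMap k K).Flat
    rw [RingHom.flat_algebraMap_iff]
    infer_instance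
  haveI : Flat (FBase.bcπ f K) := MorphismProperty.pullback_fst (P := @Flat) f _ inferInstance
  have hgen : GeneralizingMap (FBase.bcπ f K) := Flat.generalizingMap (FBase.bcπ f K)
  have hmem : (FBase.bcπ f K) η' ∈ T := hsub ⟨η', hη'.mem, rfl⟩
  have hspec : ξ ⤳ (FBase.bcπ f K) η' := hξ.specializes hmem
  obtain ⟨ζ, hζ, hpζ⟩ := hgen hspec
  have hsub' : T' ⊆ closure {ζ} := by
    rw [← hη'.def]
    exact closure_minimal (Set.singleton_subset_iff.mpr hζ.mem_closure) isClosed_closure
  have hζT' : ζ ∈ T' := hT'.2 (isIrreducible_singleton.closure) hsub' (subset_closure rfl)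
  have h2 : η' ⤳ ζ := hη'.specializes hζT'
  have : ζ = η' := (hζ.antisymm h2).eq
  rw [← this]
  exact hpζ

variable {K}

/-- a point of a component lying over the image of its generic point is the generic point -/
theorem eq_genericPoint_of_mem [Normal k K] {T' : Set ↥(FBase.bc f K)}
    (hT' : T' ∈ irreducibleComponents ↥(FBase.bc f K)) {η' : ↥(FBase.bc f K)}
    (hη' : IsGenericPoint η' T') {z : ↥(FBase.bc f K)} (hz : z ∈ T')
    (hpz : (FBase.bcπ f K) z = (FBase.bcπ f K) η') : z = η' := by
  obtain ⟨σ, hσ⟩ := exists_bcHom_eq f K z η' hpz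
  have hcomp := image_mem_irreducibleComponents_bcHom f σ hT'
  -- `z` is the generic point of `σ T'`
  have hgz : closure {z} = (bcHom f (σ : K →ₐ[k] K)) '' T' := by
    have h1 : (bcHom f (σ : K →ₐ[k] K)) '' T' = galHomeo f σ '' T' := rfl
    rw [h1, ← hη'.def, (galHomeo f σ).image_closure, Set.image_singleton, hσ]
    rfl
  have hsub : (bcHom f (σ : K →ₐ[k] K)) '' T' ⊆ T' := by
    rw [← hgz]
    exact closure_minimal (Set.singleton_subset_iff.mpr hz)
      (isClosed_of_mem_irreducibleComponents T' hT')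
  have heq : (bcHom f (σ : K →ₐ[k] K)) '' T' = T' :=
    Set.Subset.antisymm hsub (hcomp.2 hT'.1 hsub)
  have hz' : IsGenericPoint z T' := by
    rw [← heq]
    exact hgz
  exact hz'.eq hη'

end Generic

section Fibre

theorem fibre_subsingleton' (x : X) (φ : k →+* X.residueField x)
    (hφ : Spec.map (CommRingCat.ofHom φ) = X.fromSpecResidueField x ≫ f)
    (K : Type u) [Field K] [Algebra k K]
    (h : Subsingleton ↥(pullback (Spec.map (CommRingCat.ofHom φ))
      (Spec.map (CommRingCat.ofHom (algebraMap k K))))) :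
    ((FBase.bcπ f K) ⁻¹' {x}).Subsingleton := by
  let m : pullback (Spec.map (CommRingCat.ofHom φ))
      (Spec.map (CommRingCat.ofHom (algebraMap k K))) ⟶ FBase.bc f K :=
    pullback.map _ _ f _ (X.fromSpecResidueField x) (𝟙 _) (𝟙 _)
      (by rw [Category.comp_id]; exact hφ) (by simp)
  have hr : Set.range m = (FBase.bcπ f K) ⁻¹' {x} := by
    refine (Scheme.Pullback.range_map _ _ _ _ _ _ _ _ _).trans ?_
    rw [Scheme.range_fromSpecResidueField]
    ext z
    simp only [Set.mem_inter_iff, Set.mem_preimage, Set.mem_singleton_iff]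
    constructor
    · rintro ⟨h1, -⟩
      exact h1
    · intro h1
      exact ⟨h1, ⟨_, rfl⟩⟩
  intro z₁ hz₁ z₂ hz₂
  rw [← hr] at hz₁ hz₂
  obtain ⟨q₁, rfl⟩ := hz₁
  obtain ⟨q₂, rfl⟩ := hz₂
  congr 1
  exact Subsingleton.elim _ _

theorem fibre_subsingleton_of_purelyInseparable (x : X) (φ : k →+* X.residueField x)
    (hφ : Spec.map (CommRingCat.ofHom φ) = X.fromSpecResidueField x ≫ f)
    (hpi : letI := φ.toAlgebra; IsPurelyInseparable k (X.residueField x))
    (K : Type u) [Field K] [Algebra k K] :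
    ((FBase.bcπ f K) ⁻¹' {x}).Subsingleton := by
  letI := φ.toAlgebra
  haveI : UniversallyInjective (Spec.map (CommRingCat.ofHom (algebraMap k (X.residueField x)))) :=
    universallyInjective_SpecMap k (X.residueField x)
  haveI : UniversallyInjective (pullback.snd
      (Spec.map (CommRingCat.ofHom (algebraMap k (X.residueField x))))
      (Spec.map (CommRingCat.ofHom (algebraMap k K)))) :=
    MorphismProperty.pullback_snd (P := @UniversallyInjective) _ _ inferInstance
  haveI : Subsingleton ↥(Spec (CommRingCat.of K)) :=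
    inferInstanceAs (Subsingleton (PrimeSpectrum K))
  refine fibre_subsingleton' f x φ hφ K ⟨fun a b => ?_⟩
  exact (pullback.snd (Spec.map (CommRingCat.ofHom (algebraMap k (X.residueField x))))
      (Spec.map (CommRingCat.ofHom (algebraMap k K)))).injective (Subsingleton.elim _ _)

end Fibre

end Groth.Agent.Lib.Helper11.GalComp
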