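import Mathlib
import Groth.Prelude.Def_FDesc
import Groth.Agent.Lib.Helper11.GalComp
import Groth.Agent.Lib.Helper11.GeomSep
import Groth.Agent.Lib.Helper11.CountComp

/-!
# Descending Galois-invariant data to finite levels (helper11)

* `exists_level_fixing`: a point of `X_K` (`K/k` algebraic) with finite Galois orbit is fixed by the
  automorphisms fixing some finite level.
* `towerIso`: `X_K ≅ (X_L)_K` for a tower `k → L → K`, compatible with the Galois actions.
* `geometricallyIrreducible_of_isSepClosed`: irreducible over one separably closed extension implies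
  geometrically irreducible.
* `irreducibleSpace_bc_comp`: base change of a closed subscheme is irreducible if the preimage of the
  closed subset is.
-/

set_option autoImplicit false
universe u

open CategoryTheory CategoryTheory.Limits AlgebraicGeometry
open Groth.Agent.Lib.Helper11.FBaseLib Groth.Agent.Lib.Helper11.FBaseLib2
  Groth.Agent.Lib.Helper11.BcLevels Groth.Agent.Lib.Helper11.TwoEmb
  Groth.Agent.Lib.Helper11.SepFibre Groth.Agent.Lib.Helper11.GalComp
  Groth.Agent.Lib.Helper11.GeomSep Groth.Agent.Lib.Helper11.CountComp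

namespace Groth.Agent.Lib.Helper11.GalDescent

variable {k : Type u} [Field k] {X : Scheme.{u}} (a : X ⟶ Spec (CommRingCat.of k))

section Level

variable (K : Type u) [Field K] [Algebra k K]

theorem exists_level_separating [Algebra.IsAlgebraic k K] (z e : ↥(FBase.bc a K)) (hne : e ≠ z) :
    ∃ L : IntermediateField k K, FiniteDimensional k L ∧
      (bcHom a L.val) e ≠ (bcHom a L.val) z := by
  obtain ⟨U, hU, hx⟩ := exists_isOpen_xor_mem hne
  rcases hx with ⟨he, hz⟩ | ⟨hz, he⟩
  · obtain ⟨L, hL, V, -, heV, hsub⟩ := exists_level_nhds a K e U hU he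
    refine ⟨L, hL, fun h => hz (hsub ?_)⟩
    show (bcHom a L.val) z ∈ V
    rw [← h]
    exact heV
  · obtain ⟨L, hL, V, -, hzV, hsub⟩ := exists_level_nhds a K z U hU hz
    refine ⟨L, hL, fun h => he (hsub ?_)⟩
    show (bcHom a L.val) e ∈ V
    rw [h]
    exact hzV

theorem bcHom_val_bcHom_of_fixes (L : IntermediateField k K) (σ : K ≃ₐ[k] K)
    (hσ : ∀ x ∈ L, σ x = x) (z : ↥(FBase.bc a K)) :
    (bcHom a L.val) ((bcHom a (σ : K →ₐ[k] K)) z) = (bcHom a L.val) z := by
  rw [bcHom_comp_apply]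
  have h : (σ : K →ₐ[k] K).comp L.val = L.val := by
    ext x
    exact hσ x x.2
  rw [h]

theorem exists_level_fixing [Algebra.IsAlgebraic k K] (E : Set ↥(FBase.bc a K)) (hE : E.Finite)
    (z : ↥(FBase.bc a K)) (hz : ∀ σ : K ≃ₐ[k] K, (bcHom a (σ : K →ₐ[k] K)) z ∈ E) :
    ∃ L : IntermediateField k K, FiniteDimensional k L ∧
      ∀ σ : K ≃ₐ[k] K, (∀ x ∈ L, σ x = x) → (bcHom a (σ : K →ₐ[k] K)) z = z := by
  classical
  haveI : Finite ↥E := hE.to_subtype
  have hch : ∀ e : ↥E, ∃ L : IntermediateField k K, FiniteDimensional k L ∧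
      ((e : ↥(FBase.bc a K)) ≠ z → (bcHom a L.val) e ≠ (bcHom a L.val) z) := by
    intro e
    by_cases h : (e : ↥(FBase.bc a K)) = z
    · exact ⟨⊥, inferInstance, fun h' => (h' h).elim⟩
    · obtain ⟨L, hL, hs⟩ := exists_level_separating a K z e h
      exact ⟨L, hL, fun _ => hs⟩
  choose Lf hLf hsep using hch
  haveI : ∀ e, FiniteDimensional k (Lf e) := hLf
  refine ⟨⨆ e, Lf e, inferInstance, fun σ hσ => ?_⟩
  by_contra hne
  exact hsep ⟨_, hz σ⟩ hne
    (bcHom_val_bcHom_of_fixes a K (Lf ⟨_, hz σ⟩) σ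
      (fun x hx => hσ x (le_iSup Lf ⟨_, hz σ⟩ hx)) z)

end Level

section Tower

variable (L : Type u) [Field L] [Algebra k L] (K : Type u) [Field K] [Algebra k K] [Algebra L K]
  [IsScalarTower k L K]

/-- `X_K ≅ (X_L)_K` -/
noncomputable def towerIso : FBase.bc a K ≅ FBase.bc (FBase.bcStr a L) K :=
  (isPullback_bcMap a L K).isoPullback

@[reassoc]
lemma towerIso_hom_π :
    (towerIso a L K).hom ≫ FBase.bcπ (FBase.bcStr a L) K = bcMap a L K :=
  IsPullback.isoPullback_hom_fst _

@[reassoc]
lemma towerIso_hom_str :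
    (towerIso a L K).hom ≫ FBase.bcStr (FBase.bcStr a L) K = FBase.bcStr a K :=
  IsPullback.isoPullback_hom_snd _

lemma bcHom_restrictScalars_bcMap (τ : K ≃ₐ[L] K) :
    bcHom a ((τ.restrictScalars k : K ≃ₐ[k] K) : K →ₐ[k] K) ≫ bcMap a L K = bcMap a L K := by
  apply pullback.hom_ext
  · change _ ≫ FBase.bcπ a L = _ ≫ FBase.bcπ a L
    rw [Category.assoc, bcMap_π, bcHom_π]
  · change _ ≫ FBase.bcStr a L = _ ≫ FBase.bcStr a L
    rw [Category.assoc, bcMap_str, bcHom_str_assoc, ← Spec.map_comp, ← CommRingCat.ofHom_comp]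
    have h : (((τ.restrictScalars k : K ≃ₐ[k] K) : K →ₐ[k] K) : K →+* K).comp (algebraMap L K) =
        algebraMap L K := by
      ext x
      exact τ.commutes x
    rw [h]

lemma towerIso_comm (τ : K ≃ₐ[L] K) :
    bcHom a ((τ.restrictScalars k : K ≃ₐ[k] K) : K →ₐ[k] K) ≫ (towerIso a L K).hom =
      (towerIso a L K).hom ≫ bcHom (FBase.bcStr a L) (τ : K →ₐ[L] K) := by
  apply pullback.hom_ext
  · change _ ≫ FBase.bcπ (FBase.bcStr a L) K = _ ≫ FBase.bcπ (FBase.bcStr a L) K
    rw [Category.assoc, Category.assoc, towerIso_hom_π, bcHom_π, towerIso_hom_π,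
      bcHom_restrictScalars_bcMap]
  · change _ ≫ FBase.bcStr (FBase.bcStr a L) K = _ ≫ FBase.bcStr (FBase.bcStr a L) K
    rw [Category.assoc, Category.assoc, towerIso_hom_str, bcHom_str, bcHom_str,
      towerIso_hom_str_assoc]
    rfl

end Tower

section Geom

variable {κ : Type u} [Field κ] {Y Z : Scheme.{u}}

theorem geometricallyIrreducible_of_isSepClosed (φ : Z ⟶ Spec (CommRingCat.of κ)) (F : Type u)
    [Field F] [Algebra κ F] [IsSepClosed F] [IrreducibleSpace ↥(FBase.bc φ F)] :
    GeometricallyIrreducible φ := by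
  have h1 : (irreducibleComponents ↥(FBase.bc φ F)).encard = 1 := by
    rw [irreducibleComponents_eq_singleton, Set.encard_singleton]
  have h2 := encard_irr_eq φ (SeparableClosure κ) F
  rw [h1] at h2
  obtain ⟨T, hT⟩ := Set.encard_eq_one.mp h2
  haveI : IrreducibleSpace ↥(FBase.bc φ (SeparableClosure κ)) := by
    rw [irreducibleSpace_def]
    have huniv : (Set.univ : Set ↥(FBase.bc φ (SeparableClosure κ))) = T := by
      rw [← sUnion_irreducibleComponents, hT, Set.sUnion_singleton]
    show IsIrreducible (Set.univ : Set ↥(FBase.bc φ (SeparableClosure κ)))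
    rw [huniv]
    have hTmem : T ∈ irreducibleComponents ↥(FBase.bc φ (SeparableClosure κ)) := by
      rw [hT]
      rfl
    exact hTmem.1
  exact geometricallyIrreducible_of_sepClosure φ

theorem irreducibleSpace_bc_comp (b : Y ⟶ Spec (CommRingCat.of κ)) (i : Z ⟶ Y)
    [IsClosedImmersion i] (F : Type u) [Field F] [Algebra κ F]
    (h : IsIrreducible ((FBase.bcπ b F) ⁻¹' (Set.range i))) :
    IrreducibleSpace ↥(FBase.bc (i ≫ b) F) := by
  let s := Spec.map (CommRingCat.ofHom (algebraMap κ F))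
  let j : FBase.bc (i ≫ b) F ⟶ FBase.bc b F :=
    pullback.lift (pullback.fst (i ≫ b) s ≫ i) (pullback.snd (i ≫ b) s)
      (by rw [Category.assoc]; exact pullback.condition)
  have hj1 : j ≫ FBase.bcπ b F = pullback.fst (i ≫ b) s ≫ i := pullback.lift_fst _ _ _
  have hj2 : j ≫ FBase.bcStr b F = pullback.snd (i ≫ b) s := pullback.lift_snd _ _ _
  have hpb : IsPullback j (pullback.fst (i ≫ b) s) (FBase.bcπ b F) i := by
    refine IsPullback.of_right ?_ hj1 (isPullback_bc b F).flip
    rw [hj2]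
    exact (IsPullback.of_hasPullback (i ≫ b) s).flip
  haveI : IsClosedImmersion j :=
    MorphismProperty.of_isPullback (P := @IsClosedImmersion) hpb.flip inferInstance
  have hrange : Set.range j = (FBase.bcπ b F) ⁻¹' (Set.range i) := by
    apply Set.Subset.antisymm
    · rintro _ ⟨w, rfl⟩
      refine ⟨pullback.fst (i ≫ b) s w, ?_⟩
      show i (pullback.fst (i ≫ b) s w) = (FBase.bcπ b F) (j w)
      rw [← Scheme.Hom.comp_apply, ← Scheme.Hom.comp_apply, hj1]
      rfl
    · rintro y ⟨t, ht⟩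
      obtain ⟨w, hw1, -⟩ := Scheme.exists_preimage_of_isPullback hpb y t ht.symm
      exact ⟨w, hw1⟩
  haveI : IrreducibleSpace ↥(Set.range j) := by
    rw [hrange]
    exact Subtype.irreducibleSpace h
  let eh := j.isEmbedding.toHomeomorph
  exact eh.symm.surjective.irreducibleSpace eh.symm.continuous

end Geom

end Groth.Agent.Lib.Helper11.GalDescent
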