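import Mathlib
import Groth.Prelude.Def_FDesc
import Groth.Agent.Lib.Helper11.SepFibre
import Groth.Agent.S1415

/-!
# Fibres of `X_K → X` when the separable closure of `k` in `κ(x)` is finite (helper11)

* `comap_includeRight_injective`: if `k'` is separably closed in `F` and all residue fields of `B` are
  separable algebraic over `k'`, then `Spec (F ⊗[k'] B) → Spec B` is injective.
* `card_primeSpectrum_tensor_le`: `#Spec (F ⊗[k] K) ≤ [k' : k]` for `K/k` separable algebraic, `k'` the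
  separable closure of `k` in `F`.
* `fibre_encard_le`: the fibre of `X_K → X` over `x` has at most `#Spec (κ(x) ⊗[k] K)` points.
* `exists_mem_connectedComponent_of_finite_meets`, `card_connectedComponents_le_of_finite_meets`:
  a finite set meeting all nonempty clopens meets all connected components.
-/

set_option autoImplicit false
universe u

open CategoryTheory CategoryTheory.Limits AlgebraicGeometry Polynomial TensorProduct
open Groth.Agent.Lib.Helper11.FBaseLib Groth.Agent.Lib.Helper11.FBaseLib2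
  Groth.Agent.Lib.Helper11.BcLevels Groth.Agent.Lib.Helper11.TwoEmb
  Groth.Agent.Lib.Helper11.SepFibre

namespace Groth.Agent.Lib.Helper11.SepFibre2

section Ring

variable {k' F : Type*} [Field k'] [Field F] [Algebra k' F]

theorem comap_includeRight_injective
    (hsc : ∀ a : F, IsSeparable k' a → a ∈ Set.range (algebraMap k' F))
    (B : Type*) [CommRing B] [Algebra k' B]
    (hmax : ∀ 𝔭 : Ideal B, 𝔭.IsPrime → 𝔭.IsMaximal)
    (hsep : ∀ (𝔭 : Ideal B) [𝔭.IsMaximal], Algebra.IsSeparable k' (B ⧸ 𝔭)) :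
    Function.Injective (PrimeSpectrum.comap
      (Algebra.TensorProduct.includeRight : B →ₐ[k'] F ⊗[k'] B).toRingHom) := by
  intro P₁ P₂ h
  set ι : B →ₐ[k'] F ⊗[k'] B := Algebra.TensorProduct.includeRight with hι
  set 𝔭 : Ideal B := P₁.asIdeal.comap ι.toRingHom with h𝔭
  have h𝔭2 : 𝔭 = P₂.asIdeal.comap ι.toRingHom := congrArg PrimeSpectrum.asIdeal h
  haveI : 𝔭.IsPrime := Ideal.comap_isPrime _ _
  haveI hm : 𝔭.IsMaximal := hmax 𝔭 inferInstance
  letI : Field (B ⧸ 𝔭) := Ideal.Quotient.field 𝔭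
  haveI : Algebra.IsSeparable k' (B ⧸ 𝔭) := hsep 𝔭
  let ψ : F ⊗[k'] B →ₐ[k'] F ⊗[k'] (B ⧸ 𝔭) :=
    Algebra.TensorProduct.map (AlgHom.id k' F) (Ideal.Quotient.mkₐ k' 𝔭)
  have hψs : Function.Surjective ψ :=
    Algebra.TensorProduct.map_surjective _ _ (fun x => ⟨x, rfl⟩) (Ideal.Quotient.mkₐ_surjective k' 𝔭)
  have hker : RingHom.ker ψ = 𝔭.map ι := by
    have h1 := Algebra.TensorProduct.lTensor_ker (A := F) (Ideal.Quotient.mkₐ k' 𝔭)
      (Ideal.Quotient.mkₐ_surjective k' 𝔭)
    have h2 : RingHom.ker (Ideal.Quotient.mkₐ k' 𝔭) = 𝔭 := by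
      ext z
      rw [RingHom.mem_ker, Ideal.Quotient.mkₐ_eq_mk, Ideal.Quotient.eq_zero_iff_mem]
    rw [h2] at h1
    exact h1
  haveI := subsingleton_primeSpectrum_tensor hsc (B ⧸ 𝔭)
  have key : ∀ P : PrimeSpectrum (F ⊗[k'] B), 𝔭 = P.asIdeal.comap ι.toRingHom →
      ∃ Q : PrimeSpectrum (F ⊗[k'] (B ⧸ 𝔭)), P.asIdeal = Q.asIdeal.comap ψ := by
    intro P hP
    have hle : RingHom.ker ψ ≤ P.asIdeal := by
      rw [hker, Ideal.map_le_iff_le_comap, hP]
      exact le_rfl
    haveI : (Ideal.map ψ P.asIdeal).IsPrime := Ideal.map_isPrime_of_surjective hψs hle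
    refine ⟨⟨Ideal.map ψ P.asIdeal, inferInstance⟩, ?_⟩
    show P.asIdeal = Ideal.comap ψ (Ideal.map ψ P.asIdeal)
    rw [Ideal.comap_map_of_surjective ψ hψs]
    exact (sup_eq_left.mpr hle).symm
  obtain ⟨Q₁, hQ₁⟩ := key P₁ h𝔭
  obtain ⟨Q₂, hQ₂⟩ := key P₂ h𝔭2
  apply PrimeSpectrum.ext
  rw [hQ₁, hQ₂, Subsingleton.elim Q₁ Q₂]

end Ring

section Ring2

variable {k : Type*} [Field k]

theorem isSeparable_quotient_tensor (k' K : Type*) [Field k'] [Field K] [Algebra k k']
    [Algebra k K] [Algebra.IsSeparable k K] (𝔭 : Ideal (k' ⊗[k] K)) [𝔭.IsMaximal] :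
    Algebra.IsSeparable k' ((k' ⊗[k] K) ⧸ 𝔭) := by
  letI : Field ((k' ⊗[k] K) ⧸ 𝔭) := Ideal.Quotient.field 𝔭
  let g : K →ₐ[k] ((k' ⊗[k] K) ⧸ 𝔭) :=
    (Ideal.Quotient.mkₐ k 𝔭).comp (Algebra.TensorProduct.includeRight : K →ₐ[k] k' ⊗[k] K)
  have hg : Function.Injective g := (g : K →+* ((k' ⊗[k] K) ⧸ 𝔭)).injective
  have hall : ∀ b : k' ⊗[k] K, IsSeparable k' (Ideal.Quotient.mk 𝔭 b) := by
    intro b
    induction b using TensorProduct.induction_on with
    | zero =>
      rw [map_zero]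
      have := isSeparable_algebraMap (F := k') (K := (k' ⊗[k] K) ⧸ 𝔭) 0
      rwa [map_zero] at this
    | tmul a y =>
      have h1 : (a ⊗ₜ[k] y : k' ⊗[k] K) = algebraMap k' (k' ⊗[k] K) a * (1 ⊗ₜ[k] y) := by
        rw [Algebra.TensorProduct.algebraMap_apply, Algebra.TensorProduct.tmul_mul_tmul]
        simp
      rw [h1, map_mul]
      refine Field.isSeparable_mul ?_ ?_
      · exact isSeparable_algebraMap (F := k') (K := (k' ⊗[k] K) ⧸ 𝔭) a
      · have h2 : IsSeparable k (g y) := (Algebra.IsSeparable.isSeparable k y).map g hg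
        exact IsSeparable.tower_top k' h2
    | add x y hx hy =>
      rw [map_add]
      exact Field.isSeparable_add hx hy
  refine ⟨fun e => ?_⟩
  obtain ⟨b, rfl⟩ := Ideal.Quotient.mk_surjective e
  exact hall b

theorem isMaximal_of_isPrime_tensor (k' K : Type*) [Field k'] [Field K] [Algebra k k']
    [Algebra k K] [Algebra.IsIntegral k K] (𝔭 : Ideal (k' ⊗[k] K)) (h𝔭 : 𝔭.IsPrime) :
    𝔭.IsMaximal := by
  haveI := h𝔭
  refine Ideal.isMaximal_of_isIntegral_of_isMaximal_comap (R := k') 𝔭 ?_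
  have : Ideal.comap (algebraMap k' (k' ⊗[k] K)) 𝔭 = ⊥ := by
    haveI : (Ideal.comap (algebraMap k' (k' ⊗[k] K)) 𝔭).IsPrime := Ideal.comap_isPrime _ _
    exact (Ideal.eq_bot_or_top _).resolve_right (Ideal.IsPrime.ne_top inferInstance)
  rw [this]
  exact Ideal.bot_isMaximal

theorem card_primeSpectrum_tensor_le_aux (k' F K : Type*) [Field k'] [Field F] [Field K]
    [Algebra k k'] [Algebra k' F] [Algebra k F] [IsScalarTower k k' F] [Algebra k K]
    [Algebra.IsSeparable k K] [FiniteDimensional k k']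
    (hsc : ∀ a : F, IsSeparable k' a → a ∈ Set.range (algebraMap k' F)) :
    ENat.card (PrimeSpectrum (F ⊗[k] K)) ≤ Module.finrank k k' := by
  classical
  haveI : Algebra.IsIntegral k K := inferInstance
  have hinj := comap_includeRight_injective hsc (k' ⊗[k] K)
    (fun 𝔭 h𝔭 => isMaximal_of_isPrime_tensor k' K 𝔭 h𝔭)
    (fun 𝔭 _ => isSeparable_quotient_tensor k' K 𝔭)
  let e : F ⊗[k'] (k' ⊗[k] K) ≃ₐ[k'] F ⊗[k] K :=
    Algebra.TensorProduct.cancelBaseChange k k' k' F K
  have h1 : ENat.card (PrimeSpectrum (F ⊗[k] K)) ≤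
      ENat.card (PrimeSpectrum (F ⊗[k'] (k' ⊗[k] K))) :=
    ENat.card_le_card_of_injective
      (PrimeSpectrum.comap_injective_of_surjective (e : F ⊗[k'] (k' ⊗[k] K) →+* F ⊗[k] K)
        e.surjective)
  have h2 : ENat.card (PrimeSpectrum (F ⊗[k'] (k' ⊗[k] K))) ≤
      ENat.card (PrimeSpectrum (k' ⊗[k] K)) := ENat.card_le_card_of_injective hinj
  let c : k' ⊗[k] K ≃ₐ[k] K ⊗[k] k' := Algebra.TensorProduct.comm k k' K
  have h3 : ENat.card (PrimeSpectrum (k' ⊗[k] K)) ≤ ENat.card (PrimeSpectrum (K ⊗[k] k')) :=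
    ENat.card_le_card_of_injective
      (PrimeSpectrum.comap_injective_of_surjective
        (c.symm : K ⊗[k] k' →+* k' ⊗[k] K) c.symm.surjective)
  let b := Module.finBasis k k'
  let s : Finset k' := Finset.univ.image b
  have hs : Submodule.span k (s : Set k') = ⊤ := by
    rw [Finset.coe_image, Finset.coe_univ, Set.image_univ]
    exact b.span_eq
  have hspan : Submodule.span K
      ((s.image (fun a : k' => (1 : K) ⊗ₜ[k] a) : Finset (K ⊗[k] k')) : Set (K ⊗[k] k')) = ⊤ := by
    rw [Finset.coe_image]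
    have := Submodule.baseChange_span (R := k) (A := K) (M := k') (s : Set k')
    rw [hs, Submodule.baseChange_top] at this
    rw [this]
    rfl
  have h4 := Groth.Agent.S1415.card_primeSpectrum_le K (K ⊗[k] k') _ hspan
  have h5 : ((s.image (fun a : k' => (1 : K) ⊗ₜ[k] a)).card : ℕ∞) ≤
      (Module.finrank k k' : ℕ∞) := by
    have h6 : (s.image (fun a : k' => (1 : K) ⊗ₜ[k] a)).card ≤ Module.finrank k k' := by
      refine Finset.card_image_le.trans ?_
      refine Finset.card_image_le.trans ?_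
      rw [Finset.card_univ, Fintype.card_fin]
    exact_mod_cast h6
  exact h1.trans (h2.trans (h3.trans (h4.trans h5)))

theorem card_primeSpectrum_tensor_le (F K : Type*) [Field F] [Field K]
    [Algebra k F] [Algebra k K] [Algebra.IsSeparable k K]
    [FiniteDimensional k (separableClosure k F)] :
    ENat.card (PrimeSpectrum (F ⊗[k] K)) ≤ Module.finrank k (separableClosure k F) := by
  refine card_primeSpectrum_tensor_le_aux (k := k) (↥(separableClosure k F)) F K ?_
  intro a ha
  have h1 : a ∈ separableClosure ↥(separableClosure k F) F := mem_separableClosure_iff.mpr ha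
  rw [separableClosure.separableClosure_eq_bot] at h1
  exact IntermediateField.mem_bot.mp h1

end Ring2

section Scheme

variable {k : Type u} [Field k] {X : Scheme.{u}} (f : X ⟶ Spec (CommRingCat.of k))

/-- the fibre of `X_K → X` over `x` is covered by `Spec (κ(x) ⊗[k] K)` -/
theorem fibre_encard_le (x : X) (φ : k →+* X.residueField x)
    (hφ : Spec.map (CommRingCat.ofHom φ) = X.fromSpecResidueField x ≫ f)
    (K : Type u) [Field K] [Algebra k K] :
    letI := φ.toAlgebra
    ((FBase.bcπ f K) ⁻¹' {x}).encard ≤ ENat.card (PrimeSpectrum ((X.residueField x) ⊗[k] K)) := by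
  letI := φ.toAlgebra
  let e := pullbackSpecIso k (X.residueField x) K
  let m : pullback (Spec.map (CommRingCat.ofHom (algebraMap k (X.residueField x))))
      (Spec.map (CommRingCat.ofHom (algebraMap k K))) ⟶ FBase.bc f K :=
    pullback.map _ _ f _ (X.fromSpecResidueField x) (𝟙 _) (𝟙 _)
      (by rw [Category.comp_id]; exact hφ) (by simp)
  have hr : Set.range m = (FBase.bcπ f K) ⁻¹' {x} := by
    refine (Scheme.Pullback.range_map _ _ _ _ _ _ _ _ _).trans ?_
    rw [Scheme.range_fromSpecResidueField]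
    ext z
    simp only [Set.mem_inter_iff, Set.mem_preimage, Set.mem_singleton_iff]
    constructor
    · rintro ⟨h1, -⟩
      exact h1
    · intro h1
      exact ⟨h1, ⟨_, rfl⟩⟩
  rw [← hr, ← Set.image_univ]
  refine (Set.encard_image_le _ _).trans ?_
  rw [Set.encard_univ]
  exact le_of_eq (ENat.card_congr (Scheme.homeoOfIso e).toEquiv)

/-- existence of the structure map `k → κ(x)` -/
theorem exists_resMap (x : X) : ∃ φ : k →+* X.residueField x,
    Spec.map (CommRingCat.ofHom φ) = X.fromSpecResidueField x ≫ f :=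
  ⟨(Spec.preimage (X.fromSpecResidueField x ≫ f)).hom, Spec.map_preimage _⟩

/-- the fibre of `X_{K} → X` has at most `[k' : k]` points, `K/k` separable algebraic -/
theorem fibre_encard_le_finrank (x : X) (φ : k →+* X.residueField x)
    (hφ : Spec.map (CommRingCat.ofHom φ) = X.fromSpecResidueField x ≫ f)
    (hfd : letI := φ.toAlgebra; FiniteDimensional k (separableClosure k (X.residueField x)))
    (K : Type u) [Field K] [Algebra k K] [Algebra.IsSeparable k K] :
    letI := φ.toAlgebra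
    ((FBase.bcπ f K) ⁻¹' {x}).encard ≤ Module.finrank k (separableClosure k (X.residueField x)) := by
  letI := φ.toAlgebra
  haveI := hfd
  exact (fibre_encard_le f x φ hφ K).trans (card_primeSpectrum_tensor_le (X.residueField x) K)

instance universallyOpen_bcπ (K : Type u) [Field K] [Algebra k K] :
    UniversallyOpen (FBase.bcπ f K) := by
  haveI : Subsingleton ↥(Spec (CommRingCat.of k)) :=
    inferInstanceAs (Subsingleton (PrimeSpectrum k))
  haveI : UniversallyOpen (Spec.map (CommRingCat.ofHom (algebraMap k K))) := inferInstance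
  exact MorphismProperty.pullback_fst (P := @UniversallyOpen) f _ inferInstance

end Scheme

section Top

variable {Y : Type*} [TopologicalSpace Y]

theorem exists_mem_connectedComponent_of_finite_meets (F : Set Y) (hF : F.Finite)
    (hmeet : ∀ B : Set Y, IsClopen B → B.Nonempty → (B ∩ F).Nonempty) (y : Y) :
    ∃ z ∈ F, z ∈ connectedComponent y := by
  classical
  let 𝒰 : Set (Set Y) := {U | IsClopen U ∧ y ∈ U}
  have hne : 𝒰.Nonempty := ⟨Set.univ, isClopen_univ, trivial⟩
  obtain ⟨U₀, hU₀, hmin⟩ := (measure (fun U : Set Y => (U ∩ F).ncard)).wf.has_min 𝒰 hne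
  have hstep : ∀ u v : Set Y, IsOpen u → IsOpen v → U₀ ⊆ u ∪ v → U₀ ∩ (u ∩ v) = ∅ → y ∈ u →
      U₀ ⊆ u := by
    intro u v hu hv hcov hdisj hyu
    have hA : U₀ ∩ u = U₀ \ v := by
      ext z
      constructor
      · rintro ⟨hz1, hz2⟩
        refine ⟨hz1, fun hz3 => ?_⟩
        have : z ∈ U₀ ∩ (u ∩ v) := ⟨hz1, hz2, hz3⟩
        rw [hdisj] at this
        exact this
      · rintro ⟨hz1, hz2⟩
        exact ⟨hz1, (hcov hz1).resolve_right hz2⟩
    have hB : U₀ ∩ v = U₀ \ u := by
      ext z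
      constructor
      · rintro ⟨hz1, hz2⟩
        refine ⟨hz1, fun hz3 => ?_⟩
        have : z ∈ U₀ ∩ (u ∩ v) := ⟨hz1, hz3, hz2⟩
        rw [hdisj] at this
        exact this
      · rintro ⟨hz1, hz2⟩
        exact ⟨hz1, (hcov hz1).resolve_left hz2⟩
    have hAclopen : IsClopen (U₀ ∩ u) := ⟨hA ▸ hU₀.1.1.sdiff hv, hU₀.1.2.inter hu⟩
    have hBclopen : IsClopen (U₀ ∩ v) := ⟨hB ▸ hU₀.1.1.sdiff hu, hU₀.1.2.inter hv⟩
    have hAmem : (U₀ ∩ u) ∈ 𝒰 := ⟨hAclopen, hU₀.2, hyu⟩
    have hBempty : U₀ ∩ v = ∅ := by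
      by_contra hne'
      obtain ⟨w, hw, hwF⟩ := hmeet _ hBclopen (Set.nonempty_iff_ne_empty.mpr hne')
      apply hmin _ hAmem
      show ((U₀ ∩ u) ∩ F).ncard < (U₀ ∩ F).ncard
      refine Set.ncard_lt_ncard ⟨?_, ?_⟩ (hF.subset Set.inter_subset_right)
      · exact Set.inter_subset_inter_left _ Set.inter_subset_left
      · intro hsub
        have hw2 : w ∈ (U₀ ∩ u) ∩ F := hsub ⟨hw.1, hwF⟩
        have : w ∈ U₀ ∩ (u ∩ v) := ⟨hw.1, hw2.1.2, hw.2⟩
        rw [hdisj] at this
        exact this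
    intro z hz
    rcases hcov hz with h | h
    · exact h
    · exfalso
      have : z ∈ U₀ ∩ v := ⟨hz, h⟩
      rw [hBempty] at this
      exact this
  have hpre : IsPreconnected U₀ := by
    rw [isPreconnected_iff_subset_of_disjoint]
    intro u v hu hv hcov hdisj
    rcases hcov hU₀.2 with hyu | hyv
    · exact Or.inl (hstep u v hu hv hcov hdisj hyu)
    · refine Or.inr (hstep v u hv hu ?_ ?_ hyv)
      · rw [Set.union_comm]; exact hcov
      · rw [Set.inter_comm v u]; exact hdisj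
  obtain ⟨z, hz, hzF⟩ := hmeet U₀ hU₀.1 ⟨y, hU₀.2⟩
  exact ⟨z, hzF, hpre.subset_connectedComponent hU₀.2 hz⟩

theorem card_connectedComponents_le_of_finite_meets (F : Set Y) (hF : F.Finite)
    (hmeet : ∀ B : Set Y, IsClopen B → B.Nonempty → (B ∩ F).Nonempty) :
    Finite (_root_.ConnectedComponents Y) ∧ Nat.card (_root_.ConnectedComponents Y) ≤ F.ncard := by
  haveI : Finite ↥F := hF.to_subtype
  let g : ↥F → _root_.ConnectedComponents Y := fun z => ConnectedComponents.mk (z : Y)
  have hg : Function.Surjective g := by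
    intro c
    obtain ⟨y, rfl⟩ := ConnectedComponents.surjective_coe c
    obtain ⟨z, hzF, hz⟩ := exists_mem_connectedComponent_of_finite_meets F hF hmeet y
    exact ⟨⟨z, hzF⟩, ConnectedComponents.coe_eq_coe'.mpr hz⟩
  haveI : Finite (_root_.ConnectedComponents Y) := Finite.of_surjective g hg
  refine ⟨inferInstance, ?_⟩
  have := Nat.card_le_card_of_surjective g hg
  rwa [Nat.card_coe_set_eq] at this

end Top

end Groth.Agent.Lib.Helper11.SepFibre2
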