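import Mathlib
import Groth.Prelude.Def_FDesc
import Groth.Agent.S1670
import Groth.Agent.Lib.Helper11.GalDescent
import Groth.Agent.Lib.Helper11.SepFibre2

/-!
# Galois orbits of components, without finiteness hypotheses (helper11)

* `orbit_components`: `S1670.main` without local finite type: the components of `X_K` over a component
  `T` of `X` cover the preimage of `T` and are Galois-conjugate.
* `isIrreducible_preimage_of_fixed`: if the automorphisms fixing `L` fix all components of `X_K`, the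
  preimage in `(X_L)_K` of each component of `X_L` is irreducible.
* `isIrreducible_preimage_of_isSepClosed`: irreducibility of the preimage of a closed set over one
  separably closed field implies the same over all fields.
-/

set_option autoImplicit false
universe u

open CategoryTheory CategoryTheory.Limits AlgebraicGeometry
open Groth.Agent.Lib.Helper11.FBaseLib Groth.Agent.Lib.Helper11.FBaseLib2
  Groth.Agent.Lib.Helper11.BcLevels Groth.Agent.Lib.Helper11.TwoEmb
  Groth.Agent.Lib.Helper11.SepFibre Groth.Agent.Lib.Helper11.GalComp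
  Groth.Agent.Lib.Helper11.GeomSep Groth.Agent.Lib.Helper11.CountComp
  Groth.Agent.Lib.Helper11.GalDescent Groth.Agent.Lib.Helper11.SepFibre2

namespace Groth.Agent.Lib.Helper11.GalOrbit

theorem orbit_components {k : Type u} [Field k] {X : Scheme.{u}} (a : X ⟶ Spec (CommRingCat.of k))
    (K : Type u) [Field K] [Algebra k K] [Algebra.IsIntegral k K]
    [Normal k K] (T : Set X) (hT : T ∈ irreducibleComponents X) :
    (FBase.bcπ a K) ⁻¹' T = ⋃₀ {T' : Set ↥(FBase.bc a K) |
      T' ∈ irreducibleComponents ↥(FBase.bc a K) ∧ (FBase.bcπ a K) '' T' ⊆ T} ∧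
    ∀ T' T'' : Set ↥(FBase.bc a K), T' ∈ irreducibleComponents ↥(FBase.bc a K) →
      T'' ∈ irreducibleComponents ↥(FBase.bc a K) → (FBase.bcπ a K) '' T' ⊆ T →
      (FBase.bcπ a K) '' T'' ⊆ T →
      ∃ σ : K ≃ₐ[k] K, (bcHom a (σ : K →ₐ[k] K)) '' T' = T'' := by
  classical
  set p := FBase.bcπ a K with hp
  set S := {T' : Set ↥(FBase.bc a K) | T' ∈ irreducibleComponents ↥(FBase.bc a K) ∧
      p '' T' ⊆ T} with hS
  haveI : IsIntegralHom p := isIntegralHom_bcπ a K
  haveI : Flat (Spec.map (CommRingCat.ofHom (algebraMap k K))) := by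
    rw [Flat.SpecMap_iff]
    show (algebraMap k K).Flat
    rw [RingHom.flat_algebraMap_iff]
    infer_instance
  haveI : Flat p := MorphismProperty.pullback_fst (P := @Flat) a _ inferInstance
  have hgen : GeneralizingMap p := Flat.generalizingMap p
  have hTcl : IsClosed T := isClosed_of_mem_irreducibleComponents T hT
  obtain ⟨ξ, hξ⟩ := QuasiSober.sober hT.1 hTcl
  have keyG : ∀ T' ∈ S, ∀ η' : ↥(FBase.bc a K), IsGenericPoint η' T' → p η' = ξ := by
    intro T' hT' η' hη'
    exact map_genericPoint_of_component a K hT hξ hT'.1 hT'.2 hη'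
  have partb : p ⁻¹' T = ⋃₀ S := by
    apply Set.Subset.antisymm
    · intro z hz
      have hspec : ξ ⤳ p z := hξ.specializes hz
      obtain ⟨ζ, hζ, hpζ⟩ := hgen hspec
      obtain ⟨T', hT', hζT'⟩ := exists_mem_irreducibleComponents_subset_of_isIrreducible {ζ}
        isIrreducible_singleton
      have hT'cl := isClosed_of_mem_irreducibleComponents T' hT'
      have hzT' : z ∈ T' := hT'cl.closure_subset_iff.mpr hζT' hζ.mem_closure
      refine ⟨T', ⟨hT', ?_⟩, hzT'⟩
      have hirr : IsIrreducible (closure (p '' T')) :=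
        (hT'.1.image p p.continuous.continuousOn).closure
      have hsubT : T ⊆ closure (p '' T') := by
        rw [← hξ.def]
        exact closure_minimal (Set.singleton_subset_iff.mpr
          (subset_closure ⟨ζ, hζT' rfl, hpζ⟩)) isClosed_closure
      exact subset_closure.trans (hT.2 hirr hsubT)
    · rintro z ⟨T', hT', hz⟩
      exact hT'.2 ⟨z, hz, rfl⟩
  have partc : ∀ T' T'' : Set ↥(FBase.bc a K), T' ∈ irreducibleComponents ↥(FBase.bc a K) →
      T'' ∈ irreducibleComponents ↥(FBase.bc a K) → p '' T' ⊆ T → p '' T'' ⊆ T →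
      ∃ σ : K ≃ₐ[k] K, (bcHom a (σ : K →ₐ[k] K)) '' T' = T'' := by
    intro T' T'' hT' hT'' h1 h2
    obtain ⟨η', hη'⟩ := QuasiSober.sober hT'.1 (isClosed_of_mem_irreducibleComponents T' hT')
    obtain ⟨η'', hη''⟩ := QuasiSober.sober hT''.1 (isClosed_of_mem_irreducibleComponents T'' hT'')
    have e1 := keyG T' ⟨hT', h1⟩ η' hη'
    have e2 := keyG T'' ⟨hT'', h2⟩ η'' hη''
    obtain ⟨σ, hy⟩ := exists_bcHom_eq a K η'' η' (e2.trans e1.symm)
    refine ⟨σ, ?_⟩
    haveI := isIntegralHom_bcHom a (σ : K →ₐ[k] K)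
    have hcl : IsClosedMap (bcHom a (σ : K →ₐ[k] K)) := (bcHom a (σ : K →ₐ[k] K)).isClosedMap
    rw [← hη'.def, ← hη''.def, ← hcl.closure_image_eq_of_continuous (bcHom a _).continuous,
      Set.image_singleton, ← hy]
  exact ⟨partb, partc⟩

/-- if the automorphisms fixing `L` fix all components of `X_K`, then the preimage in `(X_L)_K` of every
irreducible component of `X_L` is irreducible -/
theorem isIrreducible_preimage_of_fixed {k : Type u} [Field k] {X : Scheme.{u}}
    (a : X ⟶ Spec (CommRingCat.of k)) (K : Type u) [Field K] [Algebra k K]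
    [Algebra.IsIntegral k K] [Normal k K] (L : IntermediateField k K)
    (hLfix : ∀ σ : K ≃ₐ[k] K, (∀ x ∈ L, σ x = x) →
      ∀ T' ∈ irreducibleComponents ↥(FBase.bc a K), (bcHom a (σ : K →ₐ[k] K)) '' T' = T')
    (T : Set ↥(FBase.bc a ↥L)) (hT : T ∈ irreducibleComponents ↥(FBase.bc a ↥L)) :
    IsIrreducible ((FBase.bcπ (FBase.bcStr a ↥L) K) ⁻¹' T) := by
  haveI : Algebra.IsIntegral ↥L K := Algebra.IsIntegral.tower_top (R := k)
  haveI : Normal ↥L K := Normal.tower_top_of_normal k ↥L K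
  have hmain := orbit_components (FBase.bcStr a ↥L) K T hT
  let eh := Scheme.homeoOfIso (towerIso a ↥L K)
  have hcomm : ∀ (τ : K ≃ₐ[↥L] K) (z : ↥(FBase.bc a K)),
      eh ((bcHom a ((τ.restrictScalars k : K ≃ₐ[k] K) : K →ₐ[k] K)) z) =
        (bcHom (FBase.bcStr a ↥L) (τ : K →ₐ[↥L] K)) (eh z) := by
    intro τ z
    have h1 := towerIso_comm a ↥L K τ
    show (towerIso a ↥L K).hom ((bcHom a _) z) = (bcHom (FBase.bcStr a ↥L) _) ((towerIso a ↥L K).hom z)
    rw [← Scheme.Hom.comp_apply, ← Scheme.Hom.comp_apply, h1]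
  have hinv : ∀ (τ : K ≃ₐ[↥L] K), ∀ T'' ∈ irreducibleComponents ↥(FBase.bc (FBase.bcStr a ↥L) K),
      (bcHom (FBase.bcStr a ↥L) (τ : K →ₐ[↥L] K)) '' T'' = T'' := by
    intro τ T'' hT''
    have hT' : eh ⁻¹' T'' ∈ irreducibleComponents ↥(FBase.bc a K) := by
      refine preimage_mem_irreducibleComponents hT'' eh.isOpenEmbedding ?_
      rw [eh.surjective.range_eq, Set.inter_univ]
      exact hT''.1.1
    have h1 := hLfix (τ.restrictScalars k) (fun x hx => τ.commutes ⟨x, hx⟩) _ hT'
    calc (bcHom (FBase.bcStr a ↥L) (τ : K →ₐ[↥L] K)) '' T''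
        = (bcHom (FBase.bcStr a ↥L) (τ : K →ₐ[↥L] K)) '' (eh '' (eh ⁻¹' T'')) := by
          rw [eh.image_preimage]
      _ = eh '' ((bcHom a ((τ.restrictScalars k : K ≃ₐ[k] K) : K →ₐ[k] K)) '' (eh ⁻¹' T'')) := by
          rw [Set.image_image, Set.image_image]
          exact Set.image_congr (fun z _ => (hcomm τ z).symm)
      _ = eh '' (eh ⁻¹' T'') := by rw [h1]
      _ = T'' := eh.image_preimage T''
  -- the set of components over `T` is a singleton
  obtain ⟨y₀, hy₀⟩ : T.Nonempty := hT.1.1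
  obtain ⟨z₀, hz₀⟩ := (FBase.bcπ (FBase.bcStr a ↥L) K).surjective y₀
  have hz₀mem : z₀ ∈ (FBase.bcπ (FBase.bcStr a ↥L) K) ⁻¹' T := by
    show (FBase.bcπ (FBase.bcStr a ↥L) K) z₀ ∈ T
    rw [hz₀]
    exact hy₀
  rw [hmain.1] at hz₀mem
  obtain ⟨T', hT'S, -⟩ := hz₀mem
  have hS : {T' : Set ↥(FBase.bc (FBase.bcStr a ↥L) K) |
      T' ∈ irreducibleComponents ↥(FBase.bc (FBase.bcStr a ↥L) K) ∧
        (FBase.bcπ (FBase.bcStr a ↥L) K) '' T' ⊆ T} = {T'} := by
    ext T''
    constructor
    · intro hT''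
      obtain ⟨σ, hσ⟩ := hmain.2 T' T'' hT'S.1 hT''.1 hT'S.2 hT''.2
      rw [hinv σ T' hT'S.1] at hσ
      exact hσ.symm
    · rintro rfl
      exact hT'S
  rw [hmain.1, hS, Set.sUnion_singleton]
  exact hT'S.1.1

section Geom

variable {κ : Type u} [Field κ] {Y Z : Scheme.{u}}

/-- the base change of `i : Z ⟶ Y` to `F` -/
theorem exists_bc_comp (b : Y ⟶ Spec (CommRingCat.of κ)) (i : Z ⟶ Y)
    (F : Type u) [Field F] [Algebra κ F] :
    ∃ j : FBase.bc (i ≫ b) F ⟶ FBase.bc b F,
      IsPullback j (FBase.bcπ (i ≫ b) F) (FBase.bcπ b F) i ∧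
      Set.range j = (FBase.bcπ b F) ⁻¹' (Set.range i) := by
  let s := Spec.map (CommRingCat.ofHom (algebraMap κ F))
  let j : FBase.bc (i ≫ b) F ⟶ FBase.bc b F :=
    pullback.lift (pullback.fst (i ≫ b) s ≫ i) (pullback.snd (i ≫ b) s)
      (by rw [Category.assoc]; exact pullback.condition)
  have hj1 : j ≫ FBase.bcπ b F = pullback.fst (i ≫ b) s ≫ i := pullback.lift_fst _ _ _
  have hj2 : j ≫ FBase.bcStr b F = pullback.snd (i ≫ b) s := pullback.lift_snd _ _ _
  have hpb : IsPullback j (pullback.fst (i ≫ b) s) (FBase.bcπ b F) i := by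
    refine IsPullback.of_right ?_ hj1 (isPullback_bc b F).flip
    rw [hj2]
    exact (IsPullback.of_hasPullback (i ≫ b) s).flip
  refine ⟨j, hpb, ?_⟩
  apply Set.Subset.antisymm
  · rintro _ ⟨w, rfl⟩
    refine ⟨pullback.fst (i ≫ b) s w, ?_⟩
    show i (pullback.fst (i ≫ b) s w) = (FBase.bcπ b F) (j w)
    rw [← Scheme.Hom.comp_apply, ← Scheme.Hom.comp_apply, hj1]
    rfl
  · rintro y ⟨t, ht⟩
    obtain ⟨w, hw1, -⟩ := Scheme.exists_preimage_of_isPullback hpb y t ht.symm
    exact ⟨w, hw1⟩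

theorem isIrreducible_preimage_of_isSepClosed (b : Y ⟶ Spec (CommRingCat.of κ)) (T : Set ↥Y)
    (hTcl : IsClosed T) (F : Type u) [Field F] [Algebra κ F] [IsSepClosed F]
    (h : IsIrreducible ((FBase.bcπ b F) ⁻¹' T)) (K' : Type u) [Field K'] [Algebra κ K'] :
    IsIrreducible ((FBase.bcπ b K') ⁻¹' T) := by
  let I := Scheme.IdealSheafData.vanishingIdeal (⟨T, hTcl⟩ : TopologicalSpace.Closeds ↥Y)
  have hrange : Set.range I.subschemeι = T := by
    rw [Scheme.IdealSheafData.range_subschemeι, Scheme.IdealSheafData.coe_support_vanishingIdeal]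
    rfl
  haveI := irreducibleSpace_bc_comp b I.subschemeι F (by rw [hrange]; exact h)
  have hgi : GeometricallyIrreducible (I.subschemeι ≫ b) :=
    geometricallyIrreducible_of_isSepClosed (I.subschemeι ≫ b) F
  haveI : IrreducibleSpace ↥(FBase.bc (I.subschemeι ≫ b) K') :=
    pullback_of_geometrically hgi.1 K' (Spec.map (CommRingCat.ofHom (algebraMap κ K')))
  obtain ⟨j, -, hj⟩ := exists_bc_comp b I.subschemeι K'
  rw [← hrange, ← hj, ← Set.image_univ]
  exact (IrreducibleSpace.isIrreducible_univ _).image j j.continuous.continuousOn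

end Geom

end Groth.Agent.Lib.Helper11.GalOrbit
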