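import Mathlib
import Groth.Prelude.Def_FDesc
import Groth.Agent.Lib.Helper11.GalOrbit

/-!
# Galois descent of connected components (helper11)

* `isConnected_preimage_of_fixed`: if `X_K` has finitely many connected components, all fixed by the
  automorphisms fixing `L`, then the preimage in `(X_L)_K` of each connected component of `X_L` is
  connected.
* `geometricallyConnected_of_isSepClosed`, `isConnected_preimage_of_isSepClosed`.
-/

set_option autoImplicit false
universe u

open CategoryTheory CategoryTheory.Limits AlgebraicGeometry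
open Groth.Agent.Lib.Helper11.FBaseLib Groth.Agent.Lib.Helper11.FBaseLib2
  Groth.Agent.Lib.Helper11.BcLevels Groth.Agent.Lib.Helper11.TwoEmb
  Groth.Agent.Lib.Helper11.SepFibre Groth.Agent.Lib.Helper11.GalComp
  Groth.Agent.Lib.Helper11.GeomSep Groth.Agent.Lib.Helper11.CountComp
  Groth.Agent.Lib.Helper11.GalDescent Groth.Agent.Lib.Helper11.SepFibre2
  Groth.Agent.Lib.Helper11.GalOrbit Groth.Agent.Lib.Helper11.PurInsep

namespace Groth.Agent.Lib.Helper11.GalConn

section Top

variable {A B : Type*} [TopologicalSpace A] [TopologicalSpace B]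

theorem image_connectedComponent_homeomorph (e : A ≃ₜ B) (x : A) :
    e '' connectedComponent x = connectedComponent (e x) := by
  apply Set.Subset.antisymm (e.continuous.image_connectedComponent_subset x)
  intro y hy
  have h1 := e.symm.continuous.image_connectedComponent_subset (e x)
  rw [e.symm_apply_apply] at h1
  exact ⟨e.symm y, h1 ⟨y, hy, rfl⟩, e.apply_symm_apply y⟩

theorem isOpen_connectedComponent_of_finite [Finite (_root_.ConnectedComponents A)] (x : A) :
    IsOpen (connectedComponent x) := by
  rw [← connectedComponents_preimage_singleton]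
  exact ((isClopen_discrete {(ConnectedComponents.mk x)}).preimage
    ConnectedComponents.continuous_coe).2

theorem finite_connectedComponents_of_surjective [Finite (_root_.ConnectedComponents A)]
    (g : A → B) (hg : Continuous g) (hs : Function.Surjective g) :
    Finite (_root_.ConnectedComponents B) := by
  refine Finite.of_surjective hg.connectedComponentsMap ?_
  intro c
  obtain ⟨b, rfl⟩ := ConnectedComponents.surjective_coe c
  obtain ⟨x, rfl⟩ := hs b
  exact ⟨ConnectedComponents.mk x, Continuous.connectedComponentsMap_mk hg x⟩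

end Top

variable {k : Type u} [Field k] {X : Scheme.{u}} (a : X ⟶ Spec (CommRingCat.of k))

/-- an automorphism fixing a point of a connected component fixes the component -/
theorem image_connectedComponent_of_fixed {K : Type u} [Field K] [Algebra k K] (σ : K ≃ₐ[k] K)
    (y z : ↥(FBase.bc a K)) (hz : z ∈ connectedComponent y)
    (hfix : (bcHom a (σ : K →ₐ[k] K)) z = z) :
    (bcHom a (σ : K →ₐ[k] K)) '' connectedComponent y = connectedComponent y := by
  have h1 := image_connectedComponent_homeomorph (galHomeo a σ) y
  have h2 : z ∈ connectedComponent ((galHomeo a σ) y) := by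
    rw [← h1]
    exact ⟨z, hz, hfix⟩
  have h3 : (galHomeo a σ) '' connectedComponent y = connectedComponent y := by
    rw [h1, connectedComponent_eq h2, connectedComponent_eq hz]
  exact h3

theorem isConnected_preimage_of_fixed (K : Type u) [Field K] [Algebra k K]
    [Algebra.IsIntegral k K] [Normal k K] (L : IntermediateField k K)
    [Finite (_root_.ConnectedComponents ↥(FBase.bc a K))]
    (hLfix : ∀ σ : K ≃ₐ[k] K, (∀ x ∈ L, σ x = x) →
      ∀ y : ↥(FBase.bc a K), (bcHom a (σ : K →ₐ[k] K)) '' connectedComponent y = connectedComponent y)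
    (x' : ↥(FBase.bc a ↥L)) :
    _root_.IsConnected ((FBase.bcπ (FBase.bcStr a ↥L) K) ⁻¹' connectedComponent x') := by
  haveI : Algebra.IsIntegral ↥L K := Algebra.IsIntegral.tower_top (R := k)
  haveI : Normal ↥L K := Normal.tower_top_of_normal k ↥L K
  set b := FBase.bcStr a ↥L with hb
  set q := FBase.bcπ b K with hq
  let eh := Scheme.homeoOfIso (towerIso a ↥L K)
  have hcomm : ∀ (τ : K ≃ₐ[↥L] K) (z : ↥(FBase.bc a K)),
      eh ((bcHom a ((τ.restrictScalars k : K ≃ₐ[k] K) : K →ₐ[k] K)) z) =
        (bcHom b (τ : K →ₐ[↥L] K)) (eh z) := by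
    intro τ z
    have h1 := towerIso_comm a ↥L K τ
    show (towerIso a ↥L K).hom ((bcHom a _) z) = (bcHom b _) ((towerIso a ↥L K).hom z)
    rw [← Scheme.Hom.comp_apply, ← Scheme.Hom.comp_apply, h1]
  have hcc : ∀ w : ↥(FBase.bc b K), connectedComponent w = eh '' connectedComponent (eh.symm w) := by
    intro w
    rw [image_connectedComponent_homeomorph, eh.apply_symm_apply]
  have hinv : ∀ (τ : K ≃ₐ[↥L] K) (w : ↥(FBase.bc b K)),
      (bcHom b (τ : K →ₐ[↥L] K)) '' connectedComponent w = connectedComponent w := by
    intro τ w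
    have h1 := hLfix (τ.restrictScalars k) (fun x hx => τ.commutes ⟨x, hx⟩) (eh.symm w)
    calc (bcHom b (τ : K →ₐ[↥L] K)) '' connectedComponent w
        = (bcHom b (τ : K →ₐ[↥L] K)) '' (eh '' connectedComponent (eh.symm w)) := by rw [← hcc]
      _ = eh '' ((bcHom a ((τ.restrictScalars k : K ≃ₐ[k] K) : K →ₐ[k] K)) ''
            connectedComponent (eh.symm w)) := by
          rw [Set.image_image, Set.image_image]
          exact Set.image_congr (fun z _ => (hcomm τ z).symm)
      _ = eh '' connectedComponent (eh.symm w) := by rw [h1]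
      _ = connectedComponent w := (hcc w).symm
  have hopen : ∀ w : ↥(FBase.bc b K), IsOpen (connectedComponent w) := by
    intro w
    rw [hcc]
    exact eh.isOpenMap _ (isOpen_connectedComponent_of_finite _)
  obtain ⟨w₀, hw₀⟩ := q.surjective x'
  set C := connectedComponent w₀ with hC
  have hCclopen : IsClopen C := ⟨isClosed_connectedComponent, hopen w₀⟩
  haveI : IsIntegralHom q := isIntegralHom_bcπ b K
  have hqC : IsClopen (q '' C) := ⟨q.isClosedMap _ hCclopen.1, q.isOpenMap _ hCclopen.2⟩
  have hx'mem : x' ∈ q '' C := ⟨w₀, mem_connectedComponent, hw₀⟩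
  have h1 : connectedComponent x' ⊆ q '' C :=
    isPreconnected_connectedComponent.subset_isClopen hqC ⟨x', mem_connectedComponent, hx'mem⟩
  have h2 : q '' C ⊆ connectedComponent x' :=
    (isPreconnected_connectedComponent.image q q.continuous.continuousOn).subset_connectedComponent
      hx'mem
  have heq : q ⁻¹' connectedComponent x' = C := by
    apply Set.Subset.antisymm
    · intro w hw
      obtain ⟨c, hc, hcw⟩ := h1 hw
      obtain ⟨τ, hτ⟩ := exists_bcHom_eq b K w c hcw.symm
      rw [hτ]
      have h5 : (bcHom b (τ : K →ₐ[↥L] K)) c ∈ (bcHom b (τ : K →ₐ[↥L] K)) '' connectedComponent w₀ :=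
        ⟨c, hc, rfl⟩
      rw [hinv τ w₀] at h5
      exact h5
    · intro w hw
      exact h2 ⟨w, hw, rfl⟩
  rw [heq]
  exact isConnected_connectedComponent

/-- finiteness of the set of connected components descends from `X_K` to `X_L` -/
theorem finite_connectedComponents_level (K : Type u) [Field K] [Algebra k K]
    (L : IntermediateField k K) [Finite (_root_.ConnectedComponents ↥(FBase.bc a K))] :
    Finite (_root_.ConnectedComponents ↥(FBase.bc a ↥L)) := by
  let eh := Scheme.homeoOfIso (towerIso a ↥L K)
  haveI : Finite (_root_.ConnectedComponents ↥(FBase.bc (FBase.bcStr a ↥L) K)) :=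
    finite_connectedComponents_of_surjective eh eh.continuous eh.surjective
  exact finite_connectedComponents_of_surjective (FBase.bcπ (FBase.bcStr a ↥L) K)
    (FBase.bcπ (FBase.bcStr a ↥L) K).continuous (FBase.bcπ (FBase.bcStr a ↥L) K).surjective

section Geom

variable {κ : Type u} [Field κ] {Y Z : Scheme.{u}}

theorem geometricallyConnected_of_isSepClosed (φ : Z ⟶ Spec (CommRingCat.of κ)) (F : Type u)
    [Field F] [Algebra κ F] [IsSepClosed F] [ConnectedSpace ↥(FBase.bc φ F)] :
    GeometricallyConnected φ := by
  have h2 := isHomeomorph_bcMap φ F (AlgebraicClosure F)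
  haveI : ConnectedSpace ↥(FBase.bc φ (AlgebraicClosure F)) :=
    (h2.homeomorph _).symm.surjective.connectedSpace (h2.homeomorph _).symm.continuous
  haveI := connectedSpace_of_algClosed φ (AlgebraicClosure F) (SeparableClosure κ)
  exact geometricallyConnected_of_sepClosure φ

theorem isConnected_preimage_of_isSepClosed (b : Y ⟶ Spec (CommRingCat.of κ)) (y : ↥Y)
    (hopen : IsOpen (connectedComponent y)) (F : Type u) [Field F] [Algebra κ F] [IsSepClosed F]
    (h : _root_.IsConnected ((FBase.bcπ b F) ⁻¹' connectedComponent y))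
    (K' : Type u) [Field K'] [Algebra κ K'] :
    _root_.IsConnected ((FBase.bcπ b K') ⁻¹' connectedComponent y) := by
  let U : Y.Opens := ⟨connectedComponent y, hopen⟩
  have hrange : Set.range U.ι = connectedComponent y := by
    rw [Scheme.Opens.range_ι]
    rfl
  obtain ⟨j, hpb, hj⟩ := exists_bc_comp b U.ι F
  haveI : IsOpenImmersion j :=
    MorphismProperty.of_isPullback (P := @IsOpenImmersion) hpb.flip inferInstance
  haveI : ConnectedSpace ↥(Set.range j) := by
    rw [hj, hrange]
    exact Subtype.connectedSpace h
  haveI : ConnectedSpace ↥(FBase.bc (U.ι ≫ b) F) := by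
    let eh := j.isEmbedding.toHomeomorph
    exact eh.symm.surjective.connectedSpace eh.symm.continuous
  haveI := geometricallyConnected_of_isSepClosed (U.ι ≫ b) F
  have h3 := isConnected_preimage_connectedComponent_of_geometricallyConnected b K' (U.ι ≫ b) U.ι rfl
    (⟨y, mem_connectedComponent⟩ : ↥U)
  exact h3

end Geom

end Groth.Agent.Lib.Helper11.GalConn
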