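import Mathlib
import Groth.Prelude.Def_FDesc
import Groth.Agent.Lib.Helper11.GalConn

/-!
# Connectedness of `X_K` from connectedness of all finite levels (helper11)
-/

set_option autoImplicit false
universe u

open CategoryTheory CategoryTheory.Limits AlgebraicGeometry
open Groth.Agent.Lib.Helper11.FBaseLib Groth.Agent.Lib.Helper11.FBaseLib2
  Groth.Agent.Lib.Helper11.BcLevels Groth.Agent.Lib.Helper11.GalDescent
  Groth.Agent.Lib.Helper11.GalConn

namespace Groth.Agent.Lib.Helper11.ConnLevels

variable {k : Type u} [Field k] {X : Scheme.{u}} (a : X ⟶ Spec (CommRingCat.of k))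

lemma bcHom_val_eq_bcMap (K : Type u) [Field K] [Algebra k K] (L : IntermediateField k K) :
    bcHom a L.val = bcMap a ↥L K := by
  apply pullback.hom_ext
  · change _ ≫ FBase.bcπ a ↥L = _ ≫ FBase.bcπ a ↥L
    rw [bcHom_π, bcMap_π]
  · change _ ≫ FBase.bcStr a ↥L = _ ≫ FBase.bcStr a ↥L
    rw [bcHom_str, bcMap_str]
    rfl

/-- every connected component of `X_K` surjects onto a connected finite level -/
theorem exists_mem_connectedComponent_level (K : Type u) [Field K] [Algebra k K]
    [Algebra.IsAlgebraic k K] (L : IntermediateField k K) [ConnectedSpace ↥(FBase.bc a ↥L)]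
    (y₀ : ↥(FBase.bc a K)) (x : ↥(FBase.bc a ↥L)) :
    ∃ c ∈ connectedComponent y₀, (bcHom a L.val) c = x := by
  haveI : Algebra.IsAlgebraic ↥L K := Algebra.IsAlgebraic.tower_top (K := k) ↥L
  let eh := Scheme.homeoOfIso (towerIso a ↥L K)
  obtain ⟨y, hy, hyx⟩ := exists_mem_connectedComponent_of_isAlgebraic (FBase.bcStr a ↥L) K (eh y₀) x
  refine ⟨eh.symm y, ?_, ?_⟩
  · have h1 := image_connectedComponent_homeomorph eh.symm (eh y₀)
    rw [eh.symm_apply_apply] at h1
    rw [← h1]
    exact ⟨y, hy, rfl⟩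
  · rw [bcHom_val_eq_bcMap, ← towerIso_hom_π, Scheme.Hom.comp_apply]
    have : (towerIso a ↥L K).hom (eh.symm y) = y := eh.apply_symm_apply y
    rw [this]
    exact hyx

theorem connectedSpace_of_levels (K : Type u) [Field K] [Algebra k K] [Algebra.IsAlgebraic k K]
    (h : ∀ L : IntermediateField k K, FiniteDimensional k L → ConnectedSpace ↥(FBase.bc a ↥L)) :
    ConnectedSpace ↥(FBase.bc a K) := by
  haveI hbot : ConnectedSpace ↥(FBase.bc a ↥(⊥ : IntermediateField k K)) := h ⊥ inferInstance
  obtain ⟨x₀⟩ : Nonempty ↥(FBase.bc a ↥(⊥ : IntermediateField k K)) := inferInstance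
  obtain ⟨y₀, _⟩ := (bcHom a (⊥ : IntermediateField k K).val).surjective x₀
  have hall : ∀ y₁ : ↥(FBase.bc a K), y₁ ∈ connectedComponent y₀ := by
    intro y₁
    by_contra hy₁
    have hopen : IsOpen (connectedComponent y₀)ᶜ := isClosed_connectedComponent.isOpen_compl
    obtain ⟨L, hL, V, hV, hyV, hsub⟩ := exists_level_nhds a K y₁ _ hopen hy₁
    haveI := h L hL
    obtain ⟨c, hc, hcq⟩ := exists_mem_connectedComponent_level a K L y₀ ((bcHom a L.val) y₁)
    have hmem : c ∈ (connectedComponent y₀)ᶜ := hsub (by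
      show (bcHom a L.val) c ∈ V
      rw [hcq]
      exact hyV)
    exact hmem hc
  haveI : Nonempty ↥(FBase.bc a K) := ⟨y₀⟩
  haveI : PreconnectedSpace ↥(FBase.bc a K) := by
    refine ⟨?_⟩
    have : (Set.univ : Set ↥(FBase.bc a K)) = connectedComponent y₀ :=
      (Set.eq_univ_of_forall hall).symm
    rw [this]
    exact isPreconnected_connectedComponent
  exact ⟨inferInstance⟩

end Groth.Agent.Lib.Helper11.ConnLevels
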