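import Mathlib

/-!
# Étale algebras realising a finite separable residue field extension
-/

set_option autoImplicit false
universe u
open Polynomial

namespace Groth.Agent.Lib.Helper11.EtaleNbhd

section Ring

variable {R : Type u} [CommRing R] {κ : Type u} [Field κ] (φ : R →+* κ)

/-- common denominators -/
lemma common_denom (hφ : ∀ c : κ, ∃ a b : R, φ b ≠ 0 ∧ c = φ a / φ b) (s : Finset κ) :
    ∃ b : R, φ b ≠ 0 ∧ ∀ c ∈ s, ∃ a : R, φ b * c = φ a := by
  classical
  induction s using Finset.induction_on with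
  | empty => exact ⟨1, by simp, by simp⟩
  | insert c s hcs ih =>
    obtain ⟨b, hb, hs⟩ := ih
    obtain ⟨a', b', hb', hc⟩ := hφ c
    refine ⟨b * b', by rw [map_mul]; exact mul_ne_zero hb hb', ?_⟩
    intro c₀ hc₀
    rw [Finset.mem_insert] at hc₀
    rcases hc₀ with rfl | hc₀
    · refine ⟨b * a', ?_⟩
      rw [hc, map_mul, map_mul]
      field_simp
    · obtain ⟨a₀, ha₀⟩ := hs c₀ hc₀
      refine ⟨b' * a₀, ?_⟩
      rw [map_mul, map_mul, ← ha₀]
      ring

set_option maxHeartbeats 1000000 in
theorem exists_etale_extension {L : Type u} [Field L] [Algebra κ L] [FiniteDimensional κ L]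
    [Algebra.IsSeparable κ L]
    (hφ : ∀ c : κ, ∃ a b : R, φ b ≠ 0 ∧ c = φ a / φ b) :
    ∃ (R' : Type u) (_ : CommRing R') (_ : Algebra R R') (_ : Algebra.Etale R R') (ψ : R' →+* L),
      (∀ r, ψ (algebraMap R R' r) = algebraMap κ L (φ r)) ∧
      ∀ y : L, ∃ a b : R', ψ b ≠ 0 ∧ y = ψ a / ψ b := by
  classical
  obtain ⟨α, hα⟩ := Field.exists_primitive_element κ L
  have hαint : IsIntegral κ α := Algebra.IsIntegral.isIntegral α
  have hgm : (minpoly κ α).Monic := minpoly.monic hαint
  -- denominators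
  obtain ⟨b, hb, hcoef⟩ := common_denom φ hφ
    ((Finset.range ((minpoly κ α).natDegree + 1)).image (minpoly κ α).coeff)
  have hcoef' : ∀ i, ∃ a : R, φ b * (minpoly κ α).coeff i = φ a := by
    intro i
    by_cases hi : i ≤ (minpoly κ α).natDegree
    · exact hcoef _ (Finset.mem_image.mpr ⟨i, Finset.mem_range.mpr (Nat.lt_succ_of_le hi), rfl⟩)
    · refine ⟨0, ?_⟩
      rw [coeff_eq_zero_of_natDegree_lt (not_le.mp hi), mul_zero, map_zero]
  choose a ha using hcoef'
  have hdL : algebraMap κ L (φ b) ≠ 0 := by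
    rwa [Ne, map_eq_zero]
  -- the polynomial h
  have hhm : (scaleRoots (minpoly κ α) (φ b)).Monic := (monic_scaleRoots_iff (φ b)).mpr hgm
  have hhdeg : (scaleRoots (minpoly κ α) (φ b)).natDegree = (minpoly κ α).natDegree :=
    natDegree_scaleRoots _ _
  have hhroot : aeval (algebraMap κ L (φ b) * α) (scaleRoots (minpoly κ α) (φ b)) = 0 :=
    scaleRoots_aeval_eq_zero (minpoly.aeval κ α)
  -- β is primitive
  have hβtop : IntermediateField.adjoin κ {algebraMap κ L (φ b) * α} = ⊤ := by
    rw [eq_top_iff, ← hα, IntermediateField.adjoin_simple_le_iff]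
    have : α = (algebraMap κ L (φ b))⁻¹ * (algebraMap κ L (φ b) * α) := by
      field_simp
    have hmem : (algebraMap κ L (φ b))⁻¹ * (algebraMap κ L (φ b) * α) ∈
        IntermediateField.adjoin κ {algebraMap κ L (φ b) * α} :=
      mul_mem (inv_mem (algebraMap_mem _ (φ b))) (IntermediateField.mem_adjoin_simple_self κ _)
    rwa [← this] at hmem
  have hβint : IsIntegral κ (algebraMap κ L (φ b) * α) := Algebra.IsIntegral.isIntegral _
  have hmin : minpoly κ (algebraMap κ L (φ b) * α) = scaleRoots (minpoly κ α) (φ b) := by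
    have hdeg : (minpoly κ (algebraMap κ L (φ b) * α)).natDegree = (minpoly κ α).natDegree := by
      have h1 := IntermediateField.adjoin.finrank hβint
      have h2 := IntermediateField.adjoin.finrank hαint
      rw [hβtop] at h1
      rw [hα] at h2
      rw [← h1, h2]
    exact (Polynomial.eq_of_monic_of_dvd_of_natDegree_le (minpoly.monic hβint) hhm
      (minpoly.dvd κ _ hhroot) (by rw [hdeg, hhdeg])).symm
  have hsep : (scaleRoots (minpoly κ α) (φ b)).Separable :=
    hmin ▸ Algebra.IsSeparable.isSeparable κ _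
  -- the lift G
  let G : R[X] := X ^ (minpoly κ α).natDegree +
    ∑ i ∈ Finset.range (minpoly κ α).natDegree,
      C (a i * b ^ ((minpoly κ α).natDegree - 1 - i)) * X ^ i
  have hGm : G.Monic := by
    apply monic_X_pow_add
    refine (degree_sum_le _ _).trans_lt ?_
    rw [Finset.sup_lt_iff (WithBot.bot_lt_coe _)]
    intro i hi
    refine (degree_C_mul_X_pow_le _ _).trans_lt ?_
    exact_mod_cast Finset.mem_range.mp hi
  have hGmap : G.map φ = scaleRoots (minpoly κ α) (φ b) := by
    ext m
    rw [coeff_map, coeff_scaleRoots]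
    simp only [G, coeff_add, coeff_X_pow, finset_sum_coeff, coeff_C_mul_X_pow]
    rw [Finset.sum_ite_eq]
    rcases lt_trichotomy m (minpoly κ α).natDegree with hm | hm | hm
    · rw [if_neg hm.ne, if_pos (Finset.mem_range.mpr hm), zero_add, map_mul, map_pow, ← ha m]
      have : (minpoly κ α).natDegree - m = ((minpoly κ α).natDegree - 1 - m) + 1 := by omega
      rw [this, pow_succ]
      ring
    · subst hm
      rw [if_pos rfl, if_neg (by simp), add_zero, map_one, Nat.sub_self, pow_zero, mul_one,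
        hgm.coeff_natDegree]
    · rw [if_neg hm.ne', if_neg (by simp; omega), add_zero, map_zero,
        coeff_eq_zero_of_natDegree_lt hm, zero_mul]
  -- algebra structures
  letI : Algebra R κ := φ.toAlgebra
  letI : Algebra R L := ((algebraMap κ L).comp φ).toAlgebra
  haveI : IsScalarTower R κ L := IsScalarTower.of_algebraMap_eq (fun _ => rfl)
  have hGroot : aeval (algebraMap κ L (φ b) * α) G = 0 := by
    rw [← aeval_map_algebraMap κ _ G]
    show aeval _ (G.map φ) = 0
    rw [hGmap]
    exact hhroot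
  have hGder : IsUnit (aeval (algebraMap κ L (φ b) * α) (derivative G)) := by
    rw [← aeval_map_algebraMap κ _ (derivative G)]
    show IsUnit (aeval _ ((derivative G).map φ))
    rw [← derivative_map, hGmap]
    exact isUnit_iff_ne_zero.mpr (hsep.aeval_derivative_ne_zero hhroot)
  let P : StandardEtalePair R := ⟨G, hGm, derivative G, ⟨1, 0, 1, by simp⟩⟩
  have hP : P.HasMap (algebraMap κ L (φ b) * α) := ⟨hGroot, hGder⟩
  let ψ : P.Ring →ₐ[R] L := P.lift _ hP
  refine ⟨P.Ring, inferInstance, inferInstance, inferInstance, (ψ : P.Ring →+* L),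
    fun r => ψ.commutes r, ?_⟩
  -- generation
  let F : Subalgebra κ L :=
    { carrier := {y | ∃ a b : P.Ring, ψ b ≠ 0 ∧ y = ψ a / ψ b}
      mul_mem' := by
        rintro _ _ ⟨a₁, b₁, hb₁, rfl⟩ ⟨a₂, b₂, hb₂, rfl⟩
        exact ⟨a₁ * a₂, b₁ * b₂, by rw [map_mul]; exact mul_ne_zero hb₁ hb₂,
          by rw [map_mul, map_mul, div_mul_div_comm]⟩
      add_mem' := by
        rintro _ _ ⟨a₁, b₁, hb₁, rfl⟩ ⟨a₂, b₂, hb₂, rfl⟩
        exact ⟨a₁ * b₂ + b₁ * a₂, b₁ * b₂, by rw [map_mul]; exact mul_ne_zero hb₁ hb₂,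
          by rw [map_add, map_mul, map_mul, map_mul, div_add_div _ _ hb₁ hb₂]⟩
      algebraMap_mem' := by
        intro c
        obtain ⟨a₀, b₀, hb₀, rfl⟩ := hφ c
        refine ⟨algebraMap R P.Ring a₀, algebraMap R P.Ring b₀, ?_, ?_⟩
        · rw [ψ.commutes]
          show algebraMap κ L (φ b₀) ≠ 0
          rwa [Ne, map_eq_zero]
        · rw [ψ.commutes, ψ.commutes, map_div₀]
          rfl }
  have hβF : algebraMap κ L (φ b) * α ∈ F :=
    ⟨P.X, 1, by simp, by simp [ψ]⟩
  have hle : Algebra.adjoin κ {algebraMap κ L (φ b) * α} ≤ F :=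
    Algebra.adjoin_le (Set.singleton_subset_iff.mpr hβF)
  have htop : Algebra.adjoin κ {algebraMap κ L (φ b) * α} = ⊤ := by
    rw [← IntermediateField.adjoin_simple_toSubalgebra_of_isAlgebraic hβint.isAlgebraic, hβtop,
      IntermediateField.top_toSubalgebra]
  intro y
  exact hle (htop ▸ Algebra.mem_top)

end Ring

section Scheme
open CategoryTheory CategoryTheory.Limits AlgebraicGeometry

/-- every element of the residue field is a fraction of sections over an affine open -/
lemma evaluation_fraction {S : Scheme.{u}} {W : S.Opens} (hW : IsAffineOpen W) (s : S) (hs : s ∈ W)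
    (c : S.residueField s) :
    ∃ a b : Γ(S, W), (S.evaluation W s hs).hom b ≠ 0 ∧
      c = (S.evaluation W s hs).hom a / (S.evaluation W s hs).hom b := by
  obtain ⟨z, rfl⟩ := S.residue_surjective s c
  letI := S.presheaf.algebra_section_stalk ⟨s, hs⟩
  haveI := hW.isLocalization_stalk ⟨s, hs⟩
  obtain ⟨⟨a, b⟩, hab⟩ := IsLocalization.surj (hW.primeIdealOf ⟨s, hs⟩).asIdeal.primeCompl z
  have hunit : IsUnit (algebraMap Γ(S, W) (S.presheaf.stalk s) (b : Γ(S, W))) :=
    IsLocalization.map_units _ b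
  have hb0 : (S.evaluation W s hs).hom (b : Γ(S, W)) ≠ 0 := by
    have : IsUnit ((S.residue s).hom (algebraMap Γ(S, W) (S.presheaf.stalk s) (b : Γ(S, W)))) :=
      hunit.map _
    exact this.ne_zero
  refine ⟨a, b, hb0, ?_⟩
  rw [eq_div_iff hb0]
  have := congrArg (S.residue s).hom hab
  rw [map_mul] at this
  exact this

theorem exists_etale_nbhd {S : Scheme.{u}} (s : S) (L : Type u) [Field L]
    [Algebra (S.residueField s) L] [FiniteDimensional (S.residueField s) L]
    [Algebra.IsSeparable (S.residueField s) L] :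
    ∃ (U : Scheme.{u}) (g : U ⟶ S) (u : U), Etale g ∧
      ∃ θ : U.residueField u →+* L, Function.Bijective θ ∧
        Spec.map (CommRingCat.ofHom θ) ≫ U.fromSpecResidueField u ≫ g =
          Spec.map (CommRingCat.ofHom (algebraMap (S.residueField s) L)) ≫
            S.fromSpecResidueField s := by
  obtain ⟨W, hW, hs⟩ : ∃ W : S.Opens, IsAffineOpen W ∧ s ∈ W := by
    obtain ⟨_, ⟨W, hW, rfl⟩, hsW, -⟩ := S.isBasis_affineOpens.exists_subset_of_mem_open
      (Set.mem_univ s) isOpen_univ
    exact ⟨W, hW, hsW⟩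
  obtain ⟨R', _, _, hEt, ψ, hψ, hgen⟩ := exists_etale_extension (S.evaluation W s hs).hom (L := L)
    (evaluation_fraction hW s hs)
  let t : Spec (CommRingCat.of L) ⟶ Spec (CommRingCat.of R') := Spec.map (CommRingCat.ofHom ψ)
  let g : Spec (CommRingCat.of R') ⟶ S :=
    Spec.map (CommRingCat.ofHom (algebraMap Γ(S, W) R')) ≫ hW.fromSpec
  let u := t (IsLocalRing.closedPoint L)
  let θc : (Spec (CommRingCat.of R')).residueField u ⟶ CommRingCat.of L :=
    Scheme.descResidueField (Scheme.stalkClosedPointTo t)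
  have hθt : Spec.map θc ≫ (Spec (CommRingCat.of R')).fromSpecResidueField u = t :=
    Scheme.descResidueField_stalkClosedPointTo_fromSpecResidueField L _ t
  refine ⟨Spec (CommRingCat.of R'), g, u, ?_, θc.hom, ?_, ?_⟩
  · haveI : Etale (Spec.map (CommRingCat.ofHom (algebraMap Γ(S, W) R'))) := by
      rw [HasRingHomProperty.Spec_iff (P := @Etale)]
      exact RingHom.etale_algebraMap.mpr hEt
    infer_instance
  · refine ⟨θc.hom.injective, ?_⟩
    have h3 : (Spec (CommRingCat.of R')).Γevaluation u ≫ θc =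
        (Scheme.ΓSpecIso (CommRingCat.of R')).hom ≫ CommRingCat.ofHom ψ := by
      have h1 := Scheme.germ_stalkClosedPointTo_Spec (CommRingCat.ofHom ψ)
      have h2 := Scheme.residue_descResidueField (Scheme.stalkClosedPointTo t)
      rw [← h1]
      show ((Spec (CommRingCat.of R')).presheaf.germ ⊤ u trivial ≫
        (Spec (CommRingCat.of R')).residue u) ≫ θc = _
      rw [Category.assoc, h2]
    have hkey : ∀ a : R', ψ a = θc.hom ((Spec (CommRingCat.of R')).Γevaluation u
        ((Scheme.ΓSpecIso (CommRingCat.of R')).inv a)) := by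
      intro a
      have := ConcreteCategory.congr_hom h3 ((Scheme.ΓSpecIso (CommRingCat.of R')).inv a)
      rw [CommRingCat.comp_apply, CommRingCat.comp_apply, CommRingCat.hom_inv_apply] at this
      exact this.symm
    intro y
    obtain ⟨a, b, hb, rfl⟩ := hgen y
    refine ⟨((Spec (CommRingCat.of R')).Γevaluation u
        ((Scheme.ΓSpecIso (CommRingCat.of R')).inv a)) /
      ((Spec (CommRingCat.of R')).Γevaluation u
        ((Scheme.ΓSpecIso (CommRingCat.of R')).inv b)), ?_⟩
    rw [map_div₀, ← hkey, ← hkey]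
  · rw [← Category.assoc]
    change (Spec.map θc ≫ (Spec (CommRingCat.of R')).fromSpecResidueField u) ≫ g = _
    rw [hθt]
    show Spec.map (CommRingCat.ofHom ψ) ≫
      Spec.map (CommRingCat.ofHom (algebraMap Γ(S, W) R')) ≫ hW.fromSpec = _
    rw [← Category.assoc, ← Spec.map_comp]
    have : CommRingCat.ofHom (algebraMap Γ(S, W) R') ≫ CommRingCat.ofHom ψ =
        S.evaluation W s hs ≫ CommRingCat.ofHom (algebraMap (S.residueField s) L) := by
      ext r
      exact hψ r
    rw [this, Spec.map_comp, Category.assoc]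
    congr 1
    rw [← Scheme.germ_residue, Spec.map_comp, Category.assoc]
    show _ ≫ hW.fromSpecStalk hs = _
    rw [hW.fromSpecStalk_eq_fromSpecStalk]
    rfl

end Scheme

end Groth.Agent.Lib.Helper11.EtaleNbhd
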