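import Mathlib
import Groth.Prelude.Def_Grpd

/-!
# Helper11: T-point calculus for groupoid schemes (`Grpd.GroupoidScheme`)
-/

set_option autoImplicit false
universe u
open CategoryTheory CategoryTheory.Limits AlgebraicGeometry

namespace Groth.Agent.Lib.Helper11.GrpdLib

variable {S : Scheme.{u}} (G : Grpd.GroupoidScheme S)

/-- composition of `T`-points -/
noncomputable def comp {T : Scheme.{u}} (α β : T ⟶ G.R) (h : α ≫ G.s = β ≫ G.t) : T ⟶ G.R :=
  pullback.lift α β h ≫ G.c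

variable {G}

lemma comp_congr {T : Scheme.{u}} {α α' β β' : T ⟶ G.R} (hα : α = α') (hβ : β = β')
    (h : α ≫ G.s = β ≫ G.t) (h' : α' ≫ G.s = β' ≫ G.t) :
    comp G α β h = comp G α' β' h' := by
  subst hα hβ; rfl

lemma comp_s {T : Scheme.{u}} (α β : T ⟶ G.R) (h : α ≫ G.s = β ≫ G.t) :
    comp G α β h ≫ G.s = β ≫ G.s := G.comp_s α β h

lemma comp_t {T : Scheme.{u}} (α β : T ⟶ G.R) (h : α ≫ G.s = β ≫ G.t) :
    comp G α β h ≫ G.t = α ≫ G.t := G.comp_t α β h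

lemma precomp_comp {T T' : Scheme.{u}} (f : T' ⟶ T) (α β : T ⟶ G.R) (h : α ≫ G.s = β ≫ G.t)
    (h' : (f ≫ α) ≫ G.s = (f ≫ β) ≫ G.t) :
    f ≫ comp G α β h = comp G (f ≫ α) (f ≫ β) h' := by
  unfold comp
  rw [← Category.assoc]
  congr 1
  apply pullback.hom_ext
  · rw [Category.assoc, pullback.lift_fst, pullback.lift_fst]
  · rw [Category.assoc, pullback.lift_snd, pullback.lift_snd]

lemma comp_assoc {T : Scheme.{u}} (α β γ : T ⟶ G.R) (h₁ : α ≫ G.s = β ≫ G.t)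
    (h₂ : β ≫ G.s = γ ≫ G.t) (h₃ : comp G α β h₁ ≫ G.s = γ ≫ G.t)
    (h₄ : α ≫ G.s = comp G β γ h₂ ≫ G.t) :
    comp G (comp G α β h₁) γ h₃ = comp G α (comp G β γ h₂) h₄ :=
  G.assoc α β γ h₁ h₂

lemma comp_e {T : Scheme.{u}} (α β : T ⟶ G.R) (hβ : β = α ≫ G.s ≫ G.e)
    (h : α ≫ G.s = β ≫ G.t) : comp G α β h = α := by
  subst hβ; exact G.comp_e α

lemma e_comp {T : Scheme.{u}} (α β : T ⟶ G.R) (hα : α = β ≫ G.t ≫ G.e)
    (h : α ≫ G.s = β ≫ G.t) : comp G α β h = β := by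
  subst hα; exact G.e_comp β

/-- `α ∘ (α⁻¹ ∘ β) = β` when `t α = t β`. -/
lemma comp_inv_comp {T : Scheme.{u}} (α β : T ⟶ G.R) (h : α ≫ G.t = β ≫ G.t)
    (h1 : (α ≫ G.i) ≫ G.s = β ≫ G.t) (h2 : α ≫ G.s = comp G (α ≫ G.i) β h1 ≫ G.t) :
    comp G α (comp G (α ≫ G.i) β h1) h2 = β := by
  have h0 : α ≫ G.s = (α ≫ G.i) ≫ G.t := by rw [Category.assoc, G.i_t]
  have h3 : comp G α (α ≫ G.i) h0 ≫ G.s = β ≫ G.t := by
    rw [comp_s, Category.assoc, G.i_s, h]
  have e1 : comp G α (α ≫ G.i) h0 = β ≫ G.t ≫ G.e := by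
    rw [← Category.assoc, ← h, Category.assoc]; exact G.comp_i α
  rw [← comp_assoc α (α ≫ G.i) β h0 h1 h3 h2]
  exact e_comp _ _ e1 h3

/-- `α⁻¹ ∘ (α ∘ β) = β` when `s α = t β`. -/
lemma inv_comp_comp {T : Scheme.{u}} (α β : T ⟶ G.R) (h : α ≫ G.s = β ≫ G.t)
    (h2 : (α ≫ G.i) ≫ G.s = comp G α β h ≫ G.t) :
    comp G (α ≫ G.i) (comp G α β h) h2 = β := by
  have h0 : (α ≫ G.i) ≫ G.s = α ≫ G.t := by rw [Category.assoc, G.i_s]
  have h3 : comp G (α ≫ G.i) α h0 ≫ G.s = β ≫ G.t := by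
    rw [comp_s, h]
  have e1 : comp G (α ≫ G.i) α h0 = β ≫ G.t ≫ G.e := by
    rw [← Category.assoc, ← h, Category.assoc]; exact G.i_comp α
  rw [← comp_assoc (α ≫ G.i) α β h0 h h3 h2]
  exact e_comp _ _ e1 h3

/-- `(α ∘ β) ∘ β⁻¹ = α` when `s α = t β`. -/
lemma comp_comp_inv {T : Scheme.{u}} (α β : T ⟶ G.R) (h : α ≫ G.s = β ≫ G.t)
    (h3 : comp G α β h ≫ G.s = (β ≫ G.i) ≫ G.t) :
    comp G (comp G α β h) (β ≫ G.i) h3 = α := by
  have h0 : β ≫ G.s = (β ≫ G.i) ≫ G.t := by rw [Category.assoc, G.i_t]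
  have h4 : α ≫ G.s = comp G β (β ≫ G.i) h0 ≫ G.t := by
    rw [comp_t, h]
  have e1 : comp G β (β ≫ G.i) h0 = α ≫ G.s ≫ G.e := by
    rw [← Category.assoc, h, Category.assoc]; exact G.comp_i β
  rw [comp_assoc α β (β ≫ G.i) h h0 h3 h4]
  exact comp_e _ _ e1 h4

/-- `(a ∘ b⁻¹) ∘ b = a` when `s a = s b`. -/
lemma comp_inv_comp_right {T : Scheme.{u}} (a b : T ⟶ G.R) (h : a ≫ G.s = b ≫ G.s)
    (h1 : a ≫ G.s = (b ≫ G.i) ≫ G.t) (h3 : comp G a (b ≫ G.i) h1 ≫ G.s = b ≫ G.t) :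
    comp G (comp G a (b ≫ G.i) h1) b h3 = a := by
  have h0 : (b ≫ G.i) ≫ G.s = b ≫ G.t := by rw [Category.assoc, G.i_s]
  have h4 : a ≫ G.s = comp G (b ≫ G.i) b h0 ≫ G.t := by
    rw [comp_t, Category.assoc, G.i_t, h]
  have e1 : comp G (b ≫ G.i) b h0 = a ≫ G.s ≫ G.e := by
    rw [← Category.assoc, h, Category.assoc]; exact G.i_comp b
  rw [comp_assoc a (b ≫ G.i) b h1 h0 h3 h4]
  exact comp_e _ _ e1 h4

lemma c_eq : G.c = comp G (pullback.fst G.s G.t) (pullback.snd G.s G.t) pullback.condition := by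
  unfold comp
  have : pullback.lift (pullback.fst G.s G.t) (pullback.snd G.s G.t) pullback.condition = 𝟙 _ := by
    apply pullback.hom_ext <;> simp
  rw [this, Category.id_comp]

lemma c_s : G.c ≫ G.s = pullback.snd G.s G.t ≫ G.s := by
  have := comp_s (G := G) (pullback.fst G.s G.t) (pullback.snd G.s G.t) pullback.condition
  rwa [← c_eq] at this

lemma c_t : G.c ≫ G.t = pullback.fst G.s G.t ≫ G.t := by
  have := comp_t (G := G) (pullback.fst G.s G.t) (pullback.snd G.s G.t) pullback.condition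
  rwa [← c_eq] at this

lemma precomp_c {T : Scheme.{u}} (l : T ⟶ pullback G.s G.t)
    (h : (l ≫ pullback.fst G.s G.t) ≫ G.s = (l ≫ pullback.snd G.s G.t) ≫ G.t) :
    l ≫ G.c = comp G (l ≫ pullback.fst G.s G.t) (l ≫ pullback.snd G.s G.t) h := by
  have := precomp_comp (G := G) l (pullback.fst G.s G.t) (pullback.snd G.s G.t)
    pullback.condition h
  rwa [← c_eq] at this

/-- The square with sides `c`, `pr₂`, `s`, `s` is cartesian. -/
lemma isPullback_c_snd : IsPullback G.c (pullback.snd G.s G.t) G.s G.s := by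
  have hl : ∀ {T : Scheme.{u}} (a b : T ⟶ G.R) (_ : a ≫ G.s = b ≫ G.s),
      ∃ l : T ⟶ pullback G.s G.t, l ≫ G.c = a ∧ l ≫ pullback.snd G.s G.t = b ∧
        ∀ m : T ⟶ pullback G.s G.t, m ≫ G.c = a → m ≫ pullback.snd G.s G.t = b → m = l := by
    intro T a b h
    have h1 : a ≫ G.s = (b ≫ G.i) ≫ G.t := by rw [Category.assoc, G.i_t, h]
    have h3 : comp G a (b ≫ G.i) h1 ≫ G.s = b ≫ G.t := by
      rw [comp_s, Category.assoc, G.i_s]
    refine ⟨pullback.lift (comp G a (b ≫ G.i) h1) b h3, ?_, pullback.lift_snd _ _ _, ?_⟩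
    · exact comp_inv_comp_right a b h h1 h3
    · intro m hm1 hm2
      have hm : (m ≫ pullback.fst G.s G.t) ≫ G.s = (m ≫ pullback.snd G.s G.t) ≫ G.t := by
        rw [Category.assoc, Category.assoc, pullback.condition]
      have hm' : (m ≫ pullback.fst G.s G.t) ≫ G.s = b ≫ G.t := by rw [hm, hm2]
      have e0 : comp G (m ≫ pullback.fst G.s G.t) b hm' = a := by
        rw [← hm1, precomp_c m hm]
        exact comp_congr rfl hm2.symm _ _
      apply pullback.hom_ext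
      · rw [pullback.lift_fst]
        have h5 : comp G (m ≫ pullback.fst G.s G.t) b hm' ≫ G.s = (b ≫ G.i) ≫ G.t := by
          rw [comp_s, Category.assoc, G.i_t]
        have e1 := comp_comp_inv (m ≫ pullback.fst G.s G.t) b hm' h5
        rw [← e1]
        exact comp_congr e0 rfl _ _
      · rw [pullback.lift_snd, hm2]
  exact IsPullback.mk ⟨c_s⟩ ⟨PullbackCone.IsLimit.mk _
    (fun cone => (hl cone.fst cone.snd cone.condition).choose)
    (fun cone => (hl cone.fst cone.snd cone.condition).choose_spec.1)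
    (fun cone => (hl cone.fst cone.snd cone.condition).choose_spec.2.1)
    (fun cone m h1 h2 => (hl cone.fst cone.snd cone.condition).choose_spec.2.2 m h1 h2)⟩

/-- `φ = (pr₁, pr₁⁻¹ ∘ pr₂)` is an isomorphism `R ×_{t,t} R ≅ R ×_{s,t} R` with `φ ≫ c = pr₂`. -/
lemma isIso_phi (φ : pullback G.t G.t ⟶ pullback G.s G.t)
    (h1 : φ ≫ pullback.fst G.s G.t = pullback.fst G.t G.t)
    (hi : (pullback.fst G.t G.t ≫ G.i) ≫ G.s = pullback.snd G.t G.t ≫ G.t)
    (h2 : φ ≫ pullback.snd G.s G.t =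
      comp G (pullback.fst G.t G.t ≫ G.i) (pullback.snd G.t G.t) hi) :
    IsIso φ ∧ φ ≫ G.c = pullback.snd G.t G.t := by
  have hcond : pullback.fst G.t G.t ≫ G.t = pullback.snd G.t G.t ≫ G.t := pullback.condition
  have hφc : (φ ≫ pullback.fst G.s G.t) ≫ G.s = (φ ≫ pullback.snd G.s G.t) ≫ G.t := by
    rw [Category.assoc, Category.assoc, pullback.condition]
  have hA : pullback.fst G.t G.t ≫ G.s =
      comp G (pullback.fst G.t G.t ≫ G.i) (pullback.snd G.t G.t) hi ≫ G.t := by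
    rw [comp_t, Category.assoc, G.i_t]
  have key : φ ≫ G.c = pullback.snd G.t G.t := by
    rw [precomp_c φ hφc, comp_congr h1 h2 hφc hA]
    exact comp_inv_comp _ _ hcond hi hA
  refine ⟨?_, key⟩
  obtain ⟨ψ, hψ1, hψ2⟩ : ∃ ψ : pullback G.s G.t ⟶ pullback G.t G.t,
      ψ ≫ pullback.fst G.t G.t = pullback.fst G.s G.t ∧ ψ ≫ pullback.snd G.t G.t = G.c :=
    ⟨pullback.lift (pullback.fst G.s G.t) G.c (by rw [c_t]), pullback.lift_fst _ _ _,
      pullback.lift_snd _ _ _⟩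
  refine ⟨⟨ψ, ?_, ?_⟩⟩
  · apply pullback.hom_ext
    · rw [Category.assoc, hψ1, h1, Category.id_comp]
    · rw [Category.assoc, hψ2, key, Category.id_comp]
  · apply pullback.hom_ext
    · rw [Category.assoc, h1, hψ1, Category.id_comp]
    · rw [Category.assoc, h2, Category.id_comp]
      have e1 : ψ ≫ (pullback.fst G.t G.t ≫ G.i) = pullback.fst G.s G.t ≫ G.i := by
        rw [← Category.assoc, hψ1]
      have e2 : ψ ≫ pullback.snd G.t G.t =
          comp G (pullback.fst G.s G.t) (pullback.snd G.s G.t) pullback.condition := by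
        rw [hψ2]; exact c_eq
      have hB : (ψ ≫ (pullback.fst G.t G.t ≫ G.i)) ≫ G.s = (ψ ≫ pullback.snd G.t G.t) ≫ G.t := by
        rw [Category.assoc ψ (pullback.fst G.t G.t ≫ G.i) G.s, hi, Category.assoc]
      have hC : (pullback.fst G.s G.t ≫ G.i) ≫ G.s =
          comp G (pullback.fst G.s G.t) (pullback.snd G.s G.t) pullback.condition ≫ G.t := by
        rw [comp_t, Category.assoc, G.i_s]
      rw [precomp_comp ψ _ _ hi hB, comp_congr e1 e2 hB hC]
      exact inv_comp_comp _ _ pullback.condition hC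

/-- `(α⁻¹)⁻¹ = α` -/
lemma inv_inv {T : Scheme.{u}} (α : T ⟶ G.R) : (α ≫ G.i) ≫ G.i = α := by
  have h : α ≫ G.s = (α ≫ G.i) ≫ G.t := by rw [Category.assoc, G.i_t]
  have h3 : comp G α (α ≫ G.i) h ≫ G.s = ((α ≫ G.i) ≫ G.i) ≫ G.t := by
    rw [comp_s, Category.assoc (α ≫ G.i), G.i_t]
  have e1 := comp_comp_inv α (α ≫ G.i) h h3
  have e2 : comp G α (α ≫ G.i) h = ((α ≫ G.i) ≫ G.i) ≫ G.t ≫ G.e := by
    have : ((α ≫ G.i) ≫ G.i) ≫ G.t = α ≫ G.t := by
      rw [Category.assoc (α ≫ G.i), G.i_t, Category.assoc, G.i_s]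
    rw [← Category.assoc, this, Category.assoc]
    exact G.comp_i α
  exact (e_comp _ _ e2 h3).symm.trans e1

lemma i_i : G.i ≫ G.i = 𝟙 G.R := by
  have := inv_inv (G := G) (𝟙 G.R)
  rwa [Category.id_comp] at this

lemma isIso_i : IsIso G.i := ⟨⟨G.i, i_i, i_i⟩⟩

/-- The square with sides `c`, `pr₁`, `t`, `t` is cartesian. -/
lemma isPullback_c_fst : IsPullback G.c (pullback.fst G.s G.t) G.t G.t := by
  have hl : ∀ {T : Scheme.{u}} (a b : T ⟶ G.R) (_ : a ≫ G.t = b ≫ G.t),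
      ∃ l : T ⟶ pullback G.s G.t, l ≫ G.c = a ∧ l ≫ pullback.fst G.s G.t = b ∧
        ∀ m : T ⟶ pullback G.s G.t, m ≫ G.c = a → m ≫ pullback.fst G.s G.t = b → m = l := by
    intro T a b h
    have h1 : (b ≫ G.i) ≫ G.s = a ≫ G.t := by rw [Category.assoc, G.i_s, h]
    have h2 : b ≫ G.s = comp G (b ≫ G.i) a h1 ≫ G.t := by
      rw [comp_t, Category.assoc, G.i_t]
    refine ⟨pullback.lift b (comp G (b ≫ G.i) a h1) h2, ?_, pullback.lift_fst _ _ _, ?_⟩
    · exact comp_inv_comp b a h.symm h1 h2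
    · intro m hm1 hm2
      have hm : (m ≫ pullback.fst G.s G.t) ≫ G.s = (m ≫ pullback.snd G.s G.t) ≫ G.t := by
        rw [Category.assoc, Category.assoc, pullback.condition]
      have hm' : b ≫ G.s = (m ≫ pullback.snd G.s G.t) ≫ G.t := by rw [← hm2, hm]
      have e0 : comp G b (m ≫ pullback.snd G.s G.t) hm' = a := by
        rw [← hm1, precomp_c m hm]
        exact comp_congr hm2.symm rfl _ _
      apply pullback.hom_ext
      · rw [pullback.lift_fst, hm2]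
      · rw [pullback.lift_snd]
        have h5 : (b ≫ G.i) ≫ G.s = comp G b (m ≫ pullback.snd G.s G.t) hm' ≫ G.t := by
          rw [comp_t, Category.assoc, G.i_s]
        have e1 := inv_comp_comp b (m ≫ pullback.snd G.s G.t) hm' h5
        rw [← e1]
        exact comp_congr rfl e0 _ _
  exact IsPullback.mk ⟨c_t⟩ ⟨PullbackCone.IsLimit.mk _
    (fun cone => (hl cone.fst cone.snd cone.condition).choose)
    (fun cone => (hl cone.fst cone.snd cone.condition).choose_spec.1)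
    (fun cone => (hl cone.fst cone.snd cone.condition).choose_spec.2.1)
    (fun cone m h1 h2 => (hl cone.fst cone.snd cone.condition).choose_spec.2.2 m h1 h2)⟩

/-! ### Points -/

lemma s_c_apply (z : ↑(pullback G.s G.t)) : G.s (G.c z) = G.s (pullback.snd G.s G.t z) := by
  rw [← Scheme.Hom.comp_apply, c_s, Scheme.Hom.comp_apply]

lemma t_c_apply (z : ↑(pullback G.s G.t)) : G.t (G.c z) = G.t (pullback.fst G.s G.t z) := by
  rw [← Scheme.Hom.comp_apply, c_t, Scheme.Hom.comp_apply]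

lemma s_i_apply (r : G.R) : G.s (G.i r) = G.t r := by
  rw [← Scheme.Hom.comp_apply, G.i_s]

lemma t_i_apply (r : G.R) : G.t (G.i r) = G.s r := by
  rw [← Scheme.Hom.comp_apply, G.i_t]

lemma s_e_apply (x : G.U) : G.s (G.e x) = x := by
  rw [← Scheme.Hom.comp_apply, G.e_s]; rfl

lemma t_e_apply (x : G.U) : G.t (G.e x) = x := by
  rw [← Scheme.Hom.comp_apply, G.e_t]; rfl

/-- composable points compose -/
lemma exists_comp_point (r r' : G.R) (h : G.s r = G.t r') :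
    ∃ r'' : G.R, G.t r'' = G.t r ∧ G.s r'' = G.s r' := by
  obtain ⟨z, hz1, hz2⟩ := Scheme.Pullback.exists_preimage_pullback r r' h
  exact ⟨G.c z, by rw [t_c_apply, hz1], by rw [s_c_apply, hz2]⟩

/-- `t (s⁻¹ W)` is set-theoretically invariant. -/
lemma preimage_image_invariant (W : Set G.U) :
    ⇑G.s ⁻¹' (⇑G.t '' (⇑G.s ⁻¹' W)) = ⇑G.t ⁻¹' (⇑G.t '' (⇑G.s ⁻¹' W)) := by
  ext r
  simp only [Set.mem_preimage, Set.mem_image]
  constructor
  · rintro ⟨r', hr'W, hr'⟩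
    obtain ⟨r'', h1, h2⟩ := exists_comp_point r r' hr'.symm
    exact ⟨r'', by rw [h2]; exact hr'W, h1⟩
  · rintro ⟨r', hr'W, hr'⟩
    obtain ⟨r'', h1, h2⟩ := exists_comp_point (G.i r) r' (by rw [s_i_apply, hr'])
    exact ⟨r'', by rw [h2]; exact hr'W, by rw [h1, t_i_apply]⟩

end Groth.Agent.Lib.Helper11.GrpdLib
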