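import Mathlib
import Groth.Prelude.Def_Flat

/-!
# Ring-level universal homeomorphisms (helper11)

`UH φ` : ring-level characterisation of `FlatMor.IsUnivHomeo (Spec.map (CommRingCat.ofHom φ))`:
`φ` integral, `ker φ ≤ nilradical`, and field-valued points of `B` are determined by their restriction
to `A`.

`ResTriv φ` : ring-level form of "all residue field maps of `Spec φ` are surjective".
-/

set_option autoImplicit false
universe u
open CategoryTheory AlgebraicGeometry

namespace Groth.Agent.Lib.Helper11.UHRing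

theorem isUnivHomeo_iff {X Y : Scheme.{u}} (f : X ⟶ Y) :
    FlatMor.IsUnivHomeo f ↔ UniversallyClosed f ∧ UniversallyInjective f ∧ Surjective f := by
  constructor
  · intro h
    refine ⟨?_, ?_, ?_⟩
    · rw [universallyClosed_eq]
      intro X' Y' i₁ i₂ f' hpb
      exact (h i₁ i₂ f' hpb : IsHomeomorph f').isClosedMap
    · rw [universallyInjective_eq]
      intro X' Y' i₁ i₂ f' hpb
      exact (h i₁ i₂ f' hpb : IsHomeomorph f').injective
    · have h' : IsHomeomorph f := MorphismProperty.universally_le _ _ h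
      exact ⟨h'.surjective⟩
  · rintro ⟨h1, h2, h3⟩ X' Y' i₁ i₂ f' hpb
    have hc : UniversallyClosed f' := MorphismProperty.of_isPullback hpb.flip h1
    have hi : UniversallyInjective f' := MorphismProperty.of_isPullback hpb.flip h2
    have hs : Surjective f' := MorphismProperty.of_isPullback hpb.flip h3
    show IsHomeomorph f'
    rw [isHomeomorph_iff_continuous_isClosedMap_bijective]
    exact ⟨f'.continuous, f'.isClosedMap, f'.injective, f'.surjective⟩

variable {A B : Type u} [CommRing A] [CommRing B]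

/-- Ring-level universal homeomorphism. -/
structure UH (φ : A →+* B) : Prop where
  integral : φ.IsIntegral
  ker_le : RingHom.ker φ ≤ nilradical A
  inj : ∀ (K : Type u) [Field K] (g₁ g₂ : B →+* K), g₁.comp φ = g₂.comp φ → g₁ = g₂

/-- integral + kernel in the nilradical ⇒ surjective on spectra. -/
theorem comap_surjective_of_integral (φ : A →+* B) (hint : φ.IsIntegral)
    (hker : RingHom.ker φ ≤ nilradical A) : Function.Surjective (PrimeSpectrum.comap φ) := by
  intro p
  algebraize [φ]
  haveI : Algebra.IsIntegral A B := ⟨hint⟩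
  have hle : RingHom.ker (algebraMap A B) ≤ p.asIdeal :=
    hker.trans (nilradical_le_prime p.asIdeal)
  obtain ⟨Q, _, hQ, hQ'⟩ := Ideal.exists_ideal_over_prime_of_isIntegral p.asIdeal (⊥ : Ideal B)
    (by simpa [RingHom.ker] using hle)
  exact ⟨⟨Q, hQ⟩, PrimeSpectrum.ext hQ'⟩

theorem universallyInjective_SpecMap_iff (φ : A →+* B) :
    UniversallyInjective (Spec.map (CommRingCat.ofHom φ)) ↔
      ∀ (K : Type u) [Field K] (g₁ g₂ : B →+* K), g₁.comp φ = g₂.comp φ → g₁ = g₂ := by
  have key := (tfae_universallyInjective (Spec.map (CommRingCat.ofHom φ))).out 0 1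
  refine key.trans ?_
  constructor
  · intro h K _ g₁ g₂ hg
    have := @h K _ (Spec.map (CommRingCat.ofHom g₁)) (Spec.map (CommRingCat.ofHom g₂)) (by
      simp only [← Spec.map_comp, ← CommRingCat.ofHom_comp, hg])
    have h2 := Spec.map_injective this
    exact congrArg CommRingCat.Hom.hom h2
  · intro h K _ g₁ g₂ hg
    simp only at hg
    rw [← Spec.map_preimage g₁, ← Spec.map_preimage g₂] at hg ⊢
    rw [← Spec.map_comp, ← Spec.map_comp] at hg
    have h' := Spec.map_injective hg
    congr 1
    ext1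
    apply h K
    have := congrArg CommRingCat.Hom.hom h'
    simpa using this

theorem isUnivHomeo_SpecMap_iff (φ : A →+* B) :
    FlatMor.IsUnivHomeo (Spec.map (CommRingCat.ofHom φ)) ↔ UH φ := by
  rw [isUnivHomeo_iff]
  constructor
  · rintro ⟨h1, h2, h3⟩
    have hint : IsIntegralHom (Spec.map (CommRingCat.ofHom φ)) :=
      IsIntegralHom.iff_universallyClosed_and_isAffineHom.mpr ⟨h1, inferInstance⟩
    refine ⟨IsIntegralHom.SpecMap_iff.mp hint, ?_, (universallyInjective_SpecMap_iff φ).mp h2⟩
    rw [← PrimeSpectrum.denseRange_comap_iff_ker_le_nilRadical]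
    exact (h3.surj : Function.Surjective (PrimeSpectrum.comap φ)).denseRange
  · rintro ⟨h1, h2, h3⟩
    haveI : IsIntegralHom (Spec.map (CommRingCat.ofHom φ)) := IsIntegralHom.SpecMap_iff.mpr h1
    exact ⟨inferInstance, (universallyInjective_SpecMap_iff φ).mpr h3,
      ⟨comap_surjective_of_integral φ h1 h2⟩⟩

/-! ### Residue fields of `Spec` -/

/-- evaluation of a ring element at a point of `Spec R`. -/
noncomputable def ev (R : CommRingCat.{u}) (x : Spec R) : R →+* (Spec R).residueField x :=
  ((Scheme.ΓSpecIso R).inv ≫ (Spec R).Γevaluation x).hom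

theorem ev_eq (R : CommRingCat.{u}) (x : Spec R) (r : R) :
    ev R x r = (Scheme.Spec.residueFieldIso R x).inv (algebraMap R x.asIdeal.ResidueField r) := by
  have h := Scheme.Spec.algebraMap_residueFieldIso_inv R x
  have h2 := congrArg (fun f => f.hom r) h
  exact h2.symm

theorem ev_eq_zero_iff (R : CommRingCat.{u}) (x : Spec R) (r : R) :
    ev R x r = 0 ↔ r ∈ x.asIdeal := by
  rw [ev_eq]
  have hinj : Function.Injective (Scheme.Spec.residueFieldIso R x).inv.hom := RingHom.injective _
  constructor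
  · intro h
    have : (Scheme.Spec.residueFieldIso R x).inv.hom (algebraMap R x.asIdeal.ResidueField r) =
        (Scheme.Spec.residueFieldIso R x).inv.hom 0 := by simpa using h
    exact Ideal.algebraMap_residueField_eq_zero.mp (hinj this)
  · intro h
    rw [Ideal.algebraMap_residueField_eq_zero.mpr h, map_zero]

theorem exists_ev_div (R : CommRingCat.{u}) (x : Spec R) (z : (Spec R).residueField x) :
    ∃ r s : R, s ∉ x.asIdeal ∧ z * ev R x s = ev R x r := by
  obtain ⟨w, hw⟩ : ∃ w, (Scheme.Spec.residueFieldIso R x).inv w = z :=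
    ⟨(Scheme.Spec.residueFieldIso R x).hom z, by
      rw [← CommRingCat.comp_apply, Iso.hom_inv_id]; rfl⟩
  obtain ⟨l, hl⟩ := IsLocalRing.residue_surjective (R := Localization.AtPrime x.asIdeal) w
  obtain ⟨⟨r, s⟩, hrs⟩ := IsLocalization.mk'_surjective x.asIdeal.primeCompl l
  refine ⟨r, s.1, s.2, ?_⟩
  rw [ev_eq, ev_eq, ← hw, ← map_mul]
  congr 1
  rw [← hl, ← hrs]
  show IsLocalRing.residue _ _ * IsLocalRing.residue _ (algebraMap R _ s.1) =
    IsLocalRing.residue _ (algebraMap R _ r)
  rw [← map_mul, IsLocalization.mk'_spec]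

theorem residueFieldMap_ev {R S : CommRingCat.{u}} (φ : R ⟶ S) (x : Spec S) (a : R) :
    (Spec.map φ).residueFieldMap x (ev R ((Spec.map φ) x) a) = ev S x (φ a) := by
  have h := Scheme.Γevaluation_naturality (Spec.map φ) x
  have h3 : (Scheme.ΓSpecIso R).inv ≫ (Spec.map φ).appTop = φ ≫ (Scheme.ΓSpecIso S).inv :=
    (Scheme.ΓSpecIso_inv_naturality φ).symm
  have h4 : ((Scheme.ΓSpecIso R).inv ≫ (Spec R).Γevaluation ((Spec.map φ) x)) ≫
      (Spec.map φ).residueFieldMap x = φ ≫ (Scheme.ΓSpecIso S).inv ≫ (Spec S).Γevaluation x := by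
    rw [Category.assoc, h, ← Category.assoc, h3, Category.assoc]
  exact congrArg (fun f => f.hom a) h4

/-- ring-level "trivial residue field extensions". -/
def ResTriv (φ : A →+* B) : Prop :=
  ∀ q : PrimeSpectrum B, ∀ b : B, ∃ a s : A, φ s ∉ q.asIdeal ∧ φ s * b - φ a ∈ q.asIdeal

theorem residueFieldMap_surjective_iff (φ : A →+* B) :
    (∀ x : Spec (CommRingCat.of B),
      Function.Surjective ((Spec.map (CommRingCat.ofHom φ)).residueFieldMap x)) ↔ ResTriv φ := by
  constructor
  · intro h q b
    obtain ⟨z, hz⟩ := h q (ev (CommRingCat.of B) q b)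
    obtain ⟨a, s, hs, hzs⟩ := exists_ev_div (CommRingCat.of A) _ z
    refine ⟨a, s, hs, ?_⟩
    have h1 := congrArg ((Spec.map (CommRingCat.ofHom φ)).residueFieldMap q) hzs
    rw [map_mul, hz, residueFieldMap_ev, residueFieldMap_ev] at h1
    rw [← ev_eq_zero_iff (CommRingCat.of B) q, map_sub, map_mul, sub_eq_zero, mul_comm]
    exact h1
  · intro h q z
    obtain ⟨b, t, ht, hz⟩ := exists_ev_div (CommRingCat.of B) q z
    obtain ⟨a, s, hs, hsb⟩ := h q b
    obtain ⟨a', s', hs', hsb'⟩ := h q t
    rw [← ev_eq_zero_iff (CommRingCat.of B) q, map_sub, map_mul, sub_eq_zero] at hsb hsb'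
    set E := ev (CommRingCat.of B) q
    set EA := ev (CommRingCat.of A) ((Spec.map (CommRingCat.ofHom φ)) q)
    set ρ := (Spec.map (CommRingCat.ofHom φ)).residueFieldMap q
    have hEs : E (φ s) ≠ 0 := fun h0 => hs ((ev_eq_zero_iff _ q _).mp h0)
    have hEs' : E (φ s') ≠ 0 := fun h0 => hs' ((ev_eq_zero_iff _ q _).mp h0)
    have hEt : E t ≠ 0 := fun h0 => ht ((ev_eq_zero_iff _ q _).mp h0)
    have hρ : ∀ a : A, ρ (EA a) = E (φ a) := fun a => residueFieldMap_ev (CommRingCat.ofHom φ) q a
    have hEa' : E (φ a') ≠ 0 := by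
      rw [← hsb']; exact mul_ne_zero hEs' hEt
    refine ⟨EA a * EA s' / (EA s * EA a'), ?_⟩
    rw [map_div₀, map_mul, map_mul, hρ, hρ, hρ, hρ]
    rw [div_eq_iff (mul_ne_zero hEs hEa')]
    have hz' : z = E b / E t := by rw [eq_div_iff hEt]; exact hz
    rw [hz', ← hsb, ← hsb']
    field_simp

end Groth.Agent.Lib.Helper11.UHRing
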