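import Mathlib
import Groth.Prelude.Def_Frob
import Groth.Prelude.Def_Flat
import Groth.Agent.Lib.Helper22.Frob
import Groth.Agent.Lib.Helper11.UHRing

/-!
# Perfections of schemes (helper11)
-/

set_option autoImplicit false
universe u
open CategoryTheory CategoryTheory.Limits AlgebraicGeometry FrobSch

namespace Groth.Agent.Lib.Helper11.PerfLib

variable (p : ℕ) [Fact p.Prime]

/-! ### perfect schemes -/

theorem inv_frob_apply {W : Scheme.{u}} [IsCharP W p] [IsIso (frob W p)] (y : W) :
    (inv (frob W p)) y = y := by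
  have h2 : (frob W p ≫ inv (frob W p)) y = y := by
    rw [IsIso.hom_inv_id]; rfl
  rw [Scheme.Hom.comp_apply] at h2
  exact h2

theorem isPerfect_of_isOpenImmersion {V W : Scheme.{u}} [IsCharP V p] [IsCharP W p]
    (j : V ⟶ W) [IsOpenImmersion j] (hW : IsPerfect W p) : IsPerfect V p := by
  haveI : IsIso (frob W p) := hW
  have hrange : Set.range (j ≫ inv (frob W p)) ⊆ Set.range j := by
    rintro _ ⟨x, rfl⟩
    refine ⟨x, ?_⟩
    rw [Scheme.Hom.comp_apply, inv_frob_apply]
  let H := IsOpenImmersion.lift j (j ≫ inv (frob W p)) hrange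
  have hH : H ≫ j = j ≫ inv (frob W p) := IsOpenImmersion.lift_fac _ _ _
  refine ⟨⟨H, ?_, ?_⟩⟩
  · rw [← cancel_mono j, Category.assoc, hH, frob_comp_assoc, IsIso.hom_inv_id, Category.comp_id,
      Category.id_comp]
  · rw [← cancel_mono j, Category.assoc, frob_comp, ← Category.assoc, hH, Category.assoc,
      IsIso.inv_hom_id, Category.comp_id, Category.id_comp]

theorem frob_Spec (R : Type u) [CommRing R] [CharP R p] :
    frob (Spec (CommRingCat.of R)) p = Spec.map (CommRingCat.ofHom (frobenius R p)) := by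
  apply ext_of_isAffine
  rw [← cancel_mono (Scheme.ΓSpecIso (CommRingCat.of R)).hom, Scheme.ΓSpecIso_naturality]
  ext s
  simp [frobenius_def]

theorem isPerfect_Spec (R : Type u) [CommRing R] [CharP R p] [PerfectRing R p] :
    IsPerfect (Spec (CommRingCat.of R)) p := by
  show IsIso (frob (Spec (CommRingCat.of R)) p)
  rw [frob_Spec]
  have : IsIso (CommRingCat.ofHom (frobenius R p)) :=
    (ConcreteCategory.isIso_iff_bijective _).mpr (bijective_frobenius R p)
  infer_instance

theorem pow_bijective_of_isPerfect (T : Scheme.{u}) [IsCharP T p] (hT : IsPerfect T p)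
    (U : T.Opens) : Function.Bijective (fun s : Γ(T, U) => s ^ p) := by
  haveI : IsIso (frob T p) := hT
  have hb := (ConcreteCategory.isIso_iff_bijective ((frob T p).app U)).mp inferInstance
  exact hb

omit [Fact p.Prime] in
theorem pow_pn_bijective {R : Type*} [Monoid R] (h : Function.Bijective (fun s : R => s ^ p))
    (n : ℕ) : Function.Bijective (fun s : R => s ^ p ^ n) := by
  have := h.iterate n
  rwa [pow_iterate] at this

theorem charP_Γ (T : Scheme.{u}) [IsCharP T p] [Nonempty T] : CharP Γ(T, ⊤) p := by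
  haveI : Nonempty (⊤ : T.Opens) := ⟨⟨Classical.arbitrary T, trivial⟩⟩
  haveI : Nontrivial Γ(T, ⊤) := Scheme.component_nontrivial T ⊤
  exact (CharP.charP_iff_prime_eq_zero Fact.out).2 IsCharP.natCast_eq_zero

/-! ### perfection of an affine scheme -/

theorem isPerfection_Spec_of (A : Type u) [CommRing A] [CharP A p] :
    IsPerfection (Spec.map (CommRingCat.ofHom (PerfectClosure.of A p))) p := by
  refine ⟨isPerfect_Spec p (PerfectClosure A p), ?_⟩
  intro T _ hT
  rcases isEmpty_or_nonempty T with hE | hN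
  · have hI : IsInitial T := isInitialOfIsEmpty
    constructor
    · intro g1 g2 _
      exact hI.hom_ext _ _
    · intro h
      exact ⟨hI.to _, hI.hom_ext _ _⟩
  · haveI hchar : CharP Γ(T, ⊤) p := charP_Γ p T
    haveI hperf : PerfectRing Γ(T, ⊤) p := ⟨pow_bijective_of_isPerfect p T hT ⊤⟩
    constructor
    · intro g1 g2 hg
      have hg' : g1 ≫ Spec.map (CommRingCat.ofHom (PerfectClosure.of A p)) =
          g2 ≫ Spec.map (CommRingCat.ofHom (PerfectClosure.of A p)) := hg
      apply ext_of_isAffine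
      have h1 := congrArg Scheme.Hom.appTop hg'
      rw [Scheme.Hom.comp_appTop, Scheme.Hom.comp_appTop] at h1
      have h3 : (CommRingCat.ofHom (PerfectClosure.of A p)) ≫
            ((Scheme.ΓSpecIso _).inv ≫ g1.appTop) =
          (CommRingCat.ofHom (PerfectClosure.of A p)) ≫
            ((Scheme.ΓSpecIso _).inv ≫ g2.appTop) := by
        rw [← Category.assoc, ← Category.assoc, Scheme.ΓSpecIso_inv_naturality, Category.assoc,
          Category.assoc, h1]
      have h4 : ((Scheme.ΓSpecIso _).inv ≫ g1.appTop).hom =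
          ((Scheme.ΓSpecIso _).inv ≫ g2.appTop).hom := by
        apply (PerfectClosure.lift A p Γ(T, ⊤)).symm.injective
        exact congrArg CommRingCat.Hom.hom h3
      have h5 : (Scheme.ΓSpecIso _).inv ≫ g1.appTop = (Scheme.ΓSpecIso _).inv ≫ g2.appTop :=
        CommRingCat.hom_ext h4
      exact (cancel_epi _).mp h5
    · intro h
      let ψ : A →+* Γ(T, ⊤) := ((Scheme.ΓSpecIso (CommRingCat.of A)).inv ≫ h.appTop).hom
      let ψ' : PerfectClosure A p →+* Γ(T, ⊤) := PerfectClosure.lift A p Γ(T, ⊤) ψ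
      have hψ : ψ'.comp (PerfectClosure.of A p) = ψ :=
        (PerfectClosure.lift A p Γ(T, ⊤)).symm_apply_apply ψ
      refine ⟨T.toSpecΓ ≫ Spec.map (CommRingCat.ofHom ψ'), ?_⟩
      show (T.toSpecΓ ≫ Spec.map (CommRingCat.ofHom ψ')) ≫
        Spec.map (CommRingCat.ofHom (PerfectClosure.of A p)) = h
      rw [Category.assoc, ← Spec.map_comp]
      have h6 : CommRingCat.ofHom (PerfectClosure.of A p) ≫ CommRingCat.ofHom ψ' =
          (Scheme.ΓSpecIso (CommRingCat.of A)).inv ≫ h.appTop := by
        apply CommRingCat.hom_ext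
        exact hψ
      rw [h6, Spec.map_comp, ← Scheme.toSpecΓ_naturality_assoc, toSpecΓ_SpecMap_ΓSpecIso_inv,
        Category.comp_id]

/-! ### formal properties of perfections -/

theorem perfection_unique {X P1 P2 : Scheme.{u}} [IsCharP P1 p] [IsCharP P2 p]
    (π1 : P1 ⟶ X) (π2 : P2 ⟶ X) (h1 : IsPerfection π1 p) (h2 : IsPerfection π2 p) :
    ∃ e : P1 ≅ P2, e.hom ≫ π2 = π1 := by
  obtain ⟨a, ha⟩ := (h2.2 P1 h1.1).2 π1
  obtain ⟨b, hb⟩ := (h1.2 P2 h2.1).2 π2
  have ha' : a ≫ π2 = π1 := ha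
  have hb' : b ≫ π1 = π2 := hb
  refine ⟨⟨a, b, ?_, ?_⟩, ha'⟩
  · apply (h1.2 P1 h1.1).1
    show (a ≫ b) ≫ π1 = 𝟙 _ ≫ π1
    rw [Category.assoc, hb', ha', Category.id_comp]
  · apply (h2.2 P2 h2.1).1
    show (b ≫ a) ≫ π2 = 𝟙 _ ≫ π2
    rw [Category.assoc, ha', hb', Category.id_comp]

theorem isPerfection_comp_iso {X X' XP : Scheme.{u}} [IsCharP XP p] (π : XP ⟶ X)
    (hπ : IsPerfection π p) (e : X ⟶ X') [IsIso e] : IsPerfection (π ≫ e) p := by
  refine ⟨hπ.1, ?_⟩
  intro T _ hT
  constructor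
  · intro g1 g2 hg
    apply (hπ.2 T hT).1
    have hg' : g1 ≫ π ≫ e = g2 ≫ π ≫ e := hg
    rw [← Category.assoc, ← Category.assoc, cancel_mono] at hg'
    exact hg'
  · intro h
    obtain ⟨g, hg⟩ := (hπ.2 T hT).2 (h ≫ inv e)
    have hg' : g ≫ π = h ≫ inv e := hg
    refine ⟨g, ?_⟩
    show g ≫ π ≫ e = h
    rw [← Category.assoc, hg', Category.assoc, IsIso.inv_hom_id, Category.comp_id]

theorem isPerfection_pullback_snd {X Y YP : Scheme.{u}} [IsCharP YP p] (πY : YP ⟶ Y)
    (hY : IsPerfection πY p) (f : X ⟶ Y) [IsCharP (pullback πY f) p]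
    (hZ : IsPerfect (pullback πY f) p) : IsPerfection (pullback.snd πY f) p := by
  refine ⟨hZ, ?_⟩
  intro T _ hT
  constructor
  · intro g1 g2 hg
    have hg' : g1 ≫ pullback.snd πY f = g2 ≫ pullback.snd πY f := hg
    apply pullback.hom_ext
    · apply (hY.2 T hT).1
      show (g1 ≫ pullback.fst πY f) ≫ πY = (g2 ≫ pullback.fst πY f) ≫ πY
      rw [Category.assoc, Category.assoc, pullback.condition, ← Category.assoc, ← Category.assoc,
        hg']
    · exact hg'
  · intro h
    obtain ⟨b, hb⟩ := (hY.2 T hT).2 (h ≫ f)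
    have hb' : b ≫ πY = h ≫ f := hb
    exact ⟨pullback.lift b h hb', pullback.lift_snd _ _ _⟩

theorem isPerfection_pullback_snd_of_isOpenImmersion {U Y YP : Scheme.{u}} [IsCharP YP p]
    (πY : YP ⟶ Y) (hY : IsPerfection πY p) (j : U ⟶ Y) [IsOpenImmersion j]
    [IsCharP (pullback πY j) p] : IsPerfection (pullback.snd πY j) p :=
  isPerfection_pullback_snd p πY hY j (isPerfect_of_isOpenImmersion p (pullback.fst πY j) hY.1)

/-! ### ring-level: p-radical maps are universal homeomorphisms -/

theorem uh_of_prad {A B : Type u} [CommRing A] [CommRing B] (φ : A →+* B) (hpB : (p : B) = 0)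
    (hpow : ∀ x : B, ∃ (n : ℕ) (y : A), φ y = x ^ p ^ n)
    (hker : RingHom.ker φ ≤ nilradical A) : UHRing.UH φ where
  integral := by
    intro x
    obtain ⟨n, y, hy⟩ := hpow x
    refine ⟨Polynomial.X ^ (p ^ n) - Polynomial.C y,
      Polynomial.monic_X_pow_sub_C y (pow_pos (Fact.out : p.Prime).pos n).ne', ?_⟩
    rw [Polynomial.eval₂_sub, Polynomial.eval₂_pow, Polynomial.eval₂_X, Polynomial.eval₂_C, hy,
      sub_self]
  ker_le := hker
  inj := by
    intro K _ g₁ g₂ h
    have hpK : (p : K) = 0 := by simpa using congrArg g₁ hpB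
    haveI : CharP K p := (CharP.charP_iff_prime_eq_zero Fact.out).2 hpK
    ext x
    obtain ⟨n, y, hy⟩ := hpow x
    have h1 : g₁ x ^ p ^ n = g₂ x ^ p ^ n := by
      rw [← map_pow, ← map_pow, ← hy]
      exact RingHom.congr_fun h y
    have h2 : (g₁ x - g₂ x) ^ p ^ n = 0 := by rw [sub_pow_char_pow, h1, sub_self]
    exact sub_eq_zero.mp ((pow_eq_zero_iff (pow_pos (Fact.out : p.Prime).pos n).ne').mp h2)

theorem specMap_of_props (A : Type u) [CommRing A] [CharP A p] :
    IsIntegralHom (Spec.map (CommRingCat.ofHom (PerfectClosure.of A p))) ∧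
      UniversallyInjective (Spec.map (CommRingCat.ofHom (PerfectClosure.of A p))) ∧
      Surjective (Spec.map (CommRingCat.ofHom (PerfectClosure.of A p))) := by
  have huh : UHRing.UH (PerfectClosure.of A p) :=
    uh_of_prad p _ (CharP.cast_eq_zero _ p) (IsPRadical.pow_mem (PerfectClosure.of A p) p)
      ((IsPRadical.ker_le (PerfectClosure.of A p) p).trans pNilradical_le_nilradical)
  have h1 := (UHRing.isUnivHomeo_SpecMap_iff _).mpr huh
  obtain ⟨-, h2, h3⟩ := (UHRing.isUnivHomeo_iff _).mp h1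
  refine ⟨?_, h2, h3⟩
  rw [IsIntegralHom.SpecMap_iff]
  exact huh.integral

omit [Fact p.Prime] in
theorem appTop_bijective {X Y : Scheme.{u}} (a : X ⟶ Y) [IsIso a] :
    Function.Bijective a.appTop := by
  haveI : IsIso a.appTop := inferInstanceAs (IsIso (a.app ⊤))
  exact ConcreteCategory.bijective_of_isIso a.appTop

omit [Fact p.Prime] in
/-- the `p`-radical property of a map on global sections is invariant under isomorphisms of
arrows. -/
theorem prad_of_iso {Z ZP Z' ZP' : Scheme.{u}} (ρ : ZP ⟶ Z) (σ : ZP' ⟶ Z') (a : ZP ⟶ ZP')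
    (b : Z' ⟶ Z) [IsIso a] [IsIso b] (h : a ≫ σ ≫ b = ρ)
    (hσ : ∀ x : Γ(ZP', ⊤), ∃ (n : ℕ) (y : Γ(Z', ⊤)), σ.appTop y = x ^ p ^ n) :
    ∀ x : Γ(ZP, ⊤), ∃ (n : ℕ) (y : Γ(Z, ⊤)), ρ.appTop y = x ^ p ^ n := by
  intro x
  obtain ⟨x1, hx1⟩ := (appTop_bijective a).2 x
  obtain ⟨n, y1, hy1⟩ := hσ x1
  obtain ⟨y, hy⟩ := (appTop_bijective b).2 y1
  refine ⟨n, y, ?_⟩
  subst h
  rw [Scheme.Hom.comp_appTop, Scheme.Hom.comp_appTop]
  show a.appTop (σ.appTop (b.appTop y)) = x ^ p ^ n
  rw [hy, hy1, map_pow, hx1]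

omit [Fact p.Prime] in
theorem prad_specMap {A B : CommRingCat.{u}} (φ : A ⟶ B)
    (hφ : ∀ x : B, ∃ (n : ℕ) (y : A), φ y = x ^ p ^ n) :
    ∀ x : Γ(Spec B, ⊤), ∃ (n : ℕ) (y : Γ(Spec A, ⊤)), (Spec.map φ).appTop y = x ^ p ^ n := by
  intro x
  obtain ⟨n, y, hy⟩ := hφ ((Scheme.ΓSpecIso B).hom x)
  refine ⟨n, (Scheme.ΓSpecIso A).inv y, ?_⟩
  apply (ConcreteCategory.bijective_of_isIso (Scheme.ΓSpecIso B).hom).1
  have h1 := congrArg (fun ψ => ψ.hom ((Scheme.ΓSpecIso A).inv y)) (Scheme.ΓSpecIso_naturality φ)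
  simp only [CommRingCat.hom_comp, RingHom.comp_apply] at h1
  rw [map_pow, ← hy]
  refine h1.trans ?_
  congr 1
  exact Iso.inv_hom_id_apply (C := CommRingCat) _ _

/-- structure of a perfection of an affine scheme -/
theorem affine_perfection {Z ZP : Scheme.{u}} [IsCharP Z p] [IsCharP ZP p] [IsAffine Z]
    (ρ : ZP ⟶ Z) (hρ : IsPerfection ρ p) :
    IsAffine ZP ∧ IsIntegralHom ρ ∧ UniversallyInjective ρ ∧ Surjective ρ ∧
      ∀ x : Γ(ZP, ⊤), ∃ (n : ℕ) (y : Γ(Z, ⊤)), ρ.appTop y = x ^ p ^ n := by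
  rcases isEmpty_or_nonempty Z with hE | hN
  · haveI : IsIso ρ := isIso_of_isEmpty ρ
    refine ⟨IsAffine.of_isIso ρ, inferInstance, inferInstance, inferInstance, ?_⟩
    intro x
    obtain ⟨y, hy⟩ := (appTop_bijective ρ).2 x
    exact ⟨0, y, by rw [hy, pow_zero, pow_one]⟩
  · haveI hc : CharP Γ(Z, ⊤) p := charP_Γ p Z
    have h1 : IsPerfection (Spec.map (CommRingCat.ofHom (PerfectClosure.of Γ(Z, ⊤) p)) ≫
        Z.isoSpec.inv) p := isPerfection_comp_iso p _ (isPerfection_Spec_of p Γ(Z, ⊤)) _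
    obtain ⟨e, he⟩ := perfection_unique p ρ _ hρ h1
    obtain ⟨k1, k2, k3⟩ := specMap_of_props p Γ(Z, ⊤)
    have hA : IsAffine ZP := IsAffine.of_isIso e.hom
    refine ⟨hA, ?_, ?_, ?_, ?_⟩
    · rw [← he, MorphismProperty.cancel_left_of_respectsIso (P := @IsIntegralHom),
        MorphismProperty.cancel_right_of_respectsIso (P := @IsIntegralHom)]
      exact k1
    · rw [← he, MorphismProperty.cancel_left_of_respectsIso (P := @UniversallyInjective),
        MorphismProperty.cancel_right_of_respectsIso (P := @UniversallyInjective)]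
      exact k2
    · rw [← he, MorphismProperty.cancel_left_of_respectsIso (P := @Surjective),
        MorphismProperty.cancel_right_of_respectsIso (P := @Surjective)]
      exact k3
    · refine prad_of_iso p ρ (Spec.map (CommRingCat.ofHom (PerfectClosure.of Γ(Z, ⊤) p))) e.hom
        Z.isoSpec.inv he ?_
      exact prad_specMap p _ (IsPRadical.pow_mem (PerfectClosure.of Γ(Z, ⊤) p) p)

/-- a perfection is integral, universally injective and surjective -/
theorem perfection_props {X XP : Scheme.{u}} [IsCharP X p] [IsCharP XP p] (π : XP ⟶ X)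
    (hπ : IsPerfection π p) : IsIntegralHom π ∧ UniversallyInjective π ∧ Surjective π := by
  have key : ∀ i, IsIntegralHom (pullback.snd π (X.affineCover.f i)) ∧
      UniversallyInjective (pullback.snd π (X.affineCover.f i)) ∧
      Surjective (pullback.snd π (X.affineCover.f i)) := by
    intro i
    haveI : IsCharP (X.affineCover.X i) p := IsCharP.of_hom (X.affineCover.f i) p
    haveI : IsCharP (pullback π (X.affineCover.f i)) p :=
      IsCharP.of_hom (pullback.fst π (X.affineCover.f i)) p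
    have hperf := isPerfection_pullback_snd_of_isOpenImmersion p π hπ (X.affineCover.f i)
    obtain ⟨-, h1, h2, h3, -⟩ := affine_perfection p _ hperf
    exact ⟨h1, h2, h3⟩
  refine ⟨?_, ?_, ?_⟩
  · exact (IsZariskiLocalAtTarget.iff_of_openCover (P := @IsIntegralHom) X.affineCover).mpr
      (fun i => (key i).1)
  · exact (IsZariskiLocalAtTarget.iff_of_openCover (P := @UniversallyInjective)
      X.affineCover).mpr (fun i => (key i).2.1)
  · exact (IsZariskiLocalAtTarget.iff_of_openCover (P := @Surjective) X.affineCover).mpr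
      (fun i => (key i).2.2)

/-! ### formal lemmas on commutative squares whose vertical maps are "good" -/

section Formal

omit [Fact p.Prime]

theorem quasiCompact_of_comp_surjective {X Y Z : Scheme.{u}} (f : X ⟶ Y) (g : Y ⟶ Z)
    [Surjective f] [QuasiCompact (f ≫ g)] : QuasiCompact g := by
  constructor
  intro U hU hc
  have h1 : IsCompact ((f ≫ g) ⁻¹' U) := QuasiCompact.isCompact_preimage U hU hc
  have h2 : g ⁻¹' U = f '' ((f ≫ g) ⁻¹' U) := by
    ext y
    constructor
    · intro hy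
      obtain ⟨x, rfl⟩ := f.surjective y
      refine ⟨x, ?_, rfl⟩
      show (f ≫ g) x ∈ U
      rw [Scheme.Hom.comp_apply]
      exact hy
    · rintro ⟨x, hx, rfl⟩
      have hx' : (f ≫ g) x ∈ U := hx
      rw [Scheme.Hom.comp_apply] at hx'
      exact hx'
  rw [h2]
  exact h1.image f.continuous

theorem diag_comp {XP X Y : Scheme.{u}} (π : XP ⟶ X) (f : X ⟶ Y) :
    pullback.diagonal (π ≫ f) ≫ pullback.map (π ≫ f) (π ≫ f) f f π π (𝟙 Y)
      ((Category.comp_id _).trans rfl) ((Category.comp_id _).trans rfl) =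
      π ≫ pullback.diagonal f := by
  apply pullback.hom_ext
  · have h1 : pullback.map (π ≫ f) (π ≫ f) f f π π (𝟙 Y) ((Category.comp_id _).trans rfl)
        ((Category.comp_id _).trans rfl) ≫ pullback.fst f f =
        pullback.fst (π ≫ f) (π ≫ f) ≫ π := pullback.lift_fst _ _ _
    simp only [Category.assoc, h1, pullback.diagonal_fst_assoc, pullback.diagonal_fst,
      Category.comp_id]
  · have h1 : pullback.map (π ≫ f) (π ≫ f) f f π π (𝟙 Y) ((Category.comp_id _).trans rfl)
        ((Category.comp_id _).trans rfl) ≫ pullback.snd f f =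
        pullback.snd (π ≫ f) (π ≫ f) ≫ π := pullback.lift_snd _ _ _
    simp only [Category.assoc, h1, pullback.diagonal_snd_assoc, pullback.diagonal_snd,
      Category.comp_id]

variable {X Y XP YP : Scheme.{u}} (πX : XP ⟶ X) (πY : YP ⟶ Y) (f : X ⟶ Y) (fP : XP ⟶ YP)
  (w : fP ≫ πY = πX ≫ f)

include w

theorem qc_iff [IsAffineHom πX] [Surjective πX] [IsAffineHom πY] :
    QuasiCompact f ↔ QuasiCompact fP := by
  constructor
  · intro h
    haveI : QuasiCompact (fP ≫ πY) := by rw [w]; infer_instance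
    exact QuasiCompact.of_comp fP πY
  · intro h
    haveI : QuasiCompact (πX ≫ f) := by rw [← w]; infer_instance
    exact quasiCompact_of_comp_surjective πX f

theorem qs_iff [IsAffineHom πX] [Surjective πX] [IsAffineHom πY] :
    QuasiSeparated f ↔ QuasiSeparated fP := by
  constructor
  · intro h
    haveI : QuasiSeparated (fP ≫ πY) := by rw [w]; infer_instance
    exact QuasiSeparated.of_comp fP πY
  · intro h
    haveI : QuasiSeparated (πX ≫ f) := by rw [← w]; infer_instance
    haveI : IsAffineHom (pullback.map (πX ≫ f) (πX ≫ f) f f πX πX (𝟙 Y)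
        ((Category.comp_id _).trans rfl) ((Category.comp_id _).trans rfl)) :=
      MorphismProperty.pullbackMap (P := @IsAffineHom) ‹IsAffineHom πX› ‹IsAffineHom πX› rfl rfl
    haveI : QuasiCompact (πX ≫ pullback.diagonal f) := by rw [← diag_comp]; infer_instance
    exact ⟨quasiCompact_of_comp_surjective πX (pullback.diagonal f)⟩

theorem sep_iff [IsIntegralHom πX] [Surjective πX] [IsAffineHom πY] :
    IsSeparated f ↔ IsSeparated fP := by
  constructor
  · intro h
    haveI : IsSeparated (fP ≫ πY) := by rw [w]; infer_instance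
    exact IsSeparated.of_comp fP πY
  · intro h
    haveI : IsSeparated (πX ≫ f) := by rw [← w]; infer_instance
    haveI : IsIntegralHom (pullback.map (πX ≫ f) (πX ≫ f) f f πX πX (𝟙 Y)
        ((Category.comp_id _).trans rfl) ((Category.comp_id _).trans rfl)) :=
      MorphismProperty.pullbackMap (P := @IsIntegralHom) ‹IsIntegralHom πX› ‹IsIntegralHom πX›
        rfl rfl
    haveI : UniversallyClosed (πX ≫ pullback.diagonal f) := by rw [← diag_comp]; infer_instance
    haveI : UniversallyClosed (pullback.diagonal f) := UniversallyClosed.of_comp_surjective πX _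
    exact ⟨IsClosedImmersion.of_isPreimmersion _ (pullback.diagonal f).isClosedMap.isClosed_range⟩

theorem uc_iff [IsIntegralHom πX] [Surjective πX] [IsIntegralHom πY] :
    UniversallyClosed f ↔ UniversallyClosed fP := by
  constructor
  · intro h
    haveI : UniversallyClosed (fP ≫ πY) := by rw [w]; infer_instance
    exact UniversallyClosed.of_comp_of_isSeparated fP πY
  · intro h
    haveI : UniversallyClosed (πX ≫ f) := by rw [← w]; infer_instance
    exact UniversallyClosed.of_comp_surjective πX f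

theorem surj_iff [Surjective πX] [Surjective πY] [UniversallyInjective πY] :
    Surjective f ↔ Surjective fP := by
  constructor
  · intro h
    constructor
    intro y'
    obtain ⟨x', hx'⟩ := (πX ≫ f).surjective (πY y')
    refine ⟨x', ?_⟩
    apply πY.injective
    rw [← Scheme.Hom.comp_apply, w]
    exact hx'
  · intro h
    haveI : Surjective (πX ≫ f) := by rw [← w]; infer_instance
    exact Surjective.of_comp πX f

theorem ui_iff [UniversallyInjective πX] [Surjective πX] [UniversallyInjective πY] :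
    UniversallyInjective f ↔ UniversallyInjective fP := by
  constructor
  · intro h
    have h1 : UniversallyInjective (fP ≫ πY) := by
      rw [w]
      exact MorphismProperty.comp_mem (W := @UniversallyInjective) πX f ‹_› ‹_›
    rw [Groth.Agent.Lib.Helper22.Frob.universallyInjective_iff_field] at h1 ⊢
    intro K _ g₁ g₂ hg
    apply h1 K
    show g₁ ≫ fP ≫ πY = g₂ ≫ fP ≫ πY
    have hg' : g₁ ≫ fP = g₂ ≫ fP := hg
    rw [← Category.assoc, hg', Category.assoc]
  · intro h
    haveI : UniversallyInjective (πX ≫ f) := by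
      rw [← w]
      exact MorphismProperty.comp_mem (W := @UniversallyInjective) fP πY ‹_› ‹_›
    haveI : Surjective (pullback.diagonal (πX ≫ f)) :=
      (UniversallyInjective.iff_diagonal _).mp inferInstance
    haveI : Surjective (pullback.map (πX ≫ f) (πX ≫ f) f f πX πX (𝟙 Y)
        ((Category.comp_id _).trans rfl) ((Category.comp_id _).trans rfl)) :=
      MorphismProperty.pullbackMap (P := @Surjective) ‹Surjective πX› ‹Surjective πX› rfl rfl
    haveI : Surjective (πX ≫ pullback.diagonal f) := by rw [← diag_comp]; infer_instance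
    haveI : Surjective (pullback.diagonal f) := Surjective.of_comp πX _
    exact (UniversallyInjective.iff_diagonal _).mpr inferInstance

theorem uh_iff [IsIntegralHom πX] [UniversallyInjective πX] [Surjective πX] [IsIntegralHom πY]
    [UniversallyInjective πY] [Surjective πY] :
    FlatMor.IsUnivHomeo f ↔ FlatMor.IsUnivHomeo fP := by
  rw [UHRing.isUnivHomeo_iff, UHRing.isUnivHomeo_iff, uc_iff πX πY f fP w, ui_iff πX πY f fP w,
    surj_iff πX πY f fP w]

end Formal

/-! ### the perfection of a morphism -/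

section Local

variable {X Y XP YP : Scheme.{u}} (πX : XP ⟶ X) (πY : YP ⟶ Y) (f : X ⟶ Y) (fP : XP ⟶ YP)
  (w : fP ≫ πY = πX ≫ f)

/-- restriction of `πX` over the open `j : V ⟶ Y` of the base -/
noncomputable def localπ {V : Scheme.{u}} (j : V ⟶ Y) :
    pullback fP (pullback.fst πY j) ⟶ pullback f j :=
  pullback.lift (pullback.fst fP (pullback.fst πY j) ≫ πX)
    (pullback.snd fP (pullback.fst πY j) ≫ pullback.snd πY j)
    (by
      simp only [Category.assoc]
      rw [← w, pullback.condition_assoc, pullback.condition])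

theorem localπ_fst {V : Scheme.{u}} (j : V ⟶ Y) :
    localπ πX πY f fP w j ≫ pullback.fst f j = pullback.fst fP (pullback.fst πY j) ≫ πX :=
  pullback.lift_fst _ _ _

theorem localπ_snd {V : Scheme.{u}} (j : V ⟶ Y) :
    localπ πX πY f fP w j ≫ pullback.snd f j =
      pullback.snd fP (pullback.fst πY j) ≫ pullback.snd πY j :=
  pullback.lift_snd _ _ _

end Local

section Square

variable {X Y XP YP : Scheme.{u}} [IsCharP X p] [IsCharP Y p] [IsCharP XP p] [IsCharP YP p]
  (πX : XP ⟶ X) (πY : YP ⟶ Y) (hX : IsPerfection πX p) (hY : IsPerfection πY p)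
  (f : X ⟶ Y) (fP : XP ⟶ YP) (w : fP ≫ πY = πX ≫ f)

include hX hY

theorem isPerfection_local {V : Scheme.{u}} (j : V ⟶ Y) [IsOpenImmersion j]
    [IsCharP (pullback πY j) p] [IsCharP (pullback fP (pullback.fst πY j)) p] :
    IsPerfection (localπ πX πY f fP w j) p := by
  have hV : IsPerfection (pullback.snd πY j) p :=
    isPerfection_pullback_snd_of_isOpenImmersion p πY hY j
  refine ⟨isPerfect_of_isOpenImmersion p (pullback.fst fP (pullback.fst πY j)) hX.1, ?_⟩
  intro T _ hT
  constructor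
  · intro g1 g2 hg
    have hg' : g1 ≫ localπ πX πY f fP w j = g2 ≫ localπ πX πY f fP w j := hg
    apply pullback.hom_ext
    · apply (hX.2 T hT).1
      show (g1 ≫ pullback.fst fP (pullback.fst πY j)) ≫ πX =
        (g2 ≫ pullback.fst fP (pullback.fst πY j)) ≫ πX
      have := congrArg (fun k => k ≫ pullback.fst f j) hg'
      simpa only [Category.assoc, localπ_fst] using this
    · apply (hV.2 T hT).1
      show (g1 ≫ pullback.snd fP (pullback.fst πY j)) ≫ pullback.snd πY j =
        (g2 ≫ pullback.snd fP (pullback.fst πY j)) ≫ pullback.snd πY j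
      have := congrArg (fun k => k ≫ pullback.snd f j) hg'
      simpa only [Category.assoc, localπ_snd] using this
  · intro h
    obtain ⟨a, ha⟩ := (hX.2 T hT).2 (h ≫ pullback.fst f j)
    obtain ⟨b, hb⟩ := (hV.2 T hT).2 (h ≫ pullback.snd f j)
    have ha' : a ≫ πX = h ≫ pullback.fst f j := ha
    have hb' : b ≫ pullback.snd πY j = h ≫ pullback.snd f j := hb
    have hab : a ≫ fP = b ≫ pullback.fst πY j := by
      apply (hY.2 T hT).1
      show (a ≫ fP) ≫ πY = (b ≫ pullback.fst πY j) ≫ πY
      simp only [Category.assoc]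
      rw [w, ← Category.assoc a, ha', Category.assoc, pullback.condition (f := f),
        pullback.condition (f := πY), ← Category.assoc b, hb', Category.assoc]
    refine ⟨pullback.lift a b hab, ?_⟩
    show pullback.lift a b hab ≫ localπ πX πY f fP w j = h
    apply pullback.hom_ext
    · rw [Category.assoc, localπ_fst, pullback.lift_fst_assoc, ha']
    · rw [Category.assoc, localπ_snd, pullback.lift_snd_assoc, hb']

theorem openImmersion_perf (w : fP ≫ πY = πX ≫ f) [IsOpenImmersion f] : IsOpenImmersion fP := by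
  haveI : IsCharP (pullback πY f) p := IsCharP.of_hom (pullback.fst πY f) p
  have h1 := isPerfection_pullback_snd_of_isOpenImmersion p πY hY f
  obtain ⟨e, he⟩ := perfection_unique p πX (pullback.snd πY f) hX h1
  have hfP : fP = e.hom ≫ pullback.fst πY f := by
    apply (hY.2 XP hX.1).1
    show fP ≫ πY = (e.hom ≫ pullback.fst πY f) ≫ πY
    rw [Category.assoc, pullback.condition, ← Category.assoc, he, w]
  rw [hfP]
  infer_instance

theorem closedImmersion_affine (w : fP ≫ πY = πX ≫ f) [IsAffine Y] [IsClosedImmersion f] :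
    IsClosedImmersion fP := by
  haveI : IsAffine X := isAffine_of_isAffineHom f
  obtain ⟨hXPaff, -, -, -, hXrad⟩ := affine_perfection p πX hX
  obtain ⟨hYPaff, -, -, -, -⟩ := affine_perfection p πY hY
  haveI := hXPaff
  haveI := hYPaff
  rw [HasAffineProperty.iff_of_isAffine (P := @IsClosedImmersion)]
  refine ⟨hXPaff, ?_⟩
  have hfsurj : Function.Surjective f.appTop :=
    ((HasAffineProperty.iff_of_isAffine (P := @IsClosedImmersion)).mp ‹_›).2
  intro a
  obtain ⟨n, a0, ha0⟩ := hXrad a
  obtain ⟨b0, hb0⟩ := hfsurj a0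
  obtain ⟨c, hc⟩ := (pow_pn_bijective p (pow_bijective_of_isPerfect p YP hY.1 ⊤) n).2
    (πY.appTop b0)
  have hc' : c ^ p ^ n = πY.appTop b0 := hc
  refine ⟨c, ?_⟩
  apply (pow_pn_bijective p (pow_bijective_of_isPerfect p XP hX.1 ⊤) n).1
  show fP.appTop c ^ p ^ n = a ^ p ^ n
  rw [← map_pow, hc', ← ha0, ← hb0]
  have hw := congrArg Scheme.Hom.appTop w
  rw [Scheme.Hom.comp_appTop, Scheme.Hom.comp_appTop] at hw
  exact congrArg (fun φ => φ.hom b0) hw

theorem closedImmersion_perf (w : fP ≫ πY = πX ≫ f) [IsClosedImmersion f] :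
    IsClosedImmersion fP := by
  rw [IsZariskiLocalAtTarget.iff_of_openCover (P := @IsClosedImmersion)
    (Y.affineCover.pullback₁ πY)]
  intro i
  show IsClosedImmersion (pullback.snd fP (pullback.fst πY (Y.affineCover.f i)))
  haveI : IsCharP (Y.affineCover.X i) p := IsCharP.of_hom (Y.affineCover.f i) p
  haveI : IsCharP (pullback πY (Y.affineCover.f i)) p :=
    IsCharP.of_hom (pullback.fst πY (Y.affineCover.f i)) p
  haveI : IsCharP (pullback f (Y.affineCover.f i)) p :=
    IsCharP.of_hom (pullback.fst f (Y.affineCover.f i)) p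
  haveI : IsCharP (pullback fP (pullback.fst πY (Y.affineCover.f i))) p :=
    IsCharP.of_hom (pullback.fst fP (pullback.fst πY (Y.affineCover.f i))) p
  have hV := isPerfection_pullback_snd_of_isOpenImmersion p πY hY (Y.affineCover.f i)
  have hW := isPerfection_local p πX πY hX hY f fP w (Y.affineCover.f i)
  exact closedImmersion_affine p (localπ πX πY f fP w (Y.affineCover.f i))
    (pullback.snd πY (Y.affineCover.f i)) hW hV (pullback.snd f (Y.affineCover.f i))
    (pullback.snd fP (pullback.fst πY (Y.affineCover.f i)))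
    (localπ_snd πX πY f fP w (Y.affineCover.f i)).symm

theorem immersion_perf (w : fP ≫ πY = πX ≫ f) [IsImmersion f] : IsImmersion fP := by
  obtain ⟨Z, g, h, hg, hh, hgh⟩ := IsImmersion.isImmersion_iff_exists.mp ‹IsImmersion f›
  haveI : IsCharP Z p := IsCharP.of_hom h p
  haveI : IsCharP (pullback πY h) p := IsCharP.of_hom (pullback.fst πY h) p
  have hZ := isPerfection_pullback_snd_of_isOpenImmersion p πY hY h
  obtain ⟨gP, hgP⟩ := (hZ.2 XP hX.1).2 (πX ≫ g)
  have hgP' : gP ≫ pullback.snd πY h = πX ≫ g := hgP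
  haveI : IsClosedImmersion gP := closedImmersion_perf p πX (pullback.snd πY h) hX hZ g gP hgP'
  have hfP : fP = gP ≫ pullback.fst πY h := by
    apply (hY.2 XP hX.1).1
    show fP ≫ πY = (gP ≫ pullback.fst πY h) ≫ πY
    rw [Category.assoc, pullback.condition, ← Category.assoc, hgP', Category.assoc, hgh, w]
  rw [hfP]
  infer_instance

omit hX hY in
theorem isPerfect_of_etale {Z S : Scheme.{u}} [IsCharP Z p] [IsCharP S p] (q : Z ⟶ S) [Etale q]
    (hS : IsPerfect S p) : IsPerfect Z p := by
  haveI : IsIso (frob S p) := hS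
  have h1 : relFrob q p ≫ pullback.fst q (frob S p) = frob Z p := relFrob_fst q p
  have h2 : relFrob q p ≫ pullback.snd q (frob S p) = q := relFrob_snd q p
  haveI : Etale (relFrob q p ≫ pullback.snd q (frob S p)) := by rw [h2]; infer_instance
  haveI : Etale (relFrob q p) :=
    MorphismProperty.of_postcomp (W := @Etale) (W' := @Etale) (relFrob q p)
      (pullback.snd q (frob S p)) inferInstance inferInstance
  haveI : Surjective (pullback.diagonal (relFrob q p)) :=
    (UniversallyInjective.iff_diagonal _).mp inferInstance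
  haveI : IsIso (pullback.diagonal (relFrob q p)) :=
    (isIso_iff_isOpenImmersion_and_surjective _).mpr ⟨inferInstance, inferInstance⟩
  haveI : Mono (relFrob q p) := (pullback.isIso_diagonal_iff (f := relFrob q p)).mp inferInstance
  haveI : IsOpenImmersion (relFrob q p) := IsOpenImmersion.of_flat_of_mono _
  haveI : IsIso (relFrob q p) :=
    (isIso_iff_isOpenImmersion_and_surjective _).mpr ⟨inferInstance, inferInstance⟩
  show IsIso (frob Z p)
  rw [← h1]
  infer_instance

theorem etale_perf (w : fP ≫ πY = πX ≫ f) [Etale f] : IsPullback fP πX πY f := by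
  haveI : IsCharP (pullback πY f) p := IsCharP.of_hom (pullback.fst πY f) p
  have hZ : IsPerfect (pullback πY f) p := isPerfect_of_etale p (pullback.fst πY f) hY.1
  have h1 := isPerfection_pullback_snd p πY hY f hZ
  obtain ⟨e, he⟩ := perfection_unique p πX (pullback.snd πY f) hX h1
  have hfP : e.hom ≫ pullback.fst πY f = fP := by
    apply (hY.2 XP hX.1).1
    show (e.hom ≫ pullback.fst πY f) ≫ πY = fP ≫ πY
    rw [Category.assoc, pullback.condition, ← Category.assoc, he, w]
  exact IsPullback.of_iso_pullback ⟨w⟩ e hfP he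

end Square

/-! ### kernels -/

omit [Fact p.Prime] in
theorem ker_of_iso {Z ZP Z' ZP' : Scheme.{u}} (ρ : ZP ⟶ Z) (σ : ZP' ⟶ Z') (a : ZP ⟶ ZP')
    (b : Z' ⟶ Z) [IsIso a] [IsIso b] (h : a ≫ σ ≫ b = ρ)
    (hσ : ∀ y : Γ(Z', ⊤), σ.appTop y = 0 → IsNilpotent y) :
    ∀ y : Γ(Z, ⊤), ρ.appTop y = 0 → IsNilpotent y := by
  intro y hy
  subst h
  rw [Scheme.Hom.comp_appTop, Scheme.Hom.comp_appTop] at hy
  have hy' : a.appTop (σ.appTop (b.appTop y)) = 0 := hy
  have h1 : σ.appTop (b.appTop y) = 0 := by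
    apply (appTop_bijective a).1
    rw [hy', map_zero]
  obtain ⟨k, hk⟩ := hσ _ h1
  refine ⟨k, ?_⟩
  apply (appTop_bijective b).1
  rw [map_pow, hk, map_zero]

omit [Fact p.Prime] in
theorem ker_specMap {A B : CommRingCat.{u}} (φ : A ⟶ B)
    (hφ : ∀ y : A, φ y = 0 → IsNilpotent y) :
    ∀ y : Γ(Spec A, ⊤), (Spec.map φ).appTop y = 0 → IsNilpotent y := by
  intro y hy
  have h1 := congrArg (fun ψ => ψ.hom y) (Scheme.ΓSpecIso_naturality φ)
  simp only [CommRingCat.hom_comp, RingHom.comp_apply] at h1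
  have h2 : φ ((Scheme.ΓSpecIso A).hom y) = 0 := by
    refine h1.symm.trans ?_
    have : (Spec.map φ).appTop.hom y = 0 := hy
    rw [this, map_zero]
  obtain ⟨k, hk⟩ := hφ _ h2
  refine ⟨k, ?_⟩
  apply (ConcreteCategory.bijective_of_isIso (Scheme.ΓSpecIso A).hom).1
  rw [map_pow, hk, map_zero]

theorem affine_perfection_ker {Z ZP : Scheme.{u}} [IsCharP Z p] [IsCharP ZP p] [IsAffine Z]
    (ρ : ZP ⟶ Z) (hρ : IsPerfection ρ p) :
    ∀ y : Γ(Z, ⊤), ρ.appTop y = 0 → IsNilpotent y := by
  rcases isEmpty_or_nonempty Z with hE | hN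
  · haveI : IsIso ρ := isIso_of_isEmpty ρ
    intro y hy
    refine ⟨1, ?_⟩
    apply (appTop_bijective ρ).1
    rw [pow_one, hy, map_zero]
  · haveI hc : CharP Γ(Z, ⊤) p := charP_Γ p Z
    have h1 : IsPerfection (Spec.map (CommRingCat.ofHom (PerfectClosure.of Γ(Z, ⊤) p)) ≫
        Z.isoSpec.inv) p := isPerfection_comp_iso p _ (isPerfection_Spec_of p Γ(Z, ⊤)) _
    obtain ⟨e, he⟩ := perfection_unique p ρ _ hρ h1
    refine ker_of_iso ρ (Spec.map (CommRingCat.ofHom (PerfectClosure.of Γ(Z, ⊤) p))) e.hom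
      Z.isoSpec.inv he ?_
    apply ker_specMap
    intro y hy
    have hy' : y ∈ RingHom.ker (PerfectClosure.of Γ(Z, ⊤) p) := hy
    have := pNilradical_le_nilradical (IsPRadical.ker_le (PerfectClosure.of Γ(Z, ⊤) p) p hy')
    exact mem_nilradical.mp this

/-! ### flatness -/

theorem sum_pow_pn {R : Type*} [CommRing R] (hp : (p : R) = 0) (N : ℕ) {ι : Type*}
    (s : Finset ι) (g : ι → R) : (∑ i ∈ s, g i) ^ p ^ N = ∑ i ∈ s, g i ^ p ^ N := by
  rcases subsingleton_or_nontrivial R with h | h
  · exact Subsingleton.elim _ _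
  · haveI : CharP R p := (CharP.charP_iff_prime_eq_zero Fact.out).2 hp
    exact sum_pow_char_pow p N s g

omit [Fact p.Prime] in
theorem pow_common {S R : Type*} [CommRing R] [CommRing S] (β : R →+* S) {l : ℕ}
    (f : Fin l → S) (h : ∀ x : S, ∃ (n : ℕ) (y : R), β y = x ^ p ^ n) :
    ∃ n : ℕ, ∀ m, n ≤ m → ∀ i, ∃ y : R, β y = f i ^ p ^ m := by
  choose nf b hb using fun i => h (f i)
  refine ⟨∑ i, nf i, fun m hm i => ?_⟩
  have hle : nf i ≤ m :=
    (Finset.single_le_sum (fun _ _ => Nat.zero_le _) (Finset.mem_univ i)).trans hm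
  refine ⟨b i ^ p ^ (m - nf i), ?_⟩
  rw [map_pow, hb i, ← pow_mul, ← pow_add, Nat.add_sub_cancel' hle]

theorem flat_of_prad {B A BP AP : Type u} [CommRing B] [CommRing A] [CommRing BP] [CommRing AP]
    (φ : B →+* A) (β : B →+* BP) (α : A →+* AP) (φP : BP →+* AP)
    (hcomm : ∀ b, φP (β b) = α (φ b))
    (hpA : (p : A) = 0) (hpBP : (p : BP) = 0) (hpAP : (p : AP) = 0)
    (hBP : Function.Bijective (fun s : BP => s ^ p))
    (hAP : Function.Bijective (fun s : AP => s ^ p))
    (hβ : ∀ x : BP, ∃ (n : ℕ) (y : B), β y = x ^ p ^ n)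
    (hα : ∀ x : AP, ∃ (n : ℕ) (y : A), α y = x ^ p ^ n)
    (hkerα : ∀ a : A, α a = 0 → IsNilpotent a)
    (hφ : φ.Flat) : φP.Flat := by
  letI : Algebra B A := φ.toAlgebra
  letI : Algebra BP AP := φP.toAlgebra
  haveI : Module.Flat B A := hφ
  show Module.Flat BP AP
  apply Module.Flat.of_forall_isTrivialRelation
  intro l f x hrel
  have hs : ∀ (r : BP) (z : AP), r • z = φP r * z := fun r z => rfl
  have hs' : ∀ (r : B) (z : A), r • z = φ r * z := fun r z => rfl
  obtain ⟨n1, hn1⟩ := pow_common p β f hβ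
  obtain ⟨n2, hn2⟩ := pow_common p α x hα
  choose b' hb' using hn1 (max n1 n2) (le_max_left _ _)
  choose a' ha' using hn2 (max n1 n2) (le_max_right _ _)
  have hrel' : ∑ i, φP (f i) * x i = 0 := by
    simpa only [hs] using hrel
  have h0 : α (∑ i, φ (b' i) * a' i) = 0 := by
    rw [map_sum]
    have hterm : ∀ i, α (φ (b' i) * a' i) = (φP (f i) * x i) ^ p ^ (max n1 n2) := by
      intro i
      rw [map_mul, ← hcomm, hb', ha', map_pow, mul_pow]
    rw [Finset.sum_congr rfl (fun i _ => hterm i), ← sum_pow_pn p hpAP, hrel',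
      zero_pow (pow_pos (Fact.out : p.Prime).pos _).ne']
  obtain ⟨k, hk⟩ := hkerα _ h0
  have hkm : (∑ i, φ (b' i) * a' i) ^ p ^ k = 0 :=
    pow_eq_zero_of_le (Nat.lt_pow_self (Fact.out : p.Prime).one_lt).le hk
  rw [sum_pow_pn p hpA] at hkm
  have hrelA : ∑ i, (b' i ^ p ^ k) • (a' i ^ p ^ k) = 0 := by
    simp only [hs', map_pow]
    simpa only [mul_pow] using hkm
  obtain ⟨K, c, y, hy1, hy2⟩ := Module.Flat.isTrivialRelation_of_sum_smul_eq_zero (R := B) (M := A)
    (f := fun i => b' i ^ p ^ k) (x := fun i => a' i ^ p ^ k) hrelA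
  have hy1' : ∀ i, a' i ^ p ^ k = ∑ j, c i j • y j := hy1
  have hy2' : ∀ j, ∑ i, b' i ^ p ^ k * c i j = 0 := hy2
  have hbA := pow_pn_bijective p hAP (max n1 n2 + k)
  have hbB := pow_pn_bijective p hBP (max n1 n2 + k)
  choose rA hrA using hbA.2
  choose rB hrB using hbB.2
  have hrA' : ∀ z, rA z ^ p ^ (max n1 n2 + k) = z := hrA
  have hrB' : ∀ z, rB z ^ p ^ (max n1 n2 + k) = z := hrB
  refine ⟨K, fun i j => rB (β (c i j)), fun j => rA (α (y j)), ?_, ?_⟩
  · intro i
    apply hbA.1
    show x i ^ p ^ (max n1 n2 + k) =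
      (∑ j, rB (β (c i j)) • rA (α (y j))) ^ p ^ (max n1 n2 + k)
    simp only [hs]
    rw [sum_pow_pn p hpAP]
    simp only [mul_pow, ← map_pow, hrA', hrB']
    rw [show x i ^ p ^ (max n1 n2 + k) = (x i ^ p ^ (max n1 n2)) ^ p ^ k by
      rw [← pow_mul, ← pow_add], ← ha', ← map_pow, hy1' i, map_sum]
    refine Finset.sum_congr rfl (fun j _ => ?_)
    rw [hs', map_mul, hcomm]
  · intro j
    apply hbB.1
    show (∑ i, f i * rB (β (c i j))) ^ p ^ (max n1 n2 + k) = (0 : BP) ^ p ^ (max n1 n2 + k)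
    rw [sum_pow_pn p hpBP, zero_pow (pow_pos (Fact.out : p.Prime).pos _).ne']
    simp only [mul_pow, hrB']
    have hfi : ∀ i, f i ^ p ^ (max n1 n2 + k) = β (b' i ^ p ^ k) := by
      intro i
      rw [map_pow, hb', ← pow_mul, ← pow_add]
    simp only [hfi, ← map_mul, ← map_sum, hy2' j, map_zero]

section Square2

variable {X Y XP YP : Scheme.{u}} [IsCharP X p] [IsCharP Y p] [IsCharP XP p] [IsCharP YP p]
  (πX : XP ⟶ X) (πY : YP ⟶ Y) (hX : IsPerfection πX p) (hY : IsPerfection πY p)
  (f : X ⟶ Y) (fP : XP ⟶ YP) (w : fP ≫ πY = πX ≫ f)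

include hX hY w

theorem flat_affine [IsAffine X] [IsAffine Y] [Flat f] : Flat fP := by
  obtain ⟨hXPaff, -, -, -, hXrad⟩ := affine_perfection p πX hX
  obtain ⟨hYPaff, -, -, -, hYrad⟩ := affine_perfection p πY hY
  have hXker := affine_perfection_ker p πX hX
  haveI := hXPaff
  haveI := hYPaff
  rw [HasRingHomProperty.iff_of_isAffine (P := @Flat)]
  have hw := congrArg Scheme.Hom.appTop w
  rw [Scheme.Hom.comp_appTop, Scheme.Hom.comp_appTop] at hw
  exact flat_of_prad p f.appTop.hom πY.appTop.hom πX.appTop.hom fP.appTop.hom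
    (fun b => congrArg (fun φ => φ.hom b) hw) IsCharP.natCast_eq_zero IsCharP.natCast_eq_zero
    IsCharP.natCast_eq_zero (pow_bijective_of_isPerfect p YP hY.1 ⊤)
    (pow_bijective_of_isPerfect p XP hX.1 ⊤) hYrad hXrad hXker (Scheme.Hom.flat_appTop f)

theorem flat_affineTarget [IsAffine Y] [Flat f] : Flat fP := by
  rw [IsZariskiLocalAtSource.iff_of_openCover (P := @Flat) (X.affineCover.pullback₁ πX)]
  intro i
  show Flat (pullback.fst πX (X.affineCover.f i) ≫ fP)
  haveI : IsCharP (X.affineCover.X i) p := IsCharP.of_hom (X.affineCover.f i) p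
  haveI : IsCharP (pullback πX (X.affineCover.f i)) p :=
    IsCharP.of_hom (pullback.fst πX (X.affineCover.f i)) p
  have hU := isPerfection_pullback_snd_of_isOpenImmersion p πX hX (X.affineCover.f i)
  exact flat_affine p (pullback.snd πX (X.affineCover.f i)) πY hU hY (X.affineCover.f i ≫ f)
    (pullback.fst πX (X.affineCover.f i) ≫ fP)
    (by rw [Category.assoc, w, pullback.condition_assoc])

theorem flat_perf [Flat f] : Flat fP := by
  rw [IsZariskiLocalAtTarget.iff_of_openCover (P := @Flat) (Y.affineCover.pullback₁ πY)]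
  intro i
  show Flat (pullback.snd fP (pullback.fst πY (Y.affineCover.f i)))
  haveI : IsCharP (Y.affineCover.X i) p := IsCharP.of_hom (Y.affineCover.f i) p
  haveI : IsCharP (pullback πY (Y.affineCover.f i)) p :=
    IsCharP.of_hom (pullback.fst πY (Y.affineCover.f i)) p
  haveI : IsCharP (pullback f (Y.affineCover.f i)) p :=
    IsCharP.of_hom (pullback.fst f (Y.affineCover.f i)) p
  haveI : IsCharP (pullback fP (pullback.fst πY (Y.affineCover.f i))) p :=
    IsCharP.of_hom (pullback.fst fP (pullback.fst πY (Y.affineCover.f i))) p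
  have hV := isPerfection_pullback_snd_of_isOpenImmersion p πY hY (Y.affineCover.f i)
  have hW := isPerfection_local p πX πY hX hY f fP w (Y.affineCover.f i)
  exact flat_affineTarget p (localπ πX πY f fP w (Y.affineCover.f i))
    (pullback.snd πY (Y.affineCover.f i)) hW hV (pullback.snd f (Y.affineCover.f i))
    (pullback.snd fP (pullback.fst πY (Y.affineCover.f i)))
    (localπ_snd πX πY f fP w (Y.affineCover.f i)).symm

end Square2

/-! ### perfect closures of rings give perfections of spectra -/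

theorem isPerfection_Spec_of_isPRadical {A A' : Type u} [CommRing A] [CommRing A'] [CharP A p]
    [CharP A' p] [PerfectRing A' p] (i : A →+* A') [IsPRadical i p] :
    IsPerfection (Spec.map (CommRingCat.ofHom i)) p := by
  refine ⟨isPerfect_Spec p A', ?_⟩
  intro T _ hT
  rcases isEmpty_or_nonempty T with hE | hN
  · have hI : IsInitial T := isInitialOfIsEmpty
    constructor
    · intro g1 g2 _
      exact hI.hom_ext _ _
    · intro h
      exact ⟨hI.to _, hI.hom_ext _ _⟩
  · haveI hchar : CharP Γ(T, ⊤) p := charP_Γ p T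
    haveI hperf : PerfectRing Γ(T, ⊤) p := ⟨pow_bijective_of_isPerfect p T hT ⊤⟩
    constructor
    · intro g1 g2 hg
      have hg' : g1 ≫ Spec.map (CommRingCat.ofHom i) = g2 ≫ Spec.map (CommRingCat.ofHom i) := hg
      apply ext_of_isAffine
      have h1 := congrArg Scheme.Hom.appTop hg'
      rw [Scheme.Hom.comp_appTop, Scheme.Hom.comp_appTop] at h1
      have h3 : (CommRingCat.ofHom i) ≫ ((Scheme.ΓSpecIso _).inv ≫ g1.appTop) =
          (CommRingCat.ofHom i) ≫ ((Scheme.ΓSpecIso _).inv ≫ g2.appTop) := by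
        rw [← Category.assoc, ← Category.assoc, Scheme.ΓSpecIso_inv_naturality, Category.assoc,
          Category.assoc, h1]
      have h4 : ((Scheme.ΓSpecIso _).inv ≫ g1.appTop).hom =
          ((Scheme.ΓSpecIso _).inv ≫ g2.appTop).hom := by
        apply (PerfectRing.liftEquiv Γ(T, ⊤) i p).symm.injective
        exact congrArg CommRingCat.Hom.hom h3
      have h5 : (Scheme.ΓSpecIso _).inv ≫ g1.appTop = (Scheme.ΓSpecIso _).inv ≫ g2.appTop :=
        CommRingCat.hom_ext h4
      exact (cancel_epi _).mp h5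
    · intro h
      let ψ : A →+* Γ(T, ⊤) := ((Scheme.ΓSpecIso (CommRingCat.of A)).inv ≫ h.appTop).hom
      let ψ' : A' →+* Γ(T, ⊤) := PerfectRing.liftEquiv Γ(T, ⊤) i p ψ
      have hψ : ψ'.comp i = ψ := (PerfectRing.liftEquiv Γ(T, ⊤) i p).symm_apply_apply ψ
      refine ⟨T.toSpecΓ ≫ Spec.map (CommRingCat.ofHom ψ'), ?_⟩
      show (T.toSpecΓ ≫ Spec.map (CommRingCat.ofHom ψ')) ≫ Spec.map (CommRingCat.ofHom i) = h
      rw [Category.assoc, ← Spec.map_comp]
      have h6 : CommRingCat.ofHom i ≫ CommRingCat.ofHom ψ' =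
          (Scheme.ΓSpecIso (CommRingCat.of A)).inv ≫ h.appTop := by
        apply CommRingCat.hom_ext
        exact hψ
      rw [h6, Spec.map_comp, ← Scheme.toSpecΓ_naturality_assoc, toSpecΓ_SpecMap_ΓSpecIso_inv,
        Category.comp_id]

/-- ring-level: etale base change of perfect closures -/
theorem isPushout_perfectClosure_of_etale (A B A' B' : Type u) [CommRing A] [CommRing B]
    [CommRing A'] [CommRing B'] [CharP A p] [CharP B p] [CharP A' p] [CharP B' p]
    [PerfectRing A' p] [PerfectRing B' p] (α : A →+* B) (hα : α.Etale) (ιA : A →+* A')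
    (ιB : B →+* B') [IsPRadical ιA p] [IsPRadical ιB p] (φ' : A' →+* B')
    (hcomm : φ'.comp ιA = ιB.comp α) :
    IsPushout (CommRingCat.ofHom ιA) (CommRingCat.ofHom α) (CommRingCat.ofHom φ')
      (CommRingCat.ofHom ιB) := by
  have hY : IsPerfection (Spec.map (CommRingCat.ofHom ιA)) p :=
    isPerfection_Spec_of_isPRadical p ιA
  have hX : IsPerfection (Spec.map (CommRingCat.ofHom ιB)) p :=
    isPerfection_Spec_of_isPRadical p ιB
  have w : Spec.map (CommRingCat.ofHom φ') ≫ Spec.map (CommRingCat.ofHom ιA) =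
      Spec.map (CommRingCat.ofHom ιB) ≫ Spec.map (CommRingCat.ofHom α) := by
    rw [← Spec.map_comp, ← Spec.map_comp, ← CommRingCat.ofHom_comp, ← CommRingCat.ofHom_comp,
      hcomm]
  haveI : Etale (Spec.map (CommRingCat.ofHom α)) :=
    (HasRingHomProperty.Spec_iff (P := @Etale)).mpr hα
  have hpb := etale_perf p (Spec.map (CommRingCat.ofHom ιB)) (Spec.map (CommRingCat.ofHom ιA))
    hX hY (Spec.map (CommRingCat.ofHom α)) (Spec.map (CommRingCat.ofHom φ')) w
  have hpb' : IsPullback (Scheme.Spec.map (CommRingCat.ofHom φ').op)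
      (Scheme.Spec.map (CommRingCat.ofHom ιB).op) (Scheme.Spec.map (CommRingCat.ofHom ιA).op)
      (Scheme.Spec.map (CommRingCat.ofHom α).op) := hpb
  have hop := IsPullback.of_map_of_faithful Scheme.Spec hpb'
  exact hop.unop.flip

end Groth.Agent.Lib.Helper11.PerfLib
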