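import Mathlib

/-!
# Base change of reduced schemes along a geometrically reduced (separable) field extension
-/

open CategoryTheory AlgebraicGeometry Limits TensorProduct

universe u

namespace Groth.Agent.Lib.Helper11.GRed

variable {K' K : Type u} [Field K'] [Field K] [Algebra K' K]

lemma isReduced_tensor_fg [GeometricallyReduced (Spec.map (CommRingCat.ofHom (algebraMap K' K)))]
    (B : Type u) [CommRing B] [Algebra K' B] [Algebra.FiniteType K' B] [_root_.IsReduced B] :
    _root_.IsReduced (B ⊗[K'] K) := by
  have hN : IsNoetherianRing B := Algebra.FiniteType.isNoetherianRing K' B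
  haveI : AlgebraicGeometry.IsReduced (Spec (CommRingCat.of B)) :=
    (affine_isReduced_iff _).mpr ‹_›
  haveI : IsLocallyNoetherian (Spec (CommRingCat.of B)) := inferInstance
  have h1 : AlgebraicGeometry.IsReduced
      (pullback (Spec.map (CommRingCat.ofHom (algebraMap K' B)))
        (Spec.map (CommRingCat.ofHom (algebraMap K' K)))) := inferInstance
  have h2 : AlgebraicGeometry.IsReduced (Spec (CommRingCat.of (B ⊗[K'] K))) :=
    isReduced_of_isOpenImmersion (pullbackSpecIso K' B K).inv
  exact (affine_isReduced_iff _).mp h2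

lemma isReduced_tensor [GeometricallyReduced (Spec.map (CommRingCat.ofHom (algebraMap K' K)))]
    (A : Type u) [CommRing A] [Algebra K' A] [_root_.IsReduced A] :
    _root_.IsReduced (A ⊗[K'] K) := by
  have h1 : _root_.IsReduced (K ⊗[K'] A) := by
    apply IsReduced.tensorProduct_of_flat_of_forall_fg
    intro B hB
    haveI : Algebra.FiniteType K' B := (Subalgebra.fg_iff_finiteType B).mp hB
    haveI : _root_.IsReduced B := isReduced_of_injective B.val Subtype.val_injective
    haveI := isReduced_tensor_fg (K' := K') (K := K) B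
    exact isReduced_of_injective (Algebra.TensorProduct.comm K' K B).toAlgHom
      (Algebra.TensorProduct.comm K' K B).injective
  exact isReduced_of_injective (Algebra.TensorProduct.comm K' A K).toAlgHom
    (Algebra.TensorProduct.comm K' A K).injective

lemma isReduced_pullback_Spec
    [GeometricallyReduced (Spec.map (CommRingCat.ofHom (algebraMap K' K)))]
    (R : CommRingCat.{u}) [_root_.IsReduced R] (ψ : CommRingCat.of K' ⟶ R) :
    AlgebraicGeometry.IsReduced
      (pullback (Spec.map ψ) (Spec.map (CommRingCat.ofHom (algebraMap K' K)))) := by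
  letI : Algebra K' R := ψ.hom.toAlgebra
  have h0 := isReduced_tensor (K' := K') (K := K) R
  haveI h2 : AlgebraicGeometry.IsReduced (Spec (CommRingCat.of (R ⊗[K'] K))) :=
    (affine_isReduced_iff _).mpr h0
  exact isReduced_of_isOpenImmersion (pullbackSpecIso K' R K).hom

lemma isReduced_pullback_affine
    [GeometricallyReduced (Spec.map (CommRingCat.ofHom (algebraMap K' K)))]
    {W : Scheme.{u}} [IsAffine W] [AlgebraicGeometry.IsReduced W]
    (m : W ⟶ Spec (CommRingCat.of K')) :
    AlgebraicGeometry.IsReduced
      (pullback m (Spec.map (CommRingCat.ofHom (algebraMap K' K)))) := by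
  let R : CommRingCat.{u} := Γ(W, ⊤)
  let m' : Spec R ⟶ Spec (CommRingCat.of K') := W.isoSpec.inv ≫ m
  let ψ : CommRingCat.of K' ⟶ R := Spec.preimage m'
  have hψ : Spec.map ψ = m' := Spec.map_preimage _
  haveI : _root_.IsReduced R := by
    have : AlgebraicGeometry.IsReduced (Spec R) := isReduced_of_isOpenImmersion W.isoSpec.inv
    exact (affine_isReduced_iff _).mp this
  haveI := isReduced_pullback_Spec (K := K) R ψ
  have hm : W.isoSpec.hom ≫ Spec.map ψ = m ≫ 𝟙 _ := by
    rw [hψ]; simp [m']
  exact isReduced_of_isOpenImmersion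
    (pullback.map m (Spec.map (CommRingCat.ofHom (algebraMap K' K))) (Spec.map ψ)
      (Spec.map (CommRingCat.ofHom (algebraMap K' K))) W.isoSpec.hom (𝟙 _) (𝟙 _) hm.symm
      (by simp))

lemma isReduced_pullback
    [GeometricallyReduced (Spec.map (CommRingCat.ofHom (algebraMap K' K)))]
    {Z : Scheme.{u}} [AlgebraicGeometry.IsReduced Z] (h : Z ⟶ Spec (CommRingCat.of K')) :
    AlgebraicGeometry.IsReduced
      (pullback h (Spec.map (CommRingCat.ofHom (algebraMap K' K)))) := by
  set φ := Spec.map (CommRingCat.ofHom (algebraMap K' K)) with hφ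
  apply +allowSynthFailures @IsReduced.of_openCover
    (𝒰 := Z.affineCover.pullback₁ (pullback.fst h φ))
  intro i
  change AlgebraicGeometry.IsReduced (pullback (pullback.fst h φ) (Z.affineCover.f i))
  haveI : AlgebraicGeometry.IsReduced (Z.affineCover.X i) :=
    isReduced_of_isOpenImmersion (Z.affineCover.f i)
  haveI h1 : AlgebraicGeometry.IsReduced (pullback (Z.affineCover.f i ≫ h) φ) :=
    isReduced_pullback_affine _
  haveI h2 : AlgebraicGeometry.IsReduced (pullback (Z.affineCover.f i) (pullback.fst h φ)) :=
    isReduced_of_isOpenImmersion (pullbackRightPullbackFstIso h φ (Z.affineCover.f i)).hom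
  exact isReduced_of_isOpenImmersion (pullbackSymmetry _ _).hom

lemma isReduced_subscheme_of_isRadical {X : Scheme.{u}} (I : X.IdealSheafData)
    (h : ∀ U, (I.ideal U).IsRadical) : AlgebraicGeometry.IsReduced I.subscheme := by
  apply +allowSynthFailures @IsReduced.of_openCover (𝒰 := I.subschemeCover.openCover)
  intro (U : X.affineOpens)
  change AlgebraicGeometry.IsReduced (Spec (CommRingCat.of (Γ(X, U.1) ⧸ I.ideal U)))
  rw [affine_isReduced_iff]
  exact (Ideal.isRadical_iff_quotient_reduced _).mp (h U)

lemma radical_eq_of_isReduced {X : Scheme.{u}} (I : X.IdealSheafData)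
    [AlgebraicGeometry.IsReduced I.subscheme] : I.radical = I := by
  ext U : 2
  rw [Scheme.IdealSheafData.radical_ideal]
  have h1 : AlgebraicGeometry.IsReduced (Spec (CommRingCat.of (Γ(X, U.1) ⧸ I.ideal U))) :=
    @isReduced_of_isOpenImmersion _ _ (I.subschemeCover.f U) (I.subschemeCover.map_prop U) _
  rw [affine_isReduced_iff] at h1
  exact ((Ideal.isRadical_iff_quotient_reduced _).mpr h1).radical

lemma isReduced_comap
    [GeometricallyReduced (Spec.map (CommRingCat.ofHom (algebraMap K' K)))]
    {Y : Scheme.{u}} (fY : Y ⟶ Spec (CommRingCat.of K')) (J : Y.IdealSheafData)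
    [AlgebraicGeometry.IsReduced J.subscheme] :
    AlgebraicGeometry.IsReduced
      (J.comap (pullback.fst fY (Spec.map (CommRingCat.ofHom (algebraMap K' K))))).subscheme := by
  set φ := Spec.map (CommRingCat.ofHom (algebraMap K' K)) with hφ
  haveI h1 : AlgebraicGeometry.IsReduced (pullback (J.subschemeι ≫ fY) φ) := isReduced_pullback _
  haveI h2 : AlgebraicGeometry.IsReduced (pullback J.subschemeι (pullback.fst fY φ)) :=
    isReduced_of_isOpenImmersion (pullbackRightPullbackFstIso fY φ J.subschemeι).hom
  haveI h3 : AlgebraicGeometry.IsReduced (pullback (pullback.fst fY φ) J.subschemeι) :=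
    isReduced_of_isOpenImmersion (pullbackSymmetry _ _).hom
  exact isReduced_of_isOpenImmersion (J.comapIso _).hom

end Groth.Agent.Lib.Helper11.GRed
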