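import Mathlib

/-!
# Bounding residue field degrees of finite ring maps (helper11)
-/

set_option autoImplicit false
universe u

namespace Groth.Agent.Lib.Helper11.ResDeg

/-- abstract form: `A → B` with `B` spanned by `N` elements, compatible "evaluations" into fields
`k → K` such that every element of `K` is a quotient of evaluations: then `[K : k] ≤ N`. -/
theorem finrank_le_of_span {A B k K : Type u} [CommRing A] [CommRing B] [Field k] [Field K]
    (φ : A →+* B) (ι : k →+* K) (eA : A →+* k) (eB : B →+* K)
    (hcomm : ∀ a, ι (eA a) = eB (φ a)) (N : ℕ) (b : Fin N → B)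
    (hb : ∀ x : B, ∃ c : Fin N → A, x = ∑ i, φ (c i) * b i)
    (hK : ∀ z : K, ∃ x y : B, eB y ≠ 0 ∧ z = eB x / eB y) :
    letI := ι.toAlgebra
    Module.Finite k K ∧ Module.finrank k K ≤ N := by
  letI := ι.toAlgebra
  have halg : ∀ c : k, algebraMap k K c = ι c := fun _ => rfl
  set S : Submodule k K := Submodule.span k (Set.range (fun i => eB (b i))) with hS
  have h1 : ∀ x : B, eB x ∈ S := by
    intro x
    obtain ⟨c, rfl⟩ := hb x
    rw [map_sum]
    refine Submodule.sum_mem _ (fun i _ => ?_)
    rw [map_mul, ← hcomm, ← halg, ← Algebra.smul_def]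
    exact Submodule.smul_mem _ _ (Submodule.subset_span ⟨i, rfl⟩)
  have hone : (1 : K) ∈ S := by
    have := h1 1
    rwa [map_one] at this
  have hmul : ∀ x y : K, x ∈ S → y ∈ S → x * y ∈ S := by
    intro x y hx hy
    induction hx using Submodule.span_induction with
    | mem x hx =>
      obtain ⟨i, rfl⟩ := hx
      induction hy using Submodule.span_induction with
      | mem y hy =>
        obtain ⟨j, rfl⟩ := hy
        rw [← map_mul]
        exact h1 _
      | zero => rw [mul_zero]; exact S.zero_mem
      | add y y' _ _ hy hy' => rw [mul_add]; exact S.add_mem hy hy'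
      | smul c y _ hy => rw [mul_smul_comm]; exact S.smul_mem c hy
    | zero => rw [zero_mul]; exact S.zero_mem
    | add x x' _ _ hx hx' => rw [add_mul]; exact S.add_mem hx hx'
    | smul c x _ hx => rw [smul_mul_assoc]; exact S.smul_mem c hx
  let S' : Subalgebra k K := Submodule.toSubalgebra S hone hmul
  have hS'fg : S'.toSubmodule.FG := by
    have : S'.toSubmodule = S := rfl
    rw [this, hS]
    exact Submodule.fg_span (Set.finite_range _)
  have htop : S = ⊤ := by
    rw [eq_top_iff]
    intro z _
    obtain ⟨x, y, hy, rfl⟩ := hK z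
    rw [div_eq_mul_inv]
    refine hmul _ _ (h1 x) ?_
    have hyS : eB y ∈ S' := h1 y
    have hint : IsIntegral k (eB y) := IsIntegral.of_mem_of_fg S' hS'fg _ hyS
    exact Subalgebra.inv_mem_of_algebraic (A := S') (x := ⟨eB y, hyS⟩) hint.isAlgebraic
  have hfin : Module.Finite k K := by
    rw [Module.finite_def, ← htop, hS]
    exact Submodule.fg_span (Set.finite_range _)
  refine ⟨hfin, ?_⟩
  have h2 : Module.finrank k K = Module.finrank k S := by
    rw [htop, finrank_top]
  rw [h2, hS]
  exact (finrank_range_le_card (R := k) (fun i => eB (b i))).trans (by simp)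

end Groth.Agent.Lib.Helper11.ResDeg
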