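import Mathlib
import Groth.Agent.Lib.Helper11.ResDeg

/-!
# Bounding residue field degrees of finite morphisms (helper11)
-/

set_option autoImplicit false
universe u
open CategoryTheory AlgebraicGeometry

namespace Groth.Agent.Lib.Helper11.ResDeg

/-- on an affine open, every element of a residue field is a quotient of evaluations. -/
theorem exists_evaluation_div {X : Scheme.{u}} {U : X.Opens} (hU : IsAffineOpen U) (x : X)
    (hx : x ∈ U) (z : X.residueField x) :
    ∃ a s : Γ(X, U), (X.evaluation U x hx).hom s ≠ 0 ∧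
      z = (X.evaluation U x hx).hom a / (X.evaluation U x hx).hom s := by
  obtain ⟨w, rfl⟩ := IsLocalRing.residue_surjective (R := X.presheaf.stalk x) z
  letI := X.presheaf.algebra_section_stalk ⟨x, hx⟩
  haveI := hU.isLocalization_stalk ⟨x, hx⟩
  obtain ⟨⟨a, s⟩, hw⟩ := IsLocalization.surj (hU.primeIdealOf ⟨x, hx⟩).asIdeal.primeCompl w
  have hunit : IsUnit (algebraMap Γ(X, U) (X.presheaf.stalk x) s.1) :=
    IsLocalization.map_units _ s
  have halg : ∀ r : Γ(X, U), IsLocalRing.residue (X.presheaf.stalk x)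
      (algebraMap Γ(X, U) (X.presheaf.stalk x) r) = (X.evaluation U x hx).hom r := fun _ => rfl
  have hs : (X.evaluation U x hx).hom s.1 ≠ 0 := by
    rw [← halg]
    exact (hunit.map (IsLocalRing.residue (X.presheaf.stalk x))).ne_zero
  refine ⟨a, s.1, hs, ?_⟩
  rw [eq_div_iff hs, ← halg, ← halg]
  have h3 := congrArg (IsLocalRing.residue (X.presheaf.stalk x)) hw
  rw [map_mul] at h3
  exact h3

/-- residue degree bound over one affine open. -/
theorem exists_bound_of_isAffineOpen {T' T : Scheme.{u}} (p : T' ⟶ T) [IsFinite p] (U : T.Opens)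
    (hU : IsAffineOpen U) :
    ∃ N : ℕ, ∀ t' : T', p t' ∈ U →
      @Module.Finite (T.residueField (p t')) (T'.residueField t') _ _
        (p.residueFieldMap t').hom.toAlgebra.toModule ∧
      @Module.finrank (T.residueField (p t')) (T'.residueField t') _ _
        (p.residueFieldMap t').hom.toAlgebra.toModule ≤ N := by
  have hfin : (p.app U).hom.Finite := p.finite_app U hU
  letI := (p.app U).hom.toAlgebra
  haveI : Module.Finite Γ(T, U) Γ(T', p ⁻¹ᵁ U) := hfin
  obtain ⟨N, b, hb⟩ := Module.Finite.exists_fin (R := Γ(T, U)) (M := Γ(T', p ⁻¹ᵁ U))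
  refine ⟨N, fun t' ht' => ?_⟩
  have hU' : IsAffineOpen (p ⁻¹ᵁ U) := hU.preimage p
  refine finrank_le_of_span (p.app U).hom (p.residueFieldMap t').hom
    (T.evaluation U (p t') ht').hom (T'.evaluation (p ⁻¹ᵁ U) t' ht').hom ?_ N b ?_ ?_
  · intro a
    exact Scheme.evaluation_naturality_apply p t' ht' a
  · intro x
    have hx : x ∈ Submodule.span Γ(T, U) (Set.range b) := by rw [hb]; trivial
    obtain ⟨c, hc⟩ := (Submodule.mem_span_range_iff_exists_fun _).mp hx
    refine ⟨c, ?_⟩
    rw [← hc]
    rfl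
  · intro z
    obtain ⟨a, s, hs, hz⟩ := exists_evaluation_div hU' t' ht' z
    exact ⟨a, s, hs, hz⟩

theorem exists_bound {T' T : Scheme.{u}} (p : T' ⟶ T) [IsFinite p] [CompactSpace T] :
    ∃ N : ℕ, ∀ t' : T',
      @Module.Finite (T.residueField (p t')) (T'.residueField t') _ _
        (p.residueFieldMap t').hom.toAlgebra.toModule ∧
      @Module.finrank (T.residueField (p t')) (T'.residueField t') _ _
        (p.residueFieldMap t').hom.toAlgebra.toModule ≤ N := by
  classical
  let 𝒰 := T.affineCover.finiteSubcover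
  have h : ∀ j : 𝒰.I₀, ∃ N : ℕ, ∀ t' : T', p t' ∈ (𝒰.f j).opensRange →
      @Module.Finite (T.residueField (p t')) (T'.residueField t') _ _
        (p.residueFieldMap t').hom.toAlgebra.toModule ∧
      @Module.finrank (T.residueField (p t')) (T'.residueField t') _ _
        (p.residueFieldMap t').hom.toAlgebra.toModule ≤ N :=
    fun j => exists_bound_of_isAffineOpen p _ (isAffineOpen_opensRange (𝒰.f j))
  choose N hN using h
  refine ⟨Finset.univ.sup N, fun t' => ?_⟩
  obtain ⟨j, y, hy⟩ := 𝒰.exists_eq (p t')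
  obtain ⟨h1, h2⟩ := hN j t' ⟨y, hy⟩
  exact ⟨h1, h2.trans (Finset.le_sup (f := N) (Finset.mem_univ j))⟩

end Groth.Agent.Lib.Helper11.ResDeg
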