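import Mathlib

/-!
# Characteristic polynomials for endomorphisms of finite projective modules via presentations
(helper11)

For a retract `i : M → F`, `p : F → M` (`p ∘ i = id`) of a finite free module `F`, and an
endomorphism `φ` of `M`, we consider `ext i p φ = φ ⊕ 1` on `F = M ⊕ ker p`.  Its characteristic
polynomial only depends on the rank of `F`, it is compatible with base change, and it kills `φ`.
-/

set_option autoImplicit false
universe u

open Polynomial TensorProduct

namespace Groth.Agent.Lib.Helper11.FinQuotA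

section ext

variable {A M F F' : Type*} [CommRing A] [AddCommGroup M] [Module A M]
  [AddCommGroup F] [Module A F] [AddCommGroup F'] [Module A F']

/-- `φ ⊕ 1` on `F = M ⊕ ker p`. -/
def ext (i : M →ₗ[A] F) (p : F →ₗ[A] M) (φ : M →ₗ[A] M) : F →ₗ[A] F :=
  i ∘ₗ φ ∘ₗ p + (LinearMap.id - i ∘ₗ p)

@[simp] theorem ext_apply (i : M →ₗ[A] F) (p : F →ₗ[A] M) (φ : M →ₗ[A] M) (x : F) :
    ext i p φ x = i (φ (p x)) + (x - i (p x)) := rfl

variable {i : M →ₗ[A] F} {p : F →ₗ[A] M} (hpi : ∀ m, p (i m) = m)
variable {i' : M →ₗ[A] F'} {p' : F' →ₗ[A] M} (hpi' : ∀ m, p' (i' m) = m)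

include hpi in
theorem p_ext (φ : M →ₗ[A] M) (x : F) : p (ext i p φ x) = φ (p x) := by
  simp [hpi]

include hpi in
theorem p_ext_pow_i (φ : M →ₗ[A] M) (n : ℕ) (m : M) :
    p (((ext i p φ) ^ n) (i m)) = (φ ^ n) m := by
  induction n with
  | zero => simp [hpi]
  | succ n ih =>
    rw [pow_succ', pow_succ']
    show p (ext i p φ (((ext i p φ) ^ n) (i m))) = φ ((φ ^ n) m)
    rw [p_ext hpi, ih]

include hpi in
theorem aeval_ext (φ : M →ₗ[A] M) (P : A[X]) (m : M) :
    p ((aeval (ext i p φ) P) (i m)) = (aeval φ P) m := by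
  induction P using Polynomial.induction_on' with
  | add P Q hP hQ =>
    rw [map_add, map_add, LinearMap.add_apply, LinearMap.add_apply, map_add, hP, hQ]
  | monomial n a =>
    rw [aeval_monomial, aeval_monomial]
    show p (a • (((ext i p φ) ^ n) (i m))) = a • ((φ ^ n) m)
    rw [map_smul, p_ext_pow_i hpi]

include hpi in
theorem aeval_charpoly_ext [Module.Free A F] [Module.Finite A F] (φ : M →ₗ[A] M) :
    aeval φ (ext i p φ).charpoly = 0 := by
  apply LinearMap.ext
  intro m
  rw [← aeval_ext hpi φ, LinearMap.aeval_self_charpoly]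
  simp

/-- the involution of `F × F'` exchanging the two copies of `M` -/
def swapM (i : M →ₗ[A] F) (p : F →ₗ[A] M) (i' : M →ₗ[A] F') (p' : F' →ₗ[A] M) :
    (F × F') →ₗ[A] (F × F') :=
  LinearMap.prod
    ((LinearMap.id - i ∘ₗ p) ∘ₗ LinearMap.fst A F F' + (i ∘ₗ p') ∘ₗ LinearMap.snd A F F')
    ((i' ∘ₗ p) ∘ₗ LinearMap.fst A F F' + (LinearMap.id - i' ∘ₗ p') ∘ₗ LinearMap.snd A F F')

theorem swapM_apply (i : M →ₗ[A] F) (p : F →ₗ[A] M) (i' : M →ₗ[A] F') (p' : F' →ₗ[A] M)
    (x : F) (y : F') :
    swapM i p i' p' (x, y) = (x - i (p x) + i (p' y), i' (p x) + (y - i' (p' y))) := rfl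

include hpi hpi' in
theorem swapM_swapM (x : F × F') : swapM i p i' p' (swapM i p i' p' x) = x := by
  obtain ⟨x, y⟩ := x
  have h1 : p (x - i (p x) + i (p' y)) = p' y := by simp [hpi]
  have h2 : p' (i' (p x) + (y - i' (p' y))) = p x := by simp [hpi']
  rw [swapM_apply, swapM_apply, h1, h2]
  exact Prod.ext (by dsimp only; abel) (by dsimp only; abel)

include hpi hpi' in
theorem swapM_comp (φ : M →ₗ[A] M) (x : F × F') :
    swapM i p i' p' ((ext i p φ).prodMap LinearMap.id x) =
      ((LinearMap.id : F →ₗ[A] F).prodMap (ext i' p' φ)) (swapM i p i' p' x) := by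
  obtain ⟨x, y⟩ := x
  have h1 : p (i (φ (p x)) + (x - i (p x))) = φ (p x) := by simp [hpi]
  have h2 : p' (i' (p x) + (y - i' (p' y))) = p x := by simp [hpi']
  rw [swapM_apply]
  show swapM i p i' p' (i (φ (p x)) + (x - i (p x)), y) =
    (x - i (p x) + i (p' y), i' (φ (p' (i' (p x) + (y - i' (p' y))))) +
      ((i' (p x) + (y - i' (p' y))) - i' (p' (i' (p x) + (y - i' (p' y))))))
  rw [swapM_apply, h1, h2]
  exact Prod.ext (by dsimp only; abel) (by dsimp only; abel)

include hpi hpi' in
/-- The characteristic polynomial of `φ ⊕ 1` only depends on the rank of the ambient free module.-/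
theorem charpoly_ext_eq [Module.Free A F] [Module.Finite A F] [Module.Free A F']
    [Module.Finite A F'] (hrank : Nontrivial A → Module.finrank A F = Module.finrank A F')
    (φ : M →ₗ[A] M) :
    (ext i p φ).charpoly = (ext i' p' φ).charpoly := by
  rcases subsingleton_or_nontrivial A with hA | hA
  · exact Polynomial.ext fun n => Subsingleton.elim _ _
  replace hrank := hrank hA
  let T := swapM i p i' p'
  let e : (F × F') ≃ₗ[A] (F × F') := LinearEquiv.ofLinear T T
    (LinearMap.ext (swapM_swapM hpi hpi')) (LinearMap.ext (swapM_swapM hpi hpi'))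
  have hconj : e.conj ((ext i p φ).prodMap LinearMap.id) =
      (LinearMap.id : F →ₗ[A] F).prodMap (ext i' p' φ) := by
    apply LinearMap.ext
    intro x
    show T (((ext i p φ).prodMap LinearMap.id) (T x)) = _
    rw [swapM_comp hpi hpi' φ (T x), swapM_swapM hpi hpi']
  have h1 := LinearEquiv.charpoly_conj e ((ext i p φ).prodMap LinearMap.id)
  rw [hconj, LinearMap.charpoly_prodMap, LinearMap.charpoly_prodMap] at h1
  have hidF : (LinearMap.id : F →ₗ[A] F).charpoly = (X - 1) ^ Module.finrank A F :=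
    LinearMap.charpoly_one (R := A) (M := F)
  have hidF' : (LinearMap.id : F' →ₗ[A] F').charpoly = (X - 1) ^ Module.finrank A F' :=
    LinearMap.charpoly_one (R := A) (M := F')
  rw [hidF, hidF', hrank] at h1
  have hm : (X - 1 : A[X]).Monic := by simpa using monic_X_sub_C (1 : A)
  have hreg : IsRegular ((X - 1 : A[X]) ^ Module.finrank A F') := (hm.pow _).isRegular
  apply hreg.left
  show (X - 1 : A[X]) ^ Module.finrank A F' * (ext i p φ).charpoly =
    (X - 1 : A[X]) ^ Module.finrank A F' * (ext i' p' φ).charpoly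
  rw [h1, mul_comm]

end ext

section basechange

variable (R S R' S' : Type*) [CommRing R] [CommRing S] [CommRing R'] [CommRing S']
  [Algebra R S] [Algebra R R'] [Algebra S S'] [Algebra R' S'] [Algebra R S']
  [IsScalarTower R R' S'] [IsScalarTower R S S'] [Algebra.IsPushout R S R' S']
  {F : Type*} [AddCommGroup F] [Module R F]

/-- base change of a section -/
noncomputable def bcI (i : R' →ₗ[R] F) : S' →ₗ[S] (S ⊗[R] F) :=
  (i.baseChange S) ∘ₗ (Algebra.IsPushout.equiv R S R' S').symm.toLinearMap

/-- base change of a retraction -/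
noncomputable def bcP (p : F →ₗ[R] R') : (S ⊗[R] F) →ₗ[S] S' :=
  (Algebra.IsPushout.equiv R S R' S').toLinearMap ∘ₗ (p.baseChange S)

variable {i : R' →ₗ[R] F} {p : F →ₗ[R] R'}

theorem bcP_bcI (hpi : ∀ m, p (i m) = m) (m : S') :
    bcP R S R' S' p (bcI R S R' S' i m) = m := by
  have h1 : (p.baseChange S) ∘ₗ (i.baseChange S) = LinearMap.id := by
    rw [← LinearMap.baseChange_comp]
    have : p ∘ₗ i = LinearMap.id := LinearMap.ext hpi
    rw [this, LinearMap.baseChange_id]
  show (Algebra.IsPushout.equiv R S R' S') ((p.baseChange S) ((i.baseChange S)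
    ((Algebra.IsPushout.equiv R S R' S').symm m))) = m
  have h2 := LinearMap.congr_fun h1 ((Algebra.IsPushout.equiv R S R' S').symm m)
  rw [LinearMap.comp_apply, LinearMap.id_apply] at h2
  rw [h2, AlgEquiv.apply_symm_apply]

theorem ext_bc (g : R') :
    ext (bcI R S R' S' i) (bcP R S R' S' p) (Algebra.lmul S S' (algebraMap R' S' g)) =
      (ext i p (Algebra.lmul R R' g)).baseChange S := by
  have h1 : (ext i p (Algebra.lmul R R' g)).baseChange S =
      (i.baseChange S) ∘ₗ (Algebra.lmul S (S ⊗[R] R') ((1 : S) ⊗ₜ[R] g)) ∘ₗ (p.baseChange S) +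
        (LinearMap.id - (i.baseChange S) ∘ₗ (p.baseChange S)) := by
    rw [ext, LinearMap.baseChange_add, LinearMap.baseChange_sub, LinearMap.baseChange_comp,
      LinearMap.baseChange_comp, LinearMap.baseChange_comp, LinearMap.baseChange_id,
      Algebra.baseChange_lmul]
  rw [h1]
  apply LinearMap.ext
  intro z
  show (i.baseChange S) ((Algebra.IsPushout.equiv R S R' S').symm (algebraMap R' S' g *
      (Algebra.IsPushout.equiv R S R' S') ((p.baseChange S) z))) +
      (z - (i.baseChange S) ((Algebra.IsPushout.equiv R S R' S').symm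
        ((Algebra.IsPushout.equiv R S R' S') ((p.baseChange S) z)))) =
    (i.baseChange S) (((1 : S) ⊗ₜ[R] g) * (p.baseChange S) z) +
      (z - (i.baseChange S) ((p.baseChange S) z))
  rw [map_mul, AlgEquiv.symm_apply_apply, Algebra.IsPushout.equiv_symm_algebraMap_right]

theorem charpoly_ext_bc [Module.Free R F] [Module.Finite R F] (g : R') :
    (ext (bcI R S R' S' i) (bcP R S R' S' p)
      (Algebra.lmul S S' (algebraMap R' S' g))).charpoly =
      ((ext i p (Algebra.lmul R R' g)).charpoly).map (algebraMap R S) := by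
  rw [ext_bc, LinearMap.charpoly_baseChange]

end basechange

end Groth.Agent.Lib.Helper11.FinQuotA
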