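import Mathlib
import Groth.Agent.Lib.Helper11.FinQuotA

/-!
# The norm of a finite projective algebra attached to a presentation (helper11)

`pnorm i p h = det (lmul h ⊕ 1)`.  Its zero locus is the image of the zero locus of `h`.
-/

set_option autoImplicit false
universe u

open Polynomial TensorProduct

namespace Groth.Agent.Lib.Helper11.FinQuotC

open Groth.Agent.Lib.Helper11.FinQuotA

section field

variable {K M F : Type*} [Field K] [AddCommGroup M] [Module K M] [AddCommGroup F] [Module K F]
  [FiniteDimensional K F] {i : M →ₗ[K] F} {p : F →ₗ[K] M} (hpi : ∀ m, p (i m) = m)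

include hpi in
theorem det_ext_eq_det (φ : M →ₗ[K] M) : LinearMap.det (ext i p φ) = LinearMap.det φ := by
  haveI : FiniteDimensional K M :=
    FiniteDimensional.of_injective i (Function.LeftInverse.injective hpi)
  let Q := LinearMap.ker p
  let f : F →ₗ[K] M × Q := LinearMap.prod p
    (LinearMap.codRestrict Q (LinearMap.id - i ∘ₗ p) (fun x => by
      show p (x - i (p x)) = 0
      rw [map_sub, hpi, sub_self]))
  let g : M × Q →ₗ[K] F := LinearMap.coprod i Q.subtype
  have hgf : ∀ x, g (f x) = x := fun x => by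
    show i (p x) + (x - i (p x)) = x
    abel
  have hfg : ∀ y, f (g y) = y := by
    rintro ⟨m, ⟨q, hq⟩⟩
    have hq' : p q = 0 := hq
    have h1 : p (i m + q) = m := by rw [map_add, hpi, hq', add_zero]
    apply Prod.ext
    · exact h1
    · apply Subtype.ext
      show (i m + q) - i (p (i m + q)) = q
      rw [h1]; abel
  let e : F ≃ₗ[K] M × Q := LinearEquiv.ofLinear f g (LinearMap.ext hfg) (LinearMap.ext hgf)
  have hconj : (e : F →ₗ[K] M × Q) ∘ₗ (ext i p φ) ∘ₗ (e.symm : M × Q →ₗ[K] F) =
      φ.prodMap LinearMap.id := by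
    apply LinearMap.ext
    rintro ⟨m, ⟨q, hq⟩⟩
    have hq' : p q = 0 := hq
    have h1 : p (i m + q) = m := by rw [map_add, hpi, hq', add_zero]
    have h2 : ext i p φ (i m + q) = i (φ m) + q := by
      rw [ext_apply, h1]; abel
    have h3 : p (i (φ m) + q) = φ m := by rw [map_add, hpi, hq', add_zero]
    show f (ext i p φ (i m + q)) = (φ m, ⟨q, hq⟩)
    rw [h2]
    apply Prod.ext
    · exact h3
    · apply Subtype.ext
      show (i (φ m) + q) - i (p (i (φ m) + q)) = q
      rw [h3]; abel
  rw [← LinearMap.det_conj (ext i p φ) e, hconj, LinearMap.det_prodMap, LinearMap.det_id, mul_one]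

end field

section norm

variable {A B : Type u} [CommRing A] [CommRing B] [Algebra A B] {F : Type u} [AddCommGroup F]
  [Module A F] [Module.Free A F] [Module.Finite A F]

/-- the norm attached to a presentation -/
noncomputable def pnorm (i : B →ₗ[A] F) (p : F →ₗ[A] B) (h : B) : A :=
  LinearMap.det (ext i p (Algebra.lmul A B h))

variable {i : B →ₗ[A] F} {p : F →ₗ[A] B} (hpi : ∀ m, p (i m) = m)

include hpi in
theorem aeval_charpoly_self (h : B) :
    aeval h (ext i p (Algebra.lmul A B h)).charpoly = 0 := by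
  have hCH := aeval_charpoly_ext hpi (Algebra.lmul A B h)
  rw [Polynomial.aeval_algHom_apply] at hCH
  have h2 := LinearMap.congr_fun hCH (1 : B)
  have h5 : aeval h (ext i p (Algebra.lmul A B h)).charpoly * 1 = 0 := h2
  rwa [mul_one] at h5

include hpi in
theorem algebraMap_pnorm_mem (h : B) : algebraMap A B (pnorm i p h) ∈ Ideal.span {h} := by
  set P := (ext i p (Algebra.lmul A B h)).charpoly with hP
  have h0 : aeval h P = 0 := aeval_charpoly_self hpi h
  have h1 : aeval h P = aeval h P.divX * h + algebraMap A B (P.coeff 0) := by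
    conv_lhs => rw [← Polynomial.divX_mul_X_add P]
    rw [map_add, map_mul, aeval_X, aeval_C]
  have h2 : algebraMap A B (P.coeff 0) = - (aeval h P.divX) * h := by
    rw [h0] at h1
    linear_combination -h1
  have h3 : algebraMap A B (P.coeff 0) ∈ Ideal.span {h} := by
    rw [h2]
    exact Ideal.mul_mem_left _ _ (Ideal.subset_span rfl)
  have h4 : pnorm i p h = (-1) ^ Module.finrank A F * P.coeff 0 :=
    LinearMap.det_eq_sign_charpoly_coeff _
  rw [h4, map_mul]
  exact Ideal.mul_mem_left _ _ h3

include hpi in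
theorem pnorm_mem_comap (h : B) (𝔮 : Ideal B) (hh : h ∈ 𝔮) :
    pnorm i p h ∈ 𝔮.comap (algebraMap A B) := by
  have h1 := algebraMap_pnorm_mem hpi h
  exact (Ideal.span_le.mpr (Set.singleton_subset_iff.mpr hh)) h1

include hpi in
theorem exists_prime_of_pnorm_mem (h : B) (𝔭 : Ideal A) [𝔭.IsPrime] (hg : pnorm i p h ∈ 𝔭) :
    ∃ 𝔮 : Ideal B, 𝔮.IsPrime ∧ 𝔮.comap (algebraMap A B) = 𝔭 ∧ h ∈ 𝔮 := by
  let K := 𝔭.ResidueField
  let D := K ⊗[A] B
  have hpiK : ∀ m, (p.baseChange K) ((i.baseChange K) m) = m := by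
    intro m
    have h1 : (p.baseChange K) ∘ₗ (i.baseChange K) = LinearMap.id := by
      rw [← LinearMap.baseChange_comp]
      have : p ∘ₗ i = LinearMap.id := LinearMap.ext hpi
      rw [this, LinearMap.baseChange_id]
    exact LinearMap.congr_fun h1 m
  have h1 : algebraMap A K (pnorm i p h) =
      LinearMap.det ((ext i p (Algebra.lmul A B h)).baseChange K) :=
    (LinearMap.det_baseChange _).symm
  have h2 : (ext i p (Algebra.lmul A B h)).baseChange K =
      ext (i.baseChange K) (p.baseChange K) (Algebra.lmul K D ((1 : K) ⊗ₜ[A] h)) := by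
    rw [FinQuotA.ext, LinearMap.baseChange_add, LinearMap.baseChange_sub, LinearMap.baseChange_comp,
      LinearMap.baseChange_comp, LinearMap.baseChange_comp, LinearMap.baseChange_id,
      Algebra.baseChange_lmul]
    rfl
  have h3 : LinearMap.det (Algebra.lmul K D ((1 : K) ⊗ₜ[A] h)) = 0 := by
    rw [← det_ext_eq_det hpiK, ← h2, ← h1]
    exact Ideal.algebraMap_residueField_eq_zero.mpr hg
  have hnu : ((1 : K) ⊗ₜ[A] h : D) ∈ nonunits D := by
    intro hu
    obtain ⟨v, hv⟩ := hu.exists_right_inv
    have h4 : LinearMap.det (Algebra.lmul K D ((1 : K) ⊗ₜ[A] h)) *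
        LinearMap.det (Algebra.lmul K D v) = 1 := by
      rw [← map_mul, ← map_mul, hv, map_one, map_one]
    rw [h3, zero_mul] at h4
    exact zero_ne_one h4
  obtain ⟨𝔔, hmax, hmem⟩ := exists_max_ideal_of_mem_nonunits hnu
  haveI := hmax.isPrime
  refine ⟨𝔔.comap (Algebra.TensorProduct.includeRight : B →ₐ[A] D).toRingHom,
    Ideal.comap_isPrime _ _, ?_, ?_⟩
  · ext x
    show (Algebra.TensorProduct.includeRight : B →ₐ[A] D) (algebraMap A B x) ∈ 𝔔 ↔ x ∈ 𝔭
    rw [AlgHom.commutes]
    have h5 : algebraMap A D x = algebraMap K D (algebraMap A K x) :=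
      IsScalarTower.algebraMap_apply A K D x
    rw [h5]
    constructor
    · intro hx
      by_contra hx𝔭
      have h6 : algebraMap A K x ≠ 0 := fun h0 =>
        hx𝔭 (Ideal.algebraMap_residueField_eq_zero.mp h0)
      have h7 : IsUnit (algebraMap K D (algebraMap A K x)) := (IsUnit.mk0 _ h6).map _
      exact hmax.ne_top (Ideal.eq_top_of_isUnit_mem _ hx h7)
    · intro hx
      rw [Ideal.algebraMap_residueField_eq_zero.mpr hx, map_zero]
      exact 𝔔.zero_mem
  · show (Algebra.TensorProduct.includeRight : B →ₐ[A] D) h ∈ 𝔔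
    exact hmem

end norm

end Groth.Agent.Lib.Helper11.FinQuotC
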