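import Mathlib
import Groth.Prelude.Def_Grpd
import Groth.Agent.Lib.Helper11.GrpdLib
import Groth.Agent.Lib.Helper11.FinQuotA
import Groth.Agent.Lib.Helper11.FinQuotC

/-!
# Norm sections for finite locally free morphisms and invariant affine opens (helper11)
-/

set_option autoImplicit false
universe u

open CategoryTheory CategoryTheory.Limits AlgebraicGeometry TensorProduct
open Groth.Agent.Lib.Helper11.GrpdLib
open Groth.Agent.Lib.Helper11.FinQuotA Groth.Agent.Lib.Helper11.FinQuotC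

namespace Groth.Agent.Lib.Helper11.FinQuotD

section general

variable {X Y : Scheme.{u}}

theorem mem_basicOpen_iff (r : Γ(X, ⊤)) (x : X) :
    x ∈ X.basicOpen r ↔ r ∉ (X.toSpecΓ x).asIdeal := by
  rw [← X.toSpecΓ_preimage_basicOpen r]
  rfl

theorem toSpecΓ_apply_comp (π : Y ⟶ X) (y : Y) :
    (X.toSpecΓ (π y)).asIdeal = Ideal.comap π.appTop.hom (Y.toSpecΓ y).asIdeal := by
  have h := Scheme.toSpecΓ_naturality π
  have h2 : X.toSpecΓ (π y) = (Spec.map π.appTop) (Y.toSpecΓ y) := by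
    rw [← Scheme.Hom.comp_apply, ← Scheme.Hom.comp_apply, h]
  rw [h2]
  rfl

/-- prime avoidance (as in helper16's `exists_basicOpen_le_of_finite`) -/
theorem exists_basicOpen_le_of_finite [IsAffine X] (O : X.Opens) (s : Set ↥X) (hs : s.Finite)
    (hsO : s ⊆ O) : ∃ h : Γ(X, ⊤), X.basicOpen h ≤ O ∧ s ⊆ X.basicOpen h := by
  classical
  rcases s.eq_empty_or_nonempty with rfl | ⟨x₀, hx₀⟩
  · exact ⟨0, by simp, Set.empty_subset _⟩
  let φ : ↥X ≃ₜ PrimeSpectrum Γ(X, ⊤) := X.isoSpec.hom.homeomorph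
  have hmem : ∀ (r : Γ(X, ⊤)) (x : ↥X), x ∈ X.basicOpen r ↔ r ∉ (φ x).asIdeal := by
    intro r x
    rw [← X.toSpecΓ_preimage_basicOpen r]
    rfl
  let C : Set (PrimeSpectrum Γ(X, ⊤)) := φ '' (O : Set ↥X)ᶜ
  have hC : IsClosed C := φ.isClosedMap _ O.isOpen.isClosed_compl
  let I := PrimeSpectrum.vanishingIdeal C
  have hzero : PrimeSpectrum.zeroLocus (I : Set Γ(X, ⊤)) = C := by
    rw [PrimeSpectrum.zeroLocus_vanishingIdeal_eq_closure, hC.closure_eq]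
  have hnot : ∀ x, x ∈ (O : Set ↥X) → ¬ I ≤ (φ x).asIdeal := by
    intro x hx hle
    have h1 : φ x ∈ PrimeSpectrum.zeroLocus (I : Set Γ(X, ⊤)) := hle
    rw [hzero] at h1
    obtain ⟨y, hy, hyx⟩ := h1
    rw [φ.injective hyx] at hy
    exact hy hx
  have hex : ∃ h ∈ I, ∀ x ∈ s, h ∉ (φ x).asIdeal := by
    by_contra hcon
    push_neg at hcon
    have hsub : (I : Set Γ(X, ⊤)) ⊆ ⋃ x ∈ (↑hs.toFinset : Set ↥X),
        ((φ x).asIdeal : Set Γ(X, ⊤)) := by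
      intro h hh
      obtain ⟨x, hx, hxh⟩ := hcon h hh
      exact Set.mem_biUnion (by simpa using hx) hxh
    rw [Ideal.subset_union_prime x₀ x₀ (fun i _ _ _ => (φ i).isPrime)] at hsub
    obtain ⟨x, hx, hle⟩ := hsub
    exact hnot x (hsO (hs.mem_toFinset.1 hx)) hle
  obtain ⟨h, hhI, hh⟩ := hex
  refine ⟨h, ?_, fun x hx => (hmem h x).2 (hh x hx)⟩
  intro x hx
  by_contra hxO
  have h1 : φ x ∈ C := ⟨x, hxO, rfl⟩
  rw [← hzero] at h1
  exact (hmem h x).1 hx (h1 hhI)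

variable [IsAffine X] (π : Y ⟶ X) [IsFinite π] [Flat π] [LocallyOfFinitePresentation π]

theorem exists_pres : letI := π.appTop.hom.toAlgebra
    ∃ (n : ℕ) (i : Γ(Y, ⊤) →ₗ[Γ(X, ⊤)] (Fin n → Γ(X, ⊤)))
      (p : (Fin n → Γ(X, ⊤)) →ₗ[Γ(X, ⊤)] Γ(Y, ⊤)), ∀ m, p (i m) = m := by
  letI := π.appTop.hom.toAlgebra
  haveI : IsAffine Y := isAffine_of_isAffineHom π
  haveI : Module.Finite Γ(X, ⊤) Γ(Y, ⊤) := π.finite_appTop
  haveI : Module.Flat Γ(X, ⊤) Γ(Y, ⊤) := π.flat_appTop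
  haveI : Algebra.FinitePresentation Γ(X, ⊤) Γ(Y, ⊤) :=
    (HasRingHomProperty.iff_of_isAffine (P := @LocallyOfFinitePresentation)).mp
      (inferInstanceAs (LocallyOfFinitePresentation π))
  haveI : Module.FinitePresentation Γ(X, ⊤) Γ(Y, ⊤) :=
    Module.FinitePresentation.of_finite_of_finitePresentation _ _
  haveI : Module.Projective Γ(X, ⊤) Γ(Y, ⊤) := Module.Flat.projective_of_finitePresentation
  obtain ⟨n, p, i, -, -, hpi⟩ :=
    Module.Finite.exists_comp_eq_id_of_projective Γ(X, ⊤) Γ(Y, ⊤)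
  exact ⟨n, i, p, fun m => LinearMap.congr_fun hpi m⟩

/-- For a finite locally free morphism `π : Y ⟶ X` to an affine scheme and a function `h` on `Y`,
there is a function `g` on `X` with `D(g) = X ∖ π(V(h))`. -/
theorem exists_norm_section (h : Γ(Y, ⊤)) :
    ∃ g : Γ(X, ⊤), ∀ x : X, x ∈ X.basicOpen g ↔ ∀ y : Y, π y = x → y ∈ Y.basicOpen h := by
  letI := π.appTop.hom.toAlgebra
  haveI : IsAffine Y := isAffine_of_isAffineHom π
  obtain ⟨n, i, p, hpi⟩ := exists_pres π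
  refine ⟨pnorm i p h, fun x => ?_⟩
  rw [mem_basicOpen_iff]
  constructor
  · intro hx y hy
    rw [mem_basicOpen_iff]
    intro hh
    apply hx
    rw [← hy, toSpecΓ_apply_comp]
    exact pnorm_mem_comap hpi h _ hh
  · intro hy hg
    haveI := (X.toSpecΓ x).isPrime
    obtain ⟨𝔮, h𝔮, hcomap, hh⟩ := exists_prime_of_pnorm_mem hpi h (X.toSpecΓ x).asIdeal hg
    let y : Y := Y.isoSpec.inv (⟨𝔮, h𝔮⟩ : PrimeSpectrum Γ(Y, ⊤))
    have hy1 : Y.toSpecΓ y = (⟨𝔮, h𝔮⟩ : PrimeSpectrum Γ(Y, ⊤)) := by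
      show Y.isoSpec.hom (Y.isoSpec.inv _) = _
      rw [← Scheme.Hom.comp_apply, Iso.inv_hom_id]
      rfl
    have hy2 : π y = x := by
      apply X.isoSpec.hom.homeomorph.injective
      show X.toSpecΓ (π y) = X.toSpecΓ x
      apply PrimeSpectrum.ext
      rw [toSpecΓ_apply_comp, hy1]
      exact hcomap
    have hy3 := hy y hy2
    rw [mem_basicOpen_iff, hy1] at hy3
    exact hy3 hh

end general

variable {S : Scheme.{u}} (G : Grpd.GroupoidScheme S)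

/-- points whose orbit lies in `D` -/
theorem orbit_subset_iff (D : Set G.U) (x : G.U) :
    (∀ r : G.R, G.s r = x → G.t r ∈ D) ↔ x ∉ ⇑G.t '' (⇑G.s ⁻¹' Dᶜ) := by
  constructor
  · rintro h ⟨r, hr, rfl⟩
    exact hr (by simpa [t_i_apply] using h (G.i r) (s_i_apply r))
  · intro h r hr
    by_contra hD
    exact h ⟨G.i r, by simpa [s_i_apply] using hD, by rw [t_i_apply, hr]⟩

theorem exists_invariant_affine_open [IsFinite G.s] [Flat G.s] [LocallyOfFinitePresentation G.s]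
    [IsFinite G.t] (u : G.U) (V : G.U.Opens) (hV : IsAffineOpen V)
    (huV : ∀ r : G.R, G.s r = u → G.t r ∈ V) :
    ∃ W : G.U.Opens, IsAffineOpen W ∧ u ∈ W ∧ G.s ⁻¹ᵁ W = G.t ⁻¹ᵁ W := by
  haveI : IsAffine V.toScheme := hV
  -- the largest invariant open in `V`
  set T : Set G.U := ⇑G.t '' (⇑G.s ⁻¹' (V : Set G.U)ᶜ) with hT
  have hTc : IsClosed T := G.t.isClosedMap _ (V.2.isClosed_compl.preimage G.s.continuous)
  have hTinv : ⇑G.s ⁻¹' T = ⇑G.t ⁻¹' T := preimage_image_invariant (G := G) _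
  have hW₀V : ∀ x, x ∉ T → x ∈ V := fun x hx => by
    by_contra hxV
    exact hx ⟨G.e x, by simpa [s_e_apply] using hxV, t_e_apply x⟩
  have huT : u ∉ T := (orbit_subset_iff G (V : Set G.U) u).mp huV
  have horbT : ∀ r : G.R, G.s r = u → G.t r ∉ T := by
    intro r hr hrT
    have h1 : r ∈ ⇑G.s ⁻¹' T := by rw [hTinv]; exact hrT
    exact huT (hr ▸ h1)
  -- the orbit is finite
  have hfin : (⇑G.t '' (⇑G.s ⁻¹' {u})).Finite := (G.s.finite_preimage_singleton u).image _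
  -- prime avoidance in `V`
  let O' : V.toScheme.Opens := V.ι ⁻¹ᵁ ⟨Tᶜ, hTc.isOpen_compl⟩
  have hfin' : (⇑V.ι ⁻¹' (⇑G.t '' (⇑G.s ⁻¹' {u}))).Finite :=
    hfin.preimage (V.ι.isOpenEmbedding.injective.injOn)
  obtain ⟨f', hf'O, hf'orb⟩ := exists_basicOpen_le_of_finite O' _ hfin' (by
    rintro x ⟨r, hr, hrx⟩
    show V.ι x ∈ Tᶜ
    rw [← hrx]
    exact horbT r hr)
  let D : G.U.Opens := V.ι ''ᵁ (V.toScheme.basicOpen f')
  have hD : IsAffineOpen D :=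
    ((isAffineOpen_top V.toScheme).basicOpen f').image_of_isOpenImmersion V.ι
  haveI : IsAffine D.toScheme := hD
  have hDT : ∀ x, x ∈ D → x ∉ T := by
    rintro x ⟨x', hx', rfl⟩
    exact hf'O hx'
  have hDV : ∀ x, x ∈ D → x ∈ V := fun x hx => hW₀V x (hDT x hx)
  have horbD : ∀ r : G.R, G.s r = u → G.t r ∈ D := by
    intro r hr
    have h1 : G.t r ∈ V := huV r hr
    refine ⟨⟨G.t r, h1⟩, hf'orb ⟨r, hr, rfl⟩, rfl⟩
  have hmemD : ∀ x' : V.toScheme, V.ι x' ∈ D ↔ x' ∈ V.toScheme.basicOpen f' := by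
    intro x'
    constructor
    · rintro ⟨x'', hx'', hxx⟩
      rwa [← V.ι.isOpenEmbedding.injective hxx]
    · intro hx'
      exact ⟨x', hx', rfl⟩
  -- the restriction of `s` over `D` and of `t`
  have htV : ∀ y : (G.s ⁻¹ᵁ D).toScheme, G.t ((G.s ⁻¹ᵁ D).ι y) ∈ V := by
    intro y
    have h1 : G.s ((G.s ⁻¹ᵁ D).ι y) ∈ D := y.2
    have h2 : (G.s ⁻¹ᵁ D).ι y ∉ ⇑G.s ⁻¹' T := hDT _ h1
    rw [hTinv] at h2
    exact hW₀V _ h2
  let τ : (G.s ⁻¹ᵁ D).toScheme ⟶ V.toScheme := IsOpenImmersion.lift V.ι ((G.s ⁻¹ᵁ D).ι ≫ G.t) (by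
    rintro _ ⟨y, rfl⟩
    rw [Scheme.Opens.range_ι]
    rw [Scheme.Hom.comp_apply]
    exact htV y)
  have hτ : τ ≫ V.ι = (G.s ⁻¹ᵁ D).ι ≫ G.t := IsOpenImmersion.lift_fac _ _ _
  have hτ' : ∀ y, V.ι (τ y) = G.t ((G.s ⁻¹ᵁ D).ι y) := fun y => by
    rw [← Scheme.Hom.comp_apply, hτ, Scheme.Hom.comp_apply]
  obtain ⟨g, hg⟩ := exists_norm_section (G.s ∣_ D) (τ.appTop.hom f')
  have hπ : ∀ y, D.ι ((G.s ∣_ D) y) = G.s ((G.s ⁻¹ᵁ D).ι y) := fun y => by
    rw [← Scheme.Hom.comp_apply, morphismRestrict_ι, Scheme.Hom.comp_apply]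
  refine ⟨D.ι ''ᵁ (D.toScheme.basicOpen g),
    ((isAffineOpen_top D.toScheme).basicOpen g).image_of_isOpenImmersion D.ι, ?_, ?_⟩
  all_goals
    have hchar : ∀ x : G.U, x ∈ D.ι ''ᵁ (D.toScheme.basicOpen g) ↔
        x ∉ ⇑G.t '' (⇑G.s ⁻¹' (D : Set G.U)ᶜ) := by
      intro x
      rw [← orbit_subset_iff]
      constructor
      · rintro ⟨x', hx', rfl⟩ r hr
        have hrD : r ∈ G.s ⁻¹ᵁ D := by
          show G.s r ∈ D
          rw [hr]; exact x'.2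
        have h1 := (hg x').mp hx' ⟨r, hrD⟩ (by
          apply D.ι.isOpenEmbedding.injective
          rw [hπ]
          exact hr)
        have h2 : (⟨r, hrD⟩ : (G.s ⁻¹ᵁ D).toScheme) ∈ τ ⁻¹ᵁ (V.toScheme.basicOpen f') := by
          rw [Scheme.preimage_basicOpen_top]
          exact h1
        have h3 := (hmemD _).mpr h2
        rw [hτ'] at h3
        exact h3
      · intro hx
        have hxD : x ∈ D := by simpa [t_e_apply] using hx (G.e x) (s_e_apply x)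
        refine ⟨⟨x, hxD⟩, (hg _).mpr ?_, rfl⟩
        intro y hy
        have h1 : G.s ((G.s ⁻¹ᵁ D).ι y) = x := by
          rw [← hπ, hy]
          rfl
        have h2 := hx _ h1
        rw [← hτ'] at h2
        have h3 : y ∈ τ ⁻¹ᵁ (V.toScheme.basicOpen f') := (hmemD _).mp h2
        rw [Scheme.preimage_basicOpen_top] at h3
        exact h3
  · rw [hchar, ← orbit_subset_iff]
    exact horbD
  · apply TopologicalSpace.Opens.ext
    have hset : ((D.ι ''ᵁ (D.toScheme.basicOpen g) : G.U.Opens) : Set G.U) =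
        (⇑G.t '' (⇑G.s ⁻¹' (D : Set G.U)ᶜ))ᶜ := by
      ext x
      exact hchar x
    show ⇑G.s ⁻¹' ((D.ι ''ᵁ (D.toScheme.basicOpen g) : G.U.Opens) : Set G.U) =
      ⇑G.t ⁻¹' ((D.ι ''ᵁ (D.toScheme.basicOpen g) : G.U.Opens) : Set G.U)
    rw [hset]
    show (⇑G.s ⁻¹' (⇑G.t '' (⇑G.s ⁻¹' (D : Set G.U)ᶜ)))ᶜ =
      (⇑G.t ⁻¹' (⇑G.t '' (⇑G.s ⁻¹' (D : Set G.U)ᶜ)))ᶜ
    rw [preimage_image_invariant (G := G) ((D : Set G.U)ᶜ)]

end Groth.Agent.Lib.Helper11.FinQuotD
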