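import Mathlib
import Groth.Prelude.Def_Mor2

universe u

open CategoryTheory Limits TopologicalSpace AlgebraicGeometry

namespace Groth.Agent.Lib.Helper11.QALib

/-- quasi-affine is invariant under isomorphism. -/
theorem qa_of_iso {X Y : Scheme.{u}} (e : X ≅ Y) [Y.IsQuasiAffine] : X.IsQuasiAffine :=
  Scheme.IsQuasiAffine.of_isAffineHom e.hom

/-- A quasi-compact scheme covered by quasi-affine basic opens of global sections is quasi-affine. -/
theorem qa_local (T : Scheme.{u}) [CompactSpace T]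
    (H : ∀ x : T, ∃ a : Γ(T, ⊤), x ∈ T.basicOpen a ∧ (T.basicOpen a : Scheme.{u}).IsQuasiAffine) :
    T.IsQuasiAffine := by
  suffices IsOpenImmersion T.toSpecΓ by constructor
  have hqs : QuasiSeparatedSpace T := by
    choose r hxr hr using H
    refine .of_isOpenCover (U := (T.basicOpen <| r ·))
      (eq_top_iff.mpr fun _ _ ↦ Opens.mem_iSup.mpr ⟨_, hxr _⟩)
      (fun _ ↦ isRetrocompact_basicOpen _) (fun x ↦ ?_)
    haveI := hr x
    have : QuasiSeparatedSpace (T.basicOpen (r x) : Scheme.{u}) :=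
      QuasiSeparatedSpace.of_isOpenEmbedding (f := (T.basicOpen (r x) : Scheme.{u}).toSpecΓ)
        (T.basicOpen (r x) : Scheme.{u}).toSpecΓ.isOpenEmbedding
    exact (isQuasiSeparated_iff_quasiSeparatedSpace _ (T.basicOpen (r x)).2).mpr this
  refine IsZariskiLocalAtTarget.of_forall_source_exists_preimage _ fun x ↦ ?_
  obtain ⟨r, hxr, hr⟩ := H x
  refine ⟨PrimeSpectrum.basicOpen r, (T.toSpecΓ_preimage_basicOpen r).ge hxr, ?_⟩
  suffices IsOpenImmersion ((T.basicOpen r).ι ≫ T.toSpecΓ) by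
    convert! this <;> rw [Scheme.toSpecΓ_preimage_basicOpen]
  rw [← Scheme.Opens.toSpecΓ_SpecMap_presheaf_map_top]
  have := isLocalization_basicOpen_of_qcqs isCompact_univ isQuasiSeparated_univ r
  haveI : IsOpenImmersion (T.basicOpen r).toSpecΓ := by
    delta Scheme.Opens.toSpecΓ; infer_instance
  exact MorphismProperty.comp_mem _ (T.basicOpen r).toSpecΓ _ inferInstance (.of_isLocalization r)

/-- A compact open inside a quasi-affine open is quasi-affine. -/
theorem qa_of_le {X : Scheme.{u}} {U' U : X.Opens} (h : U' ≤ U) [(U : Scheme.{u}).IsQuasiAffine]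
    (hc : IsCompact (U' : Set X)) : (U' : Scheme.{u}).IsQuasiAffine := by
  haveI : CompactSpace (U' : Scheme.{u}) := isCompact_iff_compactSpace.mp hc
  exact Scheme.IsQuasiAffine.of_isImmersion (X.homOfLE h)

/-- transfer along an equality of opens -/
theorem qa_of_eq {X : Scheme.{u}} {U' U : X.Opens} (h : U' = U) [(U : Scheme.{u}).IsQuasiAffine] :
    (U' : Scheme.{u}).IsQuasiAffine := by
  subst h; infer_instance

/-- In a quasi-affine open `U`, affine basic opens of sections over `U` form a basis. -/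
theorem qa_basis' {X : Scheme.{u}} (U : X.Opens) [(U : Scheme.{u}).IsQuasiAffine] {x : X} (hx : x ∈ U)
    (W : X.Opens) (hxW : x ∈ W) :
    ∃ r : Γ(X, U), IsAffineOpen (X.basicOpen r) ∧ x ∈ X.basicOpen r ∧ X.basicOpen r ≤ W := by
  have hB := Scheme.IsQuasiAffine.isBasis_basicOpen (U : Scheme.{u})
  have hx' : (⟨x, hx⟩ : U) ∈ U.ι ⁻¹ᵁ W := hxW
  obtain ⟨V, ⟨r', hr', rfl⟩, hxV, hVW⟩ := Opens.isBasis_iff_nbhd.mp hB hx'
  have e : U.topIso.inv (U.topIso.hom r') = r' := by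
    have := congr($(U.topIso.hom_inv_id) r')
    simpa using this
  have himg : U.ι ''ᵁ (U.toScheme.basicOpen r') = X.basicOpen (U.topIso.hom r') := by
    have h0 := Scheme.Opens.ι_image_basicOpen_topIso_inv (U := U) (U.topIso.hom r')
    rw [e] at h0
    exact h0
  refine ⟨U.topIso.hom r', ?_, ?_, ?_⟩
  · rw [← himg]; exact (Scheme.Hom.isAffineOpen_iff_of_isOpenImmersion U.ι).mpr hr'
  · rw [← himg]; exact ⟨⟨x, hx⟩, hxV, rfl⟩
  · rw [← himg]; rintro _ ⟨y, hy, rfl⟩; exact hVW hy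

/-- Local criterion for an open subscheme: a compact open `U` covered by quasi-affine basic opens
of sections over `U` is quasi-affine. -/
theorem qa_local' {X : Scheme.{u}} (U : X.Opens) (hc : IsCompact (U : Set X))
    (H : ∀ x ∈ U, ∃ s : Γ(X, U), x ∈ X.basicOpen s ∧ (X.basicOpen s : Scheme.{u}).IsQuasiAffine) :
    (U : Scheme.{u}).IsQuasiAffine := by
  haveI : CompactSpace (U : Scheme.{u}) := isCompact_iff_compactSpace.mp hc
  refine qa_local _ fun x' ↦ ?_
  obtain ⟨s, hxs, hs⟩ := H x'.1 x'.2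
  have himg := Scheme.Opens.ι_image_basicOpen_topIso_inv (U := U) s
  refine ⟨U.topIso.inv s, ?_, ?_⟩
  · have h1 : (x'.1 : X) ∈ U.ι ''ᵁ (U.toScheme.basicOpen (U.topIso.inv s)) := by
      rw [himg]; exact hxs
    obtain ⟨y, hy, hyx⟩ := h1
    have h2 : y = x' := Subtype.ext hyx
    exact h2 ▸ hy
  · haveI := hs
    exact qa_of_iso (U.ι.isoImage _ ≪≫ X.isoOfEq himg)

/-- base change of a quasi-affine scheme along an affine morphism -/
theorem qa_pullback_comp {X Y V D : Scheme.{u}} (f : X ⟶ Y) (j : V ⟶ Y) (a : D ⟶ V) [IsAffineHom a]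
    [(pullback f j).IsQuasiAffine] : (pullback f (a ≫ j)).IsQuasiAffine := by
  haveI : IsAffineHom (pullback.fst (pullback.snd f j) a) :=
    MorphismProperty.pullback_fst (P := @IsAffineHom) _ _ ‹IsAffineHom a›
  haveI : (pullback (pullback.snd f j) a).IsQuasiAffine :=
    Scheme.IsQuasiAffine.of_isAffineHom (pullback.fst (pullback.snd f j) a)
  exact qa_of_iso (pullbackLeftPullbackSndIso f j a).symm

theorem exists_affine_nbhd (Y : Scheme.{u}) (y : Y) : ∃ V : Y.Opens, IsAffineOpen V ∧ y ∈ V := by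
  obtain ⟨W, hW, hzW, -⟩ := Opens.isBasis_iff_nbhd.mp Y.isBasis_affineOpens
    (U := ⊤) (x := y) trivial
  exact ⟨W, hW, hzW⟩

/-- composition -/
theorem qa_comp {X Y Z : Scheme.{u}} (f : X ⟶ Y) (g : Y ⟶ Z) (hf : Mor2.IsQuasiAffine f)
    (hg : Mor2.IsQuasiAffine g) : Mor2.IsQuasiAffine (f ≫ g) := by
  haveI := hf.1
  haveI := hg.1
  refine ⟨inferInstance, fun W hW ↦ ?_⟩
  rw [Scheme.Hom.comp_preimage]
  haveI := hg.2 W hW
  have hcW : IsCompact ((g ⁻¹ᵁ W : Y.Opens) : Set Y) := g.isCompact_preimage hW.isCompact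
  refine qa_local' _ (f.isCompact_preimage hcW) fun x hx ↦ ?_
  obtain ⟨r, hr, hxr, -⟩ := qa_basis' (g ⁻¹ᵁ W) (x := f x) hx ⊤ trivial
  refine ⟨f.app _ r, ?_, ?_⟩
  · rw [← Scheme.preimage_basicOpen]; exact hxr
  · haveI := hf.2 _ hr
    exact qa_of_eq (Scheme.preimage_basicOpen f r).symm

/-- cancellation -/
theorem qa_of_comp {X Y Z : Scheme.{u}} (f : X ⟶ Y) (g : Y ⟶ Z) [QuasiSeparated g]
    (h : Mor2.IsQuasiAffine (f ≫ g)) : Mor2.IsQuasiAffine f := by
  haveI := h.1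
  haveI : QuasiCompact f := QuasiCompact.of_comp f g
  refine ⟨inferInstance, fun V0 hV0 ↦ ?_⟩
  refine qa_local' _ (f.isCompact_preimage hV0.isCompact) fun x hx ↦ ?_
  obtain ⟨W, hW, hzW⟩ := exists_affine_nbhd Z (g (f x))
  obtain ⟨b, hb1, hb2⟩ := hV0.exists_basicOpen_le (V := V0 ⊓ g ⁻¹ᵁ W) ⟨f x, ⟨hx, hzW⟩⟩ hx
  refine ⟨f.app _ b, ?_, ?_⟩
  · rw [← Scheme.preimage_basicOpen]; exact hb2
  · haveI := h.2 W hW
    have hle : X.basicOpen (f.app _ b) ≤ (f ≫ g) ⁻¹ᵁ W := by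
      rw [← Scheme.preimage_basicOpen, Scheme.Hom.comp_preimage]
      intro y hy
      exact (hb1 hy).2
    refine qa_of_le hle ?_
    rw [← Scheme.preimage_basicOpen]
    exact f.isCompact_preimage (hV0.basicOpen b).isCompact

/-- base change -/
theorem qa_baseChange {X Y Y' : Scheme.{u}} (f : X ⟶ Y) (hf : Mor2.IsQuasiAffine f) (g : Y' ⟶ Y) :
    Mor2.IsQuasiAffine (pullback.snd f g) := by
  haveI := hf.1
  refine ⟨inferInstance, fun V' hV' ↦ ?_⟩
  refine qa_local' _ ((pullback.snd f g).isCompact_preimage hV'.isCompact) fun p hp ↦ ?_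
  obtain ⟨V, hV, hyV⟩ := exists_affine_nbhd Y (g (pullback.snd f g p))
  obtain ⟨b, hb1, hb2⟩ := hV'.exists_basicOpen_le (V := V' ⊓ g ⁻¹ᵁ V)
    ⟨pullback.snd f g p, ⟨hp, hyV⟩⟩ hp
  refine ⟨(pullback.snd f g).app _ b, ?_, ?_⟩
  · rw [← Scheme.preimage_basicOpen]; exact hb2
  · have hD : IsAffineOpen (Y'.basicOpen b) := hV'.basicOpen b
    have hle : Y'.basicOpen b ≤ g ⁻¹ᵁ V := fun y hy ↦ (hb1 hy).2
    haveI : IsAffine (Y'.basicOpen b : Scheme.{u}) := hD
    haveI : IsAffine (V : Scheme.{u}) := hV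
    haveI : (f ⁻¹ᵁ V : Scheme.{u}).IsQuasiAffine := hf.2 V hV
    haveI : (pullback f V.ι).IsQuasiAffine := qa_of_iso (pullbackRestrictIsoRestrict f V)
    have key : ∀ m : (Y'.basicOpen b : Scheme.{u}) ⟶ Y, m = g.resLE V (Y'.basicOpen b) hle ≫ V.ι →
        (pullback f m).IsQuasiAffine := by
      rintro _ rfl
      exact qa_pullback_comp f V.ι _
    haveI := key ((Y'.basicOpen b).ι ≫ g) (Scheme.Hom.resLE_comp_ι g hle).symm
    haveI : (pullback (pullback.snd f g) (Y'.basicOpen b).ι).IsQuasiAffine :=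
      qa_of_iso (pullbackLeftPullbackSndIso f g (Y'.basicOpen b).ι)
    haveI : ((pullback.snd f g) ⁻¹ᵁ (Y'.basicOpen b) : Scheme.{u}).IsQuasiAffine :=
      qa_of_iso (pullbackRestrictIsoRestrict (pullback.snd f g) (Y'.basicOpen b)).symm
    exact qa_of_eq (Scheme.preimage_basicOpen (pullback.snd f g) b).symm

end Groth.Agent.Lib.Helper11.QALib
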