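import Mathlib
import Groth.Prelude.Def_Grpd
import Groth.Agent.Lib.Helper11.GrpdLib
import Groth.Agent.Lib.Helper11.FinQuotA

/-!
# Finite locally free groupoids on affine schemes: integrality over the invariants (helper11)
-/

set_option autoImplicit false
universe u

open CategoryTheory CategoryTheory.Limits AlgebraicGeometry TensorProduct Polynomial
open Groth.Agent.Lib.Helper11.GrpdLib
open Groth.Agent.Lib.Helper11.FinQuotA

namespace Groth.Agent.Lib.Helper11.FinQuotB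

/-- `CommRingCat` form of the base change of a presentation. -/
theorem exists_pres_of_isPushout {A B A' B' : CommRingCat.{u}} {σ : A ⟶ B} {α : A ⟶ A'}
    {β : B ⟶ B'} {σ' : A' ⟶ B'} (h : IsPushout σ α β σ')
    [Algebra A B] (hσ : algebraMap A B = σ.hom) [Algebra A' B'] (hσ' : algebraMap A' B' = σ'.hom)
    {F : Type u} [AddCommGroup F] [Module A F] [Module.Free A F] [Module.Finite A F]
    (i : B →ₗ[A] F) (p : F →ₗ[A] B) (hpi : ∀ m, p (i m) = m) :
    ∃ (F' : Type u) (_ : AddCommGroup F') (_ : Module A' F') (_ : Module.Free A' F')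
      (_ : Module.Finite A' F') (i' : B' →ₗ[A'] F') (p' : F' →ₗ[A'] B'),
      (∀ m, p' (i' m) = m) ∧ (Nontrivial A' → Module.finrank A' F' = Module.finrank A F) ∧
      ∀ g : B, (ext i' p' (Algebra.lmul A' B' (β.hom g))).charpoly =
        ((ext i p (Algebra.lmul A B g)).charpoly).map α.hom := by
  letI : Algebra A A' := α.hom.toAlgebra
  letI : Algebra B B' := β.hom.toAlgebra
  letI : Algebra A B' := (σ ≫ β).hom.toAlgebra
  haveI : IsScalarTower A B B' := IsScalarTower.of_algebraMap_eq' (by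
    show (σ ≫ β).hom = β.hom.comp (algebraMap A B)
    rw [hσ]; rfl)
  haveI : IsScalarTower A A' B' := IsScalarTower.of_algebraMap_eq' (by
    show (σ ≫ β).hom = (algebraMap A' B').comp α.hom
    rw [hσ', h.w]; rfl)
  have hpo : IsPushout (CommRingCat.ofHom (algebraMap A A')) (CommRingCat.ofHom (algebraMap A B))
      (CommRingCat.ofHom (algebraMap A' B')) (CommRingCat.ofHom (algebraMap B B')) := by
    rw [hσ, hσ']
    exact h.flip
  haveI : Algebra.IsPushout A A' B B' := CommRingCat.isPushout_iff_isPushout.mp hpo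
  refine ⟨A' ⊗[A] F, inferInstance, inferInstance, inferInstance, inferInstance,
    bcI A A' B B' i, bcP A A' B B' p, bcP_bcI A A' B B' hpi,
    fun hnt => by
      haveI := hnt
      haveI : Nontrivial A := α.hom.domain_nontrivial
      exact Module.finrank_baseChange, ?_⟩
  intro g
  exact charpoly_ext_bc A A' B B' g

variable {S : Scheme.{u}} (G : Grpd.GroupoidScheme S) [IsAffine G.U] [IsAffine G.R]

theorem e_s_appTop : G.s.appTop ≫ G.e.appTop = 𝟙 _ := by
  rw [← Scheme.Hom.comp_appTop, G.e_s, Scheme.Hom.id_appTop]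

theorem e_t_appTop : G.t.appTop ≫ G.e.appTop = 𝟙 _ := by
  rw [← Scheme.Hom.comp_appTop, G.e_t, Scheme.Hom.id_appTop]

theorem e_s_apply (a : Γ(G.U, ⊤)) : G.e.appTop.hom (G.s.appTop.hom a) = a :=
  congrArg (fun φ : Γ(G.U, ⊤) ⟶ Γ(G.U, ⊤) => φ.hom a) (e_s_appTop G)

theorem e_t_apply (a : Γ(G.U, ⊤)) : G.e.appTop.hom (G.t.appTop.hom a) = a :=
  congrArg (fun φ : Γ(G.U, ⊤) ⟶ Γ(G.U, ⊤) => φ.hom a) (e_t_appTop G)

theorem fst_t_eq_c_t (f : Γ(G.U, ⊤)) :
    (pullback.fst G.s G.t).appTop.hom (G.t.appTop.hom f) = G.c.appTop.hom (G.t.appTop.hom f) := by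
  have h4 : (G.c ≫ G.t).appTop = (pullback.fst G.s G.t ≫ G.t).appTop := by rw [c_t]
  rw [Scheme.Hom.comp_appTop, Scheme.Hom.comp_appTop] at h4
  exact (congrArg (fun φ => φ.hom f) h4).symm

/-- The characteristic polynomial of `t♯ f` (extended by `1` on a complement) has invariant
coefficients. -/
theorem map_charpoly_eq [Algebra Γ(G.U, ⊤) Γ(G.R, ⊤)]
    (halg : algebraMap Γ(G.U, ⊤) Γ(G.R, ⊤) = G.s.appTop.hom)
    {F : Type u} [AddCommGroup F] [Module Γ(G.U, ⊤) F] [Module.Free Γ(G.U, ⊤) F]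
    [Module.Finite Γ(G.U, ⊤) F] (i : Γ(G.R, ⊤) →ₗ[Γ(G.U, ⊤)] F) (p : F →ₗ[Γ(G.U, ⊤)] Γ(G.R, ⊤))
    (hpi : ∀ m, p (i m) = m) (f : Γ(G.U, ⊤)) :
    ((ext i p (Algebra.lmul Γ(G.U, ⊤) Γ(G.R, ⊤) (G.t.appTop.hom f))).charpoly).map
        G.s.appTop.hom =
      ((ext i p (Algebra.lmul Γ(G.U, ⊤) Γ(G.R, ⊤) (G.t.appTop.hom f))).charpoly).map
        G.t.appTop.hom := by
  letI : Algebra Γ(G.R, ⊤) Γ(pullback G.s G.t, ⊤) :=
    (pullback.snd G.s G.t).appTop.hom.toAlgebra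
  obtain ⟨F₁, _, _, _, _, i₁, p₁, h₁, hr₁, hc₁⟩ := exists_pres_of_isPushout
    (isPushout_appTop_of_isPullback (IsPullback.of_hasPullback G.s G.t)) halg rfl i p hpi
  obtain ⟨F₂, _, _, _, _, i₂, p₂, h₂, hr₂, hc₂⟩ := exists_pres_of_isPushout
    (isPushout_appTop_of_isPullback (isPullback_c_snd (G := G))) halg rfl i p hpi
  rw [← hc₂ (G.t.appTop.hom f), ← hc₁ (G.t.appTop.hom f), fst_t_eq_c_t]
  exact charpoly_ext_eq h₂ h₁ (fun hnt => (hr₂ hnt).trans (hr₁ hnt).symm) _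

section finite

variable [IsFinite G.s] [Flat G.s] [LocallyOfFinitePresentation G.s]

theorem finite_s : letI := G.s.appTop.hom.toAlgebra; Module.Finite Γ(G.U, ⊤) Γ(G.R, ⊤) :=
  G.s.finite_appTop

theorem projective_s :
    letI := G.s.appTop.hom.toAlgebra; Module.Projective Γ(G.U, ⊤) Γ(G.R, ⊤) := by
  letI := G.s.appTop.hom.toAlgebra
  haveI : Module.Finite Γ(G.U, ⊤) Γ(G.R, ⊤) := finite_s G
  haveI : Module.Flat Γ(G.U, ⊤) Γ(G.R, ⊤) := G.s.flat_appTop
  haveI : Algebra.FinitePresentation Γ(G.U, ⊤) Γ(G.R, ⊤) :=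
    (HasRingHomProperty.iff_of_isAffine (P := @LocallyOfFinitePresentation)).mp
      (inferInstanceAs (LocallyOfFinitePresentation G.s))
  haveI : Module.FinitePresentation Γ(G.U, ⊤) Γ(G.R, ⊤) :=
    Module.FinitePresentation.of_finite_of_finitePresentation _ _
  exact Module.Flat.projective_of_finitePresentation

/-- a presentation of `Γ(R)` as a retract of a finite free `Γ(U)`-module (via `s♯`) -/
theorem exists_pres : letI := G.s.appTop.hom.toAlgebra
    ∃ (n : ℕ) (i : Γ(G.R, ⊤) →ₗ[Γ(G.U, ⊤)] (Fin n → Γ(G.U, ⊤)))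
      (p : (Fin n → Γ(G.U, ⊤)) →ₗ[Γ(G.U, ⊤)] Γ(G.R, ⊤)), ∀ m, p (i m) = m := by
  letI := G.s.appTop.hom.toAlgebra
  haveI : Module.Finite Γ(G.U, ⊤) Γ(G.R, ⊤) := finite_s G
  haveI : Module.Projective Γ(G.U, ⊤) Γ(G.R, ⊤) := projective_s G
  obtain ⟨n, p, i, -, -, hpi⟩ :=
    Module.Finite.exists_comp_eq_id_of_projective Γ(G.U, ⊤) Γ(G.R, ⊤)
  exact ⟨n, i, p, fun m => LinearMap.congr_fun hpi m⟩

/-- For every `f ∈ Γ(U)` there is a monic polynomial with invariant coefficients killing `f`;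
moreover its evaluation at `t♯ f` (coefficients through `s♯`) vanishes. -/
theorem exists_monic_invariant (f : Γ(G.U, ⊤)) :
    ∃ P : Polynomial Γ(G.U, ⊤), P.Monic ∧ (∀ n, P.coeff n ∈ G.invariants) ∧ P.eval f = 0 := by
  letI := G.s.appTop.hom.toAlgebra
  obtain ⟨n, i, p, hpi⟩ := exists_pres G
  refine ⟨(ext i p (Algebra.lmul Γ(G.U, ⊤) Γ(G.R, ⊤) (G.t.appTop.hom f))).charpoly,
    LinearMap.charpoly_monic _, ?_, ?_⟩
  · intro k
    have h := congrArg (fun Q => Polynomial.coeff Q k) (map_charpoly_eq G rfl i p hpi f)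
    simp only [Polynomial.coeff_map] at h
    exact h
  · have hCH := aeval_charpoly_ext hpi (Algebra.lmul Γ(G.U, ⊤) Γ(G.R, ⊤) (G.t.appTop.hom f))
    rw [Polynomial.aeval_algHom_apply] at hCH
    have h2 := LinearMap.congr_fun hCH (1 : Γ(G.R, ⊤))
    have h3 : Polynomial.aeval (G.t.appTop.hom f)
        (ext i p (Algebra.lmul Γ(G.U, ⊤) Γ(G.R, ⊤) (G.t.appTop.hom f))).charpoly = 0 := by
      have : (Algebra.lmul Γ(G.U, ⊤) Γ(G.R, ⊤) (Polynomial.aeval (G.t.appTop.hom f)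
        (ext i p (Algebra.lmul Γ(G.U, ⊤) Γ(G.R, ⊤) (G.t.appTop.hom f))).charpoly))
          (1 : Γ(G.R, ⊤)) = 0 := h2
      have h5 : Polynomial.aeval (G.t.appTop.hom f)
        (ext i p (Algebra.lmul Γ(G.U, ⊤) Γ(G.R, ⊤) (G.t.appTop.hom f))).charpoly * 1 = 0 := this
      rwa [mul_one] at h5
    have h4 := congrArg G.e.appTop.hom h3
    rw [Polynomial.aeval_def, Polynomial.hom_eval₂, map_zero, e_t_apply] at h4
    have h6 : G.e.appTop.hom.comp (algebraMap Γ(G.U, ⊤) Γ(G.R, ⊤)) = RingHom.id _ :=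
      RingHom.ext fun a => e_s_apply G a
    rw [h6, Polynomial.eval₂_id] at h4
    exact h4

theorem isIntegral_invariants : Algebra.IsIntegral G.invariants Γ(G.U, ⊤) := by
  constructor
  intro f
  obtain ⟨P, hm, hc, he⟩ := exists_monic_invariant G f
  have hlift : P ∈ Polynomial.lifts G.invariants.subtype :=
    (Polynomial.lifts_iff_coeff_lifts P).mpr fun n => ⟨⟨P.coeff n, hc n⟩, rfl⟩
  obtain ⟨Q, hQ, -, hQm⟩ := Polynomial.lifts_and_natDegree_eq_and_monic hlift hm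
  refine ⟨Q, hQm, ?_⟩
  rw [← Polynomial.eval_map]
  show (Q.map G.invariants.subtype).eval f = 0
  rw [hQ]
  exact he

end finite

end Groth.Agent.Lib.Helper11.FinQuotB
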