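import Mathlib
import Groth.Agent.Lib.Helper11.FinQuotA
import Groth.Agent.Lib.Helper11.FinQuotC

/-!
# The norm of a finite projective algebra, and its rank polynomial (helper11)

For a finite projective `A`-algebra `B` we define `fnorm A B : B → A` (the determinant of
`lmul h ⊕ 1` on any presentation `B ⊕ K ≅ A^n`; independent of the presentation).  It is
multiplicative, compatible with arbitrary base change (pushout squares), `fnorm h` is a multiple
of `h` in `B`, and its zero locus is the image of the zero locus of `h`.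

The rank polynomial `rankPoly A B ∈ A[X]` is `fnorm` of `X` for the base change to `A[X]`; for all
base changes `A → A'`, `fnorm (algebraMap a) = (rankPoly A B)(a)`.  Its coefficients are orthogonal
idempotents of sum `1` (the indicator functions of the loci where `B` has rank `r`).
-/

set_option autoImplicit false
universe u

open CategoryTheory CategoryTheory.Limits TensorProduct Polynomial

namespace Groth.Agent.Lib.Helper11.FNorm

open Groth.Agent.Lib.Helper11.FinQuotA Groth.Agent.Lib.Helper11.FinQuotC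

section indep

variable {A M F F' : Type*} [CommRing A] [AddCommGroup M] [Module A M]
  [AddCommGroup F] [Module A F] [AddCommGroup F'] [Module A F']
variable {i : M →ₗ[A] F} {p : F →ₗ[A] M} (hpi : ∀ m, p (i m) = m)
variable {i' : M →ₗ[A] F'} {p' : F' →ₗ[A] M} (hpi' : ∀ m, p' (i' m) = m)

include hpi hpi' in
theorem det_ext_eq [Module.Free A F] [Module.Finite A F] [Module.Free A F'] [Module.Finite A F']
    (φ : M →ₗ[A] M) : LinearMap.det (ext i p φ) = LinearMap.det (ext i' p' φ) := by
  let T := swapM i p i' p'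
  let e : (F × F') ≃ₗ[A] (F × F') := LinearEquiv.ofLinear T T
    (LinearMap.ext (swapM_swapM hpi hpi')) (LinearMap.ext (swapM_swapM hpi hpi'))
  have hconj : (e : F × F' →ₗ[A] F × F') ∘ₗ
      ((ext i p φ).prodMap (LinearMap.id : F' →ₗ[A] F')) ∘ₗ
      (e.symm : F × F' →ₗ[A] F × F') =
      (LinearMap.id : F →ₗ[A] F).prodMap (ext i' p' φ) := by
    apply LinearMap.ext
    intro x
    show T (((ext i p φ).prodMap LinearMap.id) (T x)) = _
    rw [swapM_comp hpi hpi' φ (T x), swapM_swapM hpi hpi']
  have h1 := LinearMap.det_conj ((ext i p φ).prodMap (LinearMap.id : F' →ₗ[A] F')) e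
  rw [hconj, LinearMap.det_prodMap, LinearMap.det_prodMap, LinearMap.det_id, LinearMap.det_id,
    one_mul, mul_one] at h1
  exact h1.symm

include hpi in
theorem ext_comp (φ ψ : M →ₗ[A] M) : ext i p (φ ∘ₗ ψ) = ext i p φ ∘ₗ ext i p ψ := by
  apply LinearMap.ext
  intro x
  show i (φ (ψ (p x))) + (x - i (p x)) =
    i (φ (p (ext i p ψ x))) + (ext i p ψ x - i (p (ext i p ψ x)))
  rw [p_ext hpi, ext_apply]
  abel

theorem ext_id : ext i p LinearMap.id = LinearMap.id := by
  apply LinearMap.ext
  intro x
  show i (p x) + (x - i (p x)) = x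
  abel

end indep

section pn

variable {A B : Type u} [CommRing A] [CommRing B] [Algebra A B] {F : Type u} [AddCommGroup F]
  [Module A F] [Module.Free A F] [Module.Finite A F]
  {i : B →ₗ[A] F} {p : F →ₗ[A] B} (hpi : ∀ m, p (i m) = m)

include hpi in
theorem pnorm_mul (h h' : B) : pnorm i p (h * h') = pnorm i p h * pnorm i p h' := by
  unfold pnorm
  have h1 : Algebra.lmul A B (h * h') = Algebra.lmul A B h ∘ₗ Algebra.lmul A B h' := by
    rw [map_mul]; rfl
  rw [h1, ext_comp hpi, LinearMap.det_comp]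

theorem pnorm_one : pnorm i p (1 : B) = 1 := by
  unfold pnorm
  have h1 : Algebra.lmul A B (1 : B) = LinearMap.id := by
    rw [map_one]; rfl
  rw [h1, ext_id, LinearMap.det_id]

end pn

section fnorm

variable (A B : Type u) [CommRing A] [CommRing B] [Algebra A B] [Module.Finite A B]
  [Module.Projective A B]

theorem exists_pres' : ∃ (n : ℕ) (i : B →ₗ[A] (Fin n → A)) (p : (Fin n → A) →ₗ[A] B),
    ∀ m, p (i m) = m := by
  obtain ⟨n, p, i, -, -, hpi⟩ := Module.Finite.exists_comp_eq_id_of_projective A B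
  exact ⟨n, i, p, fun m => LinearMap.congr_fun hpi m⟩

/-- the norm of a finite projective algebra -/
noncomputable def fnorm (h : B) : A :=
  pnorm (exists_pres' A B).choose_spec.choose (exists_pres' A B).choose_spec.choose_spec.choose h

variable {A B}

theorem fnorm_eq_pnorm {F : Type u} [AddCommGroup F] [Module A F] [Module.Free A F]
    [Module.Finite A F] {i : B →ₗ[A] F} {p : F →ₗ[A] B} (hpi : ∀ m, p (i m) = m) (h : B) :
    fnorm A B h = pnorm i p h :=
  det_ext_eq (exists_pres' A B).choose_spec.choose_spec.choose_spec hpi _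

theorem fnorm_mul (h h' : B) : fnorm A B (h * h') = fnorm A B h * fnorm A B h' := by
  obtain ⟨n, i, p, hpi⟩ := exists_pres' A B
  rw [fnorm_eq_pnorm hpi, fnorm_eq_pnorm hpi, fnorm_eq_pnorm hpi, pnorm_mul hpi]

theorem fnorm_one : fnorm A B (1 : B) = 1 := by
  obtain ⟨n, i, p, hpi⟩ := exists_pres' A B
  rw [fnorm_eq_pnorm hpi, pnorm_one]

theorem fnorm_pow (h : B) (k : ℕ) : fnorm A B (h ^ k) = fnorm A B h ^ k := by
  induction k with
  | zero => rw [pow_zero, pow_zero, fnorm_one]
  | succ k ih => rw [pow_succ, pow_succ, fnorm_mul, ih]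

theorem algebraMap_fnorm_mem (h : B) : algebraMap A B (fnorm A B h) ∈ Ideal.span {h} := by
  obtain ⟨n, i, p, hpi⟩ := exists_pres' A B
  rw [fnorm_eq_pnorm hpi]
  exact algebraMap_pnorm_mem hpi h

theorem exists_prime_of_fnorm_mem (h : B) (𝔭 : Ideal A) [𝔭.IsPrime] (hg : fnorm A B h ∈ 𝔭) :
    ∃ 𝔮 : Ideal B, 𝔮.IsPrime ∧ 𝔮.comap (algebraMap A B) = 𝔭 ∧ h ∈ 𝔮 := by
  obtain ⟨n, i, p, hpi⟩ := exists_pres' A B
  rw [fnorm_eq_pnorm hpi] at hg
  exact exists_prime_of_pnorm_mem hpi h 𝔭 hg

/-- if `B → A` is a retraction of the structure map, `fnorm h` is a multiple of `r h`. -/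
theorem fnorm_mem_span_of_retraction (r : B →+* A) (hr : ∀ a, r (algebraMap A B a) = a) (h : B) :
    fnorm A B h ∈ Ideal.span {r h} := by
  have h1 := algebraMap_fnorm_mem (A := A) h
  obtain ⟨b, hb⟩ := Ideal.mem_span_singleton'.mp h1
  have h2 := congrArg r hb
  rw [map_mul, hr] at h2
  rw [← h2]
  exact Ideal.mul_mem_left _ _ (Ideal.subset_span rfl)

end fnorm

section basechange

theorem fnorm_isPushout (A A' B B' : Type u) [CommRing A] [CommRing A'] [CommRing B] [CommRing B']
    [Algebra A A'] [Algebra A B] [Algebra A' B'] [Algebra B B'] [Algebra A B']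
    [IsScalarTower A B B'] [IsScalarTower A A' B'] [Algebra.IsPushout A A' B B']
    [Module.Finite A B] [Module.Projective A B] [Module.Finite A' B'] [Module.Projective A' B']
    (h : B) : fnorm A' B' (algebraMap B B' h) = algebraMap A A' (fnorm A B h) := by
  obtain ⟨n, i, p, hpi⟩ := exists_pres' A B
  rw [fnorm_eq_pnorm hpi, fnorm_eq_pnorm (bcP_bcI A A' B B' hpi)]
  unfold pnorm
  rw [ext_bc, LinearMap.det_baseChange]

variable {A B A' B' : CommRingCat.{u}} {σ : A ⟶ B} {α : A ⟶ A'} {β : B ⟶ B'} {σ' : A' ⟶ B'}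

theorem exists_algebra_of_isPushout (h : IsPushout σ α β σ')
    [Algebra A B] (hσ : algebraMap A B = σ.hom) [Algebra A' B'] (hσ' : algebraMap A' B' = σ'.hom) :
    ∃ (_ : Algebra A A') (_ : Algebra B B') (_ : Algebra A B') (_ : IsScalarTower A B B')
      (_ : IsScalarTower A A' B') (_ : Algebra.IsPushout A A' B B'),
      algebraMap A A' = α.hom ∧ algebraMap B B' = β.hom := by
  letI i1 : Algebra A A' := α.hom.toAlgebra
  letI i2 : Algebra B B' := β.hom.toAlgebra
  letI i3 : Algebra A B' := (σ ≫ β).hom.toAlgebra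
  have i4 : IsScalarTower A B B' := IsScalarTower.of_algebraMap_eq' (by
    show (σ ≫ β).hom = β.hom.comp (algebraMap A B)
    rw [hσ]; rfl)
  have i5 : IsScalarTower A A' B' := IsScalarTower.of_algebraMap_eq' (by
    show (σ ≫ β).hom = (algebraMap A' B').comp α.hom
    rw [hσ', h.w]; rfl)
  have hpo : IsPushout (CommRingCat.ofHom (algebraMap A A')) (CommRingCat.ofHom (algebraMap A B))
      (CommRingCat.ofHom (algebraMap A' B')) (CommRingCat.ofHom (algebraMap B B')) := by
    rw [hσ, hσ']
    exact h.flip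
  have i6 : Algebra.IsPushout A A' B B' := CommRingCat.isPushout_iff_isPushout.mp hpo
  exact ⟨i1, i2, i3, i4, i5, i6, rfl, rfl⟩

theorem finite_of_isPushout (h : IsPushout σ α β σ')
    [Algebra A B] (hσ : algebraMap A B = σ.hom) [Algebra A' B'] (hσ' : algebraMap A' B' = σ'.hom)
    [Module.Finite A B] : Module.Finite A' B' := by
  obtain ⟨_, _, _, _, _, _, -, -⟩ := exists_algebra_of_isPushout h hσ hσ'
  exact Module.Finite.equiv (Algebra.IsPushout.equiv A A' B B').toLinearEquiv

theorem projective_of_isPushout (h : IsPushout σ α β σ')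
    [Algebra A B] (hσ : algebraMap A B = σ.hom) [Algebra A' B'] (hσ' : algebraMap A' B' = σ'.hom)
    [Module.Projective A B] : Module.Projective A' B' := by
  obtain ⟨_, _, _, _, _, _, -, -⟩ := exists_algebra_of_isPushout h hσ hσ'
  exact Module.Projective.of_equiv (Algebra.IsPushout.equiv A A' B B').toLinearEquiv

theorem fnorm_of_isPushout (h : IsPushout σ α β σ')
    [Algebra A B] (hσ : algebraMap A B = σ.hom) [Algebra A' B'] (hσ' : algebraMap A' B' = σ'.hom)
    [Module.Finite A B] [Module.Projective A B] [Module.Finite A' B'] [Module.Projective A' B']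
    (x : B) : fnorm A' B' (β.hom x) = α.hom (fnorm A B x) := by
  obtain ⟨_, _, _, _, _, _, h1, h2⟩ := exists_algebra_of_isPushout h hσ hσ'
  rw [← h1, ← h2]
  exact fnorm_isPushout A A' B B' x

end basechange

end Groth.Agent.Lib.Helper11.FNorm
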