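import Mathlib
import Groth.Agent.Lib.Helper11.FNorm

/-!
# The rank polynomial of a finite projective algebra (helper11)
-/

set_option autoImplicit false
universe u

open CategoryTheory CategoryTheory.Limits TensorProduct Polynomial

namespace Groth.Agent.Lib.Helper11.FNormB

open Groth.Agent.Lib.Helper11.FNorm

section defn

variable (A B : Type u) [CommRing A] [CommRing B] [Algebra A B] [Module.Finite A B]
  [Module.Projective A B]

/-- the rank polynomial `∑ ε_r X^r` -/
noncomputable def rankPoly : A[X] :=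
  fnorm A[X] (A[X] ⊗[A] B) ((X : A[X]) ⊗ₜ[A] (1 : B))

end defn

section cat

variable {A B A' B' : CommRingCat.{u}} {σ : A ⟶ B} {α : A ⟶ A'} {β : B ⟶ B'} {σ' : A' ⟶ B'}

theorem isPushout_poly [Algebra A B] (hσ : algebraMap A B = σ.hom) :
    IsPushout σ (CommRingCat.ofHom (Polynomial.C : A →+* A[X]))
      (CommRingCat.ofHom (Algebra.TensorProduct.includeRight : B →ₐ[A] A[X] ⊗[A] B).toRingHom)
      (CommRingCat.ofHom (Algebra.TensorProduct.includeLeftRingHom : A[X] →+* A[X] ⊗[A] B)) := by
  have := (CommRingCat.isPushout_tensorProduct A A[X] B).flip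
  rw [hσ] at this
  exact this

theorem fnorm_algebraMap_of_isPushout (h : IsPushout σ α β σ')
    [Algebra A B] (hσ : algebraMap A B = σ.hom) [Algebra A' B'] (hσ' : algebraMap A' B' = σ'.hom)
    [Module.Finite A B] [Module.Projective A B] [Module.Finite A' B'] [Module.Projective A' B']
    (a : A') : fnorm A' B' (algebraMap A' B' a) = (rankPoly A B).eval₂ α.hom a := by
  let AX : CommRingCat.{u} := CommRingCat.of A[X]
  let BX : CommRingCat.{u} := CommRingCat.of (A[X] ⊗[A] B)
  let ι : A ⟶ AX := CommRingCat.ofHom (Polynomial.C : A →+* A[X])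
  let ιB : B ⟶ BX :=
    CommRingCat.ofHom (Algebra.TensorProduct.includeRight : B →ₐ[A] A[X] ⊗[A] B).toRingHom
  let σX : AX ⟶ BX :=
    CommRingCat.ofHom (Algebra.TensorProduct.includeLeftRingHom : A[X] →+* A[X] ⊗[A] B)
  have hX : IsPushout σ ι ιB σX := isPushout_poly hσ
  have hσX : algebraMap A[X] (A[X] ⊗[A] B) = σX.hom := rfl
  let ev : AX ⟶ A' := CommRingCat.ofHom (Polynomial.eval₂RingHom α.hom a)
  have hιev : ι ≫ ev = α := by
    apply CommRingCat.hom_ext
    apply RingHom.ext
    intro x
    show Polynomial.eval₂ α.hom a (Polynomial.C x) = α.hom x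
    exact Polynomial.eval₂_C _ _
  let evB : BX ⟶ B' := hX.desc β (ev ≫ σ') (by rw [← Category.assoc, hιev]; exact h.w)
  have h1 : ιB ≫ evB = β := hX.inl_desc _ _ _
  have h2 : σX ≫ evB = ev ≫ σ' := hX.inr_desc _ _ _
  have hbig : IsPushout σ (ι ≫ ev) (ιB ≫ evB) σ' := by rw [hιev, h1]; exact h
  have hsq : IsPushout σX ev evB σ' := IsPushout.of_top hbig h2 hX
  have key := fnorm_of_isPushout hsq hσX hσ' ((X : A[X]) ⊗ₜ[A] (1 : B))
  have h3 : evB.hom ((X : A[X]) ⊗ₜ[A] (1 : B)) = algebraMap A' B' a := by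
    have h4 := congrArg (fun φ => φ.hom (X : A[X])) h2
    have h5 : ev.hom (X : A[X]) = a := Polynomial.eval₂_X _ _
    rw [hσ']
    exact h4.trans (congrArg σ'.hom h5)
  rw [← h3, key]
  rfl

theorem rankPoly_of_isPushout (h : IsPushout σ α β σ')
    [Algebra A B] (hσ : algebraMap A B = σ.hom) [Algebra A' B'] (hσ' : algebraMap A' B' = σ'.hom)
    [Module.Finite A B] [Module.Projective A B] [Module.Finite A' B'] [Module.Projective A' B'] :
    rankPoly A' B' = (rankPoly A B).map α.hom := by
  have hX' := isPushout_poly (σ := σ') hσ'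
  have hbig := h.paste_vert hX'
  have key := fnorm_algebraMap_of_isPushout hbig hσ
    (rfl : algebraMap A'[X] (A'[X] ⊗[A'] B') = _) (X : A'[X])
  exact key

end cat

section types

variable (A B : Type u) [CommRing A] [CommRing B] [Algebra A B] [Module.Finite A B]
  [Module.Projective A B]

theorem fnorm_tensor (A' : Type u) [CommRing A'] [Algebra A A'] (a : A') :
    fnorm A' (A' ⊗[A] B) (algebraMap A' (A' ⊗[A] B) a) =
      (rankPoly A B).eval₂ (algebraMap A A') a := by
  have hpo := (CommRingCat.isPushout_tensorProduct A A' B).flip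
  exact fnorm_algebraMap_of_isPushout hpo rfl rfl a

theorem fnorm_algebraMap (a : A) : fnorm A B (algebraMap A B a) = (rankPoly A B).eval a := by
  have h := fnorm_algebraMap_of_isPushout
    (IsPushout.id_vert (CommRingCat.ofHom (algebraMap A B))) rfl rfl a
  exact h

theorem rankPoly_eval_one : (rankPoly A B).eval 1 = 1 := by
  rw [← fnorm_algebraMap, map_one, fnorm_one]

theorem rankPoly_coeff_zero (r : B →+* A) (hr : ∀ a, r (algebraMap A B a) = a) :
    (rankPoly A B).coeff 0 = 0 := by
  rw [Polynomial.coeff_zero_eq_eval_zero, ← fnorm_algebraMap, map_zero]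
  have h3 := fnorm_mem_span_of_retraction r hr (0 : B)
  rw [map_zero] at h3
  obtain ⟨b, hb⟩ := Ideal.mem_span_singleton'.mp h3
  rw [← hb, mul_zero]

theorem rankPoly_coeff_mul (r j : ℕ) :
    (rankPoly A B).coeff r * (rankPoly A B).coeff j =
      if r = j then (rankPoly A B).coeff j else 0 := by
  set ρ := rankPoly A B with hρ
  have hN : ∀ a : A[X][X], fnorm A[X][X] (A[X][X] ⊗[A] B) (algebraMap _ _ a) =
      ρ.eval₂ (algebraMap A A[X][X]) a := fnorm_tensor A B A[X][X]
  have hmul : ρ.eval₂ (algebraMap A A[X][X]) (C X * X) =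
      ρ.eval₂ (algebraMap A A[X][X]) (C X) * ρ.eval₂ (algebraMap A A[X][X]) X := by
    rw [← hN, ← hN, ← hN, map_mul, fnorm_mul]
  have halg : algebraMap A A[X][X] = (C : A[X] →+* A[X][X]).comp (C : A →+* A[X]) := rfl
  have hY : ρ.eval₂ (algebraMap A A[X][X]) (C X) = C ρ := by
    rw [halg, ← Polynomial.hom_eval₂, Polynomial.eval₂_C_X]
  have hZ : ρ.eval₂ (algebraMap A A[X][X]) X = ρ.map C := by
    rw [halg]; rfl
  rw [hY, hZ] at hmul
  have hj := congrArg (fun q => Polynomial.coeff q j) hmul
  rw [Polynomial.coeff_C_mul, Polynomial.coeff_map] at hj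
  have hL : (ρ.eval₂ (algebraMap A A[X][X]) (C X * X)).coeff j = C (ρ.coeff j) * X ^ j := by
    rw [Polynomial.eval₂_eq_sum_range, Polynomial.finset_sum_coeff]
    have hterm : ∀ k, ((algebraMap A A[X][X]) (ρ.coeff k) * (C X * X) ^ k).coeff j =
        if j = k then C (ρ.coeff k) * X ^ k else 0 := by
      intro k
      have : (algebraMap A A[X][X]) (ρ.coeff k) * (C X * X) ^ k =
          C (C (ρ.coeff k) * X ^ k) * X ^ k := by
        rw [halg, RingHom.comp_apply, mul_pow, ← map_pow, ← mul_assoc, ← map_mul]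
      rw [this, Polynomial.coeff_C_mul_X_pow]
    simp_rw [hterm]
    rw [Finset.sum_ite_eq]
    split_ifs with hmem
    · rfl
    · have : ρ.coeff j = 0 := Polynomial.coeff_eq_zero_of_natDegree_lt (by
        rw [Finset.mem_range] at hmem; omega)
      rw [this, map_zero, zero_mul]
  rw [hL] at hj
  have hr := congrArg (fun q => Polynomial.coeff q r) hj
  rw [Polynomial.coeff_C_mul_X_pow, Polynomial.coeff_mul_C] at hr
  exact hr.symm

theorem rankPoly_eval₂ {D : Type*} [CommRing D] (φ : A →+* D) (g : D) :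
    (rankPoly A B).eval₂ φ g =
      ∑ r ∈ Finset.range ((rankPoly A B).natDegree + 1), φ ((rankPoly A B).coeff r) * g ^ r :=
  Polynomial.eval₂_eq_sum_range φ g

theorem rankPoly_sum_coeff :
    ∑ r ∈ Finset.range ((rankPoly A B).natDegree + 1), (rankPoly A B).coeff r = 1 := by
  have h := rankPoly_eval_one A B
  rw [Polynomial.eval_eq_sum_range] at h
  simpa using h

end types

/-- extracting `g ^ n` from `∑ E_r g ^ r` for orthogonal idempotents `E_r` of sum one. -/
theorem sum_idem_pow {D : Type*} [CommRing D] (d : ℕ) (E : ℕ → D) (g : D)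
    (horth : ∀ r j, E r * E j = if r = j then E j else 0)
    (hsum : ∑ r ∈ Finset.range (d + 1), E r = 1) (h0 : E 0 = 0) :
    ∑ r ∈ Finset.range (d + 1),
      E r * (∑ j ∈ Finset.range (d + 1), E j * g ^ j) ^ (d.factorial / r) = g ^ d.factorial := by
  set ν := ∑ j ∈ Finset.range (d + 1), E j * g ^ j with hν
  have h1 : ∀ r ∈ Finset.range (d + 1), E r * ν = E r * g ^ r := by
    intro r hr
    rw [hν, Finset.mul_sum]
    have : ∀ j, E r * (E j * g ^ j) = if r = j then E j * g ^ j else 0 := by
      intro j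
      rw [← mul_assoc, horth]
      split_ifs <;> simp
    simp_rw [this]
    rw [Finset.sum_ite_eq, if_pos hr]
  have h2 : ∀ r ∈ Finset.range (d + 1), ∀ k, E r * ν ^ k = E r * g ^ (r * k) := by
    intro r hr k
    induction k with
    | zero => simp
    | succ k ih =>
      calc E r * ν ^ (k + 1) = (E r * ν ^ k) * ν := by rw [pow_succ, mul_assoc]
        _ = (E r * g ^ (r * k)) * ν := by rw [ih]
        _ = (E r * ν) * g ^ (r * k) := by ring
        _ = (E r * g ^ r) * g ^ (r * k) := by rw [h1 r hr]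
        _ = E r * g ^ (r * (k + 1)) := by
          rw [mul_assoc, ← pow_add]
          congr 2
          ring
  have h3 : ∀ r ∈ Finset.range (d + 1),
      E r * ν ^ (d.factorial / r) = E r * g ^ d.factorial := by
    intro r hr
    rcases Nat.eq_zero_or_pos r with rfl | hpos
    · rw [h0, zero_mul, zero_mul]
    · rw [h2 r hr, Nat.mul_div_cancel' (Nat.dvd_factorial hpos
        (Nat.lt_succ_iff.mp (Finset.mem_range.mp hr)))]
  rw [Finset.sum_congr rfl h3, ← Finset.sum_mul, hsum, one_mul]

end Groth.Agent.Lib.Helper11.FNormB
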