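import Mathlib
import Groth.Agent.Lib.Helper11.FNorm
import Groth.Agent.Lib.Helper11.FNormB

/-!
# Ring-level finite locally free groupoids ("packages") and their base change (helper11)

A package over `C` consists of `C`-algebras `A`, `B`, `B₂` and `C`-algebra maps
`s t : A → B`, `e : B → A`, `p₀ p₁ c : B → B₂` such that `(B₂; p₀, p₁)` is the pushout of `(s, t)`,
`(B₂; c, p₁)` is the pushout of `(s, s)`, `e` retracts `s` and `t`, and `c ∘ t = p₀ ∘ t`.
This is what is left of a groupoid scheme with `U = Spec A`, `R = Spec B` for the purposes of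
norms.  Packages are stable under base change `C → D`.
-/

set_option autoImplicit false
universe u

open CategoryTheory CategoryTheory.Limits TensorProduct Polynomial

namespace Groth.Agent.Lib.Helper11.RPack

open Groth.Agent.Lib.Helper11.FNorm Groth.Agent.Lib.Helper11.FNormB

section bc

variable {C : Type u} [CommRing C]

/-- base change of an algebra hom along `C → D` -/
noncomputable abbrev bc (D : Type u) [CommRing D] [Algebra C D] {X Y : Type u} [CommRing X]
    [CommRing Y] [Algebra C X] [Algebra C Y] (φ : X →ₐ[C] Y) : X ⊗[C] D →ₐ[C] Y ⊗[C] D :=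
  Algebra.TensorProduct.map φ (AlgHom.id C D)

/-- change of coefficients -/
noncomputable abbrev bcr (X : Type u) [CommRing X] [Algebra C X] {D D' : Type u} [CommRing D]
    [CommRing D'] [Algebra C D] [Algebra C D'] (θ : D →ₐ[C] D') : X ⊗[C] D →ₐ[C] X ⊗[C] D' :=
  Algebra.TensorProduct.map (AlgHom.id C X) θ

variable {D D' : Type u} [CommRing D] [CommRing D'] [Algebra C D] [Algebra C D']
  {X Y Y' Z : Type u} [CommRing X] [CommRing Y] [CommRing Y'] [CommRing Z]
  [Algebra C X] [Algebra C Y] [Algebra C Y'] [Algebra C Z]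

theorem bc_comm (φ : X →ₐ[C] Y) (ψ : Y →ₐ[C] Z) (φ' : X →ₐ[C] Y') (ψ' : Y' →ₐ[C] Z)
    (hc : ∀ x, ψ (φ x) = ψ' (φ' x)) (z : X ⊗[C] D) :
    bc D ψ (bc D φ z) = bc D ψ' (bc D φ' z) := by
  induction z using TensorProduct.induction_on with
  | zero => simp
  | tmul x d =>
    show ψ (φ x) ⊗ₜ[C] d = ψ' (φ' x) ⊗ₜ[C] d
    rw [hc]
  | add a b ha hb => rw [map_add, map_add, map_add, map_add, ha, hb]

theorem bc_retract (φ : X →ₐ[C] Y) (ψ : Y →ₐ[C] X) (hc : ∀ x, ψ (φ x) = x) (z : X ⊗[C] D) :
    bc D ψ (bc D φ z) = z := by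
  induction z using TensorProduct.induction_on with
  | zero => simp
  | tmul x d =>
    show ψ (φ x) ⊗ₜ[C] d = x ⊗ₜ[C] d
    rw [hc]
  | add a b ha hb => rw [map_add, map_add, ha, hb]

theorem bc_bcr (φ : X →ₐ[C] Y) (θ : D →ₐ[C] D') (z : X ⊗[C] D) :
    bc D' φ (bcr X θ z) = bcr Y θ (bc D φ z) := by
  induction z using TensorProduct.induction_on with
  | zero => simp
  | tmul x d => rfl
  | add a b ha hb => rw [map_add, map_add, map_add, map_add, ha, hb]

theorem isPushout_bc (D : Type u) [CommRing D] [Algebra C D] (φ : X →ₐ[C] Y) :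
    IsPushout (CommRingCat.ofHom φ.toRingHom)
      (CommRingCat.ofHom (Algebra.TensorProduct.includeLeftRingHom : X →+* X ⊗[C] D))
      (CommRingCat.ofHom (Algebra.TensorProduct.includeLeftRingHom : Y →+* Y ⊗[C] D))
      (CommRingCat.ofHom (bc D φ).toRingHom) := by
  have t := CommRingCat.isPushout_tensorProduct C X D
  have s := CommRingCat.isPushout_tensorProduct C Y D
  have e1 : CommRingCat.ofHom (algebraMap C X) ≫ CommRingCat.ofHom φ.toRingHom =
      CommRingCat.ofHom (algebraMap C Y) := by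
    apply CommRingCat.hom_ext
    apply RingHom.ext
    intro x
    exact φ.commutes x
  have e2 : CommRingCat.ofHom
        (Algebra.TensorProduct.includeRight : D →ₐ[C] X ⊗[C] D).toRingHom ≫
      CommRingCat.ofHom (bc D φ).toRingHom =
      CommRingCat.ofHom (Algebra.TensorProduct.includeRight : D →ₐ[C] Y ⊗[C] D).toRingHom := by
    apply CommRingCat.hom_ext
    apply RingHom.ext
    intro d
    show φ 1 ⊗ₜ[C] d = (1 : Y) ⊗ₜ[C] d
    rw [map_one]
  rw [← e1, ← e2] at s
  refine IsPushout.of_left s ?_ t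
  apply CommRingCat.hom_ext
  apply RingHom.ext
  intro x
  rfl

theorem isPushout_bcr (φ : X →ₐ[C] Y) (θ : D →ₐ[C] D') :
    IsPushout (CommRingCat.ofHom (bc D φ).toRingHom) (CommRingCat.ofHom (bcr X θ).toRingHom)
      (CommRingCat.ofHom (bcr Y θ).toRingHom) (CommRingCat.ofHom (bc D' φ).toRingHom) := by
  have top := isPushout_bc D φ
  have outer := isPushout_bc D' φ
  have e1 : CommRingCat.ofHom (Algebra.TensorProduct.includeLeftRingHom : X →+* X ⊗[C] D) ≫
      CommRingCat.ofHom (bcr X θ).toRingHom =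
      CommRingCat.ofHom (Algebra.TensorProduct.includeLeftRingHom : X →+* X ⊗[C] D') := by
    apply CommRingCat.hom_ext
    apply RingHom.ext
    intro x
    show x ⊗ₜ[C] θ 1 = x ⊗ₜ[C] (1 : D')
    rw [map_one]
  have e2 : CommRingCat.ofHom (Algebra.TensorProduct.includeLeftRingHom : Y →+* Y ⊗[C] D) ≫
      CommRingCat.ofHom (bcr Y θ).toRingHom =
      CommRingCat.ofHom (Algebra.TensorProduct.includeLeftRingHom : Y →+* Y ⊗[C] D') := by
    apply CommRingCat.hom_ext
    apply RingHom.ext
    intro x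
    show x ⊗ₜ[C] θ 1 = x ⊗ₜ[C] (1 : D')
    rw [map_one]
  rw [← e1, ← e2] at outer
  refine IsPushout.of_top outer ?_ top
  apply CommRingCat.hom_ext
  apply RingHom.ext
  intro z
  exact (bc_bcr φ θ z).symm

end bc

section pack

variable {C : Type u} [CommRing C] {A B B₂ : Type u} [CommRing A] [CommRing B] [CommRing B₂]
  [Algebra C A] [Algebra C B] [Algebra C B₂]

/-- a ring-level finite groupoid -/
structure IsPack (s t : A →ₐ[C] B) (e : B →ₐ[C] A) (p₀ p₁ c : B →ₐ[C] B₂) : Prop where
  s_e : ∀ a, e (s a) = a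
  t_e : ∀ a, e (t a) = a
  t_c : ∀ a, c (t a) = p₀ (t a)
  po₁ : IsPushout (CommRingCat.ofHom s.toRingHom) (CommRingCat.ofHom t.toRingHom)
    (CommRingCat.ofHom p₀.toRingHom) (CommRingCat.ofHom p₁.toRingHom)
  po₂ : IsPushout (CommRingCat.ofHom s.toRingHom) (CommRingCat.ofHom s.toRingHom)
    (CommRingCat.ofHom c.toRingHom) (CommRingCat.ofHom p₁.toRingHom)

variable {s t : A →ₐ[C] B} {e : B →ₐ[C] A} {p₀ p₁ c : B →ₐ[C] B₂}

theorem IsPack.w₁ (h : IsPack s t e p₀ p₁ c) (a : A) : p₀ (s a) = p₁ (t a) :=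
  congrArg (fun φ : CommRingCat.of A ⟶ CommRingCat.of B₂ => φ.hom a) h.po₁.w

theorem IsPack.w₂ (h : IsPack s t e p₀ p₁ c) (a : A) : c (s a) = p₁ (s a) :=
  congrArg (fun φ : CommRingCat.of A ⟶ CommRingCat.of B₂ => φ.hom a) h.po₂.w

theorem IsPack.bc (h : IsPack s t e p₀ p₁ c) (D : Type u) [CommRing D] [Algebra C D] :
    IsPack (bc D s) (bc D t) (bc D e) (bc D p₀) (bc D p₁) (bc D c) where
  s_e := bc_retract s e h.s_e
  t_e := bc_retract t e h.t_e
  t_c := bc_comm t c t p₀ h.t_c
  po₁ := by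
    have V := isPushout_bc D p₁
    have W := isPushout_bc D s
    have big := h.po₁.paste_vert V
    rw [(isPushout_bc D t).w, (isPushout_bc D p₀).w] at big
    refine IsPushout.of_top big ?_ W
    apply CommRingCat.hom_ext
    apply RingHom.ext
    intro z
    exact bc_comm s p₀ t p₁ h.w₁ z
  po₂ := by
    have V := isPushout_bc D p₁
    have W := isPushout_bc D s
    have big := h.po₂.paste_vert V
    rw [(isPushout_bc D s).w, (isPushout_bc D c).w] at big
    refine IsPushout.of_top big ?_ W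
    apply CommRingCat.hom_ext
    apply RingHom.ext
    intro z
    exact bc_comm s c s p₁ h.w₂ z

theorem IsPack.fnorm_inv (h : IsPack s t e p₀ p₁ c) [Algebra A B]
    (hs : algebraMap A B = s.toRingHom) [Module.Finite A B] [Module.Projective A B] (f : A) :
    s (fnorm A B (t f)) = t (fnorm A B (t f)) := by
  letI : Algebra B B₂ := p₁.toRingHom.toAlgebra
  haveI : Module.Finite B B₂ := finite_of_isPushout h.po₁ hs rfl
  haveI : Module.Projective B B₂ := projective_of_isPushout h.po₁ hs rfl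
  have e1 := fnorm_of_isPushout h.po₁ hs rfl (t f)
  have e2 := fnorm_of_isPushout h.po₂ hs rfl (t f)
  have e3 : c (t f) = p₀ (t f) := h.t_c f
  exact e2.symm.trans ((congrArg (fnorm B B₂) e3).trans e1)

theorem IsPack.rankPoly_map (h : IsPack s t e p₀ p₁ c) [Algebra A B]
    (hs : algebraMap A B = s.toRingHom) [Module.Finite A B] [Module.Projective A B] :
    (rankPoly A B).map s.toRingHom = (rankPoly A B).map t.toRingHom := by
  letI : Algebra B B₂ := p₁.toRingHom.toAlgebra
  haveI : Module.Finite B B₂ := finite_of_isPushout h.po₁ hs rfl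
  haveI : Module.Projective B B₂ := projective_of_isPushout h.po₁ hs rfl
  have e1 := rankPoly_of_isPushout h.po₁ hs rfl
  have e2 := rankPoly_of_isPushout h.po₂ hs rfl
  exact e2.symm.trans e1

end pack

end Groth.Agent.Lib.Helper11.RPack
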