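import Mathlib
import Groth.Agent.Lib.Helper11.RPack

/-!
# Invariants of a finite groupoid package under base change (helper11)
-/

set_option autoImplicit false
universe u

open CategoryTheory CategoryTheory.Limits TensorProduct Polynomial AlgebraicGeometry

namespace Groth.Agent.Lib.Helper11.RPackB

open Groth.Agent.Lib.Helper11.FNorm Groth.Agent.Lib.Helper11.FNormB
  Groth.Agent.Lib.Helper11.RPack

variable {C : Type u} [CommRing C] {A B B₂ : Type u} [CommRing A] [CommRing B] [CommRing B₂]
  [Algebra C A] [Algebra C B] [Algebra C B₂]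

/-- flat base change of the ring of invariants -/
theorem flat_inv (s t : A →ₐ[C] B) (hinj : Function.Injective (algebraMap C A))
    (hinv : ∀ a, s a = t a → a ∈ Set.range (algebraMap C A))
    (D : Type u) [CommRing D] [Algebra C D] [Module.Flat C D] :
    Function.Injective (Algebra.TensorProduct.includeRight : D →ₐ[C] A ⊗[C] D) ∧
      ∀ f : A ⊗[C] D, bc D s f = bc D t f →
        f ∈ Set.range (Algebra.TensorProduct.includeRight : D →ₐ[C] A ⊗[C] D) := by
  let ι : C →ₗ[C] A := Algebra.linearMap C A
  let d : A →ₗ[C] B := s.toLinearMap - t.toLinearMap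
  have hex : Function.Exact ι d := by
    intro a
    constructor
    · intro h0
      have h1 : s a = t a := sub_eq_zero.mp h0
      exact hinv a h1
    · rintro ⟨c, rfl⟩
      show s (algebraMap C A c) - t (algebraMap C A c) = 0
      rw [s.commutes, t.commutes, sub_self]
  have hex' := Module.Flat.rTensor_exact D hex
  have hι : ∀ y : C ⊗[C] D, ∃ d' : D, ι.rTensor D y = (1 : A) ⊗ₜ[C] d' := by
    intro y
    induction y using TensorProduct.induction_on with
    | zero => exact ⟨0, by simp⟩
    | tmul c d' =>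
      refine ⟨c • d', ?_⟩
      show (algebraMap C A c) ⊗ₜ[C] d' = (1 : A) ⊗ₜ[C] (c • d')
      rw [Algebra.algebraMap_eq_smul_one, TensorProduct.smul_tmul]
    | add a b ha hb =>
      obtain ⟨a', ha'⟩ := ha
      obtain ⟨b', hb'⟩ := hb
      exact ⟨a' + b', by rw [map_add, ha', hb', TensorProduct.tmul_add]⟩
  have hd : ∀ f : A ⊗[C] D, d.rTensor D f = bc D s f - bc D t f := by
    intro f
    induction f using TensorProduct.induction_on with
    | zero => simp
    | tmul a d' =>
      show (s a - t a) ⊗ₜ[C] d' = s a ⊗ₜ[C] d' - t a ⊗ₜ[C] d'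
      rw [TensorProduct.sub_tmul]
    | add a b ha hb =>
      rw [map_add, map_add, map_add, ha, hb]
      abel
  constructor
  · intro d₁ d₂ h12
    have hinj' := Module.Flat.rTensor_preserves_injective_linearMap (M := D) ι hinj
    have h1 : ι.rTensor D ((1 : C) ⊗ₜ[C] d₁) = ι.rTensor D ((1 : C) ⊗ₜ[C] d₂) := by
      show (algebraMap C A 1) ⊗ₜ[C] d₁ = (algebraMap C A 1) ⊗ₜ[C] d₂
      rw [map_one]
      exact h12
    have h2 := hinj' h1
    have h3 := congrArg (TensorProduct.lid C D) h2
    rwa [TensorProduct.lid_tmul, TensorProduct.lid_tmul, one_smul, one_smul] at h3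
  · intro f hf
    have h0 : d.rTensor D f = 0 := by rw [hd, hf, sub_self]
    obtain ⟨y, hy⟩ := (hex' f).mp h0
    obtain ⟨d', hd'⟩ := hι y
    exact ⟨d', by rw [← hy, hd']; rfl⟩

/-- the kernel of `D → A ⊗ D` is nil when `C → A` is integral and injective -/
theorem nil_ker [Algebra.IsIntegral C A] (hinj : Function.Injective (algebraMap C A))
    (D : Type u) [CommRing D] [Algebra C D] (d : D) (h0 : (1 : A) ⊗ₜ[C] d = 0) :
    IsNilpotent d := by
  rw [nilpotent_iff_mem_prime]
  intro q hq
  haveI : FaithfulSMul C A := (faithfulSMul_iff_algebraMap_injective C A).mpr hinj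
  have hsurj : Function.Surjective (PrimeSpectrum.comap (algebraMap C A)) :=
    Algebra.IsIntegral.comap_surjective C A
  haveI : Surjective (Spec.map (CommRingCat.ofHom (algebraMap C A))) := ⟨hsurj⟩
  haveI : Surjective (Spec.map (CommRingCat.ofHom
      (Algebra.TensorProduct.includeRight : D →ₐ[C] A ⊗[C] D).toRingHom)) := by
    have hsnd : Surjective ((pullbackSpecIso C A D).inv ≫
        pullback.snd (Spec.map (CommRingCat.ofHom (algebraMap C A)))
          (Spec.map (CommRingCat.ofHom (algebraMap C D)))) := inferInstance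
    rw [pullbackSpecIso_inv_snd] at hsnd
    exact hsnd
  obtain ⟨Q, hQ⟩ := (Spec.map (CommRingCat.ofHom
      (Algebra.TensorProduct.includeRight : D →ₐ[C] A ⊗[C] D).toRingHom)).surjective ⟨q, hq⟩
  have h1 : (Algebra.TensorProduct.includeRight : D →ₐ[C] A ⊗[C] D) d ∈ Q.asIdeal := by
    show (1 : A) ⊗ₜ[C] d ∈ Q.asIdeal
    rw [h0]
    exact Q.asIdeal.zero_mem
  have h2 := congrArg PrimeSpectrum.asIdeal hQ
  have h3 : d ∈ ((Spec.map (CommRingCat.ofHom
      (Algebra.TensorProduct.includeRight : D →ₐ[C] A ⊗[C] D).toRingHom)) Q).asIdeal := h1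
  rw [h2] at h3
  exact h3

end Groth.Agent.Lib.Helper11.RPackB
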