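import Mathlib
import Groth.Agent.Lib.Helper11.RPackB

/-!
# Invariant functions after an arbitrary base change: powers of `X - f` descend (helper11)
-/

set_option autoImplicit false
universe u

open CategoryTheory CategoryTheory.Limits TensorProduct Polynomial AlgebraicGeometry

namespace Groth.Agent.Lib.Helper11.RPackC

open Groth.Agent.Lib.Helper11.FNorm Groth.Agent.Lib.Helper11.FNormB
  Groth.Agent.Lib.Helper11.RPack Groth.Agent.Lib.Helper11.RPackB

variable {C : Type u} [CommRing C] {A B B₂ : Type u} [CommRing A] [CommRing B] [CommRing B₂]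
  [Algebra C A] [Algebra C B] [Algebra C B₂]
  {s t : A →ₐ[C] B} {e : B →ₐ[C] A} {p₀ p₁ c : B →ₐ[C] B₂}

/-- the coefficients of the rank polynomial are invariant -/
theorem coeff_rankPoly_inv (h : IsPack s t e p₀ p₁ c) [Algebra A B]
    (hs : algebraMap A B = s.toRingHom) [Module.Finite A B] [Module.Projective A B] (r : ℕ) :
    s ((rankPoly A B).coeff r) = t ((rankPoly A B).coeff r) := by
  have h1 := congrArg (fun q => Polynomial.coeff q r) (h.rankPoly_map hs)
  rw [Polynomial.coeff_map, Polynomial.coeff_map] at h1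
  exact h1

theorem exists_poly (h : IsPack s t e p₀ p₁ c) [Algebra A B]
    (hs : algebraMap A B = s.toRingHom) [Module.Finite A B] [Module.Projective A B]
    (hinj : Function.Injective (algebraMap C A))
    (hinv : ∀ a, s a = t a → a ∈ Set.range (algebraMap C A))
    (C' : Type u) [CommRing C'] [Algebra C C'] (f : A ⊗[C] C') (hf : bc C' s f = bc C' t f) :
    ∃ (n : ℕ) (P : C'[X]), 0 < n ∧
      P.map (Algebra.TensorProduct.includeRight : C' →ₐ[C] A ⊗[C] C').toRingHom =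
        (X - Polynomial.C f) ^ n := by
  classical
  let CX := C'[X]
  let P := MvPolynomial (Option C') C
  let κ : C' →ₐ[C] CX := Polynomial.CAlgHom
  let θ : P →ₐ[C] CX := MvPolynomial.aeval
    (fun o : Option C' => Option.elim o (X : C'[X]) (fun c' => Polynomial.C c'))
  let g : A ⊗[C] CX := (1 : A) ⊗ₜ[C] (X : C'[X]) - bcr A κ f
  have hg : bc CX s g = bc CX t g := by
    show bc CX s ((1 : A) ⊗ₜ[C] (X : C'[X]) - bcr A κ f) =
      bc CX t ((1 : A) ⊗ₜ[C] (X : C'[X]) - bcr A κ f)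
    rw [map_sub, map_sub, bc_bcr, bc_bcr, hf]
    congr 1
    show s 1 ⊗ₜ[C] (X : C'[X]) = t 1 ⊗ₜ[C] (X : C'[X])
    rw [map_one, map_one]
  have hF : ∀ f : A ⊗[C] C', ∃ F : A ⊗[C] P, bcr A θ F = bcr A κ f := by
    intro f
    induction f using TensorProduct.induction_on with
    | zero => exact ⟨0, by simp⟩
    | tmul a c' =>
      refine ⟨a ⊗ₜ[C] (MvPolynomial.X (some c') : P), ?_⟩
      show a ⊗ₜ[C] θ (MvPolynomial.X (some c')) = a ⊗ₜ[C] κ c'
      congr 1
      exact MvPolynomial.aeval_X _ _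
    | add a b ha hb =>
      obtain ⟨Fa, hFa⟩ := ha
      obtain ⟨Fb, hFb⟩ := hb
      exact ⟨Fa + Fb, by rw [map_add, map_add, hFa, hFb]⟩
  obtain ⟨F, hF⟩ := hF f
  let G : A ⊗[C] P := (1 : A) ⊗ₜ[C] (MvPolynomial.X none : P) - F
  have hG : bcr A θ G = g := by
    show bcr A θ ((1 : A) ⊗ₜ[C] (MvPolynomial.X none : P) - F) = _
    rw [map_sub, hF]
    congr 1
    show (1 : A) ⊗ₜ[C] θ (MvPolynomial.X none) = (1 : A) ⊗ₜ[C] (X : C'[X])
    congr 1
    exact MvPolynomial.aeval_X _ _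
  have hP := h.bc P
  letI algP : Algebra (A ⊗[C] P) (B ⊗[C] P) := (bc P s).toRingHom.toAlgebra
  letI algCX : Algebra (A ⊗[C] CX) (B ⊗[C] CX) := (bc CX s).toRingHom.toAlgebra
  haveI : Module.Finite (A ⊗[C] P) (B ⊗[C] P) := finite_of_isPushout (isPushout_bc P s) hs rfl
  haveI : Module.Projective (A ⊗[C] P) (B ⊗[C] P) :=
    projective_of_isPushout (isPushout_bc P s) hs rfl
  haveI : Module.Finite (A ⊗[C] CX) (B ⊗[C] CX) := finite_of_isPushout (isPushout_bc CX s) hs rfl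
  haveI : Module.Projective (A ⊗[C] CX) (B ⊗[C] CX) :=
    projective_of_isPushout (isPushout_bc CX s) hs rfl
  let νP : A ⊗[C] P := fnorm (A ⊗[C] P) (B ⊗[C] P) (bc P t G)
  have hνP : bc P s νP = bc P t νP := hP.fnorm_inv rfl G
  obtain ⟨ν₀, hν₀⟩ := (flat_inv s t hinj hinv P).2 νP hνP
  let Q : C'[X] := θ ν₀
  have hsqθ := isPushout_bcr (C := C) s θ
  have hQ1 : (1 : A) ⊗ₜ[C] Q = fnorm (A ⊗[C] CX) (B ⊗[C] CX) (bc CX t g) := by
    have e1 := fnorm_of_isPushout hsqθ rfl rfl (bc P t G)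
    have e2 : bcr B θ (bc P t G) = bc CX t g := by rw [← bc_bcr, hG]
    have e3 : bcr A θ νP = (1 : A) ⊗ₜ[C] Q := by
      rw [← hν₀]
      show (1 : A) ⊗ₜ[C] θ ν₀ = (1 : A) ⊗ₜ[C] Q
      rfl
    rw [← e3, ← e2]
    exact e1.symm
  have hQ2 : (1 : A) ⊗ₜ[C] Q = (rankPoly A B).eval₂
      (Algebra.TensorProduct.includeLeftRingHom : A →+* A ⊗[C] CX) g := by
    rw [hQ1, ← hg]
    exact fnorm_algebraMap_of_isPushout (isPushout_bc CX s) hs rfl g
  set ρ := rankPoly A B with hρ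
  let d := ρ.natDegree
  have hε : ∀ r, ∃ er : C, algebraMap C A er = ρ.coeff r :=
    fun r => hinv _ (coeff_rankPoly_inv h hs r)
  choose er her using hε
  let E : ℕ → A ⊗[C] CX := fun r => (ρ.coeff r) ⊗ₜ[C] (1 : CX)
  have hE : ∀ r, E r = (1 : A) ⊗ₜ[C] (Polynomial.C (algebraMap C C' (er r)) : C'[X]) := by
    intro r
    show (ρ.coeff r) ⊗ₜ[C] (1 : CX) = _
    rw [← her r, Algebra.algebraMap_eq_smul_one, TensorProduct.smul_tmul]
    congr 1
    rw [Algebra.smul_def, mul_one]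
    rfl
  have horth : ∀ r j, E r * E j = if r = j then E j else 0 := by
    intro r j
    show (ρ.coeff r ⊗ₜ[C] (1 : CX)) * (ρ.coeff j ⊗ₜ[C] (1 : CX)) = _
    rw [Algebra.TensorProduct.tmul_mul_tmul, mul_one, rankPoly_coeff_mul]
    split_ifs
    · rfl
    · rw [TensorProduct.zero_tmul]
  have hsum : ∑ r ∈ Finset.range (d + 1), E r = 1 := by
    show ∑ r ∈ Finset.range (d + 1), (ρ.coeff r) ⊗ₜ[C] (1 : CX) = 1
    rw [← TensorProduct.sum_tmul, rankPoly_sum_coeff]
    rfl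
  have hE0 : E 0 = 0 := by
    show (ρ.coeff 0) ⊗ₜ[C] (1 : CX) = 0
    rw [rankPoly_coeff_zero A B e.toRingHom (fun a => by rw [hs]; exact h.s_e a),
      TensorProduct.zero_tmul]
  have hνE : (1 : A) ⊗ₜ[C] Q = ∑ j ∈ Finset.range (d + 1), E j * g ^ j := by
    rw [hQ2, rankPoly_eval₂]
    rfl
  let n := d.factorial
  let Pfin : C'[X] :=
    ∑ r ∈ Finset.range (d + 1), Polynomial.C (algebraMap C C' (er r)) * Q ^ (n / r)
  have hPfin : (1 : A) ⊗ₜ[C] Pfin = g ^ n := by
    have hstep : (1 : A) ⊗ₜ[C] Pfin =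
        ∑ r ∈ Finset.range (d + 1), E r * ((1 : A) ⊗ₜ[C] Q) ^ (n / r) := by
      show (1 : A) ⊗ₜ[C] (∑ r ∈ Finset.range (d + 1),
        Polynomial.C (algebraMap C C' (er r)) * Q ^ (n / r)) = _
      rw [TensorProduct.tmul_sum]
      refine Finset.sum_congr rfl fun r _ => ?_
      rw [hE r, Algebra.TensorProduct.tmul_pow, one_pow, Algebra.TensorProduct.tmul_mul_tmul,
        one_mul]
    rw [hstep, hνE]
    exact sum_idem_pow d E g horth hsum hE0
  let A' := A ⊗[C] C'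
  let Φ : A ⊗[C] CX →ₐ[C] A'[X] := Algebra.TensorProduct.lift
    ((Polynomial.CAlgHom : A' →ₐ[C] A'[X]).comp
      (Algebra.TensorProduct.includeLeft : A →ₐ[C] A'))
    (Polynomial.mapAlgHom (Algebra.TensorProduct.includeRight : C' →ₐ[C] A'))
    (fun _ _ => Commute.all _ _)
  have hΦ1 : ∀ q : C'[X], Φ ((1 : A) ⊗ₜ[C] q) =
      q.map (Algebra.TensorProduct.includeRight : C' →ₐ[C] A').toRingHom := by
    intro q
    rw [Algebra.TensorProduct.lift_tmul, map_one, one_mul]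
    rfl
  have hΦ2 : ∀ f : A', Φ (bcr A κ f) = Polynomial.C f := by
    intro f
    induction f using TensorProduct.induction_on with
    | zero => simp
    | tmul a c' =>
      show Φ (a ⊗ₜ[C] κ c') = _
      rw [Algebra.TensorProduct.lift_tmul]
      show Polynomial.C (a ⊗ₜ[C] (1 : C')) *
        (Polynomial.C c' : C'[X]).map
          (Algebra.TensorProduct.includeRight : C' →ₐ[C] A').toRingHom = _
      rw [Polynomial.map_C, ← Polynomial.C_mul]
      congr 1
      show a ⊗ₜ[C] (1 : C') * (1 : A) ⊗ₜ[C] c' = _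
      rw [Algebra.TensorProduct.tmul_mul_tmul, mul_one, one_mul]
    | add a b ha hb => rw [map_add, map_add, ha, hb, map_add]
  refine ⟨n, Pfin, Nat.factorial_pos d, ?_⟩
  rw [← hΦ1, hPfin, map_pow]
  congr 1
  show Φ ((1 : A) ⊗ₜ[C] (X : C'[X]) - bcr A κ f) = _
  rw [map_sub, hΦ2, hΦ1, Polynomial.map_X]

end Groth.Agent.Lib.Helper11.RPackC
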