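import Mathlib
import Groth.Prelude.Def_Grpd
import Groth.Agent.Lib.Helper11.GrpdLib
import Groth.Agent.Lib.Helper11.FinQuotB
import Groth.Agent.Lib.Helper11.RPackC

/-!
# The ring-level package of an affine groupoid scheme (helper11)
-/

set_option autoImplicit false
universe u

open CategoryTheory CategoryTheory.Limits AlgebraicGeometry TensorProduct Polynomial
open Groth.Agent.Lib.Helper11.GrpdLib
open Groth.Agent.Lib.Helper11.FinQuotB
open Groth.Agent.Lib.Helper11.RPack Groth.Agent.Lib.Helper11.RPackB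
  Groth.Agent.Lib.Helper11.RPackC

namespace Groth.Agent.Lib.Helper11.GPack

variable {S : Scheme.{u}} (G : Grpd.GroupoidScheme S) [IsAffine G.U] [IsAffine G.R]

/-- `Γ(R)` as an algebra over the invariants through `s♯` -/
@[reducible] noncomputable def algR : Algebra G.invariants Γ(G.R, ⊤) :=
  (G.s.appTop.hom.comp G.invariants.subtype).toAlgebra

/-- `Γ(R ×_U R)` as an algebra over the invariants -/
@[reducible] noncomputable def algR₂ : Algebra G.invariants Γ(pullback G.s G.t, ⊤) :=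
  ((pullback.snd G.s G.t).appTop.hom.comp
    (G.s.appTop.hom.comp G.invariants.subtype)).toAlgebra

attribute [local instance] algR algR₂

noncomputable def sA : Γ(G.U, ⊤) →ₐ[G.invariants] Γ(G.R, ⊤) :=
  { G.s.appTop.hom with commutes' := fun _ => rfl }

noncomputable def tA : Γ(G.U, ⊤) →ₐ[G.invariants] Γ(G.R, ⊤) :=
  { G.t.appTop.hom with commutes' := fun c => c.2.symm }

noncomputable def eA : Γ(G.R, ⊤) →ₐ[G.invariants] Γ(G.U, ⊤) :=
  { G.e.appTop.hom with commutes' := fun c => e_s_apply G c.1 }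

theorem fst_s_apply (a : Γ(G.U, ⊤)) :
    (pullback.fst G.s G.t).appTop.hom (G.s.appTop.hom a) =
      (pullback.snd G.s G.t).appTop.hom (G.t.appTop.hom a) := by
  have h4 : (pullback.fst G.s G.t ≫ G.s).appTop = (pullback.snd G.s G.t ≫ G.t).appTop := by
    rw [pullback.condition]
  rw [Scheme.Hom.comp_appTop, Scheme.Hom.comp_appTop] at h4
  exact congrArg (fun φ => φ.hom a) h4

theorem c_s_apply (a : Γ(G.U, ⊤)) :
    G.c.appTop.hom (G.s.appTop.hom a) =
      (pullback.snd G.s G.t).appTop.hom (G.s.appTop.hom a) := by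
  have h4 : (G.c ≫ G.s).appTop = (pullback.snd G.s G.t ≫ G.s).appTop := by rw [c_s]
  rw [Scheme.Hom.comp_appTop, Scheme.Hom.comp_appTop] at h4
  exact congrArg (fun φ => φ.hom a) h4

noncomputable def p₀A : Γ(G.R, ⊤) →ₐ[G.invariants] Γ(pullback G.s G.t, ⊤) :=
  { (pullback.fst G.s G.t).appTop.hom with
    commutes' := fun c => by
      show (pullback.fst G.s G.t).appTop.hom (G.s.appTop.hom c.1) =
        (pullback.snd G.s G.t).appTop.hom (G.s.appTop.hom c.1)
      rw [fst_s_apply]
      exact congrArg _ c.2.symm }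

noncomputable def p₁A : Γ(G.R, ⊤) →ₐ[G.invariants] Γ(pullback G.s G.t, ⊤) :=
  { (pullback.snd G.s G.t).appTop.hom with commutes' := fun _ => rfl }

noncomputable def cA : Γ(G.R, ⊤) →ₐ[G.invariants] Γ(pullback G.s G.t, ⊤) :=
  { G.c.appTop.hom with commutes' := fun c => c_s_apply G c.1 }

theorem isPack : IsPack (sA G) (tA G) (eA G) (p₀A G) (p₁A G) (cA G) where
  s_e := e_s_apply G
  t_e := e_t_apply G
  t_c := fun a => (fst_t_eq_c_t G a).symm
  po₁ := isPushout_appTop_of_isPullback (IsPullback.of_hasPullback G.s G.t)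
  po₂ := isPushout_appTop_of_isPullback (isPullback_c_snd (G := G))

theorem hinj : Function.Injective (algebraMap G.invariants Γ(G.U, ⊤)) :=
  Subtype.val_injective

theorem hinv (a : Γ(G.U, ⊤)) (ha : sA G a = tA G a) :
    a ∈ Set.range (algebraMap G.invariants Γ(G.U, ⊤)) :=
  ⟨⟨a, ha⟩, rfl⟩

section finite

variable [IsFinite G.s] [Flat G.s] [LocallyOfFinitePresentation G.s]

theorem main (C' : Type u) [CommRing C'] [Algebra G.invariants C'] :
    (∀ f : Γ(G.U, ⊤) ⊗[G.invariants] C', bc C' (sA G) f = bc C' (tA G) f →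
      ∃ (n : ℕ) (P : C'[X]), 0 < n ∧
        P.map (Algebra.TensorProduct.includeRight :
          C' →ₐ[G.invariants] Γ(G.U, ⊤) ⊗[G.invariants] C').toRingHom =
          (X - Polynomial.C f) ^ n) ∧
    (∀ c : C', (Algebra.TensorProduct.includeRight :
        C' →ₐ[G.invariants] Γ(G.U, ⊤) ⊗[G.invariants] C') c = 0 → IsNilpotent c) ∧
    (Module.Flat G.invariants C' →
      Function.Injective (Algebra.TensorProduct.includeRight :
        C' →ₐ[G.invariants] Γ(G.U, ⊤) ⊗[G.invariants] C') ∧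
      ∀ f : Γ(G.U, ⊤) ⊗[G.invariants] C', bc C' (sA G) f = bc C' (tA G) f →
        f ∈ Set.range (Algebra.TensorProduct.includeRight :
          C' →ₐ[G.invariants] Γ(G.U, ⊤) ⊗[G.invariants] C')) := by
  letI : Algebra Γ(G.U, ⊤) Γ(G.R, ⊤) := G.s.appTop.hom.toAlgebra
  haveI : Module.Finite Γ(G.U, ⊤) Γ(G.R, ⊤) := finite_s G
  haveI : Module.Projective Γ(G.U, ⊤) Γ(G.R, ⊤) := projective_s G
  haveI : Algebra.IsIntegral G.invariants Γ(G.U, ⊤) := isIntegral_invariants G
  refine ⟨fun f hf => ?_, fun c hc => ?_, fun hflat => ?_⟩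
  · exact exists_poly (isPack G) rfl (hinj G) (hinv G) C' f hf
  · exact nil_ker (A := Γ(G.U, ⊤)) (hinj G) C' c hc
  · haveI := hflat
    exact flat_inv (sA G) (tA G) (hinj G) (hinv G) C'

end finite

end Groth.Agent.Lib.Helper11.GPack
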