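import Mathlib
import Groth.Agent.Lib.Helper11.RPackC

/-!
# Orbits and geometric points of a finite groupoid package (helper11)
-/

set_option autoImplicit false
universe u

open CategoryTheory CategoryTheory.Limits TensorProduct Polynomial AlgebraicGeometry

namespace Groth.Agent.Lib.Helper11.RPackD

open Groth.Agent.Lib.Helper11.FNorm Groth.Agent.Lib.Helper11.FNormB
  Groth.Agent.Lib.Helper11.RPack Groth.Agent.Lib.Helper11.RPackB Groth.Agent.Lib.Helper11.RPackC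

section pt

variable {C X k : Type u} [CommRing C] [CommRing X] [Algebra C X] [Algebra.IsIntegral C X]
  [Field k] [IsAlgClosed k] [Algebra C k]

/-- a prime of `X ⊗ k` (`X` integral over `C`, `k` algebraically closed) is the kernel of a unique
`k`-point. -/
theorem exists_pt (𝔮 : Ideal (X ⊗[C] k)) [𝔮.IsPrime] :
    ∃ ρ : X ⊗[C] k →+* k, (∀ c : k, ρ ((1 : X) ⊗ₜ[C] c) = c) ∧ RingHom.ker ρ = 𝔮 := by
  let L := (X ⊗[C] k) ⧸ 𝔮
  let j : k →+* L := (Ideal.Quotient.mk 𝔮).comp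
    (Algebra.TensorProduct.includeRight : k →ₐ[C] X ⊗[C] k).toRingHom
  let ψ : X →+* L := (Ideal.Quotient.mk 𝔮).comp
    (Algebra.TensorProduct.includeLeftRingHom : X →+* X ⊗[C] k)
  have hψj : ∀ c : C, ψ (algebraMap C X c) = j (algebraMap C k c) := by
    intro c
    show Ideal.Quotient.mk 𝔮 ((algebraMap C X c) ⊗ₜ[C] (1 : k)) =
      Ideal.Quotient.mk 𝔮 ((1 : X) ⊗ₜ[C] (algebraMap C k c))
    congr 1
    rw [Algebra.algebraMap_eq_smul_one, Algebra.algebraMap_eq_smul_one, TensorProduct.smul_tmul]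
  have hψ : ∀ x : X, j.IsIntegralElem (ψ x) := by
    intro x
    obtain ⟨p, hp, hpx⟩ := Algebra.IsIntegral.isIntegral (R := C) x
    refine ⟨p.map (algebraMap C k), hp.map _, ?_⟩
    rw [Polynomial.eval₂_map]
    have h1 : j.comp (algebraMap C k) = ψ.comp (algebraMap C X) :=
      RingHom.ext fun c => (hψj c).symm
    rw [h1, ← Polynomial.hom_eval₂, hpx, map_zero]
  have hint : j.IsIntegral := by
    intro y
    obtain ⟨z, rfl⟩ := Ideal.Quotient.mk_surjective y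
    induction z using TensorProduct.induction_on with
    | zero =>
      rw [map_zero]
      exact j.isIntegralElem_zero
    | tmul x c =>
      have h1 : Ideal.Quotient.mk 𝔮 (x ⊗ₜ[C] c) = ψ x * j c := by
        show _ = Ideal.Quotient.mk 𝔮 (x ⊗ₜ[C] (1 : k)) * Ideal.Quotient.mk 𝔮 ((1 : X) ⊗ₜ[C] c)
        rw [← map_mul, Algebra.TensorProduct.tmul_mul_tmul, mul_one, one_mul]
      rw [h1]
      exact RingHom.IsIntegralElem.mul j (hψ x) j.isIntegralElem_map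
    | add a b ha hb =>
      rw [map_add]
      exact RingHom.IsIntegralElem.add j ha hb
  have hbij : Function.Bijective j := IsAlgClosed.ringHom_bijective_of_isIntegral j hint
  let je : k ≃+* L := RingEquiv.ofBijective j hbij
  refine ⟨je.symm.toRingHom.comp (Ideal.Quotient.mk 𝔮), ?_, ?_⟩
  · intro c
    show je.symm (je c) = c
    exact je.symm_apply_apply c
  · ext z
    rw [RingHom.mem_ker]
    show je.symm (Ideal.Quotient.mk 𝔮 z) = 0 ↔ z ∈ 𝔮
    rw [map_eq_zero_iff _ je.symm.injective, Ideal.Quotient.eq_zero_iff_mem]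

end pt

section core

variable {A B : Type u} [CommRing A] [CommRing B] [Algebra A B] [Module.Finite A B]
  [Module.Projective A B]

theorem orbit_core (t : A →+* B) (m₀ m₁ : Ideal A) [m₁.IsPrime]
    (H : ∀ h ∈ m₀, fnorm A B (t h) ∈ m₁) :
    ∃ 𝔮 : Ideal B, 𝔮.IsPrime ∧ 𝔮.comap (algebraMap A B) = m₁ ∧ m₀ ≤ 𝔮.comap t := by
  classical
  have hfin := Algebra.QuasiFinite.finite_comap_preimage_singleton (R := A) (S := B)
    ⟨m₁, inferInstance⟩
  obtain ⟨𝔮₀, h𝔮₀, -, -⟩ := exists_prime_of_fnorm_mem (t 0) m₁ (H 0 m₀.zero_mem)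
  let Q₀ : PrimeSpectrum B := ⟨𝔮₀, h𝔮₀⟩
  have hcov : (m₀ : Set A) ⊆ ⋃ Q ∈ (hfin.toFinset : Set (PrimeSpectrum B)),
      ((Q.asIdeal.comap t : Ideal A) : Set A) := by
    intro h hh
    obtain ⟨𝔮, h𝔮, h𝔮', hmem⟩ := exists_prime_of_fnorm_mem (t h) m₁ (H h hh)
    refine Set.mem_iUnion₂.mpr ⟨⟨𝔮, h𝔮⟩, ?_, hmem⟩
    rw [Finset.mem_coe, Set.Finite.mem_toFinset]
    exact PrimeSpectrum.ext h𝔮'
  obtain ⟨Q, hQ, hle⟩ := (Ideal.subset_union_prime
    (f := fun Q : PrimeSpectrum B => Q.asIdeal.comap t) Q₀ Q₀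
    (fun Q _ _ _ => Ideal.comap_isPrime _ _)).mp hcov
  refine ⟨Q.asIdeal, Q.2, ?_, hle⟩
  have h1 := (Set.Finite.mem_toFinset hfin).mp hQ
  exact congrArg PrimeSpectrum.asIdeal h1

end core

section pack

variable {C : Type u} [CommRing C] {A B B₂ : Type u} [CommRing A] [CommRing B] [CommRing B₂]
  [Algebra C A] [Algebra C B] [Algebra C B₂]
  {s t : A →ₐ[C] B} {e : B →ₐ[C] A} {p₀ p₁ c : B →ₐ[C] B₂}

/-- fibres of `Spec A → Spec C` are orbits -/
theorem orbit_of_comap_eq (h : IsPack s t e p₀ p₁ c) [Algebra A B]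
    (hs : algebraMap A B = s.toRingHom) [Module.Finite A B] [Module.Projective A B]
    [Algebra.IsIntegral C A] (hinv : ∀ a, s a = t a → a ∈ Set.range (algebraMap C A))
    (m₀ m₁ : Ideal A) [m₀.IsPrime] [m₁.IsPrime]
    (hm : m₀.comap (algebraMap C A) = m₁.comap (algebraMap C A)) :
    ∃ 𝔮 : Ideal B, 𝔮.IsPrime ∧ 𝔮.comap s.toRingHom = m₁ ∧ 𝔮.comap t.toRingHom = m₀ := by
  have H : ∀ x ∈ m₀, fnorm A B (t.toRingHom x) ∈ m₁ := by
    intro x hx
    obtain ⟨cc, hcc⟩ := hinv _ (h.fnorm_inv hs x)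
    have h1 : fnorm A B (t x) ∈ Ideal.span {e.toRingHom (t x)} :=
      fnorm_mem_span_of_retraction e.toRingHom (fun a => by rw [hs]; exact h.s_e a) (t x)
    have h1' : e.toRingHom (t x) = x := h.t_e x
    rw [h1'] at h1
    have h2 : fnorm A B (t x) ∈ m₀ :=
      (Ideal.span_le.mpr (Set.singleton_subset_iff.mpr hx)) h1
    show fnorm A B (t x) ∈ m₁
    rw [← hcc] at h2 ⊢
    have h3 : cc ∈ m₀.comap (algebraMap C A) := h2
    rw [hm] at h3
    exact h3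
  obtain ⟨𝔮, h𝔮, h1, h2⟩ := orbit_core t.toRingHom m₀ m₁ H
  haveI := h𝔮
  have h1' : 𝔮.comap s.toRingHom = m₁ := by rw [← hs]; exact h1
  refine ⟨𝔮, h𝔮, h1', ?_⟩
  by_contra hne
  have hlt : m₀ < 𝔮.comap t.toRingHom := lt_of_le_of_ne h2 (fun h' => hne h'.symm)
  obtain ⟨x, hx, hx'⟩ := Set.exists_of_ssubset hlt
  have hlt2 := Ideal.comap_lt_comap_of_integral_mem_sdiff (R := C) h2 ⟨hx, hx'⟩
    (Algebra.IsIntegral.isIntegral x)
  have heq : (𝔮.comap t.toRingHom).comap (algebraMap C A) = m₀.comap (algebraMap C A) := by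
    rw [hm, ← h1', Ideal.comap_comap, Ideal.comap_comap]
    have e1 : t.toRingHom.comp (algebraMap C A) = algebraMap C B := t.comp_algebraMap
    have e2 : s.toRingHom.comp (algebraMap C A) = algebraMap C B := s.comp_algebraMap
    rw [e1, e2]
  rw [heq] at hlt2
  exact lt_irrefl _ hlt2

/-- two `k`-points of `Spec A` with the same image in `Spec C` are source and target of a
`k`-point of `Spec B`. -/
theorem exists_kpoint (h : IsPack s t e p₀ p₁ c) [Algebra A B]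
    (hs : algebraMap A B = s.toRingHom) [Module.Finite A B] [Module.Projective A B]
    [Algebra.IsIntegral C A] (hinj : Function.Injective (algebraMap C A))
    (hinv : ∀ a, s a = t a → a ∈ Set.range (algebraMap C A))
    (k : Type u) [Field k] [IsAlgClosed k] [Algebra C k] (ξ₀ ξ₁ : A →ₐ[C] k) :
    ∃ ρ : B →+* k, ρ.comp t.toRingHom = ξ₀.toRingHom ∧ ρ.comp s.toRingHom = ξ₁.toRingHom := by
  let ξ₀' : A ⊗[C] k →ₐ[C] k :=
    Algebra.TensorProduct.lift ξ₀ (AlgHom.id C k) (fun _ _ => Commute.all _ _)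
  let ξ₁' : A ⊗[C] k →ₐ[C] k :=
    Algebra.TensorProduct.lift ξ₁ (AlgHom.id C k) (fun _ _ => Commute.all _ _)
  have hξ₀ : ∀ a cc, ξ₀' (a ⊗ₜ[C] cc) = ξ₀ a * cc := fun a cc =>
    Algebra.TensorProduct.lift_tmul _ _ _ a cc
  have hξ₁ : ∀ a cc, ξ₁' (a ⊗ₜ[C] cc) = ξ₁ a * cc := fun a cc =>
    Algebra.TensorProduct.lift_tmul _ _ _ a cc
  let m₀ : Ideal (A ⊗[C] k) := RingHom.ker ξ₀'.toRingHom
  let m₁ : Ideal (A ⊗[C] k) := RingHom.ker ξ₁'.toRingHom
  haveI hm₀ : m₀.IsMaximal := RingHom.ker_isMaximal_of_surjective _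
    (fun cc => ⟨(1 : A) ⊗ₜ[C] cc, by
      show ξ₀' ((1 : A) ⊗ₜ[C] cc) = cc
      rw [hξ₀, map_one, one_mul]⟩)
  haveI hm₁ : m₁.IsMaximal := RingHom.ker_isMaximal_of_surjective _
    (fun cc => ⟨(1 : A) ⊗ₜ[C] cc, by
      show ξ₁' ((1 : A) ⊗ₜ[C] cc) = cc
      rw [hξ₁, map_one, one_mul]⟩)
  haveI : m₁.IsPrime := hm₁.isPrime
  have hk := h.bc k
  letI alg : Algebra (A ⊗[C] k) (B ⊗[C] k) := (bc k s).toRingHom.toAlgebra
  haveI : Module.Finite (A ⊗[C] k) (B ⊗[C] k) := finite_of_isPushout (isPushout_bc k s) hs rfl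
  haveI : Module.Projective (A ⊗[C] k) (B ⊗[C] k) :=
    projective_of_isPushout (isPushout_bc k s) hs rfl
  have H : ∀ x ∈ m₀, fnorm (A ⊗[C] k) (B ⊗[C] k) ((bc k t).toRingHom x) ∈ m₁ := by
    intro x hx
    set ν := fnorm (A ⊗[C] k) (B ⊗[C] k) ((bc k t).toRingHom x) with hν
    have hinvν : bc k s ν = bc k t ν := hk.fnorm_inv rfl x
    obtain ⟨n, P, hn, hP⟩ := exists_poly h hs hinj hinv k ν hinvν
    have h1 : ν ∈ Ideal.span {x} := by
      have h2 := fnorm_mem_span_of_retraction (A := A ⊗[C] k) (B := B ⊗[C] k)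
        (bc k e).toRingHom (fun a => hk.s_e a) ((bc k t).toRingHom x)
      have h3 : (bc k e).toRingHom ((bc k t).toRingHom x) = x := hk.t_e x
      rwa [h3] at h2
    have hν0 : ξ₀' ν = 0 := by
      obtain ⟨b, hb⟩ := Ideal.mem_span_singleton'.mp h1
      have hx0 : ξ₀' x = 0 := hx
      rw [← hb, map_mul, hx0, mul_zero]
    have e0 := congrArg (Polynomial.map ξ₀'.toRingHom) hP
    have e1 := congrArg (Polynomial.map ξ₁'.toRingHom) hP
    rw [Polynomial.map_map, Polynomial.map_pow, Polynomial.map_sub, Polynomial.map_X,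
      Polynomial.map_C] at e0 e1
    have hc0 : ξ₀'.toRingHom.comp
        (Algebra.TensorProduct.includeRight : k →ₐ[C] A ⊗[C] k).toRingHom = RingHom.id k :=
      RingHom.ext fun cc => by
        show ξ₀' ((1 : A) ⊗ₜ[C] cc) = cc
        rw [hξ₀, map_one, one_mul]
    have hc1 : ξ₁'.toRingHom.comp
        (Algebra.TensorProduct.includeRight : k →ₐ[C] A ⊗[C] k).toRingHom = RingHom.id k :=
      RingHom.ext fun cc => by
        show ξ₁' ((1 : A) ⊗ₜ[C] cc) = cc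
        rw [hξ₁, map_one, one_mul]
    rw [hc0, Polynomial.map_id] at e0
    rw [hc1, Polynomial.map_id] at e1
    have e2 : (X - Polynomial.C (ξ₀'.toRingHom ν)) ^ n = (X - Polynomial.C (ξ₁'.toRingHom ν)) ^ n :=
      e0.symm.trans e1
    have hν0' : ξ₀'.toRingHom ν = 0 := hν0
    rw [hν0', map_zero, sub_zero] at e2
    have e3 := congrArg (Polynomial.eval (ξ₁'.toRingHom ν)) e2
    rw [Polynomial.eval_pow, Polynomial.eval_X, Polynomial.eval_pow, Polynomial.eval_sub,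
      Polynomial.eval_X, Polynomial.eval_C, sub_self, zero_pow hn.ne'] at e3
    exact (pow_eq_zero_iff hn.ne').mp e3
  obtain ⟨𝔮, h𝔮, hq1, hq2⟩ := orbit_core (bc k t).toRingHom m₀ m₁ H
  haveI := h𝔮
  have hq2' : 𝔮.comap (bc k t).toRingHom = m₀ :=
    (hm₀.eq_of_le (Ideal.comap_ne_top _ h𝔮.ne_top) hq2).symm
  haveI : IsScalarTower C A B := IsScalarTower.of_algebraMap_eq (fun cc => by
    rw [hs]
    exact (s.commutes cc).symm)
  haveI : Algebra.IsIntegral C B := Algebra.IsIntegral.trans A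
  obtain ⟨ρ', hρ1, hρ2⟩ := exists_pt (C := C) (X := B) (k := k) 𝔮
  refine ⟨ρ'.comp (Algebra.TensorProduct.includeLeftRingHom : B →+* B ⊗[C] k), ?_, ?_⟩
  · apply RingHom.ext
    intro a
    show ρ' ((t a) ⊗ₜ[C] (1 : k)) = ξ₀ a
    have h1 : (a ⊗ₜ[C] (1 : k) - (1 : A) ⊗ₜ[C] (ξ₀ a) : A ⊗[C] k) ∈ m₀ := by
      show ξ₀' _ = 0
      rw [map_sub, hξ₀, hξ₀, map_one, mul_one, one_mul, sub_self]
    rw [← hq2'] at h1
    have h2 : bc k t (a ⊗ₜ[C] (1 : k) - (1 : A) ⊗ₜ[C] (ξ₀ a)) ∈ 𝔮 := h1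
    rw [← hρ2, RingHom.mem_ker, map_sub, map_sub] at h2
    have h3 : bc k t (a ⊗ₜ[C] (1 : k)) = t a ⊗ₜ[C] (1 : k) := rfl
    have h4 : bc k t ((1 : A) ⊗ₜ[C] ξ₀ a) = (1 : B) ⊗ₜ[C] ξ₀ a := by
      show t 1 ⊗ₜ[C] ξ₀ a = _
      rw [map_one]
    rw [h3, h4, hρ1, sub_eq_zero] at h2
    exact h2
  · apply RingHom.ext
    intro a
    show ρ' ((s a) ⊗ₜ[C] (1 : k)) = ξ₁ a
    have h1 : (a ⊗ₜ[C] (1 : k) - (1 : A) ⊗ₜ[C] (ξ₁ a) : A ⊗[C] k) ∈ m₁ := by
      show ξ₁' _ = 0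
      rw [map_sub, hξ₁, hξ₁, map_one, mul_one, one_mul, sub_self]
    rw [← hq1] at h1
    have h2 : bc k s (a ⊗ₜ[C] (1 : k) - (1 : A) ⊗ₜ[C] (ξ₁ a)) ∈ 𝔮 := h1
    rw [← hρ2, RingHom.mem_ker, map_sub, map_sub] at h2
    have h3 : bc k s (a ⊗ₜ[C] (1 : k)) = s a ⊗ₜ[C] (1 : k) := rfl
    have h4 : bc k s ((1 : A) ⊗ₜ[C] ξ₁ a) = (1 : B) ⊗ₜ[C] ξ₁ a := by
      show s 1 ⊗ₜ[C] ξ₁ a = _
      rw [map_one]
    rw [h3, h4, hρ1, sub_eq_zero] at h2
    exact h2

end pack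

section lift

variable {C A : Type u} [CommRing C] [CommRing A] [Algebra C A]

theorem exists_lift [Algebra.IsIntegral C A] (hinj : Function.Injective (algebraMap C A))
    (k : Type u) [Field k] [IsAlgClosed k] [Algebra C k] :
    ∃ ξ : A →+* k, ξ.comp (algebraMap C A) = algebraMap C k := by
  have hnt : Nontrivial (A ⊗[C] k) := by
    by_contra hnt
    rw [not_nontrivial_iff_subsingleton] at hnt
    have h0 : (1 : A) ⊗ₜ[C] (1 : k) = 0 := Subsingleton.elim _ _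
    have h1 := nil_ker (A := A) hinj k (1 : k) h0
    exact one_ne_zero h1.eq_zero
  obtain ⟨𝔪, h𝔪⟩ := Ideal.exists_maximal (A ⊗[C] k)
  haveI := h𝔪.isPrime
  obtain ⟨ρ, hρ1, -⟩ := exists_pt (C := C) (X := A) (k := k) 𝔪
  refine ⟨ρ.comp (Algebra.TensorProduct.includeLeftRingHom : A →+* A ⊗[C] k), ?_⟩
  apply RingHom.ext
  intro cc
  show ρ ((algebraMap C A cc) ⊗ₜ[C] (1 : k)) = algebraMap C k cc
  rw [Algebra.algebraMap_eq_smul_one, TensorProduct.smul_tmul, ← Algebra.algebraMap_eq_smul_one,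
    hρ1]

end lift

end Groth.Agent.Lib.Helper11.RPackD
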