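import Mathlib
import Groth.Prelude.Def_Grpd
import Groth.Agent.Lib.Helper11.GPack
import Groth.Agent.Lib.Helper11.RPackD
import Groth.Agent.Lib.Helper11.FinQuotD

/-!
# `U → Spec C` for a finite locally free affine groupoid: surjectivity, fibres, geometric points
(helper11)
-/

set_option autoImplicit false
universe u

open CategoryTheory CategoryTheory.Limits AlgebraicGeometry TensorProduct Polynomial
open Groth.Agent.Lib.Helper11.GrpdLib
open Groth.Agent.Lib.Helper11.FinQuotB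
open Groth.Agent.Lib.Helper11.RPack Groth.Agent.Lib.Helper11.RPackB
  Groth.Agent.Lib.Helper11.RPackC Groth.Agent.Lib.Helper11.RPackD
  Groth.Agent.Lib.Helper11.GPack

namespace Groth.Agent.Lib.Helper11.GPackB

section affine

variable (X : Scheme.{u}) [IsAffine X]

theorem toSpecΓ_inv_apply (P : Spec Γ(X, ⊤)) : X.toSpecΓ ((inv X.toSpecΓ) P) = P := by
  rw [← Scheme.Hom.comp_apply, IsIso.inv_hom_id]
  rfl

theorem toSpecΓ_injective {x y : X} (h : X.toSpecΓ x = X.toSpecΓ y) : x = y := by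
  have h1 := congrArg (fun P => (inv X.toSpecΓ) P) h
  simp only [← Scheme.Hom.comp_apply, IsIso.hom_inv_id] at h1
  exact h1

/-- the ring map of a `k`-point -/
noncomputable def ptHom {k : Type u} [Field k] (x : Spec (CommRingCat.of k) ⟶ X) :
    Γ(X, ⊤) ⟶ CommRingCat.of k :=
  x.appTop ≫ (Scheme.ΓSpecIso (CommRingCat.of k)).hom

omit [IsAffine X] in
theorem comp_toSpecΓ {k : Type u} [Field k] (x : Spec (CommRingCat.of k) ⟶ X) :
    x ≫ X.toSpecΓ = Spec.map (ptHom X x) := by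
  rw [Scheme.toSpecΓ_naturality, ← AlgebraicGeometry.SpecMap_ΓSpecIso_hom, ← Spec.map_comp]
  rfl

end affine

variable {S : Scheme.{u}} (G : Grpd.GroupoidScheme S) [IsAffine G.U] [IsAffine G.R]

attribute [local instance] algR algR₂

omit [IsAffine G.U] [IsAffine G.R] in
theorem t_toQuot : G.t ≫ G.toQuot = G.s ≫ G.toQuot := by
  unfold Grpd.GroupoidScheme.toQuot
  rw [← Category.assoc, ← Category.assoc, Scheme.toSpecΓ_naturality, Scheme.toSpecΓ_naturality,
    Category.assoc, Category.assoc, ← Spec.map_comp, ← Spec.map_comp]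
  congr 2
  apply CommRingCat.hom_ext
  apply RingHom.ext
  intro c
  exact c.2.symm

omit [IsAffine G.U] [IsAffine G.R] in
theorem toQuot_apply (u : G.U) :
    (G.toQuot u).asIdeal = Ideal.comap (algebraMap G.invariants Γ(G.U, ⊤)) (G.U.toSpecΓ u).asIdeal :=
  rfl

section finite

variable [IsFinite G.s] [Flat G.s] [LocallyOfFinitePresentation G.s]

theorem surjective_toQuot : Function.Surjective G.toQuot := by
  intro y
  haveI : Algebra.IsIntegral G.invariants Γ(G.U, ⊤) := isIntegral_invariants G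
  haveI : FaithfulSMul G.invariants Γ(G.U, ⊤) :=
    (faithfulSMul_iff_algebraMap_injective _ _).mpr (hinj G)
  obtain ⟨P, hP⟩ := Algebra.IsIntegral.comap_surjective G.invariants Γ(G.U, ⊤) y
  refine ⟨(inv G.U.toSpecΓ) P, ?_⟩
  apply PrimeSpectrum.ext
  rw [toQuot_apply, toSpecΓ_inv_apply]
  exact congrArg PrimeSpectrum.asIdeal hP

theorem toQuot_eq_iff (u₀ u₁ : G.U) :
    G.toQuot u₀ = G.toQuot u₁ ↔ ∃ r : G.R, G.t r = u₀ ∧ G.s r = u₁ := by
  constructor
  · intro h
    letI : Algebra Γ(G.U, ⊤) Γ(G.R, ⊤) := G.s.appTop.hom.toAlgebra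
    haveI : Module.Finite Γ(G.U, ⊤) Γ(G.R, ⊤) := finite_s G
    haveI : Module.Projective Γ(G.U, ⊤) Γ(G.R, ⊤) := projective_s G
    haveI : Algebra.IsIntegral G.invariants Γ(G.U, ⊤) := isIntegral_invariants G
    have hm : (G.U.toSpecΓ u₀).asIdeal.comap (algebraMap G.invariants Γ(G.U, ⊤)) =
        (G.U.toSpecΓ u₁).asIdeal.comap (algebraMap G.invariants Γ(G.U, ⊤)) := by
      rw [← toQuot_apply, ← toQuot_apply, h]
    obtain ⟨𝔮, h𝔮, hq1, hq0⟩ := orbit_of_comap_eq (isPack G) rfl (hinv G)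
      (G.U.toSpecΓ u₀).asIdeal (G.U.toSpecΓ u₁).asIdeal hm
    refine ⟨(inv G.R.toSpecΓ) ⟨𝔮, h𝔮⟩, ?_, ?_⟩
    · apply toSpecΓ_injective
      apply PrimeSpectrum.ext
      rw [Groth.Agent.Lib.Helper11.FinQuotD.toSpecΓ_apply_comp, toSpecΓ_inv_apply]
      exact hq0
    · apply toSpecΓ_injective
      apply PrimeSpectrum.ext
      rw [Groth.Agent.Lib.Helper11.FinQuotD.toSpecΓ_apply_comp, toSpecΓ_inv_apply]
      exact hq1
  · rintro ⟨r, rfl, rfl⟩
    rw [← Scheme.Hom.comp_apply, ← Scheme.Hom.comp_apply, t_toQuot]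

theorem exists_lift_kpoint (k : Type u) [Field k] [IsAlgClosed k]
    (m : Spec (CommRingCat.of k) ⟶ Spec (CommRingCat.of G.invariants)) :
    ∃ x : Spec (CommRingCat.of k) ⟶ G.U, x ≫ G.toQuot = m := by
  haveI : Algebra.IsIntegral G.invariants Γ(G.U, ⊤) := isIntegral_invariants G
  let μ : CommRingCat.of G.invariants ⟶ CommRingCat.of k := Spec.preimage m
  letI : Algebra G.invariants k := μ.hom.toAlgebra
  obtain ⟨ξ, hξ⟩ := exists_lift (A := Γ(G.U, ⊤)) (hinj G) k
  refine ⟨Spec.map (CommRingCat.ofHom ξ) ≫ inv G.U.toSpecΓ, ?_⟩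
  unfold Grpd.GroupoidScheme.toQuot
  rw [Category.assoc, IsIso.inv_hom_id_assoc, ← Spec.map_comp]
  have h1 : CommRingCat.ofHom G.invariants.subtype ≫ CommRingCat.ofHom ξ = μ := by
    apply CommRingCat.hom_ext
    exact hξ
  rw [h1]
  exact Spec.map_preimage m

theorem kpoints_eq_iff (k : Type u) [Field k] [IsAlgClosed k]
    (x₀ x₁ : Spec (CommRingCat.of k) ⟶ G.U) :
    x₀ ≫ G.toQuot = x₁ ≫ G.toQuot ↔
      ∃ r : Spec (CommRingCat.of k) ⟶ G.R, r ≫ G.t = x₀ ∧ r ≫ G.s = x₁ := by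
  constructor
  · intro h
    letI : Algebra Γ(G.U, ⊤) Γ(G.R, ⊤) := G.s.appTop.hom.toAlgebra
    haveI : Module.Finite Γ(G.U, ⊤) Γ(G.R, ⊤) := finite_s G
    haveI : Module.Projective Γ(G.U, ⊤) Γ(G.R, ⊤) := projective_s G
    haveI : Algebra.IsIntegral G.invariants Γ(G.U, ⊤) := isIntegral_invariants G
    let φ₀ := ptHom G.U x₀
    let φ₁ := ptHom G.U x₁
    have hφ : CommRingCat.ofHom G.invariants.subtype ≫ φ₀ =
        CommRingCat.ofHom G.invariants.subtype ≫ φ₁ := by
      apply Spec.map_injective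
      rw [Spec.map_comp, Spec.map_comp, ← comp_toSpecΓ, ← comp_toSpecΓ, Category.assoc,
        Category.assoc]
      exact h
    letI : Algebra G.invariants k := (φ₀.hom.comp G.invariants.subtype).toAlgebra
    let ξ₀ : Γ(G.U, ⊤) →ₐ[G.invariants] k := { φ₀.hom with commutes' := fun _ => rfl }
    let ξ₁ : Γ(G.U, ⊤) →ₐ[G.invariants] k :=
      { φ₁.hom with
        commutes' := fun c => (congrArg (fun ψ : CommRingCat.of G.invariants ⟶ CommRingCat.of k =>
          ψ.hom c) hφ).symm }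
    obtain ⟨ρ, hρt, hρs⟩ := exists_kpoint (isPack G) rfl (hinj G) (hinv G) k ξ₀ ξ₁
    refine ⟨Spec.map (CommRingCat.ofHom ρ) ≫ inv G.R.toSpecΓ, ?_, ?_⟩
    · rw [← cancel_mono G.U.toSpecΓ, Category.assoc, Category.assoc, Scheme.toSpecΓ_naturality,
        IsIso.inv_hom_id_assoc, ← Spec.map_comp, comp_toSpecΓ]
      congr 1
      apply CommRingCat.hom_ext
      exact hρt
    · rw [← cancel_mono G.U.toSpecΓ, Category.assoc, Category.assoc, Scheme.toSpecΓ_naturality,
        IsIso.inv_hom_id_assoc, ← Spec.map_comp, comp_toSpecΓ]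
      congr 1
      apply CommRingCat.hom_ext
      exact hρs
  · rintro ⟨r, rfl, rfl⟩
    rw [Category.assoc, Category.assoc, t_toQuot]

end finite

end Groth.Agent.Lib.Helper11.GPackB
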