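import Mathlib
import Groth.Agent.Lib.Helper11.FNorm

/-!
# Commutative algebra for quotients by finite locally free equivalence relations (helper11)

* `subsingleton_tensor_iff`: for a finite module `K` and a field `L` over `A`, `L ⊗ K = 0` iff the
  kernel of `A → L` is not in the support of `K`.
* `span_field_iff`: the kernel of `A → L` is outside the support of `B ⧸ span S` iff `1 ⊗ S` spans
  `L ⊗ B`.
* `span_isPushout`: the span condition is insensitive to base change along a pushout square.
* `bijective_isPushout`: a basis stays a basis after base change along a pushout square.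
-/

set_option autoImplicit false
universe u

open CategoryTheory CategoryTheory.Limits TensorProduct

namespace Groth.Agent.Lib.Helper11.RQuotA

open Groth.Agent.Lib.Helper11.FNorm

section field

variable {A : Type u} [CommRing A]

theorem subsingleton_tensor_iff (L : Type u) [Field L] [Algebra A L] (K : Type u) [AddCommGroup K]
    [Module A K] [Module.Finite A K] :
    Subsingleton (L ⊗[A] K) ↔
      (⟨RingHom.ker (algebraMap A L), RingHom.ker_isPrime _⟩ : PrimeSpectrum A) ∉
        Module.support A K := by
  haveI hqp : (RingHom.ker (algebraMap A L)).IsPrime := RingHom.ker_isPrime _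
  let q : Ideal A := RingHom.ker (algebraMap A L)
  let φ : q.ResidueField →+* L := Ideal.ResidueField.lift q (algebraMap A L) le_rfl (by
    intro a ha
    show IsUnit (algebraMap A L a)
    exact IsUnit.mk0 _ (fun h0 => ha h0))
  letI : Algebra q.ResidueField L := φ.toAlgebra
  haveI : IsScalarTower A q.ResidueField L := IsScalarTower.of_algebraMap_eq (fun a => by
    show algebraMap A L a = φ (algebraMap A q.ResidueField a)
    exact (Ideal.ResidueField.lift_algebraMap q _ _ _ a).symm)
  let e := AlgebraTensorModule.cancelBaseChange A q.ResidueField L L K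
  rw [Module.mem_support_iff_nontrivial_residueField_tensorProduct,
    not_nontrivial_iff_subsingleton, ← e.toEquiv.subsingleton_congr]
  exact Module.FaithfullyFlat.subsingleton_tensorProduct_iff_right q.ResidueField L

theorem span_field_iff (L : Type u) [Field L] [Algebra A L] {B : Type u} [CommRing B]
    [Algebra A B] [Module.Finite A B] (S : Set B) :
    (⟨RingHom.ker (algebraMap A L), RingHom.ker_isPrime _⟩ : PrimeSpectrum A) ∉
        Module.support A (B ⧸ Submodule.span A S) ↔
      Submodule.span L (TensorProduct.mk A L B 1 '' S) = ⊤ := by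
  set N := Submodule.span A S with hN
  rw [← subsingleton_tensor_iff L (B ⧸ N), ← Submodule.baseChange_span]
  have hex : Function.Exact (N.subtype.baseChange L) (N.mkQ.baseChange L) := by
    rw [LinearMap.baseChange_eq_ltensor, LinearMap.baseChange_eq_ltensor]
    exact lTensor_exact L (LinearMap.exact_subtype_mkQ N) (Submodule.mkQ_surjective N)
  have hsurj : Function.Surjective (N.mkQ.baseChange L) := by
    rw [LinearMap.baseChange_eq_ltensor]
    exact LinearMap.lTensor_surjective L (Submodule.mkQ_surjective N)
  constructor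
  · intro hss
    rw [eq_top_iff]
    intro z _
    have h0 : N.mkQ.baseChange L z = 0 := Subsingleton.elim _ _
    exact (hex z).mp h0
  · intro htop
    refine ⟨fun a b => ?_⟩
    obtain ⟨a', rfl⟩ := hsurj a
    obtain ⟨b', rfl⟩ := hsurj b
    have ha : a' ∈ N.baseChange L := by rw [htop]; trivial
    have hb : b' ∈ N.baseChange L := by rw [htop]; trivial
    rw [(hex a').mpr ha, (hex b').mpr hb]

end field

section pushout

variable {A B A' B' : CommRingCat.{u}} {σ : A ⟶ B} {α : A ⟶ A'} {β : B ⟶ B'} {σ' : A' ⟶ B'}

theorem span_top_of_equiv {L V W : Type*} [Field L] [AddCommGroup V] [Module L V] [AddCommGroup W]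
    [Module L W] (E : V ≃ₗ[L] W) (T : Set V) (h : Submodule.span L T = ⊤) :
    Submodule.span L (E '' T) = ⊤ := by
  have h1 := Submodule.map_span (E : V →ₗ[L] W) T
  rw [h, Submodule.map_top, LinearEquiv.range] at h1
  exact h1.symm

theorem span_isPushout (h : IsPushout σ α β σ') [Algebra A B] (hσ : algebraMap A B = σ.hom)
    [Algebra A' B'] (hσ' : algebraMap A' B' = σ'.hom) (L : Type u) [Field L] [Algebra A' L]
    [Algebra A L] (hL : algebraMap A L = (algebraMap A' L).comp α.hom) (S : Set B) :
    Submodule.span L (TensorProduct.mk A L B 1 '' S) = ⊤ ↔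
      Submodule.span L (TensorProduct.mk A' L B' 1 '' (β.hom '' S)) = ⊤ := by
  obtain ⟨_, _, _, _, _, hpo, h1, h2⟩ := exists_algebra_of_isPushout h hσ hσ'
  haveI : IsScalarTower A A' L := IsScalarTower.of_algebraMap_eq' (by rw [hL, h1])
  let e₁ : L ⊗[A'] (A' ⊗[A] B) ≃ₗ[L] L ⊗[A] B := AlgebraTensorModule.cancelBaseChange A A' L L B
  let e₂ : A' ⊗[A] B ≃ₐ[A'] B' := Algebra.IsPushout.equiv A A' B B'
  let e₃ : L ⊗[A'] (A' ⊗[A] B) ≃ₗ[L] L ⊗[A'] B' :=
    LinearEquiv.baseChange A' L _ _ e₂.toLinearEquiv
  let E : L ⊗[A] B ≃ₗ[L] L ⊗[A'] B' := e₁.symm ≪≫ₗ e₃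
  have hE : ∀ b : B, E ((1 : L) ⊗ₜ[A] b) = (1 : L) ⊗ₜ[A'] (β.hom b) := by
    intro b
    show e₃ (e₁.symm ((1 : L) ⊗ₜ[A] b)) = _
    rw [AlgebraTensorModule.cancelBaseChange_symm_tmul]
    show (1 : L) ⊗ₜ[A'] (e₂ ((1 : A') ⊗ₜ[A] b)) = _
    rw [Algebra.IsPushout.equiv_tmul, map_one, one_mul, h2]
  have himg : E '' (TensorProduct.mk A L B 1 '' S) = TensorProduct.mk A' L B' 1 '' (β.hom '' S) := by
    rw [Set.image_image, Set.image_image]
    exact Set.image_congr (fun b _ => hE b)
  constructor
  · intro hs
    rw [← himg]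
    exact span_top_of_equiv E _ hs
  · intro hs
    rw [← himg] at hs
    have h3 := span_top_of_equiv E.symm _ hs
    rw [Set.image_image] at h3
    simpa using h3

theorem bijective_isPushout (h : IsPushout σ α β σ') {ι : Type*} [Fintype ι] (y : ι → B)
    (hθ : Function.Bijective (fun a : ι → A => ∑ i, σ.hom (a i) * y i)) :
    Function.Bijective (fun a' : ι → A' => ∑ i, σ'.hom (a' i) * β.hom (y i)) := by
  classical
  letI : Algebra A B := σ.hom.toAlgebra
  letI : Algebra A' B' := σ'.hom.toAlgebra
  obtain ⟨_, _, _, _, _, hpo, h1, h2⟩ := exists_algebra_of_isPushout h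
    (rfl : algebraMap A B = σ.hom) (rfl : algebraMap A' B' = σ'.hom)
  let θ : (ι → A) →ₗ[A] B := Fintype.linearCombination A y
  have hθe : (θ : (ι → A) → B) = fun a : ι → A => ∑ i, σ.hom (a i) * y i := by
    funext a
    rw [Fintype.linearCombination_apply]
    exact Finset.sum_congr rfl (fun i _ => Algebra.smul_def _ _)
  have hθ' : Function.Bijective θ := by rw [hθe]; exact hθ
  let eq : (ι → A) ≃ₗ[A] B := LinearEquiv.ofBijective θ hθ'
  let b : Module.Basis ι A B := Module.Basis.ofEquivFun eq.symm
  have hb : ∀ i, b i = y i := by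
    intro i
    rw [Module.Basis.coe_ofEquivFun]
    show eq (Pi.single i 1) = y i
    show θ (Pi.single i 1) = y i
    rw [Fintype.linearCombination_apply_single, one_smul]
  let b' : Module.Basis ι A' B' := hpo.out.basis b
  have hb' : ∀ i, b' i = β.hom (y i) := by
    intro i
    rw [IsBaseChange.basis_apply]
    show algebraMap B B' (b i) = _
    rw [hb, h2]
  have hfun : (fun a' : ι → A' => ∑ i, σ'.hom (a' i) * β.hom (y i)) = b'.equivFun.symm := by
    funext a'
    rw [Module.Basis.equivFun_symm_apply]
    refine Finset.sum_congr rfl (fun i _ => ?_)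
    rw [hb', Algebra.smul_def]
    rfl
  rw [hfun]
  exact b'.equivFun.symm.bijective

end pushout

end Groth.Agent.Lib.Helper11.RQuotA
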