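import Mathlib
import Groth.Agent.Lib.Helper11.RPackD
import Groth.Agent.Lib.Helper11.RQuotA

/-!
# Finite locally free equivalence relations at ring level: invariance lemmas (helper11)
-/

set_option autoImplicit false
universe u

open CategoryTheory CategoryTheory.Limits TensorProduct

namespace Groth.Agent.Lib.Helper11.RQuotB

open Groth.Agent.Lib.Helper11.FNorm Groth.Agent.Lib.Helper11.RPack
  Groth.Agent.Lib.Helper11.RQuotA

section pack

variable {C : Type u} [CommRing C] {A B B₂ : Type u} [CommRing A] [CommRing B] [CommRing B₂]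
  [Algebra C A] [Algebra C B] [Algebra C B₂]
  {s t : A →ₐ[C] B} {e : B →ₐ[C] A} {p₀ p₁ c : B →ₐ[C] B₂}

/-- the rank of `B` over `A` (via `s`) is the same at `s⁻¹P` and `t⁻¹P`. -/
theorem rank_inv (h : IsPack s t e p₀ p₁ c) [Algebra A B] (hs : algebraMap A B = s.toRingHom)
    [Module.Finite A B] [Module.Flat A B] (P : Ideal B) [P.IsPrime] :
    Module.rankAtStalk B (⟨P.comap s.toRingHom, inferInstance⟩ : PrimeSpectrum A) =
      Module.rankAtStalk B (⟨P.comap t.toRingHom, inferInstance⟩ : PrimeSpectrum A) := by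
  have hfl : (algebraMap A B).Flat := RingHom.flat_algebraMap_iff.mpr inferInstance
  have hfi : (algebraMap A B).Finite := RingHom.finite_algebraMap.mpr inferInstance
  have po₁ : IsPushout (CommRingCat.ofHom (algebraMap A B)) (CommRingCat.ofHom t.toRingHom)
      (CommRingCat.ofHom p₀.toRingHom) (CommRingCat.ofHom p₁.toRingHom) := by
    rw [hs]; exact h.po₁
  have po₂ : IsPushout (CommRingCat.ofHom (algebraMap A B)) (CommRingCat.ofHom s.toRingHom)
      (CommRingCat.ofHom c.toRingHom) (CommRingCat.ofHom p₁.toRingHom) := by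
    rw [hs]; exact h.po₂
  have e1 := CommRingCat.finrank_eq_of_isPushout po₁ hfl hfi ⟨P, inferInstance⟩
  have e2 := CommRingCat.finrank_eq_of_isPushout po₂ hfl hfi ⟨P, inferInstance⟩
  have e3 := e2.symm.trans e1
  have e4 : (algebraMap A B).finrank = Module.rankAtStalk (R := A) B := RingHom.finrank_algebraMap
  exact (congrFun e4 _).symm.trans (e3.trans (congrFun e4 _))

/-- the support of `B ⧸ span S` is "invariant" if `c` and `p₀` agree on `S`. -/
theorem supp_inv (h : IsPack s t e p₀ p₁ c) [Algebra A B] (hs : algebraMap A B = s.toRingHom)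
    [Module.Finite A B] (S : Set B) (hS : ∀ b ∈ S, c b = p₀ b) (P : Ideal B) [P.IsPrime] :
    (⟨P.comap s.toRingHom, inferInstance⟩ : PrimeSpectrum A) ∉
        Module.support A (B ⧸ Submodule.span A S) ↔
      (⟨P.comap t.toRingHom, inferInstance⟩ : PrimeSpectrum A) ∉
        Module.support A (B ⧸ Submodule.span A S) := by
  letI : Algebra B B₂ := p₁.toRingHom.toAlgebra
  have key : ∀ (α : A →ₐ[C] B) (β : B →ₐ[C] B₂)
      (hpo : IsPushout (CommRingCat.ofHom s.toRingHom) (CommRingCat.ofHom α.toRingHom)
        (CommRingCat.ofHom β.toRingHom) (CommRingCat.ofHom p₁.toRingHom)),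
      (⟨P.comap α.toRingHom, inferInstance⟩ : PrimeSpectrum A) ∉
          Module.support A (B ⧸ Submodule.span A S) ↔
        Submodule.span P.ResidueField
          (TensorProduct.mk B P.ResidueField B₂ 1 '' (β '' S)) = ⊤ := by
    intro α β hpo
    letI : Algebra A P.ResidueField :=
      ((algebraMap B P.ResidueField).comp α.toRingHom).toAlgebra
    have hker : RingHom.ker (algebraMap A P.ResidueField) = P.comap α.toRingHom := by
      show RingHom.ker ((algebraMap B P.ResidueField).comp α.toRingHom) = _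
      rw [← RingHom.comap_ker, Ideal.ker_algebraMap_residueField]
    have h1 := span_field_iff P.ResidueField (A := A) (B := B) S
    have h2 := span_isPushout hpo hs rfl P.ResidueField rfl S
    have hpt : (⟨RingHom.ker (algebraMap A P.ResidueField), RingHom.ker_isPrime _⟩ :
        PrimeSpectrum A) = ⟨P.comap α.toRingHom, inferInstance⟩ := PrimeSpectrum.ext hker
    rw [hpt] at h1
    exact h1.trans h2
  rw [key s c h.po₂, key t p₀ h.po₁]
  have himg : (c : B → B₂) '' S = p₀ '' S := Set.image_congr hS
  rw [himg]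

/-- if `t y` is a basis of `B` over `A` (via `s`), then `y` is a basis of `A` over the
invariants. -/
theorem basis_of_bijective (h : IsPack s t e p₀ p₁ c) {D' : Type*} [CommRing D'] (j : D' →+* A)
    (hj : Function.Injective j) (hjinv : ∀ d, s (j d) = t (j d))
    (hinv : ∀ a, s a = t a → a ∈ Set.range j) {ι : Type*} [Fintype ι] (y : ι → A)
    (hθ : Function.Bijective (fun a : ι → A => ∑ i, s (a i) * t (y i))) :
    Function.Bijective (fun d : ι → D' => ∑ i, j (d i) * y i) := by
  have hΘ : Function.Bijective (fun b : ι → B => ∑ i, p₁ (b i) * c (t (y i))) :=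
    bijective_isPushout h.po₂ (fun i => t (y i)) hθ
  constructor
  · intro d d' hdd
    have hdd' : ∑ i, j (d i) * y i = ∑ i, j (d' i) * y i := hdd
    have h1 : (fun i => j (d i)) = fun i => j (d' i) := by
      apply hθ.1
      show ∑ i, s (j (d i)) * t (y i) = ∑ i, s (j (d' i)) * t (y i)
      have h2 : ∀ d : ι → D', ∑ i, s (j (d i)) * t (y i) = t (∑ i, j (d i) * y i) := by
        intro d
        rw [map_sum]
        refine Finset.sum_congr rfl (fun i _ => ?_)
        rw [map_mul, hjinv]
      rw [h2, h2]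
      exact congrArg t hdd'
    funext i
    exact hj (congrFun h1 i)
  · intro a
    obtain ⟨a', ha'⟩ := hθ.2 (t a)
    have ha'' : ∑ i, s (a' i) * t (y i) = t a := ha'
    have hc : ∑ i, p₁ (s (a' i)) * c (t (y i)) = c (t a) := by
      rw [← ha'', map_sum]
      refine Finset.sum_congr rfl (fun i _ => ?_)
      rw [map_mul, h.w₂]
    have hp : ∑ i, p₁ (t (a' i)) * c (t (y i)) = c (t a) := by
      rw [h.t_c a, ← ha'', map_sum]
      refine Finset.sum_congr rfl (fun i _ => ?_)
      rw [map_mul, h.w₁, h.t_c]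
    have h1 : (fun i => s (a' i)) = fun i => t (a' i) := hΘ.1 (hc.trans hp.symm)
    have h2 : ∀ i, ∃ d, j d = a' i := fun i => hinv _ (congrFun h1 i)
    choose d hd using h2
    refine ⟨d, ?_⟩
    show ∑ i, j (d i) * y i = a
    have h3 := congrArg e ha''
    rw [map_sum, h.t_e] at h3
    rw [← h3]
    refine Finset.sum_congr rfl (fun i _ => ?_)
    rw [map_mul, h.s_e, h.t_e, hd]

/-- a monomorphism `(t, s)` with `s` finite gives a surjection `A ⊗ A → B`. -/
theorem surjective_productMap [Algebra A B] (hs : algebraMap A B = s.toRingHom)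
    [Module.Finite A B]
    (hmono : ∀ (T : CommRingCat.{u}) (g₁ g₂ : CommRingCat.of B ⟶ T),
      (∀ a, g₁.hom (s a) = g₂.hom (s a)) → (∀ a, g₁.hom (t a) = g₂.hom (t a)) → g₁ = g₂) :
    Function.Surjective (Algebra.TensorProduct.productMap s t) := by
  let Ψ := Algebra.TensorProduct.productMap s t
  let f : CommRingCat.of (A ⊗[C] A) ⟶ CommRingCat.of B := CommRingCat.ofHom Ψ.toRingHom
  haveI : Epi f := ⟨fun {T} g₁ g₂ hg => by
    apply hmono T g₁ g₂
    · intro a
      have h1 : (f ≫ g₁).hom (a ⊗ₜ[C] (1 : A)) = (f ≫ g₂).hom (a ⊗ₜ[C] (1 : A)) := by rw [hg]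
      have h2 : ∀ g : CommRingCat.of B ⟶ T, (f ≫ g).hom (a ⊗ₜ[C] (1 : A)) = g.hom (s a) := by
        intro g
        show g.hom (s a * t 1) = g.hom (s a)
        rw [map_one, mul_one]
      rw [h2, h2] at h1
      exact h1
    · intro a
      have h1 : (f ≫ g₁).hom ((1 : A) ⊗ₜ[C] a) = (f ≫ g₂).hom ((1 : A) ⊗ₜ[C] a) := by rw [hg]
      have h2 : ∀ g : CommRingCat.of B ⟶ T, (f ≫ g).hom ((1 : A) ⊗ₜ[C] a) = g.hom (t a) := by
        intro g
        show g.hom (s 1 * t a) = g.hom (t a)
        rw [map_one, one_mul]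
      rw [h2, h2] at h1
      exact h1⟩
  have hfin : f.hom.Finite := by
    apply RingHom.Finite.of_comp_finite
      (f := (Algebra.TensorProduct.includeLeftRingHom : A →+* A ⊗[C] A))
    have h1 : f.hom.comp (Algebra.TensorProduct.includeLeftRingHom : A →+* A ⊗[C] A) =
        algebraMap A B := by
      rw [hs]
      ext a
      show s a * t 1 = s a
      rw [map_one, mul_one]
    rw [h1]
    exact RingHom.finite_algebraMap.mpr inferInstance
  exact RingHom.surjective_of_epi_of_finite f hfin

theorem span_range_eq_top [Algebra A B] (hs : algebraMap A B = s.toRingHom)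
    (hsurj : Function.Surjective (Algebra.TensorProduct.productMap s t)) :
    Submodule.span A (Set.range t) = ⊤ := by
  rw [eq_top_iff]
  rintro b -
  obtain ⟨z, rfl⟩ := hsurj b
  induction z using TensorProduct.induction_on with
  | zero => rw [map_zero]; exact Submodule.zero_mem _
  | tmul a a' =>
    rw [Algebra.TensorProduct.productMap_apply_tmul]
    have h1 : s a * t a' = a • t a' := by rw [Algebra.smul_def, hs]; rfl
    rw [h1]
    exact Submodule.smul_mem _ _ (Submodule.subset_span ⟨a', rfl⟩)
  | add x y hx hy => rw [map_add]; exact Submodule.add_mem _ hx hy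

end pack

end Groth.Agent.Lib.Helper11.RQuotB
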