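import Mathlib
import Groth.Agent.Lib.Helper11.RQuotB

/-!
# Finite locally free equivalence relations at ring level: local bases (helper11)
-/

set_option autoImplicit false
universe u

open CategoryTheory CategoryTheory.Limits TensorProduct

namespace Groth.Agent.Lib.Helper11.RQuotC

open Groth.Agent.Lib.Helper11.FNorm Groth.Agent.Lib.Helper11.RPack
  Groth.Agent.Lib.Helper11.RPackD Groth.Agent.Lib.Helper11.RQuotA Groth.Agent.Lib.Helper11.RQuotB

theorem exists_basis_subset {κ V : Type u} [Field κ] [AddCommGroup V] [Module κ V]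
    [FiniteDimensional κ V] (S : Set V) (hS : Submodule.span κ S = ⊤) :
    ∃ (ι : Type u) (_ : Fintype ι) (b : Module.Basis ι κ V), ∀ i, b i ∈ S := by
  let b := Module.Basis.ofSpan hS.ge
  exact ⟨_, FiniteDimensional.fintypeBasisIndex b, b,
    fun i => Module.Basis.ofSpan_subset hS.ge ⟨i, rfl⟩⟩

section pack

variable {C : Type u} [CommRing C] {A B B₂ : Type u} [CommRing A] [CommRing B] [CommRing B₂]
  [Algebra C A] [Algebra C B] [Algebra C B₂]
  {s t : A →ₐ[C] B} {e : B →ₐ[C] A} {p₀ p₁ c : B →ₐ[C] B₂}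

theorem exists_local_data (h : IsPack s t e p₀ p₁ c) [Algebra A B]
    (hs : algebraMap A B = s.toRingHom) [Module.Finite A B] [Module.Projective A B]
    [Algebra.IsIntegral C A] (hinj : Function.Injective (algebraMap C A))
    (hinv : ∀ a, s a = t a → a ∈ Set.range (algebraMap C A))
    (hK : Submodule.span A (Set.range t) = ⊤) (p : Ideal C) [p.IsPrime] :
    ∃ (f : C) (ι : Type u) (_ : Fintype ι) (x : ι → A) (n : ℕ), f ∉ p ∧
      (∀ b : B, ∃ a : ι → A, algebraMap C B (f ^ n) * b = ∑ i, s (a i) * t (x i)) ∧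
      (∀ q : PrimeSpectrum A, algebraMap C A f ∉ q.asIdeal →
        Module.rankAtStalk B q = Fintype.card ι) := by
  classical
  obtain ⟨q, -, hqp, hq⟩ := Ideal.exists_ideal_over_prime_of_isIntegral p (⊥ : Ideal A)
    (by rw [Ideal.comap_bot_of_injective _ hinj]; exact bot_le)
  haveI := hqp
  have hspan : Submodule.span q.ResidueField
      (TensorProduct.mk A q.ResidueField B 1 '' Set.range t) = ⊤ := by
    rw [← Submodule.baseChange_span, hK, Submodule.baseChange_top]
  obtain ⟨ι, hι, bs, hbs⟩ := exists_basis_subset _ hspan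
  have hx' : ∀ i, ∃ a : A, (1 : q.ResidueField) ⊗ₜ[A] t a = bs i := by
    intro i
    obtain ⟨_, ⟨a, rfl⟩, hb⟩ := hbs i
    exact ⟨a, hb⟩
  choose x hx using hx'
  set S : Set B := Set.range (fun i => t (x i)) with hSdef
  have hS : ∀ b ∈ S, c b = p₀ b := by
    rintro _ ⟨i, rfl⟩
    exact h.t_c (x i)
  -- `q` is not in the support
  have hqK : (⟨q, hqp⟩ : PrimeSpectrum A) ∉ Module.support A (B ⧸ Submodule.span A S) := by
    have h1 := (span_field_iff q.ResidueField (A := A) (B := B) S).mpr (by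
      have h2 : TensorProduct.mk A q.ResidueField B 1 '' S = Set.range bs := by
        rw [hSdef, ← Set.range_comp]
        congr 1
        funext i
        exact hx i
      rw [h2]
      exact bs.span_eq)
    have hpt : (⟨RingHom.ker (algebraMap A q.ResidueField), RingHom.ker_isPrime _⟩ :
        PrimeSpectrum A) = ⟨q, hqp⟩ := PrimeSpectrum.ext (Ideal.ker_algebraMap_residueField q)
    rw [hpt] at h1
    exact h1
  have hqr : Module.rankAtStalk B (⟨q, hqp⟩ : PrimeSpectrum A) = Fintype.card ι := by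
    rw [Module.rankAtStalk_eq]
    exact Module.finrank_eq_card_basis bs
  -- the bad locus
  set Z : Set (PrimeSpectrum A) := Module.support A (B ⧸ Submodule.span A S) ∪
    {q' | Module.rankAtStalk B q' ≠ Fintype.card ι} with hZdef
  have hZcl : IsClosed Z := by
    refine (Module.isClosed_support (R := A) (M := B ⧸ Submodule.span A S)).union ?_
    haveI : Module.FinitePresentation A B := Module.finitePresentation_of_projective A B
    have hlc := Module.isLocallyConstant_rankAtStalk (R := A) (M := B)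
    exact (hlc.isOpen_fiber (Fintype.card ι)).isClosed_compl
  have hZfib : ∀ q' : PrimeSpectrum A, q'.asIdeal.comap (algebraMap C A) = p → q' ∉ Z := by
    intro q' hq'
    haveI := q'.2
    obtain ⟨𝔮, h𝔮, h1, h2⟩ := orbit_of_comap_eq h hs hinv q q'.asIdeal (hq.trans hq'.symm)
    haveI := h𝔮
    have hp1 : (⟨𝔮.comap s.toRingHom, inferInstance⟩ : PrimeSpectrum A) = q' :=
      PrimeSpectrum.ext h1
    have hp2 : (⟨𝔮.comap t.toRingHom, inferInstance⟩ : PrimeSpectrum A) = ⟨q, hqp⟩ :=
      PrimeSpectrum.ext h2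
    have hr := rank_inv h hs 𝔮
    have hsupp := supp_inv h hs S hS 𝔮
    rw [hp1, hp2] at hr hsupp
    rintro (hz | hz)
    · exact hsupp.mpr hqK hz
    · exact hz (hr.trans hqr)
  have hcm : IsClosedMap (PrimeSpectrum.comap (algebraMap C A)) :=
    PrimeSpectrum.isClosedMap_comap_of_isIntegral _ (algebraMap_isIntegral_iff.mpr inferInstance)
  have hW : IsClosed (PrimeSpectrum.comap (algebraMap C A) '' Z) := hcm Z hZcl
  have hpW : (⟨p, inferInstance⟩ : PrimeSpectrum C) ∈ (PrimeSpectrum.comap (algebraMap C A) '' Z)ᶜ := by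
    rintro ⟨q', hq'Z, hq'p⟩
    exact hZfib q' (congrArg PrimeSpectrum.asIdeal hq'p) hq'Z
  obtain ⟨_, ⟨f, rfl⟩, hpf, hfW⟩ :=
    PrimeSpectrum.isTopologicalBasis_basic_opens.exists_subset_of_mem_open hpW hW.isOpen_compl
  have hfp : f ∉ p := hpf
  have hfZ : ∀ q' : PrimeSpectrum A, algebraMap C A f ∉ q'.asIdeal → q' ∉ Z := by
    intro q' hfq' hz
    have h1 : PrimeSpectrum.comap (algebraMap C A) q' ∈
        (PrimeSpectrum.basicOpen f : Set (PrimeSpectrum C)) := hfq'
    exact hfW h1 ⟨q', hz, rfl⟩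
  have hrad : algebraMap C A f ∈ (Module.annihilator A (B ⧸ Submodule.span A S)).radical := by
    rw [Ideal.radical_eq_sInf, Submodule.mem_sInf]
    rintro J ⟨hJ, hJp⟩
    by_contra hfJ
    have h1 : (⟨J, hJp⟩ : PrimeSpectrum A) ∈ Module.support A (B ⧸ Submodule.span A S) :=
      Module.mem_support_iff_of_finite.mpr hJ
    exact hfZ ⟨J, hJp⟩ hfJ (Or.inl h1)
  obtain ⟨n, hn⟩ := hrad
  refine ⟨f, ι, hι, x, n, hfp, ?_, ?_⟩
  · intro b
    have h1 : (algebraMap C A f ^ n) • ((Submodule.span A S).mkQ b) = 0 :=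
      Module.mem_annihilator.mp hn _
    rw [← map_smul, Submodule.mkQ_apply, Submodule.Quotient.mk_eq_zero, hSdef,
      Submodule.mem_span_range_iff_exists_fun] at h1
    obtain ⟨a, ha⟩ := h1
    refine ⟨a, ?_⟩
    have h2 : (algebraMap C A f ^ n) • b = algebraMap C B (f ^ n) * b := by
      rw [Algebra.smul_def, hs, ← map_pow]
      show s (algebraMap C A (f ^ n)) * b = _
      rw [s.commutes]
    rw [← h2, ← ha]
    refine Finset.sum_congr rfl (fun i _ => ?_)
    rw [Algebra.smul_def, hs]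
    rfl
  · intro q' hfq'
    by_contra hne
    exact hfZ q' hfq' (Or.inr hne)

theorem bijective_bc [Algebra A B] (hs : algebraMap A B = s.toRingHom)
    [Module.Finite A B] [Module.Projective A B] (f : C) {ι : Type u} [Fintype ι] (x : ι → A)
    (n : ℕ)
    (ha : ∀ b : B, ∃ a : ι → A, algebraMap C B (f ^ n) * b = ∑ i, s (a i) * t (x i))
    (hb : ∀ q : PrimeSpectrum A, algebraMap C A f ∉ q.asIdeal →
      Module.rankAtStalk B q = Fintype.card ι)
    (D : Type u) [CommRing D] [Algebra C D] (hu : IsUnit (algebraMap C D f)) :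
    Function.Bijective
      (fun a : ι → A ⊗[C] D => ∑ i, bc D s (a i) * bc D t (x i ⊗ₜ[C] (1 : D))) := by
  classical
  letI alg : Algebra (A ⊗[C] D) (B ⊗[C] D) := (bc D s).toRingHom.toAlgebra
  haveI : Module.Finite (A ⊗[C] D) (B ⊗[C] D) := finite_of_isPushout (isPushout_bc D s) hs rfl
  haveI : Module.Projective (A ⊗[C] D) (B ⊗[C] D) :=
    projective_of_isPushout (isPushout_bc D s) hs rfl
  let y : ι → B ⊗[C] D := fun i => bc D t (x i ⊗ₜ[C] (1 : D))
  let θ : (ι → A ⊗[C] D) →ₗ[A ⊗[C] D] B ⊗[C] D := Fintype.linearCombination (A ⊗[C] D) y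
  have hθe : (θ : (ι → A ⊗[C] D) → B ⊗[C] D) = fun a => ∑ i, bc D s (a i) * y i := by
    funext a
    rw [Fintype.linearCombination_apply]
    exact Finset.sum_congr rfl (fun i _ => Algebra.smul_def _ _)
  have hsurj : Function.Surjective θ := by
    rw [← LinearMap.range_eq_top, eq_top_iff]
    rintro z -
    induction z using TensorProduct.induction_on with
    | zero => exact Submodule.zero_mem _
    | tmul b d =>
      obtain ⟨a, hab⟩ := ha b
      obtain ⟨u, hu'⟩ := hu
      let d' : D := ↑(u⁻¹ ^ n) * d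
      have h1 : ∀ i, bc D s (a i ⊗ₜ[C] d') * y i = (s (a i) * t (x i)) ⊗ₜ[C] d' := by
        intro i
        show (s (a i) ⊗ₜ[C] d') * (t (x i) ⊗ₜ[C] (1 : D)) = _
        rw [Algebra.TensorProduct.tmul_mul_tmul, mul_one]
      have h2 : (f ^ n) • d' = d := by
        rw [Algebra.smul_def, map_pow, ← hu']
        show (↑u : D) ^ n * (↑(u⁻¹ ^ n) * d) = d
        rw [← mul_assoc, ← Units.val_pow_eq_pow_val, ← Units.val_mul, ← mul_pow, mul_inv_cancel,
          one_pow, Units.val_one, one_mul]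
      refine LinearMap.mem_range.mpr ⟨fun i => a i ⊗ₜ[C] d', ?_⟩
      rw [hθe]
      show ∑ i, bc D s (a i ⊗ₜ[C] d') * y i = b ⊗ₜ[C] d
      rw [Finset.sum_congr rfl (fun i _ => h1 i), ← TensorProduct.sum_tmul, ← hab,
        ← Algebra.smul_def, TensorProduct.smul_tmul, h2]
    | add z w hz hw => exact Submodule.add_mem _ hz hw
  have hbij : Function.Bijective θ := by
    refine Module.bijective_of_surjective_of_rankAtStalk_eq hsurj (fun m hm => ?_)
    haveI : Nontrivial (A ⊗[C] D) := nontrivial_of_ne (0 : A ⊗[C] D) 1 (fun h01 =>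
      hm.ne_top ((Ideal.eq_top_iff_one m).mpr (h01 ▸ m.zero_mem)))
    have e1 : Module.rankAtStalk (ι → A ⊗[C] D)
        (⟨m, inferInstance⟩ : PrimeSpectrum (A ⊗[C] D)) = Fintype.card ι := by
      rw [Module.rankAtStalk_eq_finrank_of_free]
      simp
    refine e1.trans ?_
    obtain ⟨_, _, _, _, _, hpo, h1, -⟩ := exists_algebra_of_isPushout (isPushout_bc D s) hs
      (rfl : algebraMap (A ⊗[C] D) (B ⊗[C] D) = (bc D s).toRingHom)
    haveI := hpo.symm
    have e2 := Algebra.rankAtStalk_eq_of_isPushout A B (A ⊗[C] D) (B ⊗[C] D)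
      (⟨m, inferInstance⟩ : PrimeSpectrum (A ⊗[C] D))
    rw [e2]
    symm
    apply hb
    intro hmem
    have hmem' : algebraMap A (A ⊗[C] D) (algebraMap C A f) ∈ m := hmem
    rw [h1] at hmem'
    have hmem'' : (Algebra.TensorProduct.includeLeftRingHom : A →+* A ⊗[C] D)
        (algebraMap C A f) ∈ m := hmem'
    have h3 : (Algebra.TensorProduct.includeLeftRingHom : A →+* A ⊗[C] D) (algebraMap C A f) =
        (Algebra.TensorProduct.includeRight : D →ₐ[C] A ⊗[C] D) (algebraMap C D f) := by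
      show (algebraMap C A f) ⊗ₜ[C] (1 : D) = (1 : A) ⊗ₜ[C] (algebraMap C D f)
      rw [Algebra.algebraMap_eq_smul_one, TensorProduct.smul_tmul,
        ← Algebra.algebraMap_eq_smul_one]
    have h4 : IsUnit ((Algebra.TensorProduct.includeRight : D →ₐ[C] A ⊗[C] D)
        (algebraMap C D f)) := hu.map _
    rw [h3] at hmem''
    exact hm.ne_top (Ideal.eq_top_of_isUnit_mem _ hmem'' h4)
  rw [hθe] at hbij
  exact hbij

end pack

end Groth.Agent.Lib.Helper11.RQuotC
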