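import Mathlib
import Groth.Agent.Lib.Helper11.RQuotC
import Groth.Agent.Lib.Helper11.RPackB

/-!
# Finite locally free equivalence relations at ring level: the quotient theorem (helper11)

For a package `(A, B, s, t, …)` over its invariants `C` with `B` finite projective over `A` (via `s`)
and `A ⊗ A → B` surjective: `A` is finitely presented and flat as a `C`-module and
`A ⊗[C] A → B` is bijective.
-/

set_option autoImplicit false
universe u

open CategoryTheory CategoryTheory.Limits TensorProduct

namespace Groth.Agent.Lib.Helper11.RQuotD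

open Groth.Agent.Lib.Helper11.FNorm Groth.Agent.Lib.Helper11.RPack
  Groth.Agent.Lib.Helper11.RPackB
  Groth.Agent.Lib.Helper11.RPackD Groth.Agent.Lib.Helper11.RQuotA Groth.Agent.Lib.Helper11.RQuotB
  Groth.Agent.Lib.Helper11.RQuotC

section pack

variable {C : Type u} [CommRing C] {A B B₂ : Type u} [CommRing A] [CommRing B] [CommRing B₂]
  [Algebra C A] [Algebra C B] [Algebra C B₂]
  {s t : A →ₐ[C] B} {e : B →ₐ[C] A} {p₀ p₁ c : B →ₐ[C] B₂}

theorem exists_local_basis (h : IsPack s t e p₀ p₁ c) [Algebra A B]
    (hs : algebraMap A B = s.toRingHom) [Module.Finite A B] [Module.Projective A B]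
    [Algebra.IsIntegral C A] (hinj : Function.Injective (algebraMap C A))
    (hinv : ∀ a, s a = t a → a ∈ Set.range (algebraMap C A))
    (hK : Submodule.span A (Set.range t) = ⊤) (p : Ideal C) [p.IsPrime] :
    ∃ (f : C) (ι : Type u) (_ : Fintype ι), f ∉ p ∧
      Nonempty ((ι → Localization.Away f) ≃ₗ[Localization.Away f]
        (Localization.Away f ⊗[C] A)) ∧
      (∀ q : PrimeSpectrum A, algebraMap C A f ∉ q.asIdeal →
        Module.rankAtStalk B q = Fintype.card ι) := by
  obtain ⟨f, ι, hι, x, n, hfp, ha, hb⟩ := exists_local_data h hs hinj hinv hK p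
  refine ⟨f, ι, hι, hfp, ?_, hb⟩
  have hu : IsUnit (algebraMap C (Localization.Away f) f) :=
    IsLocalization.Away.algebraMap_isUnit f
  have hθ := bijective_bc (s := s) (t := t) hs f x n ha hb (Localization.Away f) hu
  haveI : Module.Flat C (Localization.Away f) := IsLocalization.flat _ (Submonoid.powers f)
  have hfl := flat_inv s t hinj hinv (Localization.Away f)
  have hΞ' := basis_of_bijective (h.bc (Localization.Away f))
    (Algebra.TensorProduct.includeRight :
      Localization.Away f →ₐ[C] A ⊗[C] Localization.Away f).toRingHom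
    hfl.1 (fun d => by
      show s 1 ⊗ₜ[C] d = t 1 ⊗ₜ[C] d
      rw [map_one, map_one]) hfl.2 (fun i => x i ⊗ₜ[C] (1 : Localization.Away f)) hθ
  let Ξ : (ι → Localization.Away f) →ₗ[Localization.Away f] Localization.Away f ⊗[C] A :=
    Fintype.linearCombination (Localization.Away f)
      (fun i => (1 : Localization.Away f) ⊗ₜ[C] x i)
  have hΞ : (Ξ : (ι → Localization.Away f) → Localization.Away f ⊗[C] A) =
      (TensorProduct.comm C A (Localization.Away f)) ∘
        (fun d : ι → Localization.Away f =>
          ∑ i, (Algebra.TensorProduct.includeRight :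
            Localization.Away f →ₐ[C] A ⊗[C] Localization.Away f).toRingHom (d i) *
              (x i ⊗ₜ[C] (1 : Localization.Away f))) := by
    funext d
    rw [Fintype.linearCombination_apply]
    show ∑ i, d i • ((1 : Localization.Away f) ⊗ₜ[C] x i) =
      TensorProduct.comm C A (Localization.Away f) (∑ i, _)
    rw [map_sum]
    refine Finset.sum_congr rfl (fun i _ => ?_)
    show d i • ((1 : Localization.Away f) ⊗ₜ[C] x i) =
      TensorProduct.comm C A (Localization.Away f)
        (((1 : A) ⊗ₜ[C] d i) * (x i ⊗ₜ[C] (1 : Localization.Away f)))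
    rw [Algebra.TensorProduct.tmul_mul_tmul, one_mul, mul_one, TensorProduct.comm_tmul,
      TensorProduct.smul_tmul', smul_eq_mul, mul_one]
  have hbij : Function.Bijective Ξ := by
    rw [hΞ]
    exact (TensorProduct.comm C A (Localization.Away f)).bijective.comp hΞ'
  exact ⟨LinearEquiv.ofBijective Ξ hbij⟩

theorem finitePresentation_flat (h : IsPack s t e p₀ p₁ c) [Algebra A B]
    (hs : algebraMap A B = s.toRingHom) [Module.Finite A B] [Module.Projective A B]
    [Algebra.IsIntegral C A] (hinj : Function.Injective (algebraMap C A))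
    (hinv : ∀ a, s a = t a → a ∈ Set.range (algebraMap C A))
    (hK : Submodule.span A (Set.range t) = ⊤) :
    Module.FinitePresentation C A ∧ Module.Flat C A := by
  let 𝒮 : Set C := {f | ∃ (ι : Type u) (_ : Fintype ι),
    Nonempty ((ι → Localization.Away f) ≃ₗ[Localization.Away f] (Localization.Away f ⊗[C] A))}
  have hspan : Ideal.span 𝒮 = ⊤ := by
    by_contra hne
    obtain ⟨𝔪, h𝔪, hle⟩ := Ideal.exists_le_maximal _ hne
    haveI := h𝔪.isPrime
    obtain ⟨f, ι, hι, hf𝔪, hne', -⟩ := exists_local_basis h hs hinj hinv hK 𝔪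
    exact hf𝔪 (hle (Ideal.subset_span ⟨ι, hι, hne'⟩))
  have hfree : ∀ g : 𝒮, Module.Free (Localization.Away g.1) (Localization.Away g.1 ⊗[C] A) ∧
      Module.Finite (Localization.Away g.1) (Localization.Away g.1 ⊗[C] A) := by
    rintro ⟨g, ι, hι, ⟨eq⟩⟩
    exact ⟨Module.Free.of_equiv eq, Module.Finite.equiv eq⟩
  constructor
  · refine Module.FinitePresentation.of_localizationSpan' 𝒮 hspan
      (Rₚ := fun g => Localization.Away g.1) (Mₚ := fun g => Localization.Away g.1 ⊗[C] A)
      (fun g => TensorProduct.mk C (Localization.Away g.1) A 1) (fun g => ?_)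
    haveI := (hfree g).1
    haveI := (hfree g).2
    exact Module.finitePresentation_of_projective _ _
  · refine Module.flat_of_isLocalized_span C A 𝒮 hspan
      (fun g => Localization.Away g.1 ⊗[C] A)
      (fun g => TensorProduct.mk C (Localization.Away g.1) A 1) (fun g => ?_)
    haveI := (hfree g).1
    haveI : Module.Flat C (Localization.Away g.1) :=
      IsLocalization.flat _ (Submonoid.powers g.1)
    exact Module.Flat.trans C (Localization.Away g.1) _

theorem rank_eq (h : IsPack s t e p₀ p₁ c) [Algebra A B]
    (hs : algebraMap A B = s.toRingHom) [Module.Finite A B] [Module.Projective A B]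
    [Algebra.IsIntegral C A] (hinj : Function.Injective (algebraMap C A))
    (hinv : ∀ a, s a = t a → a ∈ Set.range (algebraMap C A))
    (hK : Submodule.span A (Set.range t) = ⊤) [Module.Finite C A] [Module.Flat C A]
    (q : PrimeSpectrum A) :
    Module.rankAtStalk A (PrimeSpectrum.comap (algebraMap C A) q) = Module.rankAtStalk B q := by
  haveI := (PrimeSpectrum.comap (algebraMap C A) q).2
  obtain ⟨f, ι, hι, hfp, ⟨eq⟩, hb⟩ := exists_local_basis h hs hinj hinv hK
    (PrimeSpectrum.comap (algebraMap C A) q).asIdeal
  have hfq : algebraMap C A f ∉ q.asIdeal := hfp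
  rw [hb q hfq]
  have hmem : PrimeSpectrum.comap (algebraMap C A) q ∈
      (PrimeSpectrum.basicOpen f : Set (PrimeSpectrum C)) := hfp
  rw [← PrimeSpectrum.localization_away_comap_range (Localization.Away f) f] at hmem
  obtain ⟨p', hp'⟩ := hmem
  rw [← hp', ← Module.rankAtStalk_baseChange (R := C) (M := A) p']
  haveI : Nontrivial (Localization.Away f) := nontrivial_of_ne 0 1 (fun h01 =>
    p'.2.ne_top ((Ideal.eq_top_iff_one _).mpr (h01 ▸ Ideal.zero_mem _)))
  rw [← Module.rankAtStalk_eq_of_equiv eq, Module.rankAtStalk_eq_finrank_of_free]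
  simp

theorem bijective_productMap (h : IsPack s t e p₀ p₁ c) [Algebra A B]
    (hs : algebraMap A B = s.toRingHom) [Module.Finite A B] [Module.Projective A B]
    [Algebra.IsIntegral C A] (hinj : Function.Injective (algebraMap C A))
    (hinv : ∀ a, s a = t a → a ∈ Set.range (algebraMap C A))
    (hsurj : Function.Surjective (Algebra.TensorProduct.productMap s t)) :
    Module.FinitePresentation C A ∧ Module.Flat C A ∧
      Function.Bijective (Algebra.TensorProduct.productMap s t) := by
  have hK := span_range_eq_top hs hsurj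
  obtain ⟨hfp, hfl⟩ := finitePresentation_flat h hs hinj hinv hK
  refine ⟨hfp, hfl, ?_⟩
  haveI := hfp
  haveI := hfl
  let Ψ := Algebra.TensorProduct.productMap s t
  let Ψl : A ⊗[C] A →ₗ[A] B :=
    { toFun := Ψ
      map_add' := map_add Ψ
      map_smul' := fun a z => by
        show Ψ (a • z) = a • Ψ z
        rw [Algebra.smul_def, Algebra.smul_def, map_mul, hs]
        congr 1
        show s a * t 1 = s a
        rw [map_one, mul_one] }
  have hbij : Function.Bijective Ψl :=
    Module.bijective_of_surjective_of_rankAtStalk_eq (φ := Ψl) hsurj (fun m hm => by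
      rw [Module.rankAtStalk_baseChange]
      exact rank_eq h hs hinj hinv hK ⟨m, inferInstance⟩)
  exact hbij

end pack

end Groth.Agent.Lib.Helper11.RQuotD
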