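import Mathlib
import Groth.Prelude.Def_Grpd
import Groth.Agent.Lib.Helper11.GPack
import Groth.Agent.Lib.Helper11.RQuotD

/-!
# The quotient of an affine scheme by a finite locally free equivalence relation (helper11)
-/

set_option autoImplicit false
universe u

open CategoryTheory CategoryTheory.Limits AlgebraicGeometry TensorProduct
open Groth.Agent.Lib.Helper11.GrpdLib
open Groth.Agent.Lib.Helper11.FinQuotB
open Groth.Agent.Lib.Helper11.RPack Groth.Agent.Lib.Helper11.RQuotB
  Groth.Agent.Lib.Helper11.RQuotD Groth.Agent.Lib.Helper11.GPack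

namespace Groth.Agent.Lib.Helper11.GPackC

variable {S : Scheme.{u}} (G : Grpd.GroupoidScheme S) [IsAffine G.U] [IsAffine G.R]

attribute [local instance] algR algR₂

/-- `Mono j` at ring level. -/
theorem hmono [Mono G.j] (T : CommRingCat.{u}) (g₁ g₂ : CommRingCat.of Γ(G.R, ⊤) ⟶ T)
    (h1 : ∀ a, g₁.hom (sA G a) = g₂.hom (sA G a))
    (h2 : ∀ a, g₁.hom (tA G a) = g₂.hom (tA G a)) : g₁ = g₂ := by
  have hs : G.s.appTop ≫ g₁ = G.s.appTop ≫ g₂ := by
    apply CommRingCat.hom_ext
    apply RingHom.ext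
    intro a
    exact h1 a
  have ht : G.t.appTop ≫ g₁ = G.t.appTop ≫ g₂ := by
    apply CommRingCat.hom_ext
    apply RingHom.ext
    intro a
    exact h2 a
  have es : ∀ g : CommRingCat.of Γ(G.R, ⊤) ⟶ T,
      Spec.map g ≫ G.R.isoSpec.inv ≫ G.s = Spec.map (G.s.appTop ≫ g) ≫ G.U.isoSpec.inv := by
    intro g
    rw [← Scheme.isoSpec_inv_naturality, ← Category.assoc, ← Spec.map_comp]
  have et : ∀ g : CommRingCat.of Γ(G.R, ⊤) ⟶ T,
      Spec.map g ≫ G.R.isoSpec.inv ≫ G.t = Spec.map (G.t.appTop ≫ g) ≫ G.U.isoSpec.inv := by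
    intro g
    rw [← Scheme.isoSpec_inv_naturality, ← Category.assoc, ← Spec.map_comp]
  have hα : Spec.map g₁ ≫ G.R.isoSpec.inv = Spec.map g₂ ≫ G.R.isoSpec.inv := by
    rw [← cancel_mono G.j]
    apply pullback.hom_ext
    · simp only [Category.assoc, Grpd.GroupoidScheme.j, pullback.lift_fst]
      rw [et, et, ht]
    · simp only [Category.assoc, Grpd.GroupoidScheme.j, pullback.lift_snd]
      rw [es, es, hs]
  have h3 : Spec.map g₁ = Spec.map g₂ := by
    have h4 := congrArg (fun α => α ≫ G.R.isoSpec.hom) hα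
    simp only [Category.assoc, Iso.inv_hom_id, Category.comp_id] at h4
    exact h4
  exact Spec.map_injective h3

section main

variable [IsFinite G.s] [Flat G.s] [LocallyOfFinitePresentation G.s] [Mono G.j]

theorem ring_main :
    Module.FinitePresentation G.invariants Γ(G.U, ⊤) ∧ Module.Flat G.invariants Γ(G.U, ⊤) ∧
      Function.Bijective (Algebra.TensorProduct.productMap (sA G) (tA G)) := by
  letI : Algebra Γ(G.U, ⊤) Γ(G.R, ⊤) := G.s.appTop.hom.toAlgebra
  haveI : Module.Finite Γ(G.U, ⊤) Γ(G.R, ⊤) := finite_s G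
  haveI : Module.Projective Γ(G.U, ⊤) Γ(G.R, ⊤) := projective_s G
  haveI : Algebra.IsIntegral G.invariants Γ(G.U, ⊤) := isIntegral_invariants G
  have hsurj := surjective_productMap (s := sA G) (t := tA G) rfl (hmono G)
  exact bijective_productMap (isPack G) rfl (hinj G) (hinv G) hsurj

theorem toQuot_props :
    IsFinite G.toQuot ∧ Flat G.toQuot ∧ LocallyOfFinitePresentation G.toQuot := by
  obtain ⟨hfp, hfl, -⟩ := ring_main G
  haveI := hfp
  haveI := hfl
  have hφ : (CommRingCat.ofHom G.invariants.subtype).hom =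
      algebraMap G.invariants Γ(G.U, ⊤) := rfl
  have h1 : IsFinite (Spec.map (CommRingCat.ofHom G.invariants.subtype)) := by
    rw [IsFinite.SpecMap_iff, hφ]
    exact RingHom.finite_algebraMap.mpr inferInstance
  have h2 : Flat (Spec.map (CommRingCat.ofHom G.invariants.subtype)) := by
    rw [Flat.SpecMap_iff, hφ]
    exact RingHom.flat_algebraMap_iff.mpr inferInstance
  have h3 : LocallyOfFinitePresentation (Spec.map (CommRingCat.ofHom G.invariants.subtype)) := by
    rw [LocallyOfFinitePresentation.SpecMap_iff, hφ]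
    exact RingHom.finitePresentation_algebraMap.mpr inferInstance
  unfold Grpd.GroupoidScheme.toQuot
  exact ⟨(MorphismProperty.cancel_left_of_respectsIso @IsFinite _ _).mpr h1,
    (MorphismProperty.cancel_left_of_respectsIso @Flat _ _).mpr h2,
    (MorphismProperty.cancel_left_of_respectsIso @LocallyOfFinitePresentation _ _).mpr h3⟩

theorem isPullback_toQuot : IsPullback G.t G.s G.toQuot G.toQuot := by
  obtain ⟨-, -, hbij⟩ := ring_main G
  let Ψ := Algebra.TensorProduct.productMap (sA G) (tA G)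
  let eΨ : Γ(G.U, ⊤) ⊗[G.invariants] Γ(G.U, ⊤) ≃+* Γ(G.R, ⊤) :=
    RingEquiv.ofBijective Ψ.toRingHom hbij
  have h0 : IsPushout (CommRingCat.ofHom G.invariants.subtype)
      (CommRingCat.ofHom G.invariants.subtype)
      (CommRingCat.ofHom (Algebra.TensorProduct.includeLeftRingHom :
        Γ(G.U, ⊤) →+* Γ(G.U, ⊤) ⊗[G.invariants] Γ(G.U, ⊤)))
      (CommRingCat.ofHom (Algebra.TensorProduct.includeRight :
        Γ(G.U, ⊤) →ₐ[G.invariants] Γ(G.U, ⊤) ⊗[G.invariants] Γ(G.U, ⊤)).toRingHom) :=
    CommRingCat.isPushout_tensorProduct G.invariants Γ(G.U, ⊤) Γ(G.U, ⊤)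
  have h1 : IsPushout (CommRingCat.ofHom G.invariants.subtype)
      (CommRingCat.ofHom G.invariants.subtype) G.s.appTop G.t.appTop := by
    refine IsPushout.of_iso h0 (Iso.refl _) (Iso.refl _) (Iso.refl _) eΨ.toCommRingCatIso
      (by simp) (by simp) ?_ ?_
    · rw [Iso.refl_hom, Category.id_comp]
      apply CommRingCat.hom_ext
      apply RingHom.ext
      intro a
      show (sA G) a * (tA G) 1 = G.s.appTop.hom a
      rw [map_one, mul_one]
      rfl
    · rw [Iso.refl_hom, Category.id_comp]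
      apply CommRingCat.hom_ext
      apply RingHom.ext
      intro a
      show (sA G) 1 * (tA G) a = G.t.appTop.hom a
      rw [map_one, one_mul]
      rfl
  have h2 := isPullback_SpecMap_of_isPushout _ _ _ _ h1.flip
  refine IsPullback.of_iso h2 G.R.isoSpec.symm G.U.isoSpec.symm G.U.isoSpec.symm (Iso.refl _)
    ?_ ?_ ?_ ?_
  · exact Scheme.isoSpec_inv_naturality G.t
  · exact Scheme.isoSpec_inv_naturality G.s
  · rw [Iso.refl_hom, Category.comp_id, Iso.symm_hom]
    unfold Grpd.GroupoidScheme.toQuot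
    rw [← Category.assoc, Scheme.isoSpec_inv_toSpecΓ]
    exact (Category.id_comp _).symm
  · rw [Iso.refl_hom, Category.comp_id, Iso.symm_hom]
    unfold Grpd.GroupoidScheme.toQuot
    rw [← Category.assoc, Scheme.isoSpec_inv_toSpecΓ]
    exact (Category.id_comp _).symm

end main

end Groth.Agent.Lib.Helper11.GPackC
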