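import Mathlib
import Groth.Prelude.Def_Grpd
import Groth.Prelude.Def_QuotSh
import Groth.Agent.Lib.Helper11.GPackB
import Groth.Agent.Lib.Helper11.GPackC
import Groth.Agent.Lib.Helper16.LocSurj
import Groth.Agent.Lib.Helper10.QuotShRep

/-!
# fppf quotient sheaves: epimorphisms of representable sheaves (helper11)

* `epi_repMap_of_fppf`: an fppf covering `U ⟶ M` over `S` induces an epimorphism `h_U ⟶ h_M` of
  fppf sheaves.
* `epi_repMap_of_isIso`: an isomorphism induces an epimorphism.
* `exists_desc_toQuot`: for a finite locally free equivalence relation on an affine scheme, `U ⟶ S`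
  descends uniquely to `Spec C ⟶ S`.
-/

set_option autoImplicit false
universe u

open CategoryTheory CategoryTheory.Limits AlgebraicGeometry Opposite

namespace Groth.Agent.Lib.Helper11.GPackD

variable {S : Scheme.{u}}

theorem epi_repMap_of_isIso (K : Precoverage Scheme.{u}) {V W : Over S} (e : V ⟶ W)
    [IsIso e.left] : Epi (QuotSh.repMap K e) := by
  haveI : IsIso e := by
    haveI : IsIso ((Over.forget S).map e) := (inferInstance : IsIso e.left)
    exact isIso_of_reflects_iso e (Over.forget S)
  show Epi ((H10QS.repF K).map e)
  infer_instance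

theorem epi_repMap_of_fppf {U M : Over S} (q : U ⟶ M) [Flat q.left]
    [LocallyOfFinitePresentation q.left] [Surjective q.left] :
    Epi (QuotSh.repMap Scheme.fppfPrecoverage q) := by
  haveI : Sheaf.IsLocallySurjective (QuotSh.repMap Scheme.fppfPrecoverage q) := by
    rw [Presheaf.isLocallySurjective_presheafToSheaf_map_iff]
    constructor
    intro V x
    let g : V ⟶ M := ULift.down x
    let P : Over S := Over.mk (pullback.fst g.left q.left ≫ V.hom)
    let pr₁ : P ⟶ V := Over.homMk (pullback.fst g.left q.left) rfl
    let pr₂ : P ⟶ U := Over.homMk (pullback.snd g.left q.left) (by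
      show pullback.snd g.left q.left ≫ U.hom = pullback.fst g.left q.left ≫ V.hom
      rw [← Over.w q, ← Over.w g, ← Category.assoc, ← Category.assoc, pullback.condition])
    haveI : Flat pr₁.left := inferInstanceAs (Flat (pullback.fst g.left q.left))
    haveI : LocallyOfFinitePresentation pr₁.left :=
      inferInstanceAs (LocallyOfFinitePresentation (pullback.fst g.left q.left))
    haveI : Surjective pr₁.left := inferInstanceAs (Surjective (pullback.fst g.left q.left))
    refine Groth.Agent.Lib.Helper16.sieve_mem_J_of_fppf pr₁ _ ?_
    refine ⟨ULift.up pr₂, ?_⟩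
    apply ULift.ext
    show pr₂ ≫ q = pr₁ ≫ g
    ext
    exact pullback.condition.symm
  infer_instance

end Groth.Agent.Lib.Helper11.GPackD
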