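import Mathlib
import Groth.Prelude.Def_Grpd
import Groth.Agent.Lib.Helper11.GrpdLib
import Groth.Agent.Lib.Helper11.FinQuotD

/-!
# Invariant affine neighbourhoods inside a given open (helper11)
-/

set_option autoImplicit false
universe u

open CategoryTheory CategoryTheory.Limits AlgebraicGeometry TensorProduct
open Groth.Agent.Lib.Helper11.GrpdLib
open Groth.Agent.Lib.Helper11.FinQuotA Groth.Agent.Lib.Helper11.FinQuotC
  Groth.Agent.Lib.Helper11.FinQuotD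

namespace Groth.Agent.Lib.Helper11.GQ6

variable {S : Scheme.{u}} (G : Grpd.GroupoidScheme S)

theorem exists_invariant_affine_open_le [IsFinite G.s] [Flat G.s]
    [LocallyOfFinitePresentation G.s]
    (u : G.U) (V : G.U.Opens) (hV : IsAffineOpen V)
    (huV : ∀ r : G.R, G.s r = u → G.t r ∈ V) (O : G.U.Opens)
    (huO : ∀ r : G.R, G.s r = u → G.t r ∈ O) :
    ∃ W : G.U.Opens, IsAffineOpen W ∧ u ∈ W ∧ G.s ⁻¹ᵁ W = G.t ⁻¹ᵁ W ∧ W ≤ O := by
  haveI : IsFinite G.t := by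
    haveI : IsIso G.i := isIso_i
    rw [← G.i_s]; infer_instance
  haveI : IsAffine V.toScheme := hV
  -- the largest invariant open in `V`
  set T : Set G.U := ⇑G.t '' (⇑G.s ⁻¹' (V : Set G.U)ᶜ) with hT
  have hTc : IsClosed T := G.t.isClosedMap _ (V.2.isClosed_compl.preimage G.s.continuous)
  have hTinv : ⇑G.s ⁻¹' T = ⇑G.t ⁻¹' T := preimage_image_invariant (G := G) _
  have hW₀V : ∀ x, x ∉ T → x ∈ V := fun x hx => by
    by_contra hxV
    exact hx ⟨G.e x, by simpa [s_e_apply] using hxV, t_e_apply x⟩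
  have huT : u ∉ T := (orbit_subset_iff G (V : Set G.U) u).mp huV
  have horbT : ∀ r : G.R, G.s r = u → G.t r ∉ T := by
    intro r hr hrT
    have h1 : r ∈ ⇑G.s ⁻¹' T := by rw [hTinv]; exact hrT
    exact huT (hr ▸ h1)
  -- the orbit is finite
  have hfin : (⇑G.t '' (⇑G.s ⁻¹' {u})).Finite := (G.s.finite_preimage_singleton u).image _
  -- prime avoidance in `V`
  let O' : V.toScheme.Opens := V.ι ⁻¹ᵁ (⟨Tᶜ, hTc.isOpen_compl⟩ ⊓ O)
  have hfin' : (⇑V.ι ⁻¹' (⇑G.t '' (⇑G.s ⁻¹' {u}))).Finite :=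
    hfin.preimage (V.ι.isOpenEmbedding.injective.injOn)
  obtain ⟨f', hf'O, hf'orb⟩ := exists_basicOpen_le_of_finite O' _ hfin' (by
    rintro x ⟨r, hr, hrx⟩
    show V.ι x ∈ Tᶜ ∧ V.ι x ∈ O
    rw [← hrx]
    exact ⟨horbT r hr, huO r hr⟩)
  let D : G.U.Opens := V.ι ''ᵁ (V.toScheme.basicOpen f')
  have hD : IsAffineOpen D :=
    ((isAffineOpen_top V.toScheme).basicOpen f').image_of_isOpenImmersion V.ι
  haveI : IsAffine D.toScheme := hD
  have hDT : ∀ x, x ∈ D → x ∉ T := by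
    rintro x ⟨x', hx', rfl⟩
    exact (hf'O hx').1
  have hDO : ∀ x, x ∈ D → x ∈ O := by
    rintro x ⟨x', hx', rfl⟩
    exact (hf'O hx').2
  have hDV : ∀ x, x ∈ D → x ∈ V := fun x hx => hW₀V x (hDT x hx)
  have horbD : ∀ r : G.R, G.s r = u → G.t r ∈ D := by
    intro r hr
    have h1 : G.t r ∈ V := huV r hr
    refine ⟨⟨G.t r, h1⟩, hf'orb ⟨r, hr, rfl⟩, rfl⟩
  have hmemD : ∀ x' : V.toScheme, V.ι x' ∈ D ↔ x' ∈ V.toScheme.basicOpen f' := by
    intro x'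
    constructor
    · rintro ⟨x'', hx'', hxx⟩
      rwa [← V.ι.isOpenEmbedding.injective hxx]
    · intro hx'
      exact ⟨x', hx', rfl⟩
  -- the restriction of `s` over `D` and of `t`
  have htV : ∀ y : (G.s ⁻¹ᵁ D).toScheme, G.t ((G.s ⁻¹ᵁ D).ι y) ∈ V := by
    intro y
    have h1 : G.s ((G.s ⁻¹ᵁ D).ι y) ∈ D := y.2
    have h2 : (G.s ⁻¹ᵁ D).ι y ∉ ⇑G.s ⁻¹' T := hDT _ h1
    rw [hTinv] at h2
    exact hW₀V _ h2
  let τ : (G.s ⁻¹ᵁ D).toScheme ⟶ V.toScheme := IsOpenImmersion.lift V.ι ((G.s ⁻¹ᵁ D).ι ≫ G.t) (by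
    rintro _ ⟨y, rfl⟩
    rw [Scheme.Opens.range_ι]
    rw [Scheme.Hom.comp_apply]
    exact htV y)
  have hτ : τ ≫ V.ι = (G.s ⁻¹ᵁ D).ι ≫ G.t := IsOpenImmersion.lift_fac _ _ _
  have hτ' : ∀ y, V.ι (τ y) = G.t ((G.s ⁻¹ᵁ D).ι y) := fun y => by
    rw [← Scheme.Hom.comp_apply, hτ, Scheme.Hom.comp_apply]
  obtain ⟨g, hg⟩ := exists_norm_section (G.s ∣_ D) (τ.appTop.hom f')
  have hπ : ∀ y, D.ι ((G.s ∣_ D) y) = G.s ((G.s ⁻¹ᵁ D).ι y) := fun y => by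
    rw [← Scheme.Hom.comp_apply, morphismRestrict_ι, Scheme.Hom.comp_apply]
  refine ⟨D.ι ''ᵁ (D.toScheme.basicOpen g),
    ((isAffineOpen_top D.toScheme).basicOpen g).image_of_isOpenImmersion D.ι, ?_, ?_, ?_⟩
  all_goals
    have hchar : ∀ x : G.U, x ∈ D.ι ''ᵁ (D.toScheme.basicOpen g) ↔
        x ∉ ⇑G.t '' (⇑G.s ⁻¹' (D : Set G.U)ᶜ) := by
      intro x
      rw [← orbit_subset_iff]
      constructor
      · rintro ⟨x', hx', rfl⟩ r hr
        have hrD : r ∈ G.s ⁻¹ᵁ D := by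
          show G.s r ∈ D
          rw [hr]; exact x'.2
        have h1 := (hg x').mp hx' ⟨r, hrD⟩ (by
          apply D.ι.isOpenEmbedding.injective
          rw [hπ]
          exact hr)
        have h2 : (⟨r, hrD⟩ : (G.s ⁻¹ᵁ D).toScheme) ∈ τ ⁻¹ᵁ (V.toScheme.basicOpen f') := by
          rw [Scheme.preimage_basicOpen_top]
          exact h1
        have h3 := (hmemD _).mpr h2
        rw [hτ'] at h3
        exact h3
      · intro hx
        have hxD : x ∈ D := by simpa [t_e_apply] using hx (G.e x) (s_e_apply x)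
        refine ⟨⟨x, hxD⟩, (hg _).mpr ?_, rfl⟩
        intro y hy
        have h1 : G.s ((G.s ⁻¹ᵁ D).ι y) = x := by
          rw [← hπ, hy]
          rfl
        have h2 := hx _ h1
        rw [← hτ'] at h2
        have h3 : y ∈ τ ⁻¹ᵁ (V.toScheme.basicOpen f') := (hmemD _).mp h2
        rw [Scheme.preimage_basicOpen_top] at h3
        exact h3
  · rw [hchar, ← orbit_subset_iff]
    exact horbD
  · apply TopologicalSpace.Opens.ext
    have hset : ((D.ι ''ᵁ (D.toScheme.basicOpen g) : G.U.Opens) : Set G.U) =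
        (⇑G.t '' (⇑G.s ⁻¹' (D : Set G.U)ᶜ))ᶜ := by
      ext x
      exact hchar x
    show ⇑G.s ⁻¹' ((D.ι ''ᵁ (D.toScheme.basicOpen g) : G.U.Opens) : Set G.U) =
      ⇑G.t ⁻¹' ((D.ι ''ᵁ (D.toScheme.basicOpen g) : G.U.Opens) : Set G.U)
    rw [hset]
    show (⇑G.s ⁻¹' (⇑G.t '' (⇑G.s ⁻¹' (D : Set G.U)ᶜ)))ᶜ =
      (⇑G.t ⁻¹' (⇑G.t '' (⇑G.s ⁻¹' (D : Set G.U)ᶜ)))ᶜ
    rw [preimage_image_invariant (G := G) ((D : Set G.U)ᶜ)]
  · rintro x ⟨x', -, rfl⟩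
    exact hDO _ x'.2

end Groth.Agent.Lib.Helper11.GQ6
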