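import Mathlib
import Groth.Prelude.Def_Grpd
import Groth.Agent.Lib.Helper11.GrpdLib

/-!
# Restriction of a groupoid scheme along cartesian monomorphisms (helper11)
-/

set_option autoImplicit false
universe u

open CategoryTheory CategoryTheory.Limits AlgebraicGeometry
open Groth.Agent.Lib.Helper11.GrpdLib

namespace Groth.Agent.Lib.Helper11.GQ1

section Res

variable {S : Scheme.{u}} (G : Grpd.GroupoidScheme S) {U' R' : Scheme.{u}}
  (ιU : U' ⟶ G.U) (ιR : R' ⟶ G.R) (s' t' : R' ⟶ U')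

/-- the map on composable pairs -/
noncomputable def ιι (ws : s' ≫ ιU = ιR ≫ G.s) (wt : t' ≫ ιU = ιR ≫ G.t) :
    pullback s' t' ⟶ pullback G.s G.t :=
  pullback.lift (pullback.fst s' t' ≫ ιR) (pullback.snd s' t' ≫ ιR) (by
    simp only [Category.assoc]
    rw [← ws, ← wt, pullback.condition_assoc])

@[reassoc]
lemma ιι_fst (ws : s' ≫ ιU = ιR ≫ G.s) (wt : t' ≫ ιU = ιR ≫ G.t) :
    ιι G ιU ιR s' t' ws wt ≫ pullback.fst G.s G.t = pullback.fst s' t' ≫ ιR :=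
  pullback.lift_fst _ _ _

@[reassoc]
lemma ιι_snd (ws : s' ≫ ιU = ιR ≫ G.s) (wt : t' ≫ ιU = ιR ≫ G.t) :
    ιι G ιU ιR s' t' ws wt ≫ pullback.snd G.s G.t = pullback.snd s' t' ≫ ιR :=
  pullback.lift_snd _ _ _

variable {G ιU ιR s' t'}
variable (hs : IsPullback s' ιR ιU G.s) (ht : IsPullback t' ιR ιU G.t)

/-- the restricted identity -/
noncomputable def e' : U' ⟶ R' :=
  hs.lift (𝟙 U') (ιU ≫ G.e) (by rw [Category.id_comp, Category.assoc, G.e_s, Category.comp_id])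

@[reassoc]
lemma e'_s : e' hs ≫ s' = 𝟙 U' := hs.lift_fst _ _ _

@[reassoc]
lemma e'_ι : e' hs ≫ ιR = ιU ≫ G.e := hs.lift_snd _ _ _

/-- the restricted inverse -/
noncomputable def i' : R' ⟶ R' :=
  hs.lift t' (ιR ≫ G.i) (by rw [ht.w, Category.assoc, G.i_s])

@[reassoc]
lemma i'_s : i' hs ht ≫ s' = t' := hs.lift_fst _ _ _

@[reassoc]
lemma i'_ι : i' hs ht ≫ ιR = ιR ≫ G.i := hs.lift_snd _ _ _

/-- the restricted composition -/
noncomputable def c' : pullback s' t' ⟶ R' :=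
  hs.lift (pullback.snd s' t' ≫ s') (ιι G ιU ιR s' t' hs.w ht.w ≫ G.c) (by
    simp only [Category.assoc]
    rw [hs.w, c_s, ιι_snd_assoc])

@[reassoc]
lemma c'_s : c' hs ht ≫ s' = pullback.snd s' t' ≫ s' := hs.lift_fst _ _ _

@[reassoc]
lemma c'_ι : c' hs ht ≫ ιR = ιι G ιU ιR s' t' hs.w ht.w ≫ G.c := hs.lift_snd _ _ _

include hs ht in
lemma res_h {T : Scheme.{u}} (α β : T ⟶ R') (h : α ≫ s' = β ≫ t') :
    (α ≫ ιR) ≫ G.s = (β ≫ ιR) ≫ G.t := by
  rw [Category.assoc, ← hs.w, Category.assoc, ← ht.w, ← Category.assoc, h, Category.assoc]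

lemma res_comp {T : Scheme.{u}} (α β : T ⟶ R') (h : α ≫ s' = β ≫ t')
    (h' : (α ≫ ιR) ≫ G.s = (β ≫ ιR) ≫ G.t) :
    (pullback.lift α β h ≫ c' hs ht) ≫ ιR = comp G (α ≫ ιR) (β ≫ ιR) h' := by
  rw [Category.assoc, c'_ι, ← Category.assoc]
  unfold comp
  congr 1
  apply pullback.hom_ext
  · rw [Category.assoc, ιι_fst, pullback.lift_fst_assoc, pullback.lift_fst]
  · rw [Category.assoc, ιι_snd, pullback.lift_snd_assoc, pullback.lift_snd]

/-- The restriction of a groupoid scheme along cartesian monomorphisms. -/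
noncomputable def resGrpd [Mono ιU] [Mono ιR] : Grpd.GroupoidScheme S where
  U := U'
  R := R'
  pU := ιU ≫ G.pU
  pR := ιR ≫ G.pR
  s := s'
  t := t'
  e := e' hs
  i := i' hs ht
  c := c' hs ht
  s_over := by rw [← Category.assoc, hs.w, Category.assoc, G.s_over]
  t_over := by rw [← Category.assoc, ht.w, Category.assoc, G.t_over]
  comp_s := fun α β h => by
    rw [Category.assoc, c'_s, pullback.lift_snd_assoc]
  comp_t := fun α β h => by
    have h' := res_h hs ht α β h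
    have e1 := res_comp hs ht α β h h'
    rw [← cancel_mono ιU]
    calc ((pullback.lift α β h ≫ c' hs ht) ≫ t') ≫ ιU
        = ((pullback.lift α β h ≫ c' hs ht) ≫ ιR) ≫ G.t := by
          simp only [Category.assoc]; rw [ht.w]
      _ = (α ≫ ιR) ≫ G.t := by rw [e1, comp_t]
      _ = (α ≫ t') ≫ ιU := by simp only [Category.assoc]; rw [ht.w]
  assoc := fun α β γ h₁ h₂ => by
    have h₁' := res_h hs ht α β h₁
    have h₂' := res_h hs ht β γ h₂
    rw [← cancel_mono ιR]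
    have e1 : (pullback.lift α β h₁ ≫ c' hs ht) ≫ ιR = comp G (α ≫ ιR) (β ≫ ιR) h₁' :=
      res_comp hs ht α β h₁ h₁'
    have e2 : (pullback.lift β γ h₂ ≫ c' hs ht) ≫ ιR = comp G (β ≫ ιR) (γ ≫ ιR) h₂' :=
      res_comp hs ht β γ h₂ h₂'
    have h₃ : comp G (α ≫ ιR) (β ≫ ιR) h₁' ≫ G.s = (γ ≫ ιR) ≫ G.t := by rw [comp_s]; exact h₂'
    have h₄ : (α ≫ ιR) ≫ G.s = comp G (β ≫ ιR) (γ ≫ ιR) h₂' ≫ G.t := by rw [comp_t]; exact h₁'
    have h₃' : ((pullback.lift α β h₁ ≫ c' hs ht) ≫ ιR) ≫ G.s = (γ ≫ ιR) ≫ G.t := by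
      rw [e1]; exact h₃
    have h₄' : (α ≫ ιR) ≫ G.s = ((pullback.lift β γ h₂ ≫ c' hs ht) ≫ ιR) ≫ G.t := by
      rw [e2]; exact h₄
    calc _ = comp G ((pullback.lift α β h₁ ≫ c' hs ht) ≫ ιR) (γ ≫ ιR) h₃' :=
          res_comp hs ht _ _ _ h₃'
      _ = comp G (comp G (α ≫ ιR) (β ≫ ιR) h₁') (γ ≫ ιR) h₃ := comp_congr e1 rfl _ _
      _ = comp G (α ≫ ιR) (comp G (β ≫ ιR) (γ ≫ ιR) h₂') h₄ := comp_assoc _ _ _ h₁' h₂' h₃ h₄
      _ = comp G (α ≫ ιR) ((pullback.lift β γ h₂ ≫ c' hs ht) ≫ ιR) h₄' :=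
          (comp_congr rfl e2 _ _).symm
      _ = _ := (res_comp hs ht _ _ _ h₄').symm
  e_s := e'_s hs
  e_t := by
    rw [← cancel_mono ιU, Category.assoc, ht.w, e'_ι_assoc, G.e_t, Category.comp_id,
      Category.id_comp]
  comp_e := fun α => by
    rw [← cancel_mono ιR]
    have hβ : (α ≫ s' ≫ e' hs) ≫ ιR = (α ≫ ιR) ≫ G.s ≫ G.e := by
      simp only [Category.assoc, e'_ι]
      rw [hs.w_assoc]
    have h' : (α ≫ ιR) ≫ G.s = ((α ≫ s' ≫ e' hs) ≫ ιR) ≫ G.t := by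
      rw [hβ]; simp only [Category.assoc, G.e_t, Category.comp_id]
    refine (res_comp hs ht _ _ _ h').trans ?_
    exact comp_e _ _ hβ h'
  e_comp := fun α => by
    rw [← cancel_mono ιR]
    have hβ : (α ≫ t' ≫ e' hs) ≫ ιR = (α ≫ ιR) ≫ G.t ≫ G.e := by
      simp only [Category.assoc, e'_ι]
      rw [ht.w_assoc]
    have h' : ((α ≫ t' ≫ e' hs) ≫ ιR) ≫ G.s = (α ≫ ιR) ≫ G.t := by
      rw [hβ]; simp only [Category.assoc, G.e_s, Category.comp_id]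
    refine (res_comp hs ht _ _ _ h').trans ?_
    exact e_comp _ _ hβ h'
  i_s := i'_s hs ht
  i_t := by
    rw [← cancel_mono ιU, Category.assoc, ht.w, i'_ι_assoc, G.i_t, hs.w]
  comp_i := fun α => by
    rw [← cancel_mono ιR]
    have hβ : (α ≫ i' hs ht) ≫ ιR = (α ≫ ιR) ≫ G.i := by simp only [Category.assoc, i'_ι]
    have h0 : (α ≫ ιR) ≫ G.s = ((α ≫ ιR) ≫ G.i) ≫ G.t := by rw [Category.assoc _ G.i, G.i_t]
    have h' : (α ≫ ιR) ≫ G.s = ((α ≫ i' hs ht) ≫ ιR) ≫ G.t := by rw [hβ]; exact h0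
    refine (res_comp hs ht _ _ _ h').trans ?_
    refine (comp_congr rfl hβ h' h0).trans ?_
    refine (G.comp_i (α ≫ ιR)).trans ?_
    simp only [Category.assoc, e'_ι]
    rw [ht.w_assoc]
  i_comp := fun α => by
    rw [← cancel_mono ιR]
    have hβ : (α ≫ i' hs ht) ≫ ιR = (α ≫ ιR) ≫ G.i := by simp only [Category.assoc, i'_ι]
    have h0 : ((α ≫ ιR) ≫ G.i) ≫ G.s = (α ≫ ιR) ≫ G.t := by rw [Category.assoc _ G.i, G.i_s]
    have h' : ((α ≫ i' hs ht) ≫ ιR) ≫ G.s = (α ≫ ιR) ≫ G.t := by rw [hβ]; exact h0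
    refine (res_comp hs ht _ _ _ h').trans ?_
    refine (comp_congr hβ rfl h' h0).trans ?_
    refine (G.i_comp (α ≫ ιR)).trans ?_
    simp only [Category.assoc, e'_ι]
    rw [hs.w_assoc]

end Res

end Groth.Agent.Lib.Helper11.GQ1
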