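import Mathlib
import Groth.Prelude.Def_Grpd
import Groth.Agent.Lib.Helper11.GrpdLib
import Groth.Agent.Lib.Helper11.GQ1

/-!
# Invariant opens of a groupoid scheme: restriction, invariant sections, local quotient (helper11)
-/

set_option autoImplicit false
universe u

open CategoryTheory CategoryTheory.Limits AlgebraicGeometry TopologicalSpace
open Groth.Agent.Lib.Helper11.GrpdLib

namespace Groth.Agent.Lib.Helper11.GQ2

theorem isOpenCover_of_forall {ι X : Type*} [TopologicalSpace X] {u : ι → Opens X}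
    (h : ∀ x, ∃ i, x ∈ u i) : IsOpenCover u := by
  rw [IsOpenCover, eq_top_iff]
  intro x _
  exact Opens.mem_iSup.mpr (h x)

variable {S : Scheme.{u}} (G : Grpd.GroupoidScheme S)

/-- an open of `U` is invariant if its preimages under `s` and `t` agree -/
def IsInv (W : G.U.Opens) : Prop := G.s ⁻¹ᵁ W = G.t ⁻¹ᵁ W

variable {G}

theorem IsInv.mem_iff {W : G.U.Opens} (hW : IsInv G W) (r : G.R) : G.s r ∈ W ↔ G.t r ∈ W := by
  have h1 : r ∈ G.s ⁻¹ᵁ W ↔ r ∈ G.t ⁻¹ᵁ W := by rw [hW]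
  exact h1

theorem isInv_iff {W : G.U.Opens} : IsInv G W ↔ ∀ r : G.R, G.s r ∈ W ↔ G.t r ∈ W := by
  constructor
  · intro h r
    exact h.mem_iff r
  · intro h
    ext r
    exact h r

theorem isInv_inf {W W' : G.U.Opens} (hW : IsInv G W) (hW' : IsInv G W') : IsInv G (W ⊓ W') := by
  rw [isInv_iff]
  intro r
  show (G.s r ∈ W ∧ G.s r ∈ W') ↔ (G.t r ∈ W ∧ G.t r ∈ W')
  rw [hW.mem_iff, hW'.mem_iff]

theorem isInv_preimage {Y : Scheme.{u}} (p : G.U ⟶ Y) (w : G.t ≫ p = G.s ≫ p) (V : Y.Opens) :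
    IsInv G (p ⁻¹ᵁ V) := by
  unfold IsInv
  rw [← Scheme.Hom.comp_preimage, ← Scheme.Hom.comp_preimage, w]

variable {W : G.U.Opens} (hW : IsInv G W)

/-- restricted source -/
noncomputable def sW (W : G.U.Opens) : (G.s ⁻¹ᵁ W).toScheme ⟶ W.toScheme :=
  G.s.resLE W (G.s ⁻¹ᵁ W) le_rfl

/-- restricted target -/
noncomputable def tW : (G.s ⁻¹ᵁ W).toScheme ⟶ W.toScheme :=
  G.t.resLE W (G.s ⁻¹ᵁ W) (le_of_eq hW)

theorem isPullback_sW (W : G.U.Opens) : IsPullback (sW W) (G.s ⁻¹ᵁ W).ι W.ι G.s :=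
  IsOpenImmersion.isPullback _ _ _ _ (Scheme.Hom.resLE_comp_ι _ _).symm (by simp)

theorem isPullback_tW : IsPullback (tW hW) (G.s ⁻¹ᵁ W).ι W.ι G.t :=
  IsOpenImmersion.isPullback _ _ _ _ (Scheme.Hom.resLE_comp_ι _ _).symm (by
    rw [Scheme.Opens.opensRange_ι, Scheme.Opens.opensRange_ι]
    exact hW.symm)

/-- the restriction of the groupoid to an invariant open -/
noncomputable def res : Grpd.GroupoidScheme S :=
  GQ1.resGrpd (isPullback_sW W) (isPullback_tW hW)

theorem isFinite_res_s [IsFinite G.s] : IsFinite (res hW).s :=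
  MorphismProperty.of_isPullback (P := @IsFinite) (isPullback_sW W).flip inferInstance

theorem flat_res_s [Flat G.s] : Flat (res hW).s :=
  MorphismProperty.of_isPullback (P := @Flat) (isPullback_sW W).flip inferInstance

theorem lfp_res_s [LocallyOfFinitePresentation G.s] : LocallyOfFinitePresentation (res hW).s :=
  MorphismProperty.of_isPullback (P := @LocallyOfFinitePresentation) (isPullback_sW W).flip
    inferInstance

theorem isAffine_res_U (hWa : IsAffineOpen W) : IsAffine (res hW).U := hWa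

theorem isAffine_res_R [IsAffineHom G.s] (hWa : IsAffineOpen W) : IsAffine (res hW).R :=
  hWa.preimage G.s

/-- invariant sections over an invariant open -/
noncomputable def invOn : Subring Γ(G.U, W) :=
  RingHom.eqLocus (G.s.appLE W (G.s ⁻¹ᵁ W) le_rfl).hom
    (G.t.appLE W (G.s ⁻¹ᵁ W) (le_of_eq hW)).hom

theorem mem_invOn_iff (a : Γ(G.U, W)) :
    a ∈ invOn hW ↔ (G.s.appLE W (G.s ⁻¹ᵁ W) le_rfl).hom a =
      (G.t.appLE W (G.s ⁻¹ᵁ W) (le_of_eq hW)).hom a := Iff.rfl

theorem res_s_appTop : (res hW).s.appTop =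
    W.topIso.hom ≫ G.s.appLE W (G.s ⁻¹ᵁ W) le_rfl ≫ (G.s ⁻¹ᵁ W).topIso.inv :=
  Scheme.Hom.resLE_app_top _ _

theorem res_t_appTop : (res hW).t.appTop =
    W.topIso.hom ≫ G.t.appLE W (G.s ⁻¹ᵁ W) (le_of_eq hW) ≫ (G.s ⁻¹ᵁ W).topIso.inv :=
  Scheme.Hom.resLE_app_top _ _

theorem mem_invariants_iff (a : Γ((res hW).U, ⊤)) :
    a ∈ (res hW).invariants ↔ W.topIso.hom.hom a ∈ invOn hW := by
  have hinj : Function.Injective ((G.s ⁻¹ᵁ W).topIso.inv.hom) :=
    (ConcreteCategory.bijective_of_isIso (G.s ⁻¹ᵁ W).topIso.inv).1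
  have e1 : ∀ x, (res hW).s.appTop.hom x =
      (G.s ⁻¹ᵁ W).topIso.inv.hom ((G.s.appLE W (G.s ⁻¹ᵁ W) le_rfl).hom (W.topIso.hom.hom x)) := by
    intro x
    rw [res_s_appTop]
    rfl
  have e2 : ∀ x, (res hW).t.appTop.hom x =
      (G.s ⁻¹ᵁ W).topIso.inv.hom
        ((G.t.appLE W (G.s ⁻¹ᵁ W) (le_of_eq hW)).hom (W.topIso.hom.hom x)) := by
    intro x
    rw [res_t_appTop]
    rfl
  show (res hW).s.appTop.hom a = (res hW).t.appTop.hom a ↔ _
  rw [e1, e2, mem_invOn_iff]
  exact hinj.eq_iff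

/-- the local quotient -/
noncomputable abbrev Q : Scheme.{u} := Spec (CommRingCat.of (invOn hW))

/-- the local quotient map -/
noncomputable def q : W.toScheme ⟶ Q hW :=
  W.toSpecΓ ≫ Spec.map (CommRingCat.ofHom (invOn hW).subtype)

theorem sW_q : sW W ≫ q hW = tW hW ≫ q hW := by
  unfold q sW tW
  rw [← Scheme.Opens.toSpecΓ_SpecMap_appLE_assoc, ← Scheme.Opens.toSpecΓ_SpecMap_appLE_assoc,
    ← Spec.map_comp, ← Spec.map_comp]
  congr 2
  apply CommRingCat.hom_ext
  apply RingHom.ext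
  intro c
  exact c.2

/-- the comparison of the ring of invariants of the restricted groupoid -/
noncomputable def κ : invOn hW →+* (res hW).invariants :=
  (W.topIso.inv.hom.comp (invOn hW).subtype).codRestrict (res hW).invariants (fun x =>
    (mem_invariants_iff hW _).mpr (by
      have : W.topIso.hom.hom (W.topIso.inv.hom x.1) = x.1 := by
        rw [← CommRingCat.comp_apply, Iso.inv_hom_id]; rfl
      show W.topIso.hom.hom (W.topIso.inv.hom x.1) ∈ invOn hW
      rw [this]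
      exact x.2))

theorem κ_bijective : Function.Bijective (κ hW) := by
  constructor
  · intro x y h
    have h1 : W.topIso.inv.hom x.1 = W.topIso.inv.hom y.1 := congrArg Subtype.val h
    have hinj : Function.Injective (W.topIso.inv.hom) :=
      (ConcreteCategory.bijective_of_isIso W.topIso.inv).1
    exact Subtype.ext (hinj h1)
  · intro y
    refine ⟨⟨W.topIso.hom.hom y.1, (mem_invariants_iff hW y.1).mp y.2⟩, ?_⟩
    apply Subtype.ext
    show W.topIso.inv.hom (W.topIso.hom.hom y.1) = y.1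
    rw [← CommRingCat.comp_apply, Iso.hom_inv_id]; rfl

theorem q_eq : q hW = (res hW).toQuot ≫ Spec.map (CommRingCat.ofHom (κ hW)) := by
  unfold q Grpd.GroupoidScheme.toQuot Scheme.Opens.toSpecΓ
  rw [Category.assoc, Category.assoc, ← Spec.map_comp, ← Spec.map_comp]
  rfl

instance isIso_Spec_κ : IsIso (Spec.map (CommRingCat.ofHom (κ hW))) := by
  have : IsIso (CommRingCat.ofHom (κ hW)) := by
    rw [ConcreteCategory.isIso_iff_bijective]
    exact κ_bijective hW
  infer_instance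

end Groth.Agent.Lib.Helper11.GQ2
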