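import Mathlib
import Groth.Prelude.Def_Grpd
import Groth.Agent.Lib.Helper11.GrpdLib
import Groth.Agent.Lib.Helper11.GQ2

/-!
# Geometric quotients of groupoid schemes are categorical quotients (helper11)
-/

set_option autoImplicit false
universe u

open CategoryTheory CategoryTheory.Limits AlgebraicGeometry TopologicalSpace
open Groth.Agent.Lib.Helper11.GrpdLib Groth.Agent.Lib.Helper11.GQ2

namespace Groth.Agent.Lib.Helper11.GQ3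

section Epi

variable {X Y Z : Scheme.{u}} (p : X ⟶ Y)

theorem resLE_appTop_injective (V : Y.Opens) (h : Function.Injective (p.app V).hom) :
    Function.Injective (p.resLE V (p ⁻¹ᵁ V) le_rfl).appTop.hom := by
  have e : (p.resLE V (p ⁻¹ᵁ V) le_rfl).appTop =
      V.topIso.hom ≫ p.app V ≫ (p ⁻¹ᵁ V).topIso.inv := by
    rw [← Scheme.Hom.appLE_eq_app]; exact Scheme.Hom.resLE_app_top _ _
  rw [e]
  intro x y hxy
  have h1 : Function.Injective (V.topIso.hom.hom) :=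
    (ConcreteCategory.bijective_of_isIso V.topIso.hom).1
  have h2 : Function.Injective ((p ⁻¹ᵁ V).topIso.inv.hom) :=
    (ConcreteCategory.bijective_of_isIso (p ⁻¹ᵁ V).topIso.inv).1
  exact h1 (h (h2 hxy))

theorem appLE_congr_hom {f₁ f₂ : X ⟶ Y} (h : f₁ = f₂) (U : Y.Opens) (V : X.Opens)
    (e₁ : V ≤ f₁ ⁻¹ᵁ U) (e₂ : V ≤ f₂ ⁻¹ᵁ U) : f₁.appLE U V e₁ = f₂.appLE U V e₂ := by
  subst h; rfl

/-- a surjective morphism which is injective on sections over a basis is an epimorphism, and so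
are its restrictions over opens of the target -/
theorem eq_of_resLE_comp_eq (hp : Function.Surjective p)
    (ℬ : Set Y.Opens) (hℬ : Opens.IsBasis ℬ)
    (hinj : ∀ V ∈ ℬ, Function.Injective (p.app V).hom)
    (Y₀ : Y.Opens) (a b : Y₀.toScheme ⟶ Z)
    (h : p.resLE Y₀ (p ⁻¹ᵁ Y₀) le_rfl ≫ a = p.resLE Y₀ (p ⁻¹ᵁ Y₀) le_rfl ≫ b) : a = b := by
  have hpt : ∀ y : Y₀.toScheme, a y = b y := by
    intro y
    obtain ⟨x, hx⟩ := hp y.1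
    have hx' : x ∈ p ⁻¹ᵁ Y₀ := by
      show p x ∈ Y₀
      rw [hx]; exact y.2
    have e1 : (p.resLE Y₀ (p ⁻¹ᵁ Y₀) le_rfl) ⟨x, hx'⟩ = y := by
      apply Subtype.ext
      rw [Scheme.Hom.coe_resLE_apply]
      exact hx
    rw [← e1, ← Scheme.Hom.comp_apply, ← Scheme.Hom.comp_apply, h]
  apply Scheme.hom_ext_of_forall
  intro y
  obtain ⟨(Z₀ : Z.Opens), hZ₀, hyZ₀, -⟩ := Opens.isBasis_iff_nbhd.mp Z.isBasis_affineOpens
    (Opens.mem_top (a y))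
  let O : Y₀.toScheme.Opens := a ⁻¹ᵁ Z₀ ⊓ b ⁻¹ᵁ Z₀
  have hyO : y ∈ O := ⟨hyZ₀, by show b y ∈ Z₀; rw [← hpt]; exact hyZ₀⟩
  obtain ⟨(V : Y.Opens), hVℬ, hyV, hVO⟩ := Opens.isBasis_iff_nbhd.mp hℬ
    (show Y₀.ι y ∈ Y₀.ι ''ᵁ O from ⟨y, hyO, rfl⟩)
  have hVY₀ : V ≤ Y₀ := hVO.trans (Y₀.ι_image_le O)
  refine ⟨Y₀.ι ⁻¹ᵁ V, hyV, ?_⟩
  let l : (Y₀.ι ⁻¹ᵁ V).toScheme ⟶ V.toScheme :=
    IsOpenImmersion.lift V.ι ((Y₀.ι ⁻¹ᵁ V).ι ≫ Y₀.ι) (by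
      rintro _ ⟨z, rfl⟩
      rw [Scheme.Opens.range_ι]
      exact z.2)
  have hl : l ≫ Y.homOfLE hVY₀ = (Y₀.ι ⁻¹ᵁ V).ι := by
    rw [← cancel_mono Y₀.ι, Category.assoc, Scheme.homOfLE_ι, IsOpenImmersion.lift_fac]
  rw [← hl, Category.assoc, Category.assoc]
  congr 1
  -- the core claim
  have hmem : ∀ v : V.toScheme, Y.homOfLE hVY₀ v ∈ O := by
    intro v
    obtain ⟨o, ho, hov⟩ := hVO v.2
    have : o = Y.homOfLE hVY₀ v := by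
      apply Subtype.ext
      rw [Scheme.homOfLE_apply]
      exact hov
    rw [← this]; exact ho
  have ha : Set.range (Y.homOfLE hVY₀ ≫ a) ⊆ Set.range Z₀.ι := by
    rintro _ ⟨v, rfl⟩
    rw [Scheme.Opens.range_ι]
    exact (hmem v).1
  have hb : Set.range (Y.homOfLE hVY₀ ≫ b) ⊆ Set.range Z₀.ι := by
    rintro _ ⟨v, rfl⟩
    rw [Scheme.Opens.range_ι]
    exact (hmem v).2
  let a' := IsOpenImmersion.lift Z₀.ι (Y.homOfLE hVY₀ ≫ a) ha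
  let b' := IsOpenImmersion.lift Z₀.ι (Y.homOfLE hVY₀ ≫ b) hb
  have ha' : a' ≫ Z₀.ι = Y.homOfLE hVY₀ ≫ a := IsOpenImmersion.lift_fac _ _ _
  have hb' : b' ≫ Z₀.ι = Y.homOfLE hVY₀ ≫ b := IsOpenImmersion.lift_fac _ _ _
  suffices a' = b' by rw [← ha', ← hb', this]
  haveI : IsAffine Z₀.toScheme := hZ₀
  apply ext_of_isAffine
  have hπ : p.resLE V (p ⁻¹ᵁ V) le_rfl ≫ a' = p.resLE V (p ⁻¹ᵁ V) le_rfl ≫ b' := by
    rw [← cancel_mono Z₀.ι, Category.assoc, Category.assoc, ha', hb']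
    have e : p.resLE V (p ⁻¹ᵁ V) le_rfl ≫ Y.homOfLE hVY₀ =
        X.homOfLE (p.preimage_mono hVY₀) ≫ p.resLE Y₀ (p ⁻¹ᵁ Y₀) le_rfl := by
      rw [Scheme.Hom.resLE_map, Scheme.Hom.map_resLE]
    rw [← Category.assoc, ← Category.assoc, e, Category.assoc, Category.assoc, h]
  have h2 := congrArg Scheme.Hom.appTop hπ
  rw [Scheme.Hom.comp_appTop, Scheme.Hom.comp_appTop] at h2
  apply CommRingCat.hom_ext
  apply RingHom.ext
  intro z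
  apply resLE_appTop_injective p V (hinj V hVℬ)
  exact congrArg (fun φ => φ.hom z) h2

theorem epi_of_basis (hp : Function.Surjective p)
    (ℬ : Set Y.Opens) (hℬ : Opens.IsBasis ℬ)
    (hinj : ∀ V ∈ ℬ, Function.Injective (p.app V).hom) (a b : Y ⟶ Z) (h : p ≫ a = p ≫ b) :
    a = b := by
  have := eq_of_resLE_comp_eq p hp ℬ hℬ hinj ⊤ ((⊤ : Y.Opens).ι ≫ a) ((⊤ : Y.Opens).ι ≫ b)
    (by rw [Scheme.Hom.resLE_comp_ι_assoc, Scheme.Hom.resLE_comp_ι_assoc, h])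
  exact (cancel_epi (Scheme.topIso Y).hom).mp this

end Epi


section GQ

theorem exists_ringHom_lift {A B C : Type u} [CommRing A] [CommRing B] [CommRing C]
    (P : A →+* B) (F : C →+* B) (hP : Function.Injective P) (hF : ∀ c, F c ∈ Set.range P) :
    ∃ θ : C →+* A, P.comp θ = F := by
  let e : A ≃+* P.range := RingEquiv.ofBijective P.rangeRestrict
    ⟨fun x y h => hP (congrArg Subtype.val h), P.rangeRestrict_surjective⟩
  let F' : C →+* P.range := F.codRestrict P.range (fun c => RingHom.mem_range.mpr (hF c))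
  refine ⟨e.symm.toRingHom.comp F', ?_⟩
  ext c
  show P (e.symm (F' c)) = F c
  have : e (e.symm (F' c)) = F' c := e.apply_symm_apply _
  exact congrArg Subtype.val this

variable {S : Scheme.{u}} (G : Grpd.GroupoidScheme S) {Y : Scheme.{u}} (p : G.U ⟶ Y)
  (w : G.t ≫ p = G.s ≫ p)

theorem exists_local_desc (V : Y.Opens) (hinjV : Function.Injective (p.app V).hom)
    (hrange : ∀ a : Γ(G.U, p ⁻¹ᵁ V), a ∈ invOn (isInv_preimage p w V) →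
      a ∈ Set.range (p.app V).hom)
    {Z : Scheme.{u}} (f : G.U ⟶ Z) (hf : G.t ≫ f = G.s ≫ f) (Z₀ : Z.Opens)
    (hZ₀ : IsAffineOpen Z₀) (hle : p ⁻¹ᵁ V ≤ f ⁻¹ᵁ Z₀) :
    ∃ g : V.toScheme ⟶ Z, p.resLE V (p ⁻¹ᵁ V) le_rfl ≫ g = (p ⁻¹ᵁ V).ι ≫ f := by
  have hF : ∀ z, (f.appLE Z₀ (p ⁻¹ᵁ V) hle).hom z ∈ invOn (isInv_preimage p w V) := by
    intro z
    rw [mem_invOn_iff]
    have e1 : f.appLE Z₀ (p ⁻¹ᵁ V) hle ≫ G.s.appLE (p ⁻¹ᵁ V) (G.s ⁻¹ᵁ (p ⁻¹ᵁ V)) le_rfl =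
        (G.s ≫ f).appLE Z₀ (G.s ⁻¹ᵁ (p ⁻¹ᵁ V)) (G.s.preimage_mono hle) :=
      Scheme.Hom.appLE_comp_appLE _ _ _ _ _ _ _
    have e2 : f.appLE Z₀ (p ⁻¹ᵁ V) hle ≫
        G.t.appLE (p ⁻¹ᵁ V) (G.s ⁻¹ᵁ (p ⁻¹ᵁ V)) (le_of_eq (isInv_preimage p w V)) =
        (G.t ≫ f).appLE Z₀ (G.s ⁻¹ᵁ (p ⁻¹ᵁ V))
          ((le_of_eq (isInv_preimage p w V)).trans (G.t.preimage_mono hle)) :=
      Scheme.Hom.appLE_comp_appLE _ _ _ _ _ _ _
    have e3 := appLE_congr_hom hf Z₀ (G.s ⁻¹ᵁ (p ⁻¹ᵁ V))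
      ((le_of_eq (isInv_preimage p w V)).trans (G.t.preimage_mono hle)) (G.s.preimage_mono hle)
    have e4 : f.appLE Z₀ (p ⁻¹ᵁ V) hle ≫ G.s.appLE (p ⁻¹ᵁ V) (G.s ⁻¹ᵁ (p ⁻¹ᵁ V)) le_rfl =
        f.appLE Z₀ (p ⁻¹ᵁ V) hle ≫
        G.t.appLE (p ⁻¹ᵁ V) (G.s ⁻¹ᵁ (p ⁻¹ᵁ V)) (le_of_eq (isInv_preimage p w V)) := by
      rw [e1, e2]; exact e3.symm
    exact congrArg (fun φ => φ.hom z) e4
  obtain ⟨θ, hθ⟩ := exists_ringHom_lift (p.app V).hom (f.appLE Z₀ (p ⁻¹ᵁ V) hle).hom hinjV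
    (fun z => hrange _ (hF z))
  refine ⟨V.toSpecΓ ≫ Spec.map (CommRingCat.ofHom θ) ≫ hZ₀.fromSpec, ?_⟩
  have hθ' : CommRingCat.ofHom θ ≫ p.app V = f.appLE Z₀ (p ⁻¹ᵁ V) hle := by
    apply CommRingCat.hom_ext; exact hθ
  rw [← Scheme.Opens.toSpecΓ_SpecMap_appLE_assoc, Scheme.Hom.appLE_eq_app,
    ← Spec.map_comp_assoc, hθ', Scheme.Opens.toSpecΓ_SpecMap_appLE_assoc,
    IsAffineOpen.toSpecΓ_fromSpec, Scheme.Hom.resLE_comp_ι]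

/-- a geometric quotient of a groupoid scheme is a coequalizer in the category of schemes -/
theorem isColimit_of_geometric (hsurj : Function.Surjective p) (hopen : IsOpenMap p.base)
    (hfib : ∀ x y : G.U, p x = p y → ∃ r : G.R, G.t r = x ∧ G.s r = y)
    (ℬ : Set Y.Opens) (hℬ : Opens.IsBasis ℬ)
    (hinj : ∀ V ∈ ℬ, Function.Injective (p.app V).hom)
    (hrange : ∀ V ∈ ℬ, ∀ a : Γ(G.U, p ⁻¹ᵁ V), a ∈ invOn (isInv_preimage p w V) →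
      a ∈ Set.range (p.app V).hom) :
    Nonempty (IsColimit (Cofork.ofπ p w)) := by
  have hepi : ∀ {Z : Scheme.{u}} (a b : Y ⟶ Z), p ≫ a = p ≫ b → a = b :=
    fun a b h => epi_of_basis p hsurj ℬ hℬ hinj a b h
  have key : ∀ {Z : Scheme.{u}} (f : G.U ⟶ Z), G.t ≫ f = G.s ≫ f →
      ∃ g : Y ⟶ Z, p ≫ g = f := by
    intro Z f hf
    have hconst : ∀ x y : G.U, p x = p y → f x = f y := by
      intro x y hxy
      obtain ⟨r, rfl, rfl⟩ := hfib x y hxy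
      rw [← Scheme.Hom.comp_apply, ← Scheme.Hom.comp_apply, hf]
    let I := {i : Y.Opens × Z.Opens // i.1 ∈ ℬ ∧ IsAffineOpen i.2 ∧ p ⁻¹ᵁ i.1 ≤ f ⁻¹ᵁ i.2}
    have hcov : ∀ y : Y, ∃ i : I, y ∈ i.1.1 := by
      intro y
      obtain ⟨u, rfl⟩ := hsurj y
      obtain ⟨(Z₀ : Z.Opens), hZ₀, huZ₀, -⟩ := Opens.isBasis_iff_nbhd.mp Z.isBasis_affineOpens
        (Opens.mem_top (f u))
      let O : Y.Opens := ⟨p.base '' (f ⁻¹ᵁ Z₀ : Set G.U), hopen _ (f ⁻¹ᵁ Z₀).2⟩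
      obtain ⟨(V : Y.Opens), hVℬ, hyV, hVO⟩ := Opens.isBasis_iff_nbhd.mp hℬ
        (show p u ∈ O from ⟨u, huZ₀, rfl⟩)
      refine ⟨⟨(V, Z₀), hVℬ, hZ₀, ?_⟩, hyV⟩
      intro u' hu'
      obtain ⟨u'', hu'', he⟩ := hVO hu'
      show f u' ∈ Z₀
      rw [← hconst u'' u' he]
      exact hu''
    choose gi hgi using fun i : I => exists_local_desc G p w i.1.1 (hinj i.1.1 i.2.1)
      (hrange i.1.1 i.2.1) f hf i.1.2 i.2.2.1 i.2.2.2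
    let 𝒰 := Y.openCoverOfIsOpenCover (fun i : I => i.1.1) (isOpenCover_of_forall hcov)
    have hglue : ∀ i j : I, pullback.fst (i.1.1).ι (j.1.1).ι ≫ gi i =
        pullback.snd (i.1.1).ι (j.1.1).ι ≫ gi j := by
      intro i j
      rw [← cancel_epi (isPullback_opens_inf i.1.1 j.1.1).isoPullback.hom,
        ← Category.assoc, ← Category.assoc, IsPullback.isoPullback_hom_fst,
        IsPullback.isoPullback_hom_snd]
      apply eq_of_resLE_comp_eq p hsurj ℬ hℬ hinj (i.1.1 ⊓ j.1.1)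
      have e1 : ∀ (k : I) (hk : i.1.1 ⊓ j.1.1 ≤ k.1.1),
          p.resLE (i.1.1 ⊓ j.1.1) (p ⁻¹ᵁ (i.1.1 ⊓ j.1.1)) le_rfl ≫ Y.homOfLE hk ≫ gi k =
            (p ⁻¹ᵁ (i.1.1 ⊓ j.1.1)).ι ≫ f := by
        intro k hk
        have e2 : p.resLE (i.1.1 ⊓ j.1.1) (p ⁻¹ᵁ (i.1.1 ⊓ j.1.1)) le_rfl ≫ Y.homOfLE hk =
            G.U.homOfLE (p.preimage_mono hk) ≫ p.resLE k.1.1 (p ⁻¹ᵁ k.1.1) le_rfl := by
          rw [Scheme.Hom.resLE_map, Scheme.Hom.map_resLE]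
        rw [← Category.assoc, e2, Category.assoc, hgi k, Scheme.homOfLE_ι_assoc]
      rw [e1 i inf_le_left, e1 j inf_le_right]
    refine ⟨𝒰.glueMorphisms gi hglue, ?_⟩
    apply Scheme.hom_ext_of_forall
    intro u
    obtain ⟨i, hi⟩ := hcov (p u)
    refine ⟨p ⁻¹ᵁ i.1.1, hi, ?_⟩
    have h3 : (i.1.1).ι ≫ 𝒰.glueMorphisms gi hglue = gi i := 𝒰.ι_glueMorphisms gi hglue i
    rw [← Category.assoc, ← Scheme.Hom.resLE_comp_ι p (U := i.1.1) (le_refl (p ⁻¹ᵁ i.1.1)),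
      Category.assoc, h3, hgi i]
  exact ⟨Cofork.IsColimit.mk _ (fun s => (key s.π s.condition).choose)
    (fun s => (key s.π s.condition).choose_spec)
    (fun s m hm => hepi _ _ (hm.trans (key s.π s.condition).choose_spec.symm))⟩

end GQ

end Groth.Agent.Lib.Helper11.GQ3
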