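import Mathlib
import Groth.Prelude.Def_Grpd
import Groth.Agent.Lib.Helper11.GQ2

/-!
# Invariant sections over basic opens (helper11)
-/

set_option autoImplicit false
universe u

open CategoryTheory CategoryTheory.Limits AlgebraicGeometry TopologicalSpace
open Groth.Agent.Lib.Helper11.GQ2

namespace Groth.Agent.Lib.Helper11.GQ4

theorem away_props {R S : Type*} [CommRing R] [CommRing S] (ρ : R →+* S) (x : R)
    (h : @IsLocalization.Away _ _ x S _ ρ.toAlgebra) :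
    IsUnit (ρ x) ∧ (∀ z : S, ∃ (n : ℕ) (a : R), z * ρ x ^ n = ρ a) ∧
      (∀ a b : R, ρ a = ρ b → ∃ n : ℕ, x ^ n * a = x ^ n * b) := by
  letI := ρ.toAlgebra
  exact ⟨IsLocalization.Away.algebraMap_isUnit x, fun z => IsLocalization.Away.surj x z,
    fun a b hab => IsLocalization.Away.exists_of_eq x hab⟩

/-- invariants commute with localization at an invariant element -/
theorem inv_loc {Cy A B Cf Af Bf : Type*} [CommRing Cy] [CommRing A] [CommRing B] [CommRing Cf]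
    [CommRing Af] [CommRing Bf]
    (P : Cy →+* A) (s t : A →+* B) (hP : Function.Injective P)
    (hPr : ∀ a, s a = t a → a ∈ Set.range P) (hPi : ∀ y, s (P y) = t (P y))
    (ρC : Cy →+* Cf) (ρA : A →+* Af) (ρB : B →+* Bf) (Pf : Cf →+* Af) (sf tf : Af →+* Bf)
    (hPf : ∀ y, Pf (ρC y) = ρA (P y)) (hsf : ∀ a, sf (ρA a) = ρB (s a))
    (htf : ∀ a, tf (ρA a) = ρB (t a)) (f : Cy)
    (uC : IsUnit (ρC f)) (surC : ∀ z : Cf, ∃ (n : ℕ) (y : Cy), z * ρC f ^ n = ρC y)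
    (uA : IsUnit (ρA (P f))) (surA : ∀ z : Af, ∃ (n : ℕ) (a : A), z * ρA (P f) ^ n = ρA a)
    (eqA : ∀ a b : A, ρA a = ρA b → ∃ n : ℕ, P f ^ n * a = P f ^ n * b)
    (eqB : ∀ a b : B, ρB a = ρB b → ∃ n : ℕ, s (P f) ^ n * a = s (P f) ^ n * b) :
    Function.Injective Pf ∧ ∀ a, sf a = tf a → a ∈ Set.range Pf := by
  constructor
  · rw [injective_iff_map_eq_zero]
    intro z hz
    obtain ⟨n, y, hy⟩ := surC z
    have h1 : ρA (P y) = ρA 0 := by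
      rw [← hPf, ← hy, map_mul, hz, zero_mul, map_zero]
    obtain ⟨k, hk⟩ := eqA _ _ h1
    rw [mul_zero] at hk
    have h2 : f ^ k * y = 0 := by
      apply hP
      rw [map_mul, map_pow, hk, map_zero]
    have h3 : ρC f ^ k * ρC y = 0 := by rw [← map_pow, ← map_mul, h2, map_zero]
    have h4 : ρC y = 0 := (uC.pow k).mul_right_eq_zero.mp h3
    rw [h4] at hy
    exact (uC.pow n).mul_left_eq_zero.mp hy
  · intro a ha
    obtain ⟨n, a₁, ha₁⟩ := surA a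
    have h1 : ρB (s a₁) = ρB (t a₁) := by
      rw [← hsf, ← htf, ← ha₁, map_mul, map_mul, map_pow, map_pow, hsf, htf, hPi, ha]
    obtain ⟨k, hk⟩ := eqB _ _ h1
    have h2 : s (P f ^ k * a₁) = t (P f ^ k * a₁) := by
      rw [map_mul, map_mul, map_pow, map_pow, hk, hPi]
    obtain ⟨y, hy⟩ := hPr _ h2
    obtain ⟨v, hv⟩ := uC.pow (n + k)
    refine ⟨ρC y * ↑v⁻¹, ?_⟩
    apply (uA.pow (n + k)).mul_left_inj.mp
    have h3 : ρA (P f) ^ (n + k) = Pf (↑v) := by rw [hv, map_pow, hPf]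
    calc Pf (ρC y * ↑v⁻¹) * ρA (P f) ^ (n + k) = Pf (ρC y * ↑v⁻¹ * ↑v) := by rw [h3, ← map_mul]
      _ = Pf (ρC y) := by rw [Units.inv_mul_cancel_right]
      _ = ρA (P f ^ k * a₁) := by rw [hPf, hy]
      _ = ρA (P f) ^ k * (a * ρA (P f) ^ n) := by rw [map_mul, map_pow, ha₁]
      _ = a * ρA (P f) ^ (n + k) := by rw [pow_add]; ring

variable {S : Scheme.{u}} (G : Grpd.GroupoidScheme S) {Y : Scheme.{u}} (p : G.U ⟶ Y)
  (w : G.t ≫ p = G.s ≫ p)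

/-- if `p` identifies global functions of an affine `Y` with the invariant functions of an affine
groupoid, the same holds over every basic open of `Y`. -/
theorem sections_of_eq_basicOpen [IsAffine Y] [IsAffine G.U] [IsAffine G.R]
    (hinj : Function.Injective p.appTop.hom)
    (hr : ∀ a : Γ(G.U, ⊤), G.s.appTop.hom a = G.t.appTop.hom a → a ∈ Set.range p.appTop.hom)
    (f : Γ(Y, ⊤)) (V : Y.Opens) (hV : V = Y.basicOpen f) :
    Function.Injective (p.app V).hom ∧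
      ∀ a : Γ(G.U, p ⁻¹ᵁ V), a ∈ invOn (isInv_preimage p w V) →
        a ∈ Set.range (p.app V).hom := by
  have lC := away_props (Y.presheaf.map (homOfLE (le_top : V ≤ ⊤)).op).hom f
    ((isAffineOpen_top Y).isLocalization_of_eq_basicOpen f (homOfLE le_top) hV)
  have eU : p ⁻¹ᵁ V = G.U.basicOpen (p.appTop.hom f) := by
    rw [hV]; exact Scheme.preimage_basicOpen_top p f
  have lA := away_props (G.U.presheaf.map (homOfLE (le_top : p ⁻¹ᵁ V ≤ ⊤)).op).hom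
    (p.appTop.hom f)
    ((isAffineOpen_top G.U).isLocalization_of_eq_basicOpen _ (homOfLE le_top) eU)
  have eR : G.s ⁻¹ᵁ (p ⁻¹ᵁ V) = G.R.basicOpen (G.s.appTop.hom (p.appTop.hom f)) := by
    rw [eU]; exact Scheme.preimage_basicOpen_top G.s _
  have lB := away_props (G.R.presheaf.map (homOfLE (le_top : G.s ⁻¹ᵁ (p ⁻¹ᵁ V) ≤ ⊤)).op).hom
    (G.s.appTop.hom (p.appTop.hom f))
    ((isAffineOpen_top G.R).isLocalization_of_eq_basicOpen _ (homOfLE le_top) eR)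
  have hw : ∀ y, G.s.appTop.hom (p.appTop.hom y) = G.t.appTop.hom (p.appTop.hom y) := by
    intro y
    have : p.appTop ≫ G.s.appTop = p.appTop ≫ G.t.appTop := by
      rw [← Scheme.Hom.comp_appTop, ← Scheme.Hom.comp_appTop, w]
    exact congrArg (fun φ => φ.hom y) this
  have hPf' : Y.presheaf.map (homOfLE (le_top : V ≤ ⊤)).op ≫ p.app V =
      p.appTop ≫ G.U.presheaf.map (homOfLE (le_top : p ⁻¹ᵁ V ≤ ⊤)).op := by
    rw [Scheme.Hom.app_eq_appLE (f := p) (U := V), Scheme.Hom.map_appLE]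
    rfl
  have hsf' : G.U.presheaf.map (homOfLE (le_top : p ⁻¹ᵁ V ≤ ⊤)).op ≫
      G.s.appLE (p ⁻¹ᵁ V) (G.s ⁻¹ᵁ (p ⁻¹ᵁ V)) le_rfl =
      G.s.appTop ≫ G.R.presheaf.map (homOfLE (le_top : G.s ⁻¹ᵁ (p ⁻¹ᵁ V) ≤ ⊤)).op := by
    rw [Scheme.Hom.map_appLE]
    rfl
  have htf' : G.U.presheaf.map (homOfLE (le_top : p ⁻¹ᵁ V ≤ ⊤)).op ≫
      G.t.appLE (p ⁻¹ᵁ V) (G.s ⁻¹ᵁ (p ⁻¹ᵁ V)) (le_of_eq (isInv_preimage p w V)) =
      G.t.appTop ≫ G.R.presheaf.map (homOfLE (le_top : G.s ⁻¹ᵁ (p ⁻¹ᵁ V) ≤ ⊤)).op := by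
    rw [Scheme.Hom.map_appLE]
    rfl
  exact inv_loc p.appTop.hom G.s.appTop.hom G.t.appTop.hom hinj hr hw
    (Y.presheaf.map (homOfLE (le_top : V ≤ ⊤)).op).hom
    (G.U.presheaf.map (homOfLE (le_top : p ⁻¹ᵁ V ≤ ⊤)).op).hom
    (G.R.presheaf.map (homOfLE (le_top : G.s ⁻¹ᵁ (p ⁻¹ᵁ V) ≤ ⊤)).op).hom
    (p.app V).hom
    (G.s.appLE (p ⁻¹ᵁ V) (G.s ⁻¹ᵁ (p ⁻¹ᵁ V)) le_rfl).hom
    (G.t.appLE (p ⁻¹ᵁ V) (G.s ⁻¹ᵁ (p ⁻¹ᵁ V)) (le_of_eq (isInv_preimage p w V))).hom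
    (fun y => congrArg (fun φ => φ.hom y) hPf')
    (fun a => congrArg (fun φ => φ.hom a) hsf')
    (fun a => congrArg (fun φ => φ.hom a) htf')
    f lC.1 lC.2.1 lA.1 lA.2.1 lA.2.2 lB.2.2

end Groth.Agent.Lib.Helper11.GQ4
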