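import Mathlib
import Groth.Prelude.Def_Grpd
import Groth.Agent.Lib.Helper11.GrpdLib
import Groth.Agent.Lib.Helper11.GPackB
import Groth.Agent.Lib.Helper11.GQ3
import Groth.Agent.Lib.Helper11.GQ4

/-!
# The quotient of an affine scheme by a finite locally free groupoid (helper11)
-/

set_option autoImplicit false
universe u

open CategoryTheory CategoryTheory.Limits AlgebraicGeometry TopologicalSpace
open Groth.Agent.Lib.Helper11.GrpdLib Groth.Agent.Lib.Helper11.GQ2 Groth.Agent.Lib.Helper11.GQ3
  Groth.Agent.Lib.Helper11.GQ4 Groth.Agent.Lib.Helper11.GPack Groth.Agent.Lib.Helper11.GPackB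
  Groth.Agent.Lib.Helper11.FinQuotB

namespace Groth.Agent.Lib.Helper11.GQ5

variable {S : Scheme.{u}} (G : Grpd.GroupoidScheme S)

theorem toQuot_appTop : G.toQuot.appTop =
    (Scheme.ΓSpecIso (CommRingCat.of G.invariants)).hom ≫
      CommRingCat.ofHom G.invariants.subtype := by
  unfold Grpd.GroupoidScheme.toQuot
  rw [Scheme.Hom.comp_appTop, Scheme.toSpecΓ_appTop]
  exact Scheme.ΓSpecIso_naturality _

theorem toQuot_appTop_injective : Function.Injective G.toQuot.appTop.hom := by
  rw [toQuot_appTop]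
  intro x y h
  have h1 : Function.Injective (Scheme.ΓSpecIso (CommRingCat.of G.invariants)).hom.hom :=
    (ConcreteCategory.bijective_of_isIso _).1
  exact h1 (Subtype.val_injective h)

theorem toQuot_appTop_range (a : Γ(G.U, ⊤)) (ha : G.s.appTop.hom a = G.t.appTop.hom a) :
    a ∈ Set.range G.toQuot.appTop.hom := by
  rw [toQuot_appTop]
  refine ⟨(Scheme.ΓSpecIso (CommRingCat.of G.invariants)).inv.hom ⟨a, ha⟩, ?_⟩
  show ((Scheme.ΓSpecIso (CommRingCat.of G.invariants)).hom.hom
    ((Scheme.ΓSpecIso (CommRingCat.of G.invariants)).inv.hom ⟨a, ha⟩)).1 = a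
  rw [← CommRingCat.comp_apply, Iso.inv_hom_id]
  rfl

variable [IsAffine G.U] [IsAffine G.R] [IsFinite G.s] [Flat G.s] [LocallyOfFinitePresentation G.s]

theorem isIntegralHom_toQuot : IsIntegralHom G.toQuot := by
  haveI : Algebra.IsIntegral G.invariants Γ(G.U, ⊤) := isIntegral_invariants G
  unfold Grpd.GroupoidScheme.toQuot
  haveI : IsIntegralHom (Spec.map (CommRingCat.ofHom G.invariants.subtype)) := by
    rw [IsIntegralHom.SpecMap_iff]
    exact algebraMap_isIntegral_iff.mpr inferInstance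
  infer_instance

theorem isOpenMap_t : IsOpenMap G.t.base := by
  haveI : IsIso G.i := isIso_i
  have : IsOpenMap (G.i ≫ G.s).base := (G.i ≫ G.s).isOpenMap
  rwa [G.i_s] at this

theorem isOpenMap_toQuot : IsOpenMap G.toQuot.base := by
  haveI := isIntegralHom_toQuot G
  intro O hO
  have ht : IsOpenMap G.t.base := isOpenMap_t G
  let sat : Set G.U := G.t.base '' (G.s.base ⁻¹' O)
  have hsat : IsOpen sat := ht _ (hO.preimage G.s.continuous)
  have hcl : IsClosed (G.toQuot.base '' satᶜ) := G.toQuot.isClosedMap _ hsat.isClosed_compl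
  have heq : G.toQuot.base '' O = (G.toQuot.base '' satᶜ)ᶜ := by
    ext y
    constructor
    · rintro ⟨u, hu, rfl⟩ ⟨u', hu', he⟩
      obtain ⟨r, hr1, hr2⟩ := (toQuot_eq_iff G u u').mp he.symm
      apply hu'
      exact ⟨G.i r, by rw [Set.mem_preimage]; erw [s_i_apply, hr1]; exact hu, by
        erw [t_i_apply, hr2]⟩
    · intro hy
      obtain ⟨u, rfl⟩ := surjective_toQuot G y
      have hu : u ∈ sat := by
        by_contra h
        exact hy ⟨u, h, rfl⟩
      obtain ⟨r, hr, rfl⟩ := hu
      refine ⟨G.s r, hr, ?_⟩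
      show (G.s ≫ G.toQuot) r = (G.t ≫ G.toQuot) r
      rw [t_toQuot]
  rw [heq]
  exact hcl.isOpen_compl

/-- algebraic closure of a residue field -/
abbrev Kbar {P : Scheme.{u}} (z : P) : Type u := AlgebraicClosure (P.residueField z)

omit [IsAffine G.U] [IsAffine G.R] [IsFinite G.s] [Flat G.s] [LocallyOfFinitePresentation G.s] in
theorem exists_geom_point {P : Scheme.{u}} (z : P) :
    ∃ (K : Type u) (_ : Field K) (_ : IsAlgClosed K) (ξ : Spec (CommRingCat.of K) ⟶ P)
      (pt : Spec (CommRingCat.of K)), ξ.base pt = z := by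
  refine ⟨Kbar z, inferInstance, inferInstance, ?_⟩
  refine ⟨Spec.map (CommRingCat.ofHom (algebraMap (P.residueField z) (Kbar z))) ≫
      P.fromSpecResidueField z, (⟨⊥, Ideal.isPrime_bot⟩ : PrimeSpectrum (Kbar z)), ?_⟩
  show (P.fromSpecResidueField z).base ((Spec.map (CommRingCat.ofHom
    (algebraMap (P.residueField z) (Kbar z)))).base _) = z
  exact Scheme.fromSpecResidueField_apply _ _

theorem surjective_lift :
    Function.Surjective (pullback.lift G.t G.s (t_toQuot G)).base := by
  intro z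
  obtain ⟨K, _, _, ξ, pt, hpt⟩ := exists_geom_point z
  have hξ : (ξ ≫ pullback.fst _ _) ≫ G.toQuot = (ξ ≫ pullback.snd _ _) ≫ G.toQuot := by
    rw [Category.assoc, Category.assoc, pullback.condition]
  obtain ⟨r, hr1, hr2⟩ := (kpoints_eq_iff G K (ξ ≫ pullback.fst _ _) (ξ ≫ pullback.snd _ _)).mp hξ
  have hr : r ≫ pullback.lift G.t G.s (t_toQuot G) = ξ := by
    apply pullback.hom_ext
    · rw [Category.assoc, pullback.lift_fst, hr1]
    · rw [Category.assoc, pullback.lift_snd, hr2]
  have h2 : (r ≫ pullback.lift G.t G.s (t_toQuot G)).base pt = z := by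
    rw [hr]; exact hpt
  exact ⟨r.base pt, h2⟩

/-- the affine case of the quotient theorem -/
theorem affine_quot :
    Nonempty (IsColimit (Cofork.ofπ G.toQuot (t_toQuot G))) ∧ IsIntegralHom G.toQuot ∧
      Surjective G.toQuot ∧ IsOpenMap G.toQuot.base ∧
      (∀ x y : G.U, G.toQuot.base x = G.toQuot.base y ↔
        ∃ r : G.R, G.t.base r = x ∧ G.s.base r = y) ∧
      Function.Surjective (pullback.lift G.t G.s (t_toQuot G)).base := by
  refine ⟨?_, isIntegralHom_toQuot G, ⟨surjective_toQuot G⟩, isOpenMap_toQuot G,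
    fun x y => toQuot_eq_iff G x y, surjective_lift G⟩
  refine isColimit_of_geometric G G.toQuot (t_toQuot G) (surjective_toQuot G)
    (isOpenMap_toQuot G) (fun x y h => (toQuot_eq_iff G x y).mp h)
    (Set.range ((Spec (CommRingCat.of G.invariants)).basicOpen :
      Γ(Spec (CommRingCat.of G.invariants), ⊤) → (Spec (CommRingCat.of G.invariants)).Opens))
    (isBasis_basicOpen _) ?_ ?_
  · rintro V ⟨f, rfl⟩
    exact (sections_of_eq_basicOpen G G.toQuot (t_toQuot G) (toQuot_appTop_injective G)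
      (toQuot_appTop_range G) f _ rfl).1
  · rintro V ⟨f, rfl⟩
    exact (sections_of_eq_basicOpen G G.toQuot (t_toQuot G) (toQuot_appTop_injective G)
      (toQuot_appTop_range G) f _ rfl).2

end Groth.Agent.Lib.Helper11.GQ5
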