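import Mathlib
import Groth.Prelude.Def_Grpd
import Groth.Agent.Lib.Helper11.GrpdLib
import Groth.Agent.Lib.Helper11.GPackB
import Groth.Agent.Lib.Helper11.GQ5

/-!
# Local quotient charts of a finite locally free groupoid (helper11)
-/

set_option autoImplicit false
universe u

open CategoryTheory CategoryTheory.Limits AlgebraicGeometry TopologicalSpace
open Groth.Agent.Lib.Helper11.GrpdLib Groth.Agent.Lib.Helper11.GQ2 Groth.Agent.Lib.Helper11.GQ3
  Groth.Agent.Lib.Helper11.GQ4 Groth.Agent.Lib.Helper11.GQ5 Groth.Agent.Lib.Helper11.GPack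
  Groth.Agent.Lib.Helper11.GPackB

namespace Groth.Agent.Lib.Helper11.GQ7a

variable {S : Scheme.{u}} {G : Grpd.GroupoidScheme S}

section chart

variable [IsFinite G.s] [Flat G.s] [LocallyOfFinitePresentation G.s] {W : G.U.Opens}
  (hW : IsInv G W) (hWa : IsAffineOpen W)

include hWa in
theorem res_inst : IsAffine (res hW).U ∧ IsAffine (res hW).R ∧ IsFinite (res hW).s ∧
    Flat (res hW).s ∧ LocallyOfFinitePresentation (res hW).s :=
  ⟨isAffine_res_U hW hWa, isAffine_res_R hW hWa, isFinite_res_s hW, flat_res_s hW, lfp_res_s hW⟩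

omit [IsFinite G.s] [Flat G.s] [LocallyOfFinitePresentation G.s] in
theorem q_apply (x : W.toScheme) :
    (q hW) x = (Spec.map (CommRingCat.ofHom (κ hW))) ((res hW).toQuot x) :=
  congrArg (fun f : W.toScheme ⟶ Q hW => f x) (q_eq hW)

include hWa in
theorem q_surjective : Function.Surjective (q hW) := by
  obtain ⟨h1, h2, h3, h4, h5⟩ := res_inst hW hWa
  intro y
  obtain ⟨x, hx⟩ := surjective_toQuot (res hW) ((inv (Spec.map (CommRingCat.ofHom (κ hW)))) y)
  refine ⟨x, ?_⟩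
  rw [q_apply, hx, ← Scheme.Hom.comp_apply, IsIso.inv_hom_id]
  rfl

include hWa in
theorem q_eq_iff (x y : W.toScheme) :
    q hW x = q hW y ↔ ∃ r : G.R, G.t r = x.1 ∧ G.s r = y.1 := by
  obtain ⟨h1, h2, h3, h4, h5⟩ := res_inst hW hWa
  have hinj : Function.Injective (Spec.map (CommRingCat.ofHom (κ hW))) :=
    (Spec.map (CommRingCat.ofHom (κ hW))).homeomorph.injective
  rw [q_apply, q_apply, hinj.eq_iff, toQuot_eq_iff]
  constructor
  · rintro ⟨r', hr1, hr2⟩
    refine ⟨r'.1, ?_, ?_⟩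
    · rw [← hr1]
      exact (Scheme.Hom.coe_resLE_apply G.t (le_of_eq hW) r').symm
    · rw [← hr2]
      exact (Scheme.Hom.coe_resLE_apply G.s (le_refl _) r').symm
  · rintro ⟨r, hr1, hr2⟩
    have hr : r ∈ G.s ⁻¹ᵁ W := by
      show G.s r ∈ W
      rw [hr2]; exact y.2
    refine ⟨⟨r, hr⟩, Subtype.ext ?_, Subtype.ext ?_⟩
    · exact (Scheme.Hom.coe_resLE_apply G.t (le_of_eq hW) ⟨r, hr⟩).trans hr1
    · exact (Scheme.Hom.coe_resLE_apply G.s (le_refl _) ⟨r, hr⟩).trans hr2

include hWa in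
theorem q_isOpenMap : IsOpenMap (q hW).base := by
  obtain ⟨h1, h2, h3, h4, h5⟩ := res_inst hW hWa
  rw [q_eq]
  exact (Spec.map (CommRingCat.ofHom (κ hW))).homeomorph.isOpenMap.comp
    (isOpenMap_toQuot (res hW))

include hWa in
theorem q_isIntegralHom : IsIntegralHom (q hW) := by
  obtain ⟨h1, h2, h3, h4, h5⟩ := res_inst hW hWa
  haveI := isIntegralHom_toQuot (res hW)
  have h : IsIntegralHom ((res hW).toQuot ≫ Spec.map (CommRingCat.ofHom (κ hW))) := inferInstance
  rw [q_eq]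
  exact h

omit [IsFinite G.s] [Flat G.s] [LocallyOfFinitePresentation G.s] in
include hWa in
theorem q_mem_basicOpen_iff (c : invOn hW) (x : W.toScheme) :
    q hW x ∈ PrimeSpectrum.basicOpen c ↔ x.1 ∈ G.U.basicOpen c.1 := by
  have h1 : x.1 ∈ G.U.basicOpen c.1 ↔ W.toSpecΓ x ∈ PrimeSpectrum.basicOpen c.1 := by
    rw [← hWa.fromSpec_preimage_basicOpen]
    show _ ↔ hWa.fromSpec (W.toSpecΓ x) ∈ G.U.basicOpen c.1
    rw [← Scheme.Hom.comp_apply, IsAffineOpen.toSpecΓ_fromSpec]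
    rfl
  rw [h1]
  rfl

end chart

section restrict

variable {W W' : G.U.Opens} (hW : IsInv G W) (hW' : IsInv G W') (h : W ≤ W')

theorem res_mem_invOn (a : Γ(G.U, W')) (ha : a ∈ invOn hW') :
    (G.U.presheaf.map (homOfLE h).op).hom a ∈ invOn hW := by
  rw [mem_invOn_iff] at ha ⊢
  have e1 : G.U.presheaf.map (homOfLE h).op ≫ G.s.appLE W (G.s ⁻¹ᵁ W) le_rfl =
      G.s.appLE W' (G.s ⁻¹ᵁ W') le_rfl ≫
        G.R.presheaf.map (homOfLE (G.s.preimage_mono h)).op := by
    rw [Scheme.Hom.map_appLE, Scheme.Hom.appLE_map]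
  have e2 : G.U.presheaf.map (homOfLE h).op ≫ G.t.appLE W (G.s ⁻¹ᵁ W) (le_of_eq hW) =
      G.t.appLE W' (G.s ⁻¹ᵁ W') (le_of_eq hW') ≫
        G.R.presheaf.map (homOfLE (G.s.preimage_mono h)).op := by
    rw [Scheme.Hom.map_appLE, Scheme.Hom.appLE_map]
  have e1' := congrArg (fun φ => φ.hom a) e1
  have e2' := congrArg (fun φ => φ.hom a) e2
  simp only [CommRingCat.hom_comp, RingHom.comp_apply] at e1' e2'
  rw [e1', e2', ha]

/-- restriction of invariant sections -/
noncomputable def resInv : invOn hW' →+* invOn hW :=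
  ((G.U.presheaf.map (homOfLE h).op).hom.comp (invOn hW').subtype).codRestrict (invOn hW)
    (fun a => res_mem_invOn hW hW' h a.1 a.2)

theorem resInv_val (a : invOn hW') :
    (resInv hW hW' h a).1 = (G.U.presheaf.map (homOfLE h).op).hom a.1 := rfl

/-- the transition map between charts -/
noncomputable def φ : Q hW ⟶ Q hW' := Spec.map (CommRingCat.ofHom (resInv hW hW' h))

theorem q_φ : q hW ≫ φ hW hW' h = G.U.homOfLE h ≫ q hW' := by
  unfold q φ
  rw [Category.assoc, ← Spec.map_comp, ← Scheme.Opens.toSpecΓ_SpecMap_presheaf_map_assoc W W' h,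
    ← Spec.map_comp]
  rfl

theorem φ_id : φ hW hW (le_refl W) = 𝟙 _ := by
  unfold φ
  have : CommRingCat.ofHom (resInv hW hW (le_refl W)) = 𝟙 _ := by
    apply CommRingCat.hom_ext
    apply RingHom.ext
    intro a
    apply Subtype.ext
    show (G.U.presheaf.map (𝟙 _)).hom a.1 = a.1
    rw [G.U.presheaf.map_id]
    rfl
  rw [this, Spec.map_id]

theorem φ_comp {W'' : G.U.Opens} (hW'' : IsInv G W'') (h' : W' ≤ W'') :
    φ hW hW'' (h.trans h') = φ hW hW' h ≫ φ hW' hW'' h' := by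
  unfold φ
  rw [← Spec.map_comp]
  congr 1
  apply CommRingCat.hom_ext
  apply RingHom.ext
  intro a
  apply Subtype.ext
  show (G.U.presheaf.map (homOfLE (h.trans h')).op).hom a.1 =
    (G.U.presheaf.map (homOfLE h).op).hom ((G.U.presheaf.map (homOfLE h').op).hom a.1)
  rw [← CommRingCat.comp_apply, ← G.U.presheaf.map_comp]
  rfl

end restrict

end Groth.Agent.Lib.Helper11.GQ7a
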