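import Mathlib
import Groth.Prelude.Def_Grpd
import Groth.Agent.Lib.Helper11.GrpdLib
import Groth.Agent.Lib.Helper11.GQ6
import Groth.Agent.Lib.Helper11.GQ7a

/-!
# The diagram of local quotient charts: open immersions, local directedness (helper11)
-/

set_option autoImplicit false
universe u

open CategoryTheory CategoryTheory.Limits AlgebraicGeometry TopologicalSpace
open Groth.Agent.Lib.Helper11.GrpdLib Groth.Agent.Lib.Helper11.GQ2 Groth.Agent.Lib.Helper11.GQ3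
  Groth.Agent.Lib.Helper11.GQ4 Groth.Agent.Lib.Helper11.GQ5 Groth.Agent.Lib.Helper11.GQ6
  Groth.Agent.Lib.Helper11.GQ7a

namespace Groth.Agent.Lib.Helper11.GQ7b

theorem inv_loc_core {A B Af Bf : Type*} [CommRing A] [CommRing B] [CommRing Af] [CommRing Bf]
    (s t : A →+* B) (ρA : A →+* Af) (ρB : B →+* Bf) (sf tf : Af →+* Bf)
    (hsf : ∀ a, sf (ρA a) = ρB (s a)) (htf : ∀ a, tf (ρA a) = ρB (t a)) (c : A)
    (hc : s c = t c) (surA : ∀ z : Af, ∃ (n : ℕ) (a : A), z * ρA c ^ n = ρA a)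
    (eqB : ∀ a b : B, ρB a = ρB b → ∃ n : ℕ, s c ^ n * a = s c ^ n * b)
    (z : Af) (hz : sf z = tf z) :
    ∃ (n : ℕ) (a₁ : A), s a₁ = t a₁ ∧ z * ρA c ^ n = ρA a₁ := by
  obtain ⟨n, a, ha⟩ := surA z
  have h1 : ρB (s a) = ρB (t a) := by
    rw [← hsf, ← htf, ← ha, map_mul, map_mul, map_pow, map_pow, hsf, htf, hc, hz]
  obtain ⟨k, hk⟩ := eqB _ _ h1
  refine ⟨n + k, c ^ k * a, ?_, ?_⟩
  · rw [map_mul, map_mul, map_pow, map_pow, hk, hc]
  · rw [map_mul, map_pow, ← ha, pow_add]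
    ring

variable {S : Scheme.{u}} {G : Grpd.GroupoidScheme S}

section basic

variable {W₁ : G.U.Opens} (hW₁ : IsInv G W₁)

theorem isInv_basicOpen (c : invOn hW₁) : IsInv G (G.U.basicOpen c.1) := by
  have h1 := Scheme.basicOpen_appLE G.s (G.s ⁻¹ᵁ W₁) W₁ le_rfl c.1
  have h2 := Scheme.basicOpen_appLE G.t (G.s ⁻¹ᵁ W₁) W₁ (le_of_eq hW₁) c.1
  have hc : (G.s.appLE W₁ (G.s ⁻¹ᵁ W₁) le_rfl) c.1 =
      (G.t.appLE W₁ (G.s ⁻¹ᵁ W₁) (le_of_eq hW₁)) c.1 := c.2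
  rw [hc] at h1
  have h3 : G.s ⁻¹ᵁ W₁ ⊓ G.s ⁻¹ᵁ G.U.basicOpen c.1 = G.s ⁻¹ᵁ W₁ ⊓ G.t ⁻¹ᵁ G.U.basicOpen c.1 :=
    h1.symm.trans h2
  have h4 : G.s ⁻¹ᵁ G.U.basicOpen c.1 ≤ G.s ⁻¹ᵁ W₁ := G.s.preimage_mono (G.U.basicOpen_le c.1)
  have h5 : G.t ⁻¹ᵁ G.U.basicOpen c.1 ≤ G.s ⁻¹ᵁ W₁ := by
    rw [hW₁]; exact G.t.preimage_mono (G.U.basicOpen_le c.1)
  rw [inf_eq_right.mpr h4, inf_eq_right.mpr h5] at h3
  exact h3

variable [IsFinite G.s]

theorem isOpenImmersion_φ_basicOpen (hW₁a : IsAffineOpen W₁) (c : invOn hW₁)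
    (W₀ : G.U.Opens) (hW₀ : IsInv G W₀) (hc : W₀ = G.U.basicOpen c.1) (h : W₀ ≤ W₁) :
    IsOpenImmersion (φ hW₀ hW₁ h) := by
  subst hc
  letI : Algebra (invOn hW₁) (invOn hW₀) := (resInv hW₀ hW₁ h).toAlgebra
  -- localization data
  have lA := away_props (G.U.presheaf.map (homOfLE h).op).hom c.1
    (hW₁a.isLocalization_of_eq_basicOpen c.1 (homOfLE h) rfl)
  have eR : G.s ⁻¹ᵁ G.U.basicOpen c.1 =
      G.R.basicOpen ((G.s.appLE W₁ (G.s ⁻¹ᵁ W₁) le_rfl).hom c.1) := by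
    have h1 := Scheme.basicOpen_appLE G.s (G.s ⁻¹ᵁ W₁) W₁ le_rfl c.1
    have h4 : G.s ⁻¹ᵁ G.U.basicOpen c.1 ≤ G.s ⁻¹ᵁ W₁ :=
      G.s.preimage_mono (G.U.basicOpen_le c.1)
    rw [inf_eq_right.mpr h4] at h1
    exact h1.symm
  have lB := away_props (G.R.presheaf.map (homOfLE (G.s.preimage_mono h)).op).hom
    ((G.s.appLE W₁ (G.s ⁻¹ᵁ W₁) le_rfl).hom c.1)
    ((hW₁a.preimage G.s).isLocalization_of_eq_basicOpen _ (homOfLE (G.s.preimage_mono h)) eR)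
  have e1 : G.U.presheaf.map (homOfLE h).op ≫
      G.s.appLE (G.U.basicOpen c.1) (G.s ⁻¹ᵁ G.U.basicOpen c.1) le_rfl =
      G.s.appLE W₁ (G.s ⁻¹ᵁ W₁) le_rfl ≫
        G.R.presheaf.map (homOfLE (G.s.preimage_mono h)).op := by
    rw [Scheme.Hom.map_appLE, Scheme.Hom.appLE_map]
  have e2 : G.U.presheaf.map (homOfLE h).op ≫
      G.t.appLE (G.U.basicOpen c.1) (G.s ⁻¹ᵁ G.U.basicOpen c.1) (le_of_eq hW₀) =
      G.t.appLE W₁ (G.s ⁻¹ᵁ W₁) (le_of_eq hW₁) ≫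
        G.R.presheaf.map (homOfLE (G.s.preimage_mono h)).op := by
    rw [Scheme.Hom.map_appLE, Scheme.Hom.appLE_map]
  have hsf : ∀ a, (G.s.appLE (G.U.basicOpen c.1) (G.s ⁻¹ᵁ G.U.basicOpen c.1) le_rfl).hom
      ((G.U.presheaf.map (homOfLE h).op).hom a) =
      (G.R.presheaf.map (homOfLE (G.s.preimage_mono h)).op).hom
        ((G.s.appLE W₁ (G.s ⁻¹ᵁ W₁) le_rfl).hom a) := fun a => congrArg (fun φ => φ.hom a) e1
  have htf : ∀ a, (G.t.appLE (G.U.basicOpen c.1) (G.s ⁻¹ᵁ G.U.basicOpen c.1)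
      (le_of_eq hW₀)).hom ((G.U.presheaf.map (homOfLE h).op).hom a) =
      (G.R.presheaf.map (homOfLE (G.s.preimage_mono h)).op).hom
        ((G.t.appLE W₁ (G.s ⁻¹ᵁ W₁) (le_of_eq hW₁)).hom a) :=
    fun a => congrArg (fun φ => φ.hom a) e2
  haveI : IsLocalization.Away c (invOn hW₀) := by
    refine IsLocalization.Away.mk c ?_ ?_ ?_
    · -- unit
      obtain ⟨v, hv⟩ := isUnit_iff_exists_inv.mp lA.1
      have hu : (G.s.appLE (G.U.basicOpen c.1) (G.s ⁻¹ᵁ G.U.basicOpen c.1) le_rfl).hom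
          ((G.U.presheaf.map (homOfLE h).op).hom c.1) =
          (G.t.appLE (G.U.basicOpen c.1) (G.s ⁻¹ᵁ G.U.basicOpen c.1) (le_of_eq hW₀)).hom
          ((G.U.presheaf.map (homOfLE h).op).hom c.1) := (resInv hW₀ hW₁ h c).2
      have hvinv : v ∈ invOn hW₀ := by
        rw [mem_invOn_iff]
        have h1 := congrArg (G.s.appLE (G.U.basicOpen c.1) (G.s ⁻¹ᵁ G.U.basicOpen c.1)
          le_rfl).hom hv
        have h2 := congrArg (G.t.appLE (G.U.basicOpen c.1) (G.s ⁻¹ᵁ G.U.basicOpen c.1)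
          (le_of_eq hW₀)).hom hv
        rw [map_mul, map_one] at h1 h2
        rw [hu] at h1
        calc _ = (G.s.appLE (G.U.basicOpen c.1) (G.s ⁻¹ᵁ G.U.basicOpen c.1) le_rfl).hom v *
              ((G.t.appLE (G.U.basicOpen c.1) (G.s ⁻¹ᵁ G.U.basicOpen c.1)
                (le_of_eq hW₀)).hom ((G.U.presheaf.map (homOfLE h).op).hom c.1) *
              (G.t.appLE (G.U.basicOpen c.1) (G.s ⁻¹ᵁ G.U.basicOpen c.1)
                (le_of_eq hW₀)).hom v) := by rw [h2, mul_one]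
          _ = ((G.t.appLE (G.U.basicOpen c.1) (G.s ⁻¹ᵁ G.U.basicOpen c.1)
                (le_of_eq hW₀)).hom ((G.U.presheaf.map (homOfLE h).op).hom c.1) *
              (G.s.appLE (G.U.basicOpen c.1) (G.s ⁻¹ᵁ G.U.basicOpen c.1) le_rfl).hom v) *
              (G.t.appLE (G.U.basicOpen c.1) (G.s ⁻¹ᵁ G.U.basicOpen c.1)
                (le_of_eq hW₀)).hom v := by ring
          _ = _ := by rw [h1, one_mul]
      refine isUnit_iff_exists_inv.mpr ⟨⟨v, hvinv⟩, ?_⟩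
      apply Subtype.ext
      exact hv
    · -- surjectivity
      intro z
      obtain ⟨n, a₁, ha₁, hz⟩ := inv_loc_core
        (G.s.appLE W₁ (G.s ⁻¹ᵁ W₁) le_rfl).hom (G.t.appLE W₁ (G.s ⁻¹ᵁ W₁) (le_of_eq hW₁)).hom
        (G.U.presheaf.map (homOfLE h).op).hom
        (G.R.presheaf.map (homOfLE (G.s.preimage_mono h)).op).hom
        (G.s.appLE (G.U.basicOpen c.1) (G.s ⁻¹ᵁ G.U.basicOpen c.1) le_rfl).hom
        (G.t.appLE (G.U.basicOpen c.1) (G.s ⁻¹ᵁ G.U.basicOpen c.1) (le_of_eq hW₀)).hom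
        hsf htf c.1 c.2 lA.2.1 lB.2.2 z.1 z.2
      refine ⟨n, ⟨a₁, ha₁⟩, ?_⟩
      apply Subtype.ext
      exact hz
    · -- equality
      intro a b hab
      have h1 : (G.U.presheaf.map (homOfLE h).op).hom a.1 =
          (G.U.presheaf.map (homOfLE h).op).hom b.1 := congrArg Subtype.val hab
      obtain ⟨n, hn⟩ := lA.2.2 _ _ h1
      exact ⟨n, Subtype.ext hn⟩
  exact IsOpenImmersion.of_isLocalization c

end basic

section general

variable [IsFinite G.s] [Flat G.s] [LocallyOfFinitePresentation G.s]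

theorem isOpenImmersion_φ {W W' : G.U.Opens} (hW : IsInv G W) (hW' : IsInv G W')
    (hWa : IsAffineOpen W) (hW'a : IsAffineOpen W') (h : W ≤ W') :
    IsOpenImmersion (φ hW hW' h) := by
  have e : ∀ u, φ hW hW' h (q hW u) = q hW' (G.U.homOfLE h u) := fun u => by
    rw [← Scheme.Hom.comp_apply, ← Scheme.Hom.comp_apply, q_φ]
  apply IsOpenImmersion.of_forall_source_exists
  · intro y₁ y₂ hy
    obtain ⟨u₁, rfl⟩ := q_surjective hW hWa y₁
    obtain ⟨u₂, rfl⟩ := q_surjective hW hWa y₂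
    rw [e, e] at hy
    obtain ⟨r, hr1, hr2⟩ := (q_eq_iff hW' hW'a _ _).mp hy
    rw [Scheme.homOfLE_apply] at hr1 hr2
    exact (q_eq_iff hW hWa u₁ u₂).mpr ⟨r, hr1, hr2⟩
  · intro y
    obtain ⟨u, rfl⟩ := q_surjective hW hWa y
    let V : (Q hW').Opens := ⟨(q hW').base '' (Set.range (G.U.homOfLE h)),
      q_isOpenMap hW' hW'a _ (G.U.homOfLE h).isOpenEmbedding.isOpen_range⟩
    have hu'V : q hW' (G.U.homOfLE h u) ∈ V := ⟨G.U.homOfLE h u, ⟨u, rfl⟩, rfl⟩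
    obtain ⟨_, ⟨c, rfl⟩, hcu, hcV⟩ :=
      Opens.isBasis_iff_nbhd.mp PrimeSpectrum.isBasis_basic_opens hu'V
    have h₁ : G.U.basicOpen c.1 ≤ W' := G.U.basicOpen_le c.1
    have h₂ : G.U.basicOpen c.1 ≤ W := by
      intro x hx
      have hx' : q hW' ⟨x, h₁ hx⟩ ∈ PrimeSpectrum.basicOpen c :=
        (q_mem_basicOpen_iff hW' hW'a c ⟨x, h₁ hx⟩).mpr hx
      obtain ⟨w', ⟨w, rfl⟩, hw'⟩ := hcV hx'
      obtain ⟨r, hr1, hr2⟩ := (q_eq_iff hW' hW'a _ _).mp hw'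
      rw [Scheme.homOfLE_apply] at hr1
      have : G.s r ∈ W := (hW.mem_iff r).mpr (hr1 ▸ w.2)
      rw [hr2] at this
      exact this
    have huc : u.1 ∈ G.U.basicOpen c.1 := by
      have := (q_mem_basicOpen_iff hW' hW'a c (G.U.homOfLE h u)).mp hcu
      rwa [Scheme.homOfLE_apply] at this
    have hW'' : IsInv G (G.U.basicOpen c.1) := isInv_basicOpen hW' c
    have hc' : G.U.basicOpen c.1 = G.U.basicOpen (resInv hW hW' h c).1 := by
      rw [resInv_val]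
      have := Scheme.basicOpen_res G.U c.1 (homOfLE h).op
      rw [this]
      exact (inf_eq_right.mpr h₂).symm
    refine ⟨Q hW'', φ hW'' hW h₂,
      isOpenImmersion_φ_basicOpen hW hWa (resInv hW hW' h c) _ hW'' hc' h₂, ?_, ?_⟩
    · refine ⟨q hW'' ⟨u.1, huc⟩, ?_⟩
      rw [← Scheme.Hom.comp_apply, q_φ, Scheme.Hom.comp_apply]
      exact congrArg (q hW) (Subtype.ext (Scheme.homOfLE_apply _ _))
    · rw [← φ_comp]
      exact isOpenImmersion_φ_basicOpen hW' hW'a c _ hW'' rfl _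

end general

/-- every orbit lies in an affine open -/
class HasAffOrbits (G : Grpd.GroupoidScheme S) : Prop where
  out : ∀ x : G.U, ∃ V : G.U.Opens, IsAffineOpen V ∧
    G.t.base '' (G.s.base ⁻¹' {x}) ⊆ (V : Set G.U)

variable (G) in
/-- the invariant affine opens -/
def Idx : Type u := {W : G.U.Opens // IsAffineOpen W ∧ IsInv G W}

instance : Preorder (Idx G) :=
  inferInstanceAs (Preorder {W : G.U.Opens // IsAffineOpen W ∧ IsInv G W})

section diagram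

variable [IsFinite G.s] [Flat G.s] [LocallyOfFinitePresentation G.s]

theorem exists_idx_mem_le [HasAffOrbits G] (x : G.U) (O : G.U.Opens) (hO : IsInv G O)
    (hx : x ∈ O) : ∃ W : Idx G, x ∈ W.1 ∧ W.1 ≤ O := by
  obtain ⟨V, hVa, hV⟩ := HasAffOrbits.out (G := G) x
  obtain ⟨W, hWa, hxW, hWinv, hWO⟩ := exists_invariant_affine_open_le G x V hVa
    (fun r hr => hV ⟨r, hr, rfl⟩) O (fun r hr => (hO.mem_iff r).mp (hr ▸ hx))
  exact ⟨⟨W, hWa, hWinv⟩, hxW, hWO⟩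

variable (G) in
/-- the diagram of charts -/
noncomputable def F : Idx G ⥤ Scheme.{u} where
  obj W := Q W.2.2
  map {W W'} f := φ W.2.2 W'.2.2 (leOfHom f)
  map_id W := φ_id W.2.2
  map_comp {W W' W''} f g := φ_comp W.2.2 W'.2.2 (leOfHom f) W''.2.2 (leOfHom g)

instance {W W' : Idx G} (f : W ⟶ W') : IsOpenImmersion ((F G).map f) :=
  isOpenImmersion_φ W.2.2 W'.2.2 W.2.1 W'.2.1 (leOfHom f)

omit [IsFinite G.s] [Flat G.s] [LocallyOfFinitePresentation G.s] in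
theorem F_map_q {W W' : Idx G} (f : W ⟶ W') (u : W.1.toScheme) :
    ((F G).map f).base (q W.2.2 u) = q W'.2.2 (G.U.homOfLE (leOfHom f) u) := by
  show (φ W.2.2 W'.2.2 (leOfHom f)) (q W.2.2 u) = _
  rw [← Scheme.Hom.comp_apply, ← Scheme.Hom.comp_apply, q_φ]

instance [HasAffOrbits G] : ((F G) ⋙ Scheme.forget).IsLocallyDirected where
  cond {i j k} fi fj xi xj hx := by
    change ((F G).map fi).base xi = ((F G).map fj).base xj at hx
    obtain ⟨ui, rfl⟩ := q_surjective i.2.2 i.2.1 xi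
    obtain ⟨uj, rfl⟩ := q_surjective j.2.2 j.2.1 xj
    rw [F_map_q, F_map_q] at hx
    obtain ⟨r, hr1, hr2⟩ := (q_eq_iff k.2.2 k.2.1 _ _).mp hx
    rw [Scheme.homOfLE_apply] at hr1 hr2
    have huij : ui.1 ∈ j.1 := by
      rw [← hr1]
      exact (j.2.2.mem_iff r).mp (hr2 ▸ uj.2)
    obtain ⟨l, hul, hl⟩ := exists_idx_mem_le ui.1 (i.1 ⊓ j.1) (isInv_inf i.2.2 j.2.2)
      ⟨ui.2, huij⟩
    let fli : l ⟶ i := homOfLE (hl.trans inf_le_left)
    let flj : l ⟶ j := homOfLE (hl.trans inf_le_right)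
    refine ⟨l, fli, flj, q l.2.2 ⟨ui.1, hul⟩, ?_, ?_⟩
    · change ((F G).map fli).base (q l.2.2 ⟨ui.1, hul⟩) = q i.2.2 ui
      rw [F_map_q]
      exact congrArg (q i.2.2) (Subtype.ext (Scheme.homOfLE_apply _ _))
    · change ((F G).map flj).base (q l.2.2 ⟨ui.1, hul⟩) = q j.2.2 uj
      rw [F_map_q]
      refine (q_eq_iff j.2.2 j.2.1 _ _).mpr ⟨r, ?_, hr2⟩
      rw [Scheme.homOfLE_apply]
      exact hr1

end diagram

end Groth.Agent.Lib.Helper11.GQ7b
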