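import Mathlib
import Groth.Prelude.Def_Grpd
import Groth.Agent.Lib.Helper11.GrpdLib
import Groth.Agent.Lib.Helper11.GQ7b

/-!
# The quotient of a scheme by a finite locally free groupoid: gluing the charts (helper11)
-/

set_option autoImplicit false
universe u

open CategoryTheory CategoryTheory.Limits AlgebraicGeometry TopologicalSpace
open Groth.Agent.Lib.Helper11.GrpdLib Groth.Agent.Lib.Helper11.GQ2 Groth.Agent.Lib.Helper11.GQ3
  Groth.Agent.Lib.Helper11.GQ4 Groth.Agent.Lib.Helper11.GQ5 Groth.Agent.Lib.Helper11.GQ6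
  Groth.Agent.Lib.Helper11.GQ7a Groth.Agent.Lib.Helper11.GQ7b
  Groth.Agent.Lib.Helper11.GPack Groth.Agent.Lib.Helper11.GPackB

namespace Groth.Agent.Lib.Helper11.GQ7c

variable {S : Scheme.{u}} (G : Grpd.GroupoidScheme S) [IsFinite G.s] [Flat G.s]
  [LocallyOfFinitePresentation G.s] [HasAffOrbits G]

/-- the quotient scheme -/
noncomputable abbrev Y : Scheme.{u} := colimit (F G)

/-- the charts of the quotient -/
noncomputable def ιW (W : Idx G) : Q W.2.2 ⟶ Y G := colimit.ι (F G) W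

instance (W : Idx G) : IsOpenImmersion (ιW G W) :=
  inferInstanceAs (IsOpenImmersion (colimit.ι (F G) W))

omit [IsFinite G.s] [Flat G.s] [LocallyOfFinitePresentation G.s] [HasAffOrbits G] in
theorem isInv_top : IsInv G ⊤ :=
  isInv_iff.mpr (fun _ => ⟨fun _ => trivial, fun _ => trivial⟩)

/-- the cover of `U` by the invariant affine opens -/
noncomputable def cov : G.U.OpenCover where
  I₀ := Idx G
  X W := W.1.toScheme
  f W := W.1.ι
  mem₀ := by
    rw [Scheme.presieve₀_mem_precoverage_iff]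
    refine ⟨fun x => ?_, inferInstance⟩
    obtain ⟨W, hxW, -⟩ := exists_idx_mem_le x ⊤ (isInv_top G) trivial
    exact ⟨W, ⟨⟨x, hxW⟩, rfl⟩⟩

instance : Preorder (cov G).I₀ := inferInstanceAs (Preorder (Idx G))

omit [IsFinite G.s] [Flat G.s] [LocallyOfFinitePresentation G.s] [HasAffOrbits G] in
theorem cov_w (i j : Idx G) (hli : i.1 ≤ j.1) : G.U.homOfLE hli ≫ j.1.ι = i.1.ι :=
  G.U.homOfLE_ι _

theorem cov_directed (i j : Idx G) (x : ↥(pullback i.1.ι j.1.ι)) :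
    ∃ (l : Idx G) (hli : l.1 ≤ i.1) (hlj : l.1 ≤ j.1) (y : l.1.toScheme),
      pullback.lift (G.U.homOfLE hli) (G.U.homOfLE hlj)
        ((G.U.homOfLE_ι _).trans (G.U.homOfLE_ι _).symm) y = x := by
  have hui : (pullback.fst (i.1.ι) (j.1.ι) ≫ i.1.ι) x ∈ i.1 := by
    rw [Scheme.Hom.comp_apply]
    exact (pullback.fst (i.1.ι) (j.1.ι) x).2
  have huj : (pullback.fst (i.1.ι) (j.1.ι) ≫ i.1.ι) x ∈ j.1 := by
    rw [pullback.condition, Scheme.Hom.comp_apply]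
    exact (pullback.snd (i.1.ι) (j.1.ι) x).2
  obtain ⟨l, hul, hl⟩ := exists_idx_mem_le _ (i.1 ⊓ j.1) (isInv_inf i.2.2 j.2.2) ⟨hui, huj⟩
  refine ⟨l, hl.trans inf_le_left, hl.trans inf_le_right, ⟨_, hul⟩, ?_⟩
  apply (pullback.fst (i.1.ι) (j.1.ι) ≫ i.1.ι).isOpenEmbedding.injective
  rw [← Scheme.Hom.comp_apply, pullback.lift_fst_assoc, Scheme.homOfLE_ι]
  rfl

noncomputable instance : (cov G).LocallyDirected where
  trans {i j} hij := G.U.homOfLE (show (i : Idx G).1 ≤ (j : Idx G).1 from leOfHom hij)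
  trans_id i := G.U.homOfLE_rfl _
  trans_comp hij hjk := (G.U.homOfLE_homOfLE _ _).symm
  w hij := G.U.homOfLE_ι _
  directed {i j} x := by
    obtain ⟨l, hli, hlj, y, hy⟩ := cov_directed G i j x
    exact ⟨l, homOfLE hli, homOfLE hlj, y, hy⟩
  property_trans {i j} hij :=
    (inferInstance : IsOpenImmersion
      (G.U.homOfLE (show (i : Idx G).1 ≤ (j : Idx G).1 from leOfHom hij)))

theorem p_compat {i j : (cov G).I₀} (hij : i ⟶ j) :
    (cov G).trans hij ≫ (q (j : Idx G).2.2 ≫ ιW G j) = q (i : Idx G).2.2 ≫ ιW G i := by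
  show G.U.homOfLE (show (i : Idx G).1 ≤ (j : Idx G).1 from leOfHom hij) ≫
    q (j : Idx G).2.2 ≫ ιW G j = q (i : Idx G).2.2 ≫ ιW G i
  rw [← Category.assoc, ← q_φ (i : Idx G).2.2 (j : Idx G).2.2 (leOfHom hij), Category.assoc]
  congr 1
  exact colimit.w (F G) (homOfLE (leOfHom hij) : (i : Idx G) ⟶ (j : Idx G))

/-- the quotient morphism -/
noncomputable def p : G.U ⟶ Y G :=
  (cov G).glueMorphismsOfLocallyDirected (fun (W : Idx G) => q W.2.2 ≫ ιW G W)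
    (fun {_ _} hij => p_compat G hij)

theorem ι_p (W : Idx G) : W.1.ι ≫ p G = q W.2.2 ≫ ιW G W :=
  Scheme.OpenCover.map_glueMorphismsOfLocallyDirected (cov G)
    (fun (W : Idx G) => q W.2.2 ≫ ιW G W) (fun {_ _} hij => p_compat G hij) W

theorem p_apply (W : Idx G) (u : W.1.toScheme) : p G u.1 = ιW G W (q W.2.2 u) := by
  have h := congrArg (fun f : W.1.toScheme ⟶ Y G => f u) (ι_p G W)
  exact h

theorem exists_idx_mem (x : G.U) : ∃ W : Idx G, x ∈ W.1 := by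
  obtain ⟨W, hxW, -⟩ := exists_idx_mem_le x ⊤ (isInv_top G) trivial
  exact ⟨W, hxW⟩

theorem p_mem_range_iff (W : Idx G) (u : G.U) : p G u ∈ Set.range (ιW G W) ↔ u ∈ W.1 := by
  constructor
  · rintro ⟨y, hy⟩
    obtain ⟨W₁, hu₁⟩ := exists_idx_mem G u
    have h1 : ιW G W y = ιW G W₁ (q W₁.2.2 ⟨u, hu₁⟩) := by
      rw [hy]; exact p_apply G W₁ ⟨u, hu₁⟩
    obtain ⟨k, fi, fj, x, hx1, hx2⟩ := (Scheme.IsLocallyDirected.ι_eq_ι_iff (F G)).mp h1
    obtain ⟨uk, rfl⟩ := q_surjective k.2.2 k.2.1 x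
    have hx2' : ((F G).map fj).base (q k.2.2 uk) = q W₁.2.2 ⟨u, hu₁⟩ := hx2
    rw [F_map_q] at hx2'
    obtain ⟨r, hr1, hr2⟩ := (q_eq_iff W₁.2.2 W₁.2.1 _ _).mp hx2'
    rw [Scheme.homOfLE_apply] at hr1
    have h2 : G.t r ∈ W.1 := by
      rw [hr1]; exact leOfHom fi uk.2
    have h3 : G.s r ∈ W.1 := (W.2.2.mem_iff r).mpr h2
    rw [hr2] at h3
    exact h3
  · intro hu
    exact ⟨q W.2.2 ⟨u, hu⟩, (p_apply G W ⟨u, hu⟩).symm⟩

theorem t_p : G.t ≫ p G = G.s ≫ p G := by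
  apply Scheme.hom_ext_of_forall
  intro r
  obtain ⟨W, hW⟩ := exists_idx_mem G (G.s r)
  refine ⟨G.s ⁻¹ᵁ W.1, hW, ?_⟩
  have e1 : (G.s ⁻¹ᵁ W.1).ι ≫ G.t = tW W.2.2 ≫ W.1.ι := (Scheme.Hom.resLE_comp_ι _ _).symm
  have e2 : (G.s ⁻¹ᵁ W.1).ι ≫ G.s = sW W.1 ≫ W.1.ι := (Scheme.Hom.resLE_comp_ι _ _).symm
  rw [← Category.assoc, ← Category.assoc, e1, e2, Category.assoc, Category.assoc, ι_p,
    ← Category.assoc, ← Category.assoc, sW_q]

theorem p_surjective : Function.Surjective (p G) := by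
  intro y
  obtain ⟨W, x, hx⟩ := Scheme.IsLocallyDirected.ι_jointly_surjective (F G) y
  obtain ⟨u, rfl⟩ := q_surjective W.2.2 W.2.1 x
  exact ⟨u.1, (p_apply G W u).trans hx⟩

theorem p_eq_iff (x y : G.U) : p G x = p G y ↔ ∃ r : G.R, G.t r = x ∧ G.s r = y := by
  constructor
  · intro h
    obtain ⟨W, hx⟩ := exists_idx_mem G x
    have hy : y ∈ W.1 := by
      rw [← p_mem_range_iff, ← h, p_mem_range_iff]
      exact hx
    have h1 : ιW G W (q W.2.2 ⟨x, hx⟩) = ιW G W (q W.2.2 ⟨y, hy⟩) := by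
      rw [← p_apply G W ⟨x, hx⟩, ← p_apply G W ⟨y, hy⟩]
      exact h
    have h2 := (ιW G W).isOpenEmbedding.injective h1
    exact (q_eq_iff W.2.2 W.2.1 _ _).mp h2
  · rintro ⟨r, rfl, rfl⟩
    rw [← Scheme.Hom.comp_apply, ← Scheme.Hom.comp_apply, t_p]

theorem p_isOpenMap : IsOpenMap (p G).base := by
  intro O hO
  rw [isOpen_iff_forall_mem_open]
  rintro y ⟨u, hu, rfl⟩
  obtain ⟨W, hW⟩ := exists_idx_mem G u
  refine ⟨(ιW G W).base '' ((q W.2.2).base '' (W.1.ι.base ⁻¹' O)), ?_, ?_, ?_⟩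
  · rintro _ ⟨_, ⟨w, hw, rfl⟩, rfl⟩
    exact ⟨w.1, hw, p_apply G W w⟩
  · exact (ιW G W).isOpenEmbedding.isOpenMap _
      (q_isOpenMap W.2.2 W.2.1 _ (hO.preimage W.1.ι.continuous))
  · exact ⟨q W.2.2 ⟨u, hW⟩, ⟨⟨u, hW⟩, hu, rfl⟩, (p_apply G W ⟨u, hW⟩).symm⟩

theorem isPullback_chart (W : Idx G) : IsPullback (q W.2.2) W.1.ι (ιW G W) (p G) := by
  refine IsOpenImmersion.isPullback _ _ _ _ (ι_p G W) ?_
  ext u
  rw [Scheme.Opens.opensRange_ι]
  exact p_mem_range_iff G W u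

/-- properties local on the target can be checked on the charts -/
theorem p_of_charts (P : MorphismProperty Scheme.{u}) [IsZariskiLocalAtTarget P]
    (hP : ∀ W : Idx G, P (q W.2.2)) : P (p G) := by
  rw [IsZariskiLocalAtTarget.iff_of_openCover (P := P) (Scheme.IsLocallyDirected.openCover (F G))]
  intro (W : Idx G)
  have hsq := (isPullback_chart G W).flip
  have e : hsq.isoPullback.hom ≫ pullback.snd (p G) (colimit.ι (F G) W) = q W.2.2 :=
    hsq.isoPullback_hom_snd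
  have e' : pullback.snd (p G) (colimit.ι (F G) W) = hsq.isoPullback.inv ≫ q W.2.2 :=
    (Iso.eq_inv_comp _).mpr e
  show P (pullback.snd (p G) (colimit.ι (F G) W))
  rw [e']
  exact (P.cancel_left_of_respectsIso hsq.isoPullback.inv _).mpr (hP W)

theorem p_isIntegralHom : IsIntegralHom (p G) :=
  p_of_charts G @IsIntegralHom (fun W => q_isIntegralHom W.2.2 W.2.1)

end Groth.Agent.Lib.Helper11.GQ7c
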