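import Mathlib
import Groth.Prelude.Def_Grpd
import Groth.Agent.Lib.Helper11.GrpdLib
import Groth.Agent.Lib.Helper11.GQ7c

/-!
# The quotient by a finite locally free groupoid: universal property of the glued quotient
(helper11)
-/

set_option autoImplicit false
universe u

open CategoryTheory CategoryTheory.Limits AlgebraicGeometry TopologicalSpace
open Groth.Agent.Lib.Helper11.GrpdLib Groth.Agent.Lib.Helper11.GQ2 Groth.Agent.Lib.Helper11.GQ3
  Groth.Agent.Lib.Helper11.GQ4 Groth.Agent.Lib.Helper11.GQ5 Groth.Agent.Lib.Helper11.GQ6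
  Groth.Agent.Lib.Helper11.GQ7a Groth.Agent.Lib.Helper11.GQ7b Groth.Agent.Lib.Helper11.GQ7c
  Groth.Agent.Lib.Helper11.GPack Groth.Agent.Lib.Helper11.GPackB

namespace Groth.Agent.Lib.Helper11.GQ7d

variable {S : Scheme.{u}} {G : Grpd.GroupoidScheme S} [IsFinite G.s] [Flat G.s]
  [LocallyOfFinitePresentation G.s]

section chart

variable {W : G.U.Opens} (hW : IsInv G W) (hWa : IsAffineOpen W)

/-- `(res hW).toQuot` with clean source -/
noncomputable def tq : W.toScheme ⟶ Spec (CommRingCat.of (res hW).invariants) := (res hW).toQuot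

/-- `Spec κ` with clean target -/
noncomputable def kS : Spec (CommRingCat.of (res hW).invariants) ⟶ Q hW :=
  Spec.map (CommRingCat.ofHom (κ hW))

instance : IsIso (kS hW) := isIso_Spec_κ hW

omit [IsFinite G.s] [Flat G.s] [LocallyOfFinitePresentation G.s] in
theorem q_eq' : q hW = tq hW ≫ kS hW := q_eq hW

include hWa in
theorem q_desc {Z : Scheme.{u}} (f : W.toScheme ⟶ Z) (hf : tW hW ≫ f = sW W ≫ f) :
    ∃ g : Q hW ⟶ Z, q hW ≫ g = f := by
  obtain ⟨h1, h2, h3, h4, h5⟩ := res_inst hW hWa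
  obtain ⟨hc⟩ := (affine_quot (res hW)).1
  let c : Cofork (res hW).t (res hW).s := Cofork.ofπ f hf
  obtain ⟨g', hg'⟩ : ∃ g' : Spec (CommRingCat.of (res hW).invariants) ⟶ Z, tq hW ≫ g' = f :=
    ⟨hc.desc c, Cofork.IsColimit.π_desc hc⟩
  refine ⟨inv (kS hW) ≫ g', ?_⟩
  rw [q_eq', Category.assoc, IsIso.hom_inv_id_assoc, hg']

include hWa in
theorem q_epi : Epi (q hW) := by
  obtain ⟨h1, h2, h3, h4, h5⟩ := res_inst hW hWa
  obtain ⟨hc⟩ := (affine_quot (res hW)).1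
  haveI : Epi (tq hW) := by
    constructor
    intro Z a b hab
    exact Cofork.IsColimit.hom_ext hc hab
  rw [q_eq']
  infer_instance

end chart

variable (G) [HasAffOrbits G]

theorem ι_p_assoc (W : Idx G) {Z : Scheme.{u}} (h : Y G ⟶ Z) :
    W.1.ι ≫ p G ≫ h = q W.2.2 ≫ ιW G W ≫ h := by
  rw [← Category.assoc, ι_p, Category.assoc]

theorem isColimit_p : Nonempty (IsColimit (Cofork.ofπ (p G) (t_p G))) := by
  have hepiq : ∀ W : Idx G, Epi (q W.2.2) := fun W => q_epi W.2.2 W.2.1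
  have hepi : ∀ {Z : Scheme.{u}} (a b : Y G ⟶ Z), p G ≫ a = p G ≫ b → a = b := by
    intro Z a b hab
    apply colimit.hom_ext
    intro W
    haveI := hepiq W
    have e : q W.2.2 ≫ ιW G W ≫ a = q W.2.2 ≫ ιW G W ≫ b := by
      rw [← ι_p_assoc, ← ι_p_assoc, hab]
    exact (cancel_epi (q W.2.2)).mp e
  have key : ∀ {Z : Scheme.{u}} (f : G.U ⟶ Z), G.t ≫ f = G.s ≫ f →
      ∃ g : Y G ⟶ Z, p G ≫ g = f := by
    intro Z f hf
    have hfW : ∀ W : Idx G, tW W.2.2 ≫ W.1.ι ≫ f = sW W.1 ≫ W.1.ι ≫ f := by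
      intro W
      have e1 : tW W.2.2 ≫ W.1.ι = (G.s ⁻¹ᵁ W.1).ι ≫ G.t := Scheme.Hom.resLE_comp_ι _ _
      have e2 : sW W.1 ≫ W.1.ι = (G.s ⁻¹ᵁ W.1).ι ≫ G.s := Scheme.Hom.resLE_comp_ι _ _
      rw [← Category.assoc, ← Category.assoc, e1, e2, Category.assoc, Category.assoc, hf]
    choose gW hgW using fun W : Idx G => q_desc W.2.2 W.2.1 (W.1.ι ≫ f) (hfW W)
    have nat : ∀ {W W' : Idx G} (h : W ⟶ W'), (F G).map h ≫ gW W' = gW W := by
      intro W W' h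
      haveI := hepiq W
      show φ W.2.2 W'.2.2 (leOfHom h) ≫ gW W' = gW W
      rw [← cancel_epi (q W.2.2), ← Category.assoc, q_φ, Category.assoc, hgW W', hgW W,
        Scheme.homOfLE_ι_assoc]
    let c : Cocone (F G) :=
      { pt := Z
        ι := { app := gW
               naturality := fun W W' h => (nat h).trans (Category.comp_id _).symm } }
    refine ⟨colimit.desc (F G) c, ?_⟩
    refine (cov G).hom_ext _ _ (fun (W : Idx G) => ?_)
    show W.1.ι ≫ p G ≫ colimit.desc (F G) c = W.1.ι ≫ f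
    have e3 : ιW G W ≫ colimit.desc (F G) c = gW W := colimit.ι_desc c W
    rw [ι_p_assoc, e3, hgW W]
  exact ⟨Cofork.IsColimit.mk _ (fun s => (key s.π s.condition).choose)
    (fun s => (key s.π s.condition).choose_spec)
    (fun s m hm => hepi _ _ (hm.trans (key s.π s.condition).choose_spec.symm))⟩

theorem surjective_lift_p :
    Function.Surjective (pullback.lift G.t G.s (t_p G)).base := by
  intro z
  obtain ⟨K, _, _, ξ, pt, hpt⟩ := exists_geom_point z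
  obtain ⟨x₀, hx₀⟩ : ∃ x, x = ξ ≫ pullback.fst (p G) (p G) := ⟨_, rfl⟩
  obtain ⟨x₁, hx₁⟩ : ∃ x, x = ξ ≫ pullback.snd (p G) (p G) := ⟨_, rfl⟩
  have hx : x₀ ≫ p G = x₁ ≫ p G := by
    rw [hx₀, hx₁, Category.assoc, Category.assoc, pullback.condition]
  obtain ⟨W, hW0⟩ := exists_idx_mem G (x₀ pt)
  have hsub : ∀ pt' : Spec (CommRingCat.of K), pt' = pt := fun pt' => Subsingleton.elim _ _
  have hW1 : x₁ pt ∈ W.1 := by
    have h1 : p G (x₁ pt) = p G (x₀ pt) :=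
      (congrArg (fun f : Spec (CommRingCat.of K) ⟶ Y G => f pt) hx).symm
    rw [← p_mem_range_iff G W, h1, p_mem_range_iff G W]
    exact hW0
  have hr0 : Set.range x₀ ⊆ Set.range W.1.ι := by
    rintro _ ⟨pt', rfl⟩
    rw [hsub pt']
    exact ⟨⟨_, hW0⟩, rfl⟩
  have hr1 : Set.range x₁ ⊆ Set.range W.1.ι := by
    rintro _ ⟨pt', rfl⟩
    rw [hsub pt']
    exact ⟨⟨_, hW1⟩, rfl⟩
  obtain ⟨x₀', e0⟩ : ∃ x : Spec (CommRingCat.of K) ⟶ W.1.toScheme, x ≫ W.1.ι = x₀ :=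
    ⟨IsOpenImmersion.lift W.1.ι x₀ hr0, IsOpenImmersion.lift_fac _ _ _⟩
  obtain ⟨x₁', e1⟩ : ∃ x : Spec (CommRingCat.of K) ⟶ W.1.toScheme, x ≫ W.1.ι = x₁ :=
    ⟨IsOpenImmersion.lift W.1.ι x₁ hr1, IsOpenImmersion.lift_fac _ _ _⟩
  have hq : x₀' ≫ q W.2.2 = x₁' ≫ q W.2.2 := by
    rw [← cancel_mono (ιW G W), Category.assoc, Category.assoc, ← ι_p, ← Category.assoc,
      ← Category.assoc, e0, e1]
    exact hx
  obtain ⟨h1, h2, h3, h4, h5⟩ := res_inst W.2.2 W.2.1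
  have hq' : x₀' ≫ tq W.2.2 = x₁' ≫ tq W.2.2 := by
    have h := hq
    rw [q_eq', ← Category.assoc, ← Category.assoc] at h
    exact (cancel_mono (kS W.2.2)).mp h
  obtain ⟨r', hr1', hr2'⟩ : ∃ r' : Spec (CommRingCat.of K) ⟶ (G.s ⁻¹ᵁ W.1).toScheme,
      r' ≫ tW W.2.2 = x₀' ∧ r' ≫ sW W.1 = x₁' :=
    (kpoints_eq_iff (res W.2.2) K x₀' x₁').mp hq'
  have hrt : (r' ≫ (G.s ⁻¹ᵁ W.1).ι) ≫ G.t = x₀ := by
    have e : (G.s ⁻¹ᵁ W.1).ι ≫ G.t = tW W.2.2 ≫ W.1.ι := (Scheme.Hom.resLE_comp_ι _ _).symm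
    rw [Category.assoc, e, ← Category.assoc, hr1', e0]
  have hrs : (r' ≫ (G.s ⁻¹ᵁ W.1).ι) ≫ G.s = x₁ := by
    have e : (G.s ⁻¹ᵁ W.1).ι ≫ G.s = sW W.1 ≫ W.1.ι := (Scheme.Hom.resLE_comp_ι _ _).symm
    rw [Category.assoc, e, ← Category.assoc, hr2', e1]
  have hr : (r' ≫ (G.s ⁻¹ᵁ W.1).ι) ≫ pullback.lift G.t G.s (t_p G) = ξ := by
    apply pullback.hom_ext
    · rw [Category.assoc, pullback.lift_fst, hrt, hx₀]
    · rw [Category.assoc, pullback.lift_snd, hrs, hx₁]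
  have h2 : ((r' ≫ (G.s ⁻¹ᵁ W.1).ι) ≫ pullback.lift G.t G.s (t_p G)).base pt = z := by
    rw [hr]; exact hpt
  exact ⟨(r' ≫ (G.s ⁻¹ᵁ W.1).ι).base pt, h2⟩

end Groth.Agent.Lib.Helper11.GQ7d
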