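import Mathlib
import Groth.Prelude.Def_Grpd
import Groth.Agent.Lib.Helper11.GrpdLib
import Groth.Agent.Lib.Helper11.GPackC
import Groth.Agent.Lib.Helper11.GQ7d

/-!
# The quotient by a finite locally free equivalence relation: `R ≅ U ×_Y U` and `p` is finite
locally free (helper11)
-/

set_option autoImplicit false
universe u

open CategoryTheory CategoryTheory.Limits AlgebraicGeometry TopologicalSpace
open Groth.Agent.Lib.Helper11.GrpdLib Groth.Agent.Lib.Helper11.GQ2 Groth.Agent.Lib.Helper11.GQ3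
  Groth.Agent.Lib.Helper11.GQ4 Groth.Agent.Lib.Helper11.GQ5 Groth.Agent.Lib.Helper11.GQ6
  Groth.Agent.Lib.Helper11.GQ7a Groth.Agent.Lib.Helper11.GQ7b Groth.Agent.Lib.Helper11.GQ7c
  Groth.Agent.Lib.Helper11.GQ7d
  Groth.Agent.Lib.Helper11.GPack Groth.Agent.Lib.Helper11.GPackB Groth.Agent.Lib.Helper11.GPackC

namespace Groth.Agent.Lib.Helper11.GQ7e

variable {S : Scheme.{u}} (G : Grpd.GroupoidScheme S)

theorem eq_of_mono_j [Mono G.j] {T : Scheme.{u}} (a b : T ⟶ G.R) (ht : a ≫ G.t = b ≫ G.t)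
    (hs : a ≫ G.s = b ≫ G.s) : a = b := by
  rw [← cancel_mono G.j]
  apply pullback.hom_ext
  · simp only [Category.assoc, Grpd.GroupoidScheme.j, pullback.lift_fst]; exact ht
  · simp only [Category.assoc, Grpd.GroupoidScheme.j, pullback.lift_snd]; exact hs

theorem mono_j_of_forall
    (H : ∀ {T : Scheme.{u}} (a b : T ⟶ G.R), a ≫ G.t = b ≫ G.t → a ≫ G.s = b ≫ G.s → a = b) :
    Mono G.j := by
  constructor
  intro T a b hab
  apply H
  · have h := congrArg (fun f => f ≫ pullback.fst G.pU G.pU) hab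
    simpa only [Category.assoc, Grpd.GroupoidScheme.j, pullback.lift_fst] using h
  · have h := congrArg (fun f => f ≫ pullback.snd G.pU G.pU) hab
    simpa only [Category.assoc, Grpd.GroupoidScheme.j, pullback.lift_snd] using h

variable {G}

section chart

variable {W : G.U.Opens} (hW : IsInv G W)

theorem mono_res_j [Mono G.j] : Mono (res hW).j := by
  have key : ∀ {T : Scheme.{u}} (a b : T ⟶ (G.s ⁻¹ᵁ W).toScheme),
      a ≫ tW hW = b ≫ tW hW → a ≫ sW W = b ≫ sW W → a = b := by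
    intro T a b ht hs
    have et : (G.s ⁻¹ᵁ W).ι ≫ G.t = tW hW ≫ W.ι := (Scheme.Hom.resLE_comp_ι _ _).symm
    have es : (G.s ⁻¹ᵁ W).ι ≫ G.s = sW W ≫ W.ι := (Scheme.Hom.resLE_comp_ι _ _).symm
    have ht' : (a ≫ (G.s ⁻¹ᵁ W).ι) ≫ G.t = (b ≫ (G.s ⁻¹ᵁ W).ι) ≫ G.t := by
      rw [Category.assoc, Category.assoc, et, ← Category.assoc, ← Category.assoc, ht]
    have hs' : (a ≫ (G.s ⁻¹ᵁ W).ι) ≫ G.s = (b ≫ (G.s ⁻¹ᵁ W).ι) ≫ G.s := by
      rw [Category.assoc, Category.assoc, es, ← Category.assoc, ← Category.assoc, hs]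
    have h := eq_of_mono_j G _ _ ht' hs'
    exact (cancel_mono (G.s ⁻¹ᵁ W).ι).mp h
  exact mono_j_of_forall (res hW) (fun a b ht hs => key a b ht hs)

variable [IsFinite G.s] [Flat G.s] [LocallyOfFinitePresentation G.s] [Mono G.j]
  (hWa : IsAffineOpen W)

include hWa in
theorem q_props : IsFinite (q hW) ∧ Flat (q hW) ∧ LocallyOfFinitePresentation (q hW) := by
  obtain ⟨h1, h2, h3, h4, h5⟩ := res_inst hW hWa
  haveI := mono_res_j hW
  obtain ⟨f1, f2, f3⟩ := toQuot_props (res hW)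
  have f1' : IsFinite (tq hW) := f1
  have f2' : Flat (tq hW) := f2
  have f3' : LocallyOfFinitePresentation (tq hW) := f3
  rw [q_eq']
  exact ⟨MorphismProperty.comp_mem @IsFinite _ _ f1' inferInstance,
    MorphismProperty.comp_mem @Flat _ _ f2' inferInstance,
    MorphismProperty.comp_mem @LocallyOfFinitePresentation _ _ f3' inferInstance⟩

include hWa in
theorem chart_lift {T : Scheme.{u}} (a' b' : T ⟶ W.toScheme) (h : a' ≫ q hW = b' ≫ q hW) :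
    ∃ r' : T ⟶ (G.s ⁻¹ᵁ W).toScheme, r' ≫ tW hW = a' ∧ r' ≫ sW W = b' := by
  obtain ⟨h1, h2, h3, h4, h5⟩ := res_inst hW hWa
  haveI := mono_res_j hW
  have hq' : a' ≫ tq hW = b' ≫ tq hW := by
    have h' := h
    rw [q_eq', ← Category.assoc, ← Category.assoc] at h'
    exact (cancel_mono (kS hW)).mp h'
  have hpb := isPullback_toQuot (res hW)
  exact ⟨hpb.lift a' b' hq', hpb.lift_fst _ _ _, hpb.lift_snd _ _ _⟩

end chart

variable (G) [IsFinite G.s] [Flat G.s] [LocallyOfFinitePresentation G.s] [HasAffOrbits G]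
  [Mono G.j]

theorem p_props : IsFinite (p G) ∧ Flat (p G) ∧ LocallyOfFinitePresentation (p G) :=
  ⟨p_of_charts G @IsFinite (fun W => (q_props W.2.2 W.2.1).1),
    p_of_charts G @Flat (fun W => (q_props W.2.2 W.2.1).2.1),
    p_of_charts G @LocallyOfFinitePresentation (fun W => (q_props W.2.2 W.2.1).2.2)⟩

theorem exists_lift_p {T : Scheme.{u}} (a b : T ⟶ G.U) (hab : a ≫ p G = b ≫ p G) :
    ∃ r : T ⟶ G.R, r ≫ G.t = a ∧ r ≫ G.s = b := by
  have hloc : ∀ W : Idx G, ∃ r : (a ⁻¹ᵁ W.1).toScheme ⟶ G.R,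
      r ≫ G.t = (a ⁻¹ᵁ W.1).ι ≫ a ∧ r ≫ G.s = (a ⁻¹ᵁ W.1).ι ≫ b := by
    intro W
    have hle : a ⁻¹ᵁ W.1 ≤ b ⁻¹ᵁ W.1 := by
      intro x hx
      show b x ∈ W.1
      have h1 : p G (b x) = p G (a x) := (congrArg (fun f : T ⟶ Y G => f x) hab).symm
      rw [← p_mem_range_iff G W, h1, p_mem_range_iff G W]
      exact hx
    obtain ⟨a', ea⟩ : ∃ a' : (a ⁻¹ᵁ W.1).toScheme ⟶ W.1.toScheme,
        a' ≫ W.1.ι = (a ⁻¹ᵁ W.1).ι ≫ a :=
      ⟨a.resLE W.1 (a ⁻¹ᵁ W.1) le_rfl, Scheme.Hom.resLE_comp_ι _ _⟩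
    obtain ⟨b', eb⟩ : ∃ b' : (a ⁻¹ᵁ W.1).toScheme ⟶ W.1.toScheme,
        b' ≫ W.1.ι = (a ⁻¹ᵁ W.1).ι ≫ b :=
      ⟨b.resLE W.1 (a ⁻¹ᵁ W.1) hle, Scheme.Hom.resLE_comp_ι _ _⟩
    have hq : a' ≫ q W.2.2 = b' ≫ q W.2.2 := by
      rw [← cancel_mono (ιW G W), Category.assoc, Category.assoc, ← ι_p, ← Category.assoc,
        ← Category.assoc, ea, eb, Category.assoc, Category.assoc, hab]
    obtain ⟨r', hr1, hr2⟩ := chart_lift W.2.2 W.2.1 a' b' hq
    have et : (G.s ⁻¹ᵁ W.1).ι ≫ G.t = tW W.2.2 ≫ W.1.ι := (Scheme.Hom.resLE_comp_ι _ _).symm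
    have es : (G.s ⁻¹ᵁ W.1).ι ≫ G.s = sW W.1 ≫ W.1.ι := (Scheme.Hom.resLE_comp_ι _ _).symm
    refine ⟨r' ≫ (G.s ⁻¹ᵁ W.1).ι, ?_, ?_⟩
    · rw [Category.assoc, et, ← Category.assoc, hr1, ea]
    · rw [Category.assoc, es, ← Category.assoc, hr2, eb]
  choose rW hrt hrs using hloc
  have hcov : ∀ x : T, ∃ W : Idx G, x ∈ a ⁻¹ᵁ W.1 := fun x => exists_idx_mem G (a x)
  let 𝒰 := T.openCoverOfIsOpenCover (fun W : Idx G => a ⁻¹ᵁ W.1) (isOpenCover_of_forall hcov)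
  have hglue : ∀ i j : Idx G, pullback.fst (a ⁻¹ᵁ i.1).ι (a ⁻¹ᵁ j.1).ι ≫ rW i =
      pullback.snd (a ⁻¹ᵁ i.1).ι (a ⁻¹ᵁ j.1).ι ≫ rW j := by
    intro i j
    apply eq_of_mono_j G
    · rw [Category.assoc, Category.assoc, hrt, hrt, ← Category.assoc, ← Category.assoc,
        pullback.condition]
    · rw [Category.assoc, Category.assoc, hrs, hrs, ← Category.assoc, ← Category.assoc,
        pullback.condition]
  have h3 : ∀ W : Idx G, (a ⁻¹ᵁ W.1).ι ≫ 𝒰.glueMorphisms rW hglue = rW W :=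
    fun W => 𝒰.ι_glueMorphisms rW hglue W
  refine ⟨𝒰.glueMorphisms rW hglue, ?_, ?_⟩
  · refine 𝒰.hom_ext _ _ (fun (W : Idx G) => ?_)
    show (a ⁻¹ᵁ W.1).ι ≫ 𝒰.glueMorphisms rW hglue ≫ G.t = (a ⁻¹ᵁ W.1).ι ≫ a
    rw [← Category.assoc, h3, hrt]
  · refine 𝒰.hom_ext _ _ (fun (W : Idx G) => ?_)
    show (a ⁻¹ᵁ W.1).ι ≫ 𝒰.glueMorphisms rW hglue ≫ G.s = (a ⁻¹ᵁ W.1).ι ≫ b
    rw [← Category.assoc, h3, hrs]

theorem isPullback_p : IsPullback G.t G.s (p G) (p G) := by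
  have hex := fun (c : PullbackCone (p G) (p G)) => exists_lift_p G c.fst c.snd c.condition
  exact IsPullback.of_isLimit (PullbackCone.IsLimit.mk (t_p G)
    (fun c => (hex c).choose) (fun c => (hex c).choose_spec.1) (fun c => (hex c).choose_spec.2)
    (fun c m hm1 hm2 => eq_of_mono_j G _ _ (hm1.trans (hex c).choose_spec.1.symm)
      (hm2.trans (hex c).choose_spec.2.symm)))

/-- the result for an arbitrary coequalizer -/
theorem main {Y' : Scheme.{u}} (p' : G.U ⟶ Y') (w : G.t ≫ p' = G.s ≫ p')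
    (hc : IsColimit (Cofork.ofπ p' w)) :
    IsPullback G.t G.s p' p' ∧ IsFinite p' ∧ Flat p' ∧ LocallyOfFinitePresentation p' := by
  obtain ⟨hc₀⟩ := isColimit_p G
  obtain ⟨f1, f2, f3⟩ := p_props G
  obtain ⟨e, he⟩ : ∃ e : Y G ≅ Y', p G ≫ e.hom = p' :=
    ⟨hc₀.coconePointUniqueUpToIso hc,
      IsColimit.comp_coconePointUniqueUpToIso_hom hc₀ hc WalkingParallelPair.one⟩
  refine ⟨?_, ?_, ?_, ?_⟩
  · refine (isPullback_p G).of_iso (Iso.refl _) (Iso.refl _) (Iso.refl _) e ?_ ?_ ?_ ?_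
    · simp
    · simp
    · simp [he]
    · simp [he]
  · rw [← he]; exact MorphismProperty.comp_mem @IsFinite _ _ f1 inferInstance
  · rw [← he]; exact MorphismProperty.comp_mem @Flat _ _ f2 inferInstance
  · rw [← he]; exact MorphismProperty.comp_mem @LocallyOfFinitePresentation _ _ f3 inferInstance

end Groth.Agent.Lib.Helper11.GQ7e
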