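import Mathlib
import Groth.Prelude.Def_Grpd
import Groth.Prelude.Def_QuotSh
import Groth.Prelude.Def_AlgSp
import Groth.Prelude.Def_Mor2
import Groth.Agent.Lib.Helper11.GPackD
import Groth.Agent.Lib.Helper11.GQ7e
import Groth.Agent.S7490

/-!
# Finite locally free equivalence relations: the quotient as an fppf quotient sheaf (helper11)
-/

set_option autoImplicit false
universe u

open CategoryTheory CategoryTheory.Limits AlgebraicGeometry TopologicalSpace
open Groth.Agent.Lib.Helper11.GQ2 Groth.Agent.Lib.Helper11.GQ6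
  Groth.Agent.Lib.Helper11.GQ7b Groth.Agent.Lib.Helper11.GQ7c
  Groth.Agent.Lib.Helper11.GQ7d Groth.Agent.Lib.Helper11.GQ7e Groth.Agent.Lib.Helper11.GPackD

namespace Groth.Agent.Lib.Helper11.GQ8

variable {S : Scheme.{u}} (G : Grpd.GroupoidScheme S)

/-- the weak form of the affine orbit condition implies the strong one -/
theorem orbits_affine [IsFinite G.s] [Flat G.s] [LocallyOfFinitePresentation G.s]
    (h3 : ∀ Z : Set ↥G.U, IsClosed Z → Z.Nonempty →
      ∃ u ∈ Z, ∃ W : G.U.Opens, IsAffineOpen W ∧ ∀ r : ↥G.R, G.s r = u → G.t r ∈ W) :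
    ∀ x : G.U, ∃ V : G.U.Opens, IsAffineOpen V ∧
      G.t.base '' (G.s.base ⁻¹' {x}) ⊆ (V : Set G.U) := by
  let good : Set G.U :=
    {u | ∃ W : G.U.Opens, IsAffineOpen W ∧ ∀ r : G.R, G.s r = u → G.t r ∈ W}
  have hopen : IsOpen good := by
    rw [isOpen_iff_forall_mem_open]
    rintro u ⟨V, hVa, hV⟩
    obtain ⟨W, hWa, huW, hWinv, -⟩ :=
      exists_invariant_affine_open_le G u V hVa hV ⊤ (fun _ _ => trivial)
    have hWinv' : IsInv G W := hWinv
    refine ⟨W, ?_, W.2, huW⟩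
    intro u' hu'
    refine ⟨W, hWa, fun r hr => (hWinv'.mem_iff r).mp ?_⟩
    rw [hr]
    exact hu'
  have hall : ∀ x : G.U, x ∈ good := by
    by_contra hne
    push_neg at hne
    obtain ⟨x, hx⟩ := hne
    obtain ⟨u, hu, W, hWa, hW⟩ := h3 goodᶜ hopen.isClosed_compl ⟨x, hx⟩
    exact hu ⟨W, hWa, hW⟩
  intro x
  obtain ⟨V, hVa, hV⟩ := hall x
  refine ⟨V, hVa, ?_⟩
  rintro _ ⟨r, hr, rfl⟩
  exact hV r hr

theorem mono_j_of_isEqvRel
    (heq : AlgSp.IsEqvRel (Over.homMk G.s G.s_over : Over.mk G.pR ⟶ Over.mk G.pU)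
      (Over.homMk G.t G.t_over : Over.mk G.pR ⟶ Over.mk G.pU)) : Mono G.j := by
  apply mono_j_of_forall G
  intro T a b hta hsa
  have hb : b ≫ G.pR = a ≫ G.pR := by
    rw [← G.t_over, ← Category.assoc, ← hta, Category.assoc]
  have h := heq.injective (Over.mk (a ≫ G.pR))
    (Over.homMk a rfl : Over.mk (a ≫ G.pR) ⟶ Over.mk G.pR)
    (Over.homMk b hb : Over.mk (a ≫ G.pR) ⟶ Over.mk G.pR)
    (Over.OverMorphism.ext hta) (Over.OverMorphism.ext hsa)
  exact congrArg (fun f => f.left) h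

/-- the quotient of a finite locally free equivalence relation as an fppf quotient sheaf -/
theorem main [IsFinite G.s] [Flat G.s] [LocallyOfFinitePresentation G.s] [HasAffOrbits G]
    [Mono G.j] :
    ∃ (M : Over S) (m : Over.mk G.pU ⟶ M), Mor2.IsFinLocFree m.left ∧
      IsPullback G.t G.s m.left m.left ∧
      QuotSh.IsQuotient Scheme.fppfPrecoverage
        (Over.homMk G.s G.s_over : Over.mk G.pR ⟶ Over.mk G.pU)
        (Over.homMk G.t G.t_over : Over.mk G.pR ⟶ Over.mk G.pU) m := by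
  obtain ⟨hc₀⟩ := isColimit_p G
  have hpU : G.t ≫ G.pU = G.s ≫ G.pU := G.t_over.trans G.s_over.symm
  obtain ⟨m₀, hm₀⟩ : ∃ m₀ : Y G ⟶ S, p G ≫ m₀ = G.pU :=
    ⟨hc₀.desc (Cofork.ofπ G.pU hpU), Cofork.IsColimit.π_desc hc₀⟩
  obtain ⟨f1, f2, f3⟩ := p_props G
  have hpb := isPullback_p G
  have w' : G.t ≫ p G = G.s ≫ p G := t_p G
  refine ⟨Over.mk m₀, Over.homMk (p G) hm₀, ⟨f1, f2, f3⟩, hpb, ?_⟩
  refine Groth.Agent.S7490.result Scheme.fppfPrecoverage
    (Over.homMk G.s G.s_over : Over.mk G.pR ⟶ Over.mk G.pU)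
    (Over.homMk G.t G.t_over : Over.mk G.pR ⟶ Over.mk G.pU)
    (Over.homMk (p G) hm₀ : Over.mk G.pU ⟶ Over.mk m₀)
    (Over.OverMorphism.ext w'.symm) w' ?_ ?_
  · haveI : Flat (Over.homMk (p G) hm₀ : Over.mk G.pU ⟶ Over.mk m₀).left := f2
    haveI : LocallyOfFinitePresentation
        (Over.homMk (p G) hm₀ : Over.mk G.pU ⟶ Over.mk m₀).left := f3
    haveI : Surjective (Over.homMk (p G) hm₀ : Over.mk G.pU ⟶ Over.mk m₀).left :=
      ⟨p_surjective G⟩
    exact epi_repMap_of_fppf _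
  · have hiso : IsIso (pullback.lift G.t G.s w') := by
      have h3 : pullback.lift G.t G.s w' = hpb.isoPullback.hom := by
        apply pullback.hom_ext
        · rw [pullback.lift_fst, hpb.isoPullback_hom_fst]
        · rw [pullback.lift_snd, hpb.isoPullback_hom_snd]
      rw [h3]
      infer_instance
    exact @epi_repMap_of_isIso _ _ _ _ _ hiso

end Groth.Agent.Lib.Helper11.GQ8
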