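import Mathlib

/-!
# AA1: flat base change of global sections over a field, anti-affine schemes
-/

set_option autoImplicit false
universe u
open CategoryTheory Limits AlgebraicGeometry

namespace Groth.Agent.Lib.Helper11.AA1

/-- If `X → S` is qcqs with `Γ(S) → Γ(X)` an isomorphism, `S` and `T` affine and `T → S` flat, then
`Γ(T) → Γ(X ×ₛ T)` is an isomorphism. -/
theorem isIso_snd_appTop {S X T : Scheme.{u}} (iX : X ⟶ S) (f : T ⟶ S) [IsAffine S] [IsAffine T]
    [Flat f] [CompactSpace X] [QuasiSeparatedSpace X] [hi : IsIso iX.appTop] :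
    IsIso (pullback.snd iX f).appTop := by
  have H := IsPullback.of_hasPullback iX f
  have hUST : (⊤ : T.Opens) ≤ f ⁻¹ᵁ (⊤ : S.Opens) := le_of_eq (by simp)
  have hUSX : (⊤ : X.Opens) ≤ iX ⁻¹ᵁ (⊤ : S.Opens) := le_of_eq (by simp)
  have hUY : (⊤ : (pullback iX f).Opens) =
      (pullback.fst iX f) ⁻¹ᵁ (⊤ : X.Opens) ⊓ (pullback.snd iX f) ⁻¹ᵁ (⊤ : T.Opens) := by simp
  have h1 := isIso_pushoutSection_of_isQuasiSeparated_of_flat_right H hUST hUSX hUY
    (isAffineOpen_top S) (isAffineOpen_top T) isCompact_univ isQuasiSeparated_univ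
  have h2 : IsIso (iX.appLE ⊤ ⊤ hUSX) := by
    have : iX.appLE ⊤ ⊤ hUSX = iX.appTop := by simp [Scheme.Hom.appLE]
    rw [this]; exact hi
  have h3 : (pullback.snd iX f).appTop =
      pushout.inr (iX.appLE ⊤ ⊤ hUSX) (f.appLE ⊤ ⊤ hUST) ≫ pushoutSection H hUST hUSX hUY := by
    rw [pushout.inr_desc]; simp [Scheme.Hom.appLE]
  rw [h3]
  infer_instance

/-- From the bijectivity hypothesis used in the statements to `IsIso`. -/
theorem isIso_appTop_of_bijective {k : Type u} [Field k] {X : Scheme.{u}}
    (p : X ⟶ Spec (CommRingCat.of k))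
    (hX : Function.Bijective ((Scheme.ΓSpecIso (CommRingCat.of k)).inv ≫ p.appTop).hom) :
    IsIso p.appTop := by
  have h1 : IsIso ((Scheme.ΓSpecIso (CommRingCat.of k)).inv ≫ p.appTop) :=
    (ConcreteCategory.isIso_iff_bijective _).mpr hX
  exact IsIso.of_isIso_comp_left (Scheme.ΓSpecIso (CommRingCat.of k)).inv p.appTop

/-- Flat base change for an anti-affine scheme over a field. -/
theorem isIso_snd_appTop_field {k : Type u} [Field k] {X T : Scheme.{u}}
    (p : X ⟶ Spec (CommRingCat.of k)) (q : T ⟶ Spec (CommRingCat.of k)) [IsAffine T]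
    [QuasiCompact p] [QuasiSeparated p]
    (hX : Function.Bijective ((Scheme.ΓSpecIso (CommRingCat.of k)).inv ≫ p.appTop).hom) :
    IsIso (pullback.snd p q).appTop := by
  haveI := isIso_appTop_of_bijective p hX
  haveI : CompactSpace X := (quasiCompact_iff_compactSpace p).mp inferInstance
  haveI : QuasiSeparatedSpace X := (quasiSeparated_iff_quasiSeparatedSpace p).mp inferInstance
  exact isIso_snd_appTop p q

/-- A scheme whose ring of global sections is nontrivial with only trivial idempotents is
connected. -/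
theorem connectedSpace_of_gamma {X : Scheme.{u}} [Nontrivial Γ(X, ⊤)]
    (h : ∀ e : Γ(X, ⊤), IsIdempotentElem e → e = 0 ∨ e = 1) : ConnectedSpace X := by
  have hne : Nonempty X := by
    by_contra hE
    rw [not_nonempty_iff] at hE
    have h1 : (⊤ : X.Opens) = ⊥ := by
      ext x; exact (hE.false x).elim
    have h2 : Subsingleton Γ(X, ⊤) := by rw [h1]; infer_instance
    exact not_subsingleton _ h2
  have hpre : PreconnectedSpace X := by
    rw [preconnectedSpace_iff_clopen]
    intro s hs
    let U : X.Opens := ⟨s, hs.isOpen⟩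
    let V : X.Opens := ⟨sᶜ, hs.isClosed.isOpen_compl⟩
    let W : Bool → X.Opens := fun b => if b = true then U else V
    let sf : ∀ b, Γ(X, W b) := fun b => if b = true then 1 else 0
    let r : ∀ b, Γ(X, ⊤) →+* Γ(X, W b) := fun b => (X.presheaf.map (homOfLE le_top).op).hom
    have hUV : U ⊓ V = ⊥ := by
      ext x; simp [U, V]
    have hcompat : TopCat.Presheaf.IsCompatible X.sheaf.1 W sf := by
      intro b₁ b₂
      by_cases hb : b₁ = b₂
      · subst hb
        rfl
      · haveI : Subsingleton Γ(X, W b₁ ⊓ W b₂) := by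
          have : W b₁ ⊓ W b₂ = ⊥ := by
            cases b₁ <;> cases b₂ <;> simp_all [W, inf_comm]
          rw [this]; infer_instance
        show (_ : Γ(X, W b₁ ⊓ W b₂)) = _
        exact Subsingleton.elim _ _
    have hcover : (⊤ : X.Opens) ≤ iSup W := by
      intro x _
      rw [TopologicalSpace.Opens.mem_iSup]
      by_cases hx : x ∈ s
      · exact ⟨true, by simpa [W, U] using hx⟩
      · exact ⟨false, by simpa [W, V] using hx⟩
    have hglue : ∃ e : Γ(X, ⊤), ∀ b, r b e = sf b := by
      obtain ⟨e, he0, -⟩ := X.sheaf.existsUnique_gluing' W ⊤ (fun b => homOfLE le_top) hcover sf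
        hcompat
      exact ⟨e, he0⟩
    obtain ⟨e, he⟩ := hglue
    have hloc : ∀ a b : Γ(X, ⊤), (∀ i, r i a = r i b) → a = b := fun a b hab =>
      X.sheaf.eq_of_locally_eq' W ⊤ (fun b => homOfLE le_top) hcover a b hab
    have hidem : IsIdempotentElem e := by
      refine hloc _ _ (fun b => ?_)
      rw [map_mul, he b]
      cases b
      · exact mul_zero _
      · exact mul_one _
    rcases h e hidem with h0 | h1
    · left
      have h3 := he true
      rw [h0, map_zero (r true)] at h3
      have h4 : (0 : Γ(X, U)) = 1 := h3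
      have h5 : U = ⊥ := by
        rw [← X.basicOpen_of_isUnit (f := (1 : Γ(X, U))) isUnit_one, ← h4, Scheme.basicOpen_zero]
      have := congrArg (fun O : X.Opens => (O : Set X)) h5
      simpa [U] using this
    · right
      have h3 := he false
      rw [h1, map_one (r false)] at h3
      have h4 : (1 : Γ(X, V)) = 0 := h3
      have h5 : V = ⊥ := by
        rw [← X.basicOpen_of_isUnit (f := (1 : Γ(X, V))) isUnit_one, h4, Scheme.basicOpen_zero]
      have := congrArg (fun O : X.Opens => (O : Set X)) h5
      simpa [V, Set.compl_empty_iff] using this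
  exact { toPreconnectedSpace := hpre, toNonempty := hne }

/-- An anti-affine scheme over a field is connected. -/
theorem connectedSpace_of_bijective {k : Type u} [Field k] {X : Scheme.{u}}
    (p : X ⟶ Spec (CommRingCat.of k))
    (hX : Function.Bijective ((Scheme.ΓSpecIso (CommRingCat.of k)).inv ≫ p.appTop).hom) :
    ConnectedSpace X := by
  set φ := ((Scheme.ΓSpecIso (CommRingCat.of k)).inv ≫ p.appTop).hom with hφ
  haveI : Nontrivial Γ(X, ⊤) := by
    refine ⟨⟨φ 0, φ 1, fun h => ?_⟩⟩
    exact zero_ne_one (hX.1 h)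
  refine connectedSpace_of_gamma (fun e he => ?_)
  obtain ⟨a, rfl⟩ := hX.2 e
  have ha : a * a = a := by
    apply hX.1
    rw [map_mul]; exact he
  have : IsIdempotentElem a := ha
  rcases IsIdempotentElem.iff_eq_zero_or_one.mp this with h0 | h1
  · left; rw [h0, map_zero]
  · right; rw [h1, map_one]

end Groth.Agent.Lib.Helper11.AA1
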