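import Mathlib

/-!
# AA2: algebra for infinitesimal rigidity (Krull intersection + basis argument)
-/

set_option autoImplicit false
universe u v w
open TensorProduct

namespace Groth.Agent.Lib.Helper11.AA2

/-- In a Noetherian ring, one element `s ≡ 1 mod m` kills `⋂ mⁿ`. -/
theorem exists_kill (B : Type u) [CommRing B] [IsNoetherianRing B] (m : Ideal B) :
    ∃ s : B, s - 1 ∈ m ∧ ∀ b ∈ ⨅ n : ℕ, m ^ n, s * b = 0 := by
  set N : Ideal B := ⨅ n : ℕ, m ^ n with hN
  have hfg : (N : Submodule B B).FG := IsNoetherian.noetherian N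
  have hle : N ≤ m • N := by
    intro x hx
    have hx' : x ∈ (⨅ i : ℕ, m ^ i • ⊤ : Submodule B B) := by
      simpa [hN] using hx
    obtain ⟨r, hr⟩ := (Ideal.mem_iInf_smul_pow_eq_bot_iff m x).mp hx'
    rw [← hr]
    exact Submodule.smul_mem_smul r.2 hx
  obtain ⟨s, hs1, hs2⟩ :=
    Submodule.exists_sub_one_mem_and_smul_eq_zero_of_fg_of_le_smul m N hfg hle
  exact ⟨s, hs1, fun b hb => hs2 b hb⟩

section
variable (k : Type u) [Field k] (A : Type v) [CommRing A] [Algebra k A]
  (B : Type w) [CommRing B] [Algebra k B]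

/-- coordinate functional on `A ⊗ C`. -/
noncomputable def coordT {ι : Type*} (ℬ : Module.Basis ι k A) (i : ι) (C : Type*) [AddCommGroup C]
    [Module k C] : A ⊗[k] C →ₗ[k] C :=
  (TensorProduct.lid k C).toLinearMap ∘ₗ (ℬ.coord i).rTensor C

theorem coordT_tmul {ι : Type*} (ℬ : Module.Basis ι k A) (i : ι) (C : Type*) [AddCommGroup C]
    [Module k C] (a : A) (c : C) : coordT k A ℬ i C (a ⊗ₜ c) = ℬ.coord i a • c := by
  simp [coordT]

theorem eq_zero_of_coordT {ι : Type*} (ℬ : Module.Basis ι k A) (C : Type*) [AddCommGroup C]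
    [Module k C] (x : A ⊗[k] C) (h : ∀ i, coordT k A ℬ i C x = 0) : x = 0 := by
  classical
  apply (TensorProduct.equivFinsuppOfBasisLeft ℬ).injective
  rw [map_zero]
  ext i
  rw [TensorProduct.equivFinsuppOfBasisLeft_apply]
  exact h i

/-- The key algebraic lemma: an element of `A ⊗ B` vanishing modulo all `A ⊗ mⁿ` is killed by
`1 ⊗ s` if `s` kills `⋂ mⁿ`. -/
theorem kill (m : Ideal B) (s : B) (hs : ∀ b ∈ ⨅ n : ℕ, m ^ n, s * b = 0) (x : A ⊗[k] B)
    (hx : ∀ n : ℕ, (Algebra.TensorProduct.map (AlgHom.id k A) (Ideal.Quotient.mkₐ k (m ^ n))) x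
      = 0) :
    ((1 : A) ⊗ₜ[k] s) * x = 0 := by
  let ℬ := Module.Basis.ofVectorSpace k A
  apply eq_zero_of_coordT k A ℬ
  intro i
  -- (1)
  have h1 : ∀ y : A ⊗[k] B, coordT k A ℬ i B (((1 : A) ⊗ₜ[k] s) * y) = s * coordT k A ℬ i B y := by
    intro y
    induction y with
    | zero => simp
    | tmul a b =>
      rw [Algebra.TensorProduct.tmul_mul_tmul, coordT_tmul, coordT_tmul, one_mul]
      rw [mul_smul_comm]
    | add y z hy hz => rw [mul_add, map_add, map_add, hy, hz, mul_add]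
  -- (2)
  have h2 : ∀ (n : ℕ) (y : A ⊗[k] B), Ideal.Quotient.mk (m ^ n) (coordT k A ℬ i B y) =
      coordT k A ℬ i (B ⧸ m ^ n)
        ((Algebra.TensorProduct.map (AlgHom.id k A) (Ideal.Quotient.mkₐ k (m ^ n))) y) := by
    intro n y
    induction y with
    | zero => simp
    | tmul a b =>
      rw [Algebra.TensorProduct.map_tmul, coordT_tmul, coordT_tmul]
      simp only [AlgHom.coe_id, id_eq, Ideal.Quotient.mkₐ_eq_mk]
      rw [Algebra.smul_def, map_mul, Algebra.smul_def]
      rfl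
    | add y z hy hz => rw [map_add, map_add, map_add, map_add, hy, hz]
  rw [h1]
  apply hs
  rw [Ideal.mem_iInf]
  intro n
  rw [← Ideal.Quotient.eq_zero_iff_mem, h2, hx n, map_zero]

end

end Groth.Agent.Lib.Helper11.AA2
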