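import Mathlib
import Groth.Agent.Lib.Helper11.AA1
import Groth.Agent.Lib.Helper11.AA2

/-!
# AA3: infinitesimal rigidity for anti-affine schemes (scheme-theoretic part)
-/

set_option autoImplicit false
universe u
open CategoryTheory Limits AlgebraicGeometry TensorProduct

namespace Groth.Agent.Lib.Helper11.AA3

/-- equalizer of two morphisms to a separated `S`-scheme, as a closed immersion with its universal
property, in the category of schemes. -/
theorem exists_equalizer {S P Z : Scheme.{u}} (f g : P ⟶ Z) (r : Z ⟶ S) [IsSeparated r]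
    (hfg : f ≫ r = g ≫ r) :
    ∃ (E : Scheme.{u}) (ι : E ⟶ P), IsClosedImmersion ι ∧ ι ≫ f = ι ≫ g ∧
      ∀ {T : Scheme.{u}} (h : T ⟶ P), h ≫ f = h ≫ g → ∃ l : T ⟶ E, l ≫ ι = h := by
  let P' : Over S := Over.mk (f ≫ r)
  let Z' : Over S := Over.mk r
  let f' : P' ⟶ Z' := Over.homMk f rfl
  let g' : P' ⟶ Z' := Over.homMk g hfg.symm
  haveI : IsSeparated Z'.hom := ‹_›
  refine ⟨(equalizer f' g').left, (equalizer.ι f' g').left,
    isClosedImmersion_equalizer_ι_left f' g', ?_, ?_⟩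
  · exact congrArg (·.left) (equalizer.condition f' g')
  · intro T h hh
    let T' : Over S := Over.mk (h ≫ f ≫ r)
    let h' : T' ⟶ P' := Over.homMk h rfl
    have e : h' ≫ f' = h' ≫ g' := by
      ext
      exact hh
    refine ⟨(equalizer.lift h' e).left, ?_⟩
    rw [← Over.comp_left, equalizer.lift_ι]
    rfl

/-- factorisation criterion through a closed subscheme of an affine scheme -/
theorem factor_iff {R R' : CommRingCat.{u}} {E : Scheme.{u}} (ι : E ⟶ Spec R) (I : Ideal R)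
    (e : E ≅ Spec (.of <| R ⧸ I))
    (hι : ι = e.hom ≫ Spec.map (CommRingCat.ofHom (Ideal.Quotient.mk I))) (ψ : R ⟶ R') :
    (∃ l : Spec R' ⟶ E, l ≫ ι = Spec.map ψ) ↔ ∀ j ∈ I, ψ.hom j = 0 := by
  constructor
  · rintro ⟨l, hl⟩ j hj
    obtain ⟨χ, hχ⟩ : ∃ χ : CommRingCat.of (R ⧸ I) ⟶ R', Spec.map χ = l ≫ e.hom :=
      ⟨Spec.preimage (l ≫ e.hom), Spec.map_preimage _⟩
    have h1 : Spec.map (CommRingCat.ofHom (Ideal.Quotient.mk I) ≫ χ) = Spec.map ψ := by
      rw [Spec.map_comp, hχ, Category.assoc, ← hι, hl]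
    have h2 := Spec.map_injective h1
    rw [← h2]
    show χ.hom (Ideal.Quotient.mk I j) = 0
    rw [Ideal.Quotient.eq_zero_iff_mem.mpr hj, map_zero]
  · intro h
    let χ : R ⧸ I →+* R' := Ideal.Quotient.lift I ψ.hom h
    refine ⟨Spec.map (CommRingCat.ofHom χ) ≫ e.inv, ?_⟩
    rw [hι, Category.assoc, Iso.inv_hom_id_assoc, ← Spec.map_comp]
    congr 1

section affine
variable (k : Type u) [Field k] (A B : Type u) [CommRing A] [Algebra k A] [CommRing B]
  [Algebra k B]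

/-- The affine step: two morphisms from `Spec (A ⊗ B)` with closed equalizer that agree on all
`Spec (A ⊗ B/mⁿ)` agree on `Spec (A ⊗ B)[1/(1 ⊗ s)]` when `s` kills `⋂ mⁿ`. -/
theorem affine_step (m : Ideal B) (s : B) (hs : ∀ b ∈ ⨅ n : ℕ, m ^ n, s * b = 0)
    {Z E : Scheme.{u}} (f g : Spec (CommRingCat.of (A ⊗[k] B)) ⟶ Z)
    (ι : E ⟶ Spec (CommRingCat.of (A ⊗[k] B))) [IsClosedImmersion ι] (hι : ι ≫ f = ι ≫ g)
    (huniv : ∀ {T : Scheme.{u}} (h : T ⟶ Spec (CommRingCat.of (A ⊗[k] B))),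
      h ≫ f = h ≫ g → ∃ l : T ⟶ E, l ≫ ι = h)
    (hn : ∀ n : ℕ,
      Spec.map (CommRingCat.ofHom (Algebra.TensorProduct.map (AlgHom.id k A)
        (Ideal.Quotient.mkₐ k (m ^ n))).toRingHom) ≫ f =
      Spec.map (CommRingCat.ofHom (Algebra.TensorProduct.map (AlgHom.id k A)
        (Ideal.Quotient.mkₐ k (m ^ n))).toRingHom) ≫ g) :
    Spec.map (CommRingCat.ofHom (algebraMap (A ⊗[k] B)
        (Localization.Away ((1 : A) ⊗ₜ[k] s)))) ≫ f =
      Spec.map (CommRingCat.ofHom (algebraMap (A ⊗[k] B)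
        (Localization.Away ((1 : A) ⊗ₜ[k] s)))) ≫ g := by
  obtain ⟨I, e, he⟩ := IsClosedImmersion.Spec_iff.mp (inferInstance : IsClosedImmersion ι)
  have hI : ∀ j ∈ I, ((1 : A) ⊗ₜ[k] s) * j = 0 := by
    intro j hj
    apply AA2.kill k A B m s hs j
    intro n
    obtain ⟨l, hl⟩ := huniv _ (hn n)
    exact (factor_iff ι I e he _).mp ⟨l, hl⟩ j hj
  have hloc : ∀ j ∈ I, (CommRingCat.ofHom (algebraMap (A ⊗[k] B)
      (Localization.Away ((1 : A) ⊗ₜ[k] s)))).hom j = 0 := by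
    intro j hj
    show algebraMap (A ⊗[k] B) (Localization.Away ((1 : A) ⊗ₜ[k] s)) j = 0
    have hu : IsUnit (algebraMap (A ⊗[k] B) (Localization.Away ((1 : A) ⊗ₜ[k] s))
        ((1 : A) ⊗ₜ[k] s)) := IsLocalization.Away.algebraMap_isUnit _
    have h0 := congrArg (algebraMap (A ⊗[k] B) (Localization.Away ((1 : A) ⊗ₜ[k] s))) (hI j hj)
    rw [map_mul, map_zero] at h0
    exact (hu.mul_right_eq_zero).mp h0
  obtain ⟨l, hl⟩ := (factor_iff ι I e he _).mpr hloc
  rw [← hl, Category.assoc, Category.assoc, hι]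

end affine

/-- Morphisms from `X ×ₛ T` (`X` anti-affine over the field `k`, `T` affine) to an affine scheme
are determined by their restriction along a section `T → X ×ₛ T`. -/
theorem eq_of_section {k : Type u} [Field k] {X T Z' : Scheme.{u}}
    (p : X ⟶ Spec (CommRingCat.of k)) (τ : T ⟶ Spec (CommRingCat.of k)) [IsAffine T] [IsAffine Z']
    [QuasiCompact p] [QuasiSeparated p]
    (hX : Function.Bijective ((Scheme.ΓSpecIso (CommRingCat.of k)).inv ≫ p.appTop).hom)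
    (σ : T ⟶ pullback p τ) (hσ : σ ≫ pullback.snd p τ = 𝟙 T)
    (F G : pullback p τ ⟶ Z') (h : σ ≫ F = σ ≫ G) : F = G := by
  haveI := AA1.isIso_snd_appTop_field p τ hX
  have h1 : (pullback.snd p τ).appTop ≫ σ.appTop = 𝟙 _ := by
    rw [← Scheme.Hom.comp_appTop, hσ, Scheme.Hom.id_appTop]
  haveI : IsIso σ.appTop := by
    have : σ.appTop = inv (pullback.snd p τ).appTop := by
      rw [← cancel_epi (pullback.snd p τ).appTop, h1, IsIso.hom_inv_id]
    rw [this]; infer_instance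
  have h2 : F.appTop ≫ σ.appTop = G.appTop ≫ σ.appTop := by
    rw [← Scheme.Hom.comp_appTop, ← Scheme.Hom.comp_appTop, h]
  have h3 : F.appTop = G.appTop := (cancel_mono σ.appTop).mp h2
  exact ext_of_isAffine h3

section geom
variable {k : Type u} [Field k]

local notation "𝕊" => Spec (CommRingCat.of k)

/-- a morphism is constant on the fibre over a rational point if it is so on `X × y₀`. -/
theorem fibre_const {X Y Z : Scheme.{u}} (p : X ⟶ 𝕊) (q : Y ⟶ 𝕊) (y₀ : 𝕊 ⟶ Y)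
    (hy₀ : y₀ ≫ q = 𝟙 _) (z₀ : 𝕊 ⟶ Z) (f : pullback p q ⟶ Z)
    (hf : pullback.lift (𝟙 X) (p ≫ y₀) (by simp [hy₀]) ≫ f = p ≫ z₀)
    (w : ↥(pullback p q)) (hw : pullback.snd p q w = y₀ default) : f w = z₀ default := by
  obtain ⟨ξ, hξ1, -⟩ := Scheme.Pullback.exists_preimage_pullback (f := pullback.snd p q)
    (g := y₀) w default hw
  have h1 : pullback.snd (pullback.snd p q) y₀ =
      pullback.fst (pullback.snd p q) y₀ ≫ pullback.fst p q ≫ p := by
    have : pullback.fst (pullback.snd p q) y₀ ≫ pullback.fst p q ≫ p =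
        pullback.snd (pullback.snd p q) y₀ ≫ y₀ ≫ q := by
      rw [pullback.condition (f := p), ← Category.assoc, pullback.condition, Category.assoc]
    rw [this, hy₀, Category.comp_id]
  have key : pullback.fst (pullback.snd p q) y₀ =
      (pullback.fst (pullback.snd p q) y₀ ≫ pullback.fst p q) ≫
        pullback.lift (𝟙 X) (p ≫ y₀) (by simp [hy₀]) := by
    apply pullback.hom_ext
    · rw [Category.assoc, pullback.lift_fst, Category.comp_id]
    · rw [Category.assoc, pullback.lift_snd, pullback.condition]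
      simp only [Category.assoc]
      rw [h1]
      simp only [Category.assoc]
  have h2 : pullback.fst (pullback.snd p q) y₀ ≫ f =
      (pullback.fst (pullback.snd p q) y₀ ≫ pullback.fst p q ≫ p) ≫ z₀ := by
    conv_lhs => rw [key]
    rw [Category.assoc, hf]
    simp
  rw [← hξ1, ← Scheme.Hom.comp_apply, h2, Scheme.Hom.comp_apply]
  congr 1
  exact Subsingleton.elim _ _

/-- a chart at a rational point of a locally Noetherian scheme. -/
theorem exists_chart {Y : Scheme.{u}} [IsLocallyNoetherian Y] (q : Y ⟶ 𝕊) (y₀ : 𝕊 ⟶ Y)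
    (hy₀ : y₀ ≫ q = 𝟙 _) :
    ∃ (B : CommRingCat.{u}) (jY : Spec B ⟶ Y) (_ : IsOpenImmersion jY) (_ : IsNoetherianRing B)
      (φ₀ : B ⟶ CommRingCat.of k), Spec.map φ₀ ≫ jY = y₀ ∧ Function.Surjective φ₀.hom := by
  obtain ⟨V₀, hV₀, hy, -⟩ := exists_isAffineOpen_mem_and_subset (x := y₀ default)
    (U := (⊤ : Y.Opens)) trivial
  have hrange : Set.range y₀ ⊆ Set.range hV₀.fromSpec := by
    rintro _ ⟨t, rfl⟩
    rw [hV₀.range_fromSpec, Subsingleton.elim t default]
    exact hy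
  let l : 𝕊 ⟶ Spec Γ(Y, V₀) := IsOpenImmersion.lift hV₀.fromSpec y₀ hrange
  have hl : l ≫ hV₀.fromSpec = y₀ := IsOpenImmersion.lift_fac _ _ _
  let φ₀ : Γ(Y, V₀) ⟶ CommRingCat.of k := Spec.preimage l
  have hφ₀ : Spec.map φ₀ = l := Spec.map_preimage _
  let ψ : CommRingCat.of k ⟶ Γ(Y, V₀) := Spec.preimage (hV₀.fromSpec ≫ q)
  have hψ : Spec.map ψ = hV₀.fromSpec ≫ q := Spec.map_preimage _
  have h1 : ψ ≫ φ₀ = 𝟙 _ := by
    apply Spec.map_injective
    rw [Spec.map_comp, hφ₀, hψ, ← Category.assoc, hl, hy₀, Spec.map_id]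
  refine ⟨Γ(Y, V₀), hV₀.fromSpec, inferInstance,
    IsLocallyNoetherian.component_noetherian ⟨V₀, hV₀⟩, φ₀, by rw [hφ₀, hl], ?_⟩
  intro a
  refine ⟨ψ.hom a, ?_⟩
  have := congrArg (fun h => h.hom a) h1
  simpa using this

/-- points of the `n`-th infinitesimal neighbourhood all map to the rational point. -/
theorem pt_const {Y : Scheme.{u}} (y₀ : 𝕊 ⟶ Y) (B : CommRingCat.{u}) (jY : Spec B ⟶ Y)
    (φ₀ : B ⟶ CommRingCat.of k) (h₀ : Spec.map φ₀ ≫ jY = y₀) (hsurj : Function.Surjective φ₀.hom)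
    (n : ℕ) (u : Spec (CommRingCat.of (B ⧸ (RingHom.ker φ₀.hom) ^ n))) :
    (Spec.map (CommRingCat.ofHom (Ideal.Quotient.mk ((RingHom.ker φ₀.hom) ^ n))) ≫ jY) u
      = y₀ default := by
  haveI hmax : (RingHom.ker φ₀.hom).IsMaximal := RingHom.ker_isMaximal_of_surjective _ hsurj
  rw [← h₀, Scheme.Hom.comp_apply, Scheme.Hom.comp_apply]
  congr 1
  apply PrimeSpectrum.ext
  rw [Spec.map_apply, Spec.map_apply]
  show Ideal.comap _ u.asIdeal = Ideal.comap _ (default : 𝕊).asIdeal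
  rw [Scheme.default_asIdeal]
  have hle : RingHom.ker φ₀.hom ≤ Ideal.comap
      (CommRingCat.ofHom (Ideal.Quotient.mk ((RingHom.ker φ₀.hom) ^ n))).hom u.asIdeal := by
    have hpow : (RingHom.ker φ₀.hom) ^ n ≤ Ideal.comap
        (CommRingCat.ofHom (Ideal.Quotient.mk ((RingHom.ker φ₀.hom) ^ n))).hom u.asIdeal := by
      intro b hb
      rw [Ideal.mem_comap]
      have : (CommRingCat.ofHom (Ideal.Quotient.mk ((RingHom.ker φ₀.hom) ^ n))).hom b = 0 :=
        Ideal.Quotient.eq_zero_iff_mem.mpr hb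
      rw [this]; exact Ideal.zero_mem _
    haveI : (Ideal.comap
      (CommRingCat.ofHom (Ideal.Quotient.mk ((RingHom.ker φ₀.hom) ^ n))).hom u.asIdeal).IsPrime :=
      Ideal.IsPrime.comap _
    exact Ideal.IsPrime.le_of_pow_le hpow
  have hne : Ideal.comap
      (CommRingCat.ofHom (Ideal.Quotient.mk ((RingHom.ker φ₀.hom) ^ n))).hom u.asIdeal ≠ ⊤ :=
    (Ideal.IsPrime.comap _).ne_top
  exact (hmax.eq_of_le hne hle).symm

theorem hom_ext_of_openImmersions {X Y : Scheme.{u}} (f g : X ⟶ Y)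
    (H : ∀ x : X, ∃ (W : Scheme.{u}) (j : W ⟶ X) (_ : IsOpenImmersion j),
      x ∈ Set.range j ∧ j ≫ f = j ≫ g) : f = g := by
  apply Scheme.hom_ext_of_forall
  intro x
  obtain ⟨W, j, hj, hx, e⟩ := H x
  refine ⟨j.opensRange, hx, ?_⟩
  rw [← Scheme.Hom.isoOpensRange_inv_comp j, Category.assoc, Category.assoc, e]

/-- The infinitesimal step: `f` and `g` agree on every point of `X × Y` whose second component
factors through an affine scheme concentrated at `y₀`. -/
theorem inf_step {X Y Z : Scheme.{u}} (p : X ⟶ 𝕊) (q : Y ⟶ 𝕊)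
    [QuasiCompact p] [QuasiSeparated p]
    (hX : Function.Bijective ((Scheme.ΓSpecIso (CommRingCat.of k)).inv ≫ p.appTop).hom)
    (x₀ : 𝕊 ⟶ X) (hx₀ : x₀ ≫ p = 𝟙 _) (y₀ : 𝕊 ⟶ Y) (hy₀ : y₀ ≫ q = 𝟙 _) (z₀ : 𝕊 ⟶ Z)
    (f g : pullback p q ⟶ Z)
    (hf : pullback.lift (𝟙 X) (p ≫ y₀) (by simp [hy₀]) ≫ f = p ≫ z₀)
    (hg : pullback.lift (𝟙 X) (p ≫ y₀) (by simp [hy₀]) ≫ g = p ≫ z₀)
    (hfg : pullback.lift (q ≫ x₀) (𝟙 Y) (by simp [hx₀]) ≫ f =
      pullback.lift (q ≫ x₀) (𝟙 Y) (by simp [hx₀]) ≫ g)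
    {T : Scheme.{u}} [IsAffine T] (c : T ⟶ Y) (hc : ∀ u : T, c u = y₀ default)
    {W : Scheme.{u}} (h : W ⟶ pullback p q) (b : W ⟶ T) (hb : h ≫ pullback.snd p q = b ≫ c) :
    h ≫ f = h ≫ g := by
  set τ : T ⟶ 𝕊 := c ≫ q with hτ
  let bm : pullback p τ ⟶ pullback p q :=
    pullback.lift (pullback.fst p τ) (pullback.snd p τ ≫ c)
      (by rw [pullback.condition, Category.assoc])
  have hbm1 : bm ≫ pullback.fst p q = pullback.fst p τ := pullback.lift_fst _ _ _
  have hbm2 : bm ≫ pullback.snd p q = pullback.snd p τ ≫ c := pullback.lift_snd _ _ _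
  have key : bm ≫ f = bm ≫ g := by
    have htop : ∀ (F : pullback p q ⟶ Z),
        pullback.lift (𝟙 X) (p ≫ y₀) (by simp [hy₀]) ≫ F = p ≫ z₀ →
        ∀ t, (bm ≫ F) t = z₀ default := by
      intro F hF t
      rw [Scheme.Hom.comp_apply]
      apply fibre_const p q y₀ hy₀ z₀ F hF
      rw [← Scheme.Hom.comp_apply, hbm2, Scheme.Hom.comp_apply]
      exact hc _
    obtain ⟨Z', hZ', hz, -⟩ := exists_isAffineOpen_mem_and_subset (x := z₀ default)
      (U := (⊤ : Z.Opens)) trivial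
    haveI : IsAffine Z' := hZ'
    have hr : ∀ (F : pullback p q ⟶ Z),
        pullback.lift (𝟙 X) (p ≫ y₀) (by simp [hy₀]) ≫ F = p ≫ z₀ →
        Set.range (bm ≫ F) ⊆ Set.range Z'.ι := by
      intro F hF
      rintro _ ⟨t, rfl⟩
      rw [htop F hF t, Scheme.Opens.range_ι]
      exact hz
    let F' := IsOpenImmersion.lift Z'.ι (bm ≫ f) (hr f hf)
    let G' := IsOpenImmersion.lift Z'.ι (bm ≫ g) (hr g hg)
    have hF' : F' ≫ Z'.ι = bm ≫ f := IsOpenImmersion.lift_fac _ _ _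
    have hG' : G' ≫ Z'.ι = bm ≫ g := IsOpenImmersion.lift_fac _ _ _
    let σ : T ⟶ pullback p τ := pullback.lift (τ ≫ x₀) (𝟙 T)
      (by rw [Category.assoc, hx₀, Category.comp_id, Category.id_comp])
    have hσ : σ ≫ pullback.snd p τ = 𝟙 T := pullback.lift_snd _ _ _
    let j₀ : Y ⟶ pullback p q := pullback.lift (q ≫ x₀) (𝟙 Y) (by simp [hx₀])
    have hj1 : j₀ ≫ pullback.fst p q = q ≫ x₀ := pullback.lift_fst _ _ _
    have hj2 : j₀ ≫ pullback.snd p q = 𝟙 Y := pullback.lift_snd _ _ _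
    have hfg' : j₀ ≫ f = j₀ ≫ g := hfg
    have hσ1 : σ ≫ pullback.fst p τ = τ ≫ x₀ := pullback.lift_fst _ _ _
    have hσb : σ ≫ bm = c ≫ j₀ := by
      apply pullback.hom_ext
      · calc (σ ≫ bm) ≫ pullback.fst p q = σ ≫ pullback.fst p τ := by rw [Category.assoc, hbm1]
          _ = c ≫ q ≫ x₀ := by rw [hσ1, hτ, Category.assoc]
          _ = (c ≫ j₀) ≫ pullback.fst p q := by rw [Category.assoc, hj1]
      · calc (σ ≫ bm) ≫ pullback.snd p q = (σ ≫ pullback.snd p τ) ≫ c := by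
              rw [Category.assoc, hbm2, Category.assoc]
          _ = c := by rw [hσ, Category.id_comp]
          _ = (c ≫ j₀) ≫ pullback.snd p q := by rw [Category.assoc, hj2, Category.comp_id]
    have hFG : σ ≫ F' = σ ≫ G' := by
      rw [← cancel_mono Z'.ι, Category.assoc, Category.assoc, hF', hG', ← Category.assoc,
        ← Category.assoc, hσb, Category.assoc, Category.assoc, hfg']
    have := eq_of_section p τ hX σ hσ F' G' hFG
    rw [← hF', ← hG', this]
  have hcompat : (h ≫ pullback.fst p q) ≫ p = b ≫ τ := by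
    rw [Category.assoc, pullback.condition, ← Category.assoc, hb, Category.assoc]
  have hh : h = pullback.lift (h ≫ pullback.fst p q) b hcompat ≫ bm := by
    apply pullback.hom_ext
    · rw [Category.assoc, hbm1, pullback.lift_fst]
    · rw [Category.assoc, hbm2, ← Category.assoc, pullback.lift_snd, hb]
  rw [hh, Category.assoc, Category.assoc, key]

/-- **Local rigidity**: if `f, g : X × Y → Z` are both constant (equal to `z₀`) on `X × y₀` and
agree on `x₀ × Y`, with `X` anti-affine, then they agree on `X × V` for an open neighbourhood `V`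
of `y₀`. -/
theorem local_rigidity {X Y Z : Scheme.{u}} (p : X ⟶ 𝕊) (q : Y ⟶ 𝕊) (r : Z ⟶ 𝕊)
    [QuasiCompact p] [QuasiSeparated p] [IsLocallyNoetherian Y] [IsSeparated r]
    (hX : Function.Bijective ((Scheme.ΓSpecIso (CommRingCat.of k)).inv ≫ p.appTop).hom)
    (x₀ : 𝕊 ⟶ X) (hx₀ : x₀ ≫ p = 𝟙 _) (y₀ : 𝕊 ⟶ Y) (hy₀ : y₀ ≫ q = 𝟙 _) (z₀ : 𝕊 ⟶ Z)
    (f g : pullback p q ⟶ Z) (hfr : f ≫ r = g ≫ r)
    (hf : pullback.lift (𝟙 X) (p ≫ y₀) (by simp [hy₀]) ≫ f = p ≫ z₀)
    (hg : pullback.lift (𝟙 X) (p ≫ y₀) (by simp [hy₀]) ≫ g = p ≫ z₀)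
    (hfg : pullback.lift (q ≫ x₀) (𝟙 Y) (by simp [hx₀]) ≫ f =
      pullback.lift (q ≫ x₀) (𝟙 Y) (by simp [hx₀]) ≫ g) :
    ∃ V : Y.Opens, y₀ default ∈ V ∧
      ((pullback.snd p q) ⁻¹ᵁ V).ι ≫ f = ((pullback.snd p q) ⁻¹ᵁ V).ι ≫ g := by
  obtain ⟨B, jY, hjY, hB, φ₀, h₀, hsurj⟩ := exists_chart q y₀ hy₀
  obtain ⟨s, hs1, hs2⟩ := AA2.exists_kill B (RingHom.ker φ₀.hom)
  let ψ : CommRingCat.of k ⟶ B := Spec.preimage (jY ≫ q)
  have hψ : Spec.map ψ = jY ≫ q := Spec.map_preimage _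
  letI : Algebra k B := ψ.hom.toAlgebra
  have hφs : φ₀.hom s = 1 := by
    have := hs1
    rw [RingHom.mem_ker, map_sub, map_one, sub_eq_zero] at this
    exact this
  refine ⟨jY ''ᵁ (PrimeSpectrum.basicOpen s), ?_, ?_⟩
  · rw [← h₀, Scheme.Hom.comp_apply]
    refine ⟨Spec.map φ₀ default, ?_, rfl⟩
    show s ∉ (Spec.map φ₀ default).asIdeal
    rw [Spec.map_apply]
    show ¬ (φ₀.hom s ∈ (default : 𝕊).asIdeal)
    rw [Scheme.default_asIdeal, Ideal.mem_bot, hφs]
    exact one_ne_zero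
  · set O := (pullback.snd p q) ⁻¹ᵁ (jY ''ᵁ (PrimeSpectrum.basicOpen s)) with hO
    apply hom_ext_of_openImmersions
    intro x
    set x' : ↥(pullback p q) := O.ι x with hx'
    have hx'O : pullback.snd p q x' ∈ jY ''ᵁ (PrimeSpectrum.basicOpen s) := x.2
    obtain ⟨U, hU, haU, -⟩ := exists_isAffineOpen_mem_and_subset (x := pullback.fst p q x')
      (U := (⊤ : X.Opens)) trivial
    let A : CommRingCat.{u} := Γ(X, U)
    let jX : Spec A ⟶ X := hU.fromSpec
    let α : CommRingCat.of k ⟶ A := Spec.preimage (jX ≫ p)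
    have hα : Spec.map α = jX ≫ p := Spec.map_preimage _
    letI : Algebra k A := α.hom.toAlgebra
    have e₁ : Spec.map (CommRingCat.ofHom (algebraMap k A)) ≫ 𝟙 𝕊 = jX ≫ p := by
      rw [Category.comp_id]; exact hα
    have e₂ : Spec.map (CommRingCat.ofHom (algebraMap k B)) ≫ 𝟙 𝕊 = jY ≫ q := by
      rw [Category.comp_id]; exact hψ
    obtain ⟨e, he1, he2, heo, her⟩ : ∃ e : Spec (CommRingCat.of (A ⊗[k] B)) ⟶ pullback p q,
        e ≫ pullback.fst p q =
          Spec.map (CommRingCat.ofHom Algebra.TensorProduct.includeLeftRingHom) ≫ jX ∧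
        e ≫ pullback.snd p q =
          Spec.map (CommRingCat.ofHom (R := B) (S := A ⊗[k] B)
            (RingHomClass.toRingHom Algebra.TensorProduct.includeRight)) ≫ jY ∧
        IsOpenImmersion e ∧
        Set.range e = pullback.fst p q ⁻¹' Set.range jX ∩ pullback.snd p q ⁻¹' Set.range jY := by
      let pm := pullback.map (Spec.map (CommRingCat.ofHom (algebraMap k A)))
        (Spec.map (CommRingCat.ofHom (algebraMap k B))) p q jX jY (𝟙 𝕊) e₁ e₂
      refine ⟨(pullbackSpecIso k A B).inv ≫ pm, ?_, ?_, inferInstance, ?_⟩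
      · simp only [pm, Category.assoc, pullback.lift_fst, pullbackSpecIso_inv_fst_assoc]
      · simp only [pm, Category.assoc, pullback.lift_snd, pullbackSpecIso_inv_snd_assoc]
      · rw [Scheme.Hom.comp_base, TopCat.coe_comp, Set.range_comp, Set.range_eq_univ.mpr,
          Set.image_univ]
        · exact Scheme.Pullback.range_map _ _ _ _ _ _ _ _ _
        · exact (pullbackSpecIso k A B).inv.homeomorph.surjective
    -- equalizer
    obtain ⟨E, ι, hιc, hι, huniv⟩ := exists_equalizer (e ≫ f) (e ≫ g) r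
      (by rw [Category.assoc, Category.assoc, hfr])
    have hn : ∀ n : ℕ,
        Spec.map (CommRingCat.ofHom (Algebra.TensorProduct.map (AlgHom.id k A)
          (Ideal.Quotient.mkₐ k ((RingHom.ker φ₀.hom) ^ n))).toRingHom) ≫ e ≫ f =
        Spec.map (CommRingCat.ofHom (Algebra.TensorProduct.map (AlgHom.id k A)
          (Ideal.Quotient.mkₐ k ((RingHom.ker φ₀.hom) ^ n))).toRingHom) ≫ e ≫ g := by
      intro n
      rw [← Category.assoc, ← Category.assoc]
      refine inf_step p q hX x₀ hx₀ y₀ hy₀ z₀ f g hf hg hfg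
        (T := Spec (CommRingCat.of (B ⧸ (RingHom.ker φ₀.hom) ^ n)))
        (Spec.map (CommRingCat.ofHom (Ideal.Quotient.mk ((RingHom.ker φ₀.hom) ^ n))) ≫ jY)
        (pt_const y₀ B jY φ₀ h₀ hsurj n) _
        (Spec.map (CommRingCat.ofHom (R := B ⧸ (RingHom.ker φ₀.hom) ^ n)
          (S := A ⊗[k] (B ⧸ (RingHom.ker φ₀.hom) ^ n))
          (RingHomClass.toRingHom Algebra.TensorProduct.includeRight))) ?_
      rw [Category.assoc, he2, ← Category.assoc, ← Category.assoc, ← Spec.map_comp,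
        ← Spec.map_comp]
      congr 2
    have hmain := affine_step k A B (RingHom.ker φ₀.hom) s hs2 (e ≫ f) (e ≫ g) ι hι huniv hn
    set lam := Spec.map (CommRingCat.ofHom (algebraMap (A ⊗[k] B)
      (Localization.Away ((1 : A) ⊗ₜ[k] s)))) with hlam
    have hlam_range : ∀ v : ↥(Spec (CommRingCat.of (A ⊗[k] B))),
        v ∈ Set.range lam ↔ ((1 : A) ⊗ₜ[k] s) ∉ v.asIdeal := by
      intro v
      have h1 := PrimeSpectrum.localization_away_comap_range
        (Localization.Away ((1 : A) ⊗ₜ[k] s)) ((1 : A) ⊗ₜ[k] s)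
      have h2 : v ∈ Set.range (PrimeSpectrum.comap (algebraMap (A ⊗[k] B)
          (Localization.Away ((1 : A) ⊗ₜ[k] s)))) ↔ ((1 : A) ⊗ₜ[k] s) ∉ v.asIdeal := by
        rw [h1]; exact Iff.rfl
      exact h2
    have hx'e : x' ∈ Set.range e := by
      rw [her]
      refine ⟨?_, ?_⟩
      · show pullback.fst p q x' ∈ Set.range jX
        rw [hU.range_fromSpec]; exact haU
      · obtain ⟨v, -, hv⟩ := hx'O
        exact ⟨v, hv⟩
    obtain ⟨x'', hx''⟩ := hx'e
    have hx''s : ((1 : A) ⊗ₜ[k] s) ∉ x''.asIdeal := by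
      obtain ⟨v, hv1, hv2⟩ := hx'O
      have h3 : pullback.snd p q x' = jY (Spec.map (CommRingCat.ofHom (R := B) (S := A ⊗[k] B)
          (RingHomClass.toRingHom Algebra.TensorProduct.includeRight)) x'') := by
        rw [← hx'', ← Scheme.Hom.comp_apply, he2, Scheme.Hom.comp_apply]
      have h4 : v = Spec.map (CommRingCat.ofHom (R := B) (S := A ⊗[k] B)
          (RingHomClass.toRingHom Algebra.TensorProduct.includeRight)) x'' :=
        jY.isOpenEmbedding.injective (hv2.trans h3)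
      rw [h4] at hv1
      exact hv1
    obtain ⟨x3, hx3⟩ : x'' ∈ Set.range lam := (hlam_range x'').mpr hx''s
    have hsub : Set.range (lam ≫ e) ⊆ Set.range O.ι := by
      rw [Scheme.Opens.range_ι]
      rintro _ ⟨v, rfl⟩
      show pullback.snd p q ((lam ≫ e) v) ∈ jY ''ᵁ (PrimeSpectrum.basicOpen s)
      rw [Scheme.Hom.comp_apply, ← Scheme.Hom.comp_apply e, he2, Scheme.Hom.comp_apply]
      refine ⟨_, ?_, rfl⟩
      have h5 : ((1 : A) ⊗ₜ[k] s) ∉ (lam v).asIdeal := (hlam_range (lam v)).mp ⟨v, rfl⟩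
      exact h5
    let j := IsOpenImmersion.lift O.ι (lam ≫ e) hsub
    have hj : j ≫ O.ι = lam ≫ e := IsOpenImmersion.lift_fac _ _ _
    haveI : IsOpenImmersion (j ≫ O.ι) := by rw [hj]; infer_instance
    haveI : IsOpenImmersion j := IsOpenImmersion.of_comp j O.ι
    refine ⟨_, j, inferInstance, ⟨x3, ?_⟩, ?_⟩
    · apply O.ι.isOpenEmbedding.injective
      rw [← Scheme.Hom.comp_apply, hj, Scheme.Hom.comp_apply, hx3, hx'']
    · rw [← Category.assoc, ← Category.assoc, hj, Category.assoc, Category.assoc]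
      exact hmain

end geom

end Groth.Agent.Lib.Helper11.AA3
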