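import Mathlib
import Groth.Agent.Lib.Helper11.AA3

/-!
# AA4: rigidity for anti-affine schemes in `Over (Spec k)` language
-/

set_option autoImplicit false
universe u
open CategoryTheory MonoidalCategory CartesianMonoidalCategory AlgebraicGeometry

namespace Groth.Agent.Lib.Helper11.AA4

section general
variable {S : Scheme.{u}}

/-- `f` and `g` agree on all points of `X × Y` whose second component lies in `V`. -/
def Good {X Y Z : Over S} (f g : X ⊗ Y ⟶ Z) (V : Y.left.Opens) : Prop :=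
  ∀ (T : Over S) (a : T ⟶ X) (b : T ⟶ Y), Set.range b.left ⊆ V → lift a b ≫ f = lift a b ≫ g

theorem good_iff {X Y Z : Over S} (f g : X ⊗ Y ⟶ Z) (V : Y.left.Opens) :
    Good f g V ↔ ((snd X Y).left ⁻¹ᵁ V).ι ≫ f.left = ((snd X Y).left ⁻¹ᵁ V).ι ≫ g.left := by
  constructor
  · intro h
    let O := (snd X Y).left ⁻¹ᵁ V
    let T : Over S := Over.mk (O.ι ≫ (X ⊗ Y).hom)
    let t : T ⟶ X ⊗ Y := Over.homMk O.ι rfl
    have hr : Set.range (t ≫ snd X Y).left ⊆ V := by
      rintro _ ⟨w, rfl⟩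
      exact w.2
    have h1 := h T (t ≫ fst X Y) (t ≫ snd X Y) hr
    have h2 : lift (t ≫ fst X Y) (t ≫ snd X Y) = t := by
      apply CartesianMonoidalCategory.hom_ext <;> simp
    rw [h2] at h1
    exact congrArg (·.left) h1
  · intro h T a b hb
    let O := (snd X Y).left ⁻¹ᵁ V
    have hr : Set.range (lift a b).left ⊆ Set.range O.ι := by
      rw [Scheme.Opens.range_ι]
      rintro _ ⟨w, rfl⟩
      show (snd X Y).left ((lift a b).left w) ∈ V
      rw [← Scheme.Hom.comp_apply, ← Over.comp_left, lift_snd]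
      exact hb ⟨w, rfl⟩
    let l := IsOpenImmersion.lift O.ι (lift a b).left hr
    have hl : l ≫ O.ι = (lift a b).left := IsOpenImmersion.lift_fac _ _ _
    ext
    rw [Over.comp_left, Over.comp_left, ← hl, Category.assoc, Category.assoc, h]

theorem Good.mono {X Y Z : Over S} {f g : X ⊗ Y ⟶ Z} {V V' : Y.left.Opens} (h : Good f g V)
    (hV : V' ≤ V) : Good f g V' :=
  fun T a b hb => h T a b (hb.trans hV)

/-- Two morphisms to a separated scheme that agree after a scheme-theoretically dominant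
morphism are equal. -/
theorem ext_of_schemeTheoreticallyDominant {T P Z : Scheme.{u}} (h : T ⟶ P)
    [IsSchemeTheoreticallyDominant h] (f g : P ⟶ Z) (r : Z ⟶ S) [IsSeparated r]
    (hfr : f ≫ r = g ≫ r) (e : h ≫ f = h ≫ g) : f = g := by
  obtain ⟨E, ι, hιc, hι, huniv⟩ := AA3.exists_equalizer f g r hfr
  obtain ⟨l, hl⟩ := huniv h e
  have h1 : ι.ker ≤ (l ≫ ι).ker := Scheme.Hom.le_ker_comp l ι
  rw [hl, h.ker_eq_bot, le_bot_iff] at h1
  haveI : IsIso ι := IsClosedImmersion.isIso_iff_ker_eq_bot.mpr h1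
  rw [← cancel_epi ι, hι]

/-- If `Y` is integral and locally Noetherian, `X` flat over `S`, and `f`, `g` agree on `X × V`
for a nonempty open `V`, then `f = g`. -/
theorem eq_of_good_of_integral {X Y Z : Over S} [Flat X.hom] [IsLocallyNoetherian Y.left]
    [IrreducibleSpace Y.left] [IsReduced Y.left] [IsSeparated Z.hom] (f g : X ⊗ Y ⟶ Z)
    (V : Y.left.Opens) (hV : (V : Set Y.left).Nonempty) (h : Good f g V) : f = g := by
  have h1 := (good_iff f g V).mp h
  haveI : IsDominant V.ι := by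
    constructor
    rw [DenseRange, Scheme.Opens.range_ι]
    exact V.isOpen.dense hV
  haveI : IsSchemeTheoreticallyDominant V.ι := IsSchemeTheoreticallyDominant.of_isDominant _
  haveI : Flat (snd X Y).left := by
    show Flat (Limits.pullback.snd X.hom Y.hom)
    infer_instance
  haveI : IsSchemeTheoreticallyDominant ((snd X Y).left ⁻¹ᵁ V).ι :=
    IsSchemeTheoreticallyDominant.of_isPullback (isPullback_morphismRestrict (snd X Y).left V)
  ext
  exact ext_of_schemeTheoreticallyDominant ((snd X Y).left ⁻¹ᵁ V).ι f.left g.left Z.hom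
    (by rw [Over.w, Over.w]) h1

end general

section field
variable {k : Type u} [Field k]

local notation "𝕊" => Spec (CommRingCat.of k)

/-- **Local rigidity**, in `Over (Spec k)`. -/
theorem local_rigidity_over (X Y Z : Over 𝕊) [QuasiCompact X.hom] [QuasiSeparated X.hom]
    [IsLocallyNoetherian Y.left] [IsSeparated Z.hom]
    (hX : Function.Bijective ((Scheme.ΓSpecIso (CommRingCat.of k)).inv ≫ X.hom.appTop).hom)
    (x₀ : 𝟙_ (Over 𝕊) ⟶ X) (y₀ : 𝟙_ (Over 𝕊) ⟶ Y) (z₀ : 𝟙_ (Over 𝕊) ⟶ Z) (f g : X ⊗ Y ⟶ Z)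
    (hf : (X ◁ y₀) ≫ f = toUnit _ ≫ z₀) (hg : (X ◁ y₀) ≫ g = toUnit _ ≫ z₀)
    (hfg : (x₀ ▷ Y) ≫ f = (x₀ ▷ Y) ≫ g) :
    ∃ V : Y.left.Opens, y₀.left (default : ↥(Spec (CommRingCat.of k))) ∈ V ∧ Good f g V := by
  have hx₀ : x₀.left ≫ X.hom = 𝟙 _ := Over.w x₀
  have hy₀ : y₀.left ≫ Y.hom = 𝟙 _ := Over.w y₀
  have e1 : ∀ F : X ⊗ Y ⟶ Z, (X ◁ y₀) ≫ F = toUnit _ ≫ z₀ →
      Limits.pullback.lift (𝟙 X.left) (X.hom ≫ y₀.left) (by simp [hy₀]) ≫ F.left =
        X.hom ≫ z₀.left := by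
    intro F hF
    have h1 : lift (𝟙 X) (toUnit X ≫ y₀) ≫ F = toUnit X ≫ z₀ := by
      have : lift (𝟙 X) (toUnit X ≫ y₀) = lift (𝟙 X) (toUnit X) ≫ (X ◁ y₀) := by
        rw [lift_whiskerLeft]
      rw [this, Category.assoc, hF, ← Category.assoc]
      congr 1
      exact toUnit_unique _ _
    exact congrArg (·.left) h1
  have e2 : Limits.pullback.lift (Y.hom ≫ x₀.left) (𝟙 Y.left) (by simp [hx₀]) ≫ f.left =
      Limits.pullback.lift (Y.hom ≫ x₀.left) (𝟙 Y.left) (by simp [hx₀]) ≫ g.left := by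
    have h1 : lift (toUnit Y ≫ x₀) (𝟙 Y) ≫ f = lift (toUnit Y ≫ x₀) (𝟙 Y) ≫ g := by
      have : lift (toUnit Y ≫ x₀) (𝟙 Y) = lift (toUnit Y) (𝟙 Y) ≫ (x₀ ▷ Y) := by
        rw [lift_whiskerRight]
      rw [this, Category.assoc, Category.assoc, hfg]
    exact congrArg (·.left) h1
  obtain ⟨V, hV1, hV2⟩ := AA3.local_rigidity X.hom Y.hom Z.hom hX x₀.left hx₀ y₀.left hy₀ z₀.left
    f.left g.left (by rw [Over.w, Over.w]) (e1 f hf) (e1 g hg) e2
  exact ⟨V, hV1, (good_iff f g V).mpr hV2⟩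

end field

end Groth.Agent.Lib.Helper11.AA4
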