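import Mathlib

/-!
# Group schemes over a field: abstract and topological preliminaries (helper11)

* abstract translation isomorphisms of a group object in a cartesian monoidal category
* irreducible components under homeomorphisms and generalizing maps
-/

set_option autoImplicit false
universe u

open CategoryTheory CategoryTheory.Limits MonoidalCategory CartesianMonoidalCategory MonObj GrpObj
  AlgebraicGeometry

namespace Groth.Agent.Lib.Helper11.GrpA

section Abstract

variable {C : Type*} [Category C] [CartesianMonoidalCategory C] {G : C} [GrpObj G]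

/-- right translation by a global point `c` -/
noncomputable def transIso (c : 𝟙_ C ⟶ G) : G ≅ G where
  hom := 𝟙 G * (toUnit G ≫ c)
  inv := 𝟙 G * (toUnit G ≫ c⁻¹)
  hom_inv_id := by
    rw [MonObj.comp_mul, Category.comp_id, comp_toUnit_assoc, _root_.mul_assoc, ← MonObj.comp_mul,
      mul_inv_cancel, MonObj.comp_one, _root_.mul_one]
  inv_hom_id := by
    rw [MonObj.comp_mul, Category.comp_id, comp_toUnit_assoc, _root_.mul_assoc, ← MonObj.comp_mul,
      inv_mul_cancel, MonObj.comp_one, _root_.mul_one]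

theorem unit_transIso (c : 𝟙_ C ⟶ G) : η[G] ≫ (transIso c).hom = c := by
  show η[G] ≫ (𝟙 G * (toUnit G ≫ c)) = c
  rw [MonObj.comp_mul, Category.comp_id, comp_toUnit_assoc, toUnit_unit, Category.id_comp,
    MonObj.one_eq_one, _root_.one_mul]

/-- the inverse as an isomorphism -/
noncomputable def invIso : G ≅ G where
  hom := ι[G]
  inv := ι[G]
  hom_inv_id := GrpObj.inv_comp_inv G
  inv_hom_id := GrpObj.inv_comp_inv G

variable (T : C) (c : T ⟶ G)

/-- `x ↦ x⁻¹ c` on `G ⊗ T` -/
noncomputable def sigmaIso : G ⊗ T ≅ G ⊗ T where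
  hom := lift ((fst G T)⁻¹ * (snd G T ≫ c)) (snd G T)
  inv := lift ((snd G T ≫ c) * (fst G T)⁻¹) (snd G T)
  hom_inv_id := by
    apply CartesianMonoidalCategory.hom_ext
    · rw [Category.assoc, lift_fst, Category.id_comp, MonObj.comp_mul, GrpObj.comp_inv,
        lift_snd_assoc, lift_fst, _root_.mul_inv_rev, _root_.inv_inv, mul_inv_cancel_left]
    · rw [Category.assoc, lift_snd, lift_snd, Category.id_comp]
  inv_hom_id := by
    apply CartesianMonoidalCategory.hom_ext
    · rw [Category.assoc, lift_fst, Category.id_comp, MonObj.comp_mul, GrpObj.comp_inv,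
        lift_snd_assoc, lift_fst, _root_.mul_inv_rev, _root_.inv_inv, inv_mul_cancel_right]
    · rw [Category.assoc, lift_snd, lift_snd, Category.id_comp]

theorem sigmaIso_hom_fst :
    (sigmaIso T c).hom ≫ fst G T = (fst G T)⁻¹ * (snd G T ≫ c) := lift_fst _ _

theorem sigmaIso_hom_snd : (sigmaIso T c).hom ≫ snd G T = snd G T := lift_snd _ _

/-- `x ↦ (x, x⁻¹ c)` -/
noncomputable def theta : G ⊗ T ⟶ G ⊗ G := lift (fst G T) ((fst G T)⁻¹ * (snd G T ≫ c))

theorem theta_fst : theta T c ≫ fst G G = fst G T := lift_fst _ _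

theorem theta_snd : theta T c ≫ snd G G = (sigmaIso T c).hom ≫ fst G T := by
  rw [theta, lift_snd, sigmaIso_hom_fst]

theorem theta_mul : theta T c ≫ μ[G] = snd G T ≫ c := by
  rw [theta, ← Hom.mul_def, mul_inv_cancel_left]

/-- `x ↦ x c` on `G ⊗ T` -/
noncomputable def rhoIso : G ⊗ T ≅ G ⊗ T where
  hom := lift (fst G T * (snd G T ≫ c)) (snd G T)
  inv := lift (fst G T * (snd G T ≫ c)⁻¹) (snd G T)
  hom_inv_id := by
    apply CartesianMonoidalCategory.hom_ext
    · rw [Category.assoc, lift_fst, Category.id_comp, MonObj.comp_mul, GrpObj.comp_inv,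
        lift_snd_assoc, lift_fst, mul_inv_cancel_right]
    · rw [Category.assoc, lift_snd, lift_snd, Category.id_comp]
  inv_hom_id := by
    apply CartesianMonoidalCategory.hom_ext
    · rw [Category.assoc, lift_fst, Category.id_comp, MonObj.comp_mul,
        lift_snd_assoc, lift_fst, inv_mul_cancel_right]
    · rw [Category.assoc, lift_snd, lift_snd, Category.id_comp]

theorem rhoIso_hom_fst :
    (rhoIso T c).hom ≫ fst G T = fst G T * (snd G T ≫ c) := lift_fst _ _

theorem rhoIso_hom_snd : (rhoIso T c).hom ≫ snd G T = snd G T := lift_snd _ _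

/-- `x ↦ (x⁻¹, x c)` -/
noncomputable def theta' : G ⊗ T ⟶ G ⊗ G := lift ((fst G T)⁻¹) (fst G T * (snd G T ≫ c))

theorem theta'_fst : theta' T c ≫ fst G G = fst G T ≫ ι[G] := by
  rw [theta', lift_fst, Hom.inv_def]

theorem theta'_snd : theta' T c ≫ snd G G = (rhoIso T c).hom ≫ fst G T := by
  rw [theta', lift_snd, rhoIso_hom_fst]

theorem theta'_mul : theta' T c ≫ μ[G] = snd G T ≫ c := by
  rw [theta', ← Hom.mul_def, inv_mul_cancel_left]

/-- the `T`-point `(a, id)` of `G ⊗ T` -/
noncomputable def tpt (a : T ⟶ G) : T ⟶ G ⊗ T := lift a (𝟙 T)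

theorem tpt_fst (a : T ⟶ G) : tpt T a ≫ fst G T = a := lift_fst _ _

theorem tpt_snd (a : T ⟶ G) : tpt T a ≫ snd G T = 𝟙 T := lift_snd _ _

theorem tpt_rho (a : T ⟶ G) : tpt T a ≫ (rhoIso T c).hom = tpt T (a * c) := by
  apply CartesianMonoidalCategory.hom_ext
  · rw [Category.assoc, rhoIso_hom_fst, MonObj.comp_mul, tpt_fst, ← Category.assoc, tpt_snd,
      Category.id_comp, tpt_fst]
  · rw [Category.assoc, rhoIso_hom_snd, tpt_snd, tpt_snd]

theorem tpt_sigma (a : T ⟶ G) : tpt T a ≫ (sigmaIso T c).hom = tpt T (a⁻¹ * c) := by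
  apply CartesianMonoidalCategory.hom_ext
  · rw [Category.assoc, sigmaIso_hom_fst, MonObj.comp_mul, GrpObj.comp_inv, tpt_fst,
      ← Category.assoc, tpt_snd, Category.id_comp, tpt_fst]
  · rw [Category.assoc, sigmaIso_hom_snd, tpt_snd, tpt_snd]

/-- `x ↦ (x, 1)` -/
noncomputable def unitR : G ⟶ G ⊗ G := lift (𝟙 G) (toUnit G ≫ η[G])

/-- `x ↦ (1, x)` -/
noncomputable def unitL : G ⟶ G ⊗ G := lift (toUnit G ≫ η[G]) (𝟙 G)

theorem unitR_fst : (unitR : G ⟶ G ⊗ G) ≫ fst G G = 𝟙 G := lift_fst _ _
theorem unitR_snd : (unitR : G ⟶ G ⊗ G) ≫ snd G G = toUnit G ≫ η[G] := lift_snd _ _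
theorem unitR_mul : (unitR : G ⟶ G ⊗ G) ≫ μ[G] = 𝟙 G := by
  rw [unitR, ← Hom.mul_def, ← Hom.one_def, _root_.mul_one]
theorem unitL_fst : (unitL : G ⟶ G ⊗ G) ≫ fst G G = toUnit G ≫ η[G] := lift_fst _ _
theorem unitL_snd : (unitL : G ⟶ G ⊗ G) ≫ snd G G = 𝟙 G := lift_snd _ _
theorem unitL_mul : (unitL : G ⟶ G ⊗ G) ≫ μ[G] = 𝟙 G := by
  rw [unitL, ← Hom.mul_def, ← Hom.one_def, _root_.one_mul]

/-- shear `(x, y) ↦ (x, x y)` on `G ⊗ G` -/
noncomputable def shearIso : G ⊗ G ≅ G ⊗ G where
  hom := lift (fst G G) (fst G G * snd G G)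
  inv := lift (fst G G) ((fst G G)⁻¹ * snd G G)
  hom_inv_id := by
    apply CartesianMonoidalCategory.hom_ext
    · rw [Category.assoc, lift_fst, lift_fst, Category.id_comp]
    · rw [Category.assoc, lift_snd, Category.id_comp, MonObj.comp_mul, GrpObj.comp_inv,
        lift_fst, lift_snd, inv_mul_cancel_left]
  inv_hom_id := by
    apply CartesianMonoidalCategory.hom_ext
    · rw [Category.assoc, lift_fst, lift_fst, Category.id_comp]
    · rw [Category.assoc, lift_snd, Category.id_comp, MonObj.comp_mul,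
        lift_fst, lift_snd, mul_inv_cancel_left]

theorem shearIso_hom_fst : (shearIso : G ⊗ G ≅ G ⊗ G).hom ≫ fst G G = fst G G := lift_fst _ _

theorem shearIso_hom_snd : (shearIso : G ⊗ G ≅ G ⊗ G).hom ≫ snd G G = μ[G] := by
  rw [shearIso, lift_snd, Hom.mul_def, lift_fst_snd, Category.id_comp]

end Abstract

section Top

variable {X Y : Type*} [TopologicalSpace X] [TopologicalSpace Y]

theorem image_mem_irreducibleComponents_homeo (h : X ≃ₜ Y) {T : Set X}
    (hT : T ∈ irreducibleComponents X) : h '' T ∈ irreducibleComponents Y := by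
  refine ⟨hT.1.image h h.continuous.continuousOn, fun s hs hle => ?_⟩
  have h1 : T ⊆ h.symm '' s := by
    intro t ht
    exact ⟨h t, hle ⟨t, ht, rfl⟩, h.symm_apply_apply t⟩
  have h2 : h.symm '' s ⊆ T := hT.2 (hs.image h.symm h.symm.continuous.continuousOn) h1
  intro y hy
  exact ⟨h.symm y, h2 ⟨y, hy, rfl⟩, h.apply_symm_apply y⟩

/-- `x` lies in at most one irreducible component. -/
def UniqueComp (x : X) : Prop :=
  ∀ T₁ ∈ irreducibleComponents X, ∀ T₂ ∈ irreducibleComponents X, x ∈ T₁ → x ∈ T₂ → T₁ = T₂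

theorem uniqueComp_homeo (h : X ≃ₜ Y) {x : X} (hx : UniqueComp x) : UniqueComp (h x) := by
  intro T₁ hT₁ T₂ hT₂ h1 h2
  have e1 := image_mem_irreducibleComponents_homeo h.symm hT₁
  have e2 := image_mem_irreducibleComponents_homeo h.symm hT₂
  have := hx _ e1 _ e2 ⟨h x, h1, h.symm_apply_apply x⟩ ⟨h x, h2, h.symm_apply_apply x⟩
  exact h.symm.injective.image_injective this

theorem uniqueComp_of_generalizing [QuasiSober Y] {p : X → Y} (hc : Continuous p)
    (hg : GeneralizingMap p) {x : X} (hx : UniqueComp x) : UniqueComp (p x) := by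
  intro C₁ hC₁ C₂ hC₂ h1 h2
  obtain ⟨ξ₁, hξ₁⟩ := QuasiSober.sober hC₁.1 (isClosed_of_mem_irreducibleComponents _ hC₁)
  obtain ⟨ξ₂, hξ₂⟩ := QuasiSober.sober hC₂.1 (isClosed_of_mem_irreducibleComponents _ hC₂)
  obtain ⟨η₁, hη₁, hp₁⟩ := hg (hξ₁.specializes h1)
  obtain ⟨η₂, hη₂, hp₂⟩ := hg (hξ₂.specializes h2)
  have hD₁ : x ∈ irreducibleComponent η₁ :=
    hη₁.mem_closed isClosed_irreducibleComponent mem_irreducibleComponent
  have hD₂ : x ∈ irreducibleComponent η₂ :=
    hη₂.mem_closed isClosed_irreducibleComponent mem_irreducibleComponent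
  have hD : irreducibleComponent η₁ = irreducibleComponent η₂ :=
    hx _ (irreducibleComponent_mem_irreducibleComponents η₁) _
      (irreducibleComponent_mem_irreducibleComponents η₂) hD₁ hD₂
  have hE : IsIrreducible (closure (p '' irreducibleComponent η₁)) :=
    (isIrreducible_irreducibleComponent.image p hc.continuousOn).closure
  have hC₁E : C₁ ⊆ closure (p '' irreducibleComponent η₁) := by
    rw [← hξ₁.def, ← hp₁]
    exact closure_mono (Set.singleton_subset_iff.mpr ⟨η₁, mem_irreducibleComponent, rfl⟩)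
  have hC₂E : C₂ ⊆ closure (p '' irreducibleComponent η₁) := by
    rw [← hξ₂.def, ← hp₂, hD]
    exact closure_mono (Set.singleton_subset_iff.mpr ⟨η₂, mem_irreducibleComponent, rfl⟩)
  exact (Set.Subset.antisymm hC₁E (hC₁.2 hE hC₁E)).trans
    (Set.Subset.antisymm hC₂E (hC₂.2 hE hC₂E)).symm

/-- a maximal point: the closure is an irreducible component -/
def IsMaxPt (x : X) : Prop := closure {x} ∈ irreducibleComponents X

theorem isMaxPt_map_of_generalizing [QuasiSober Y] {p : X → Y} (hc : Continuous p)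
    (hg : GeneralizingMap p) {x : X} (hx : IsMaxPt x) : IsMaxPt (p x) := by
  obtain ⟨ξ, hξ⟩ := QuasiSober.sober (isIrreducible_irreducibleComponent (x := p x))
    isClosed_irreducibleComponent
  obtain ⟨w, hw, hpw⟩ := hg (hξ.specializes mem_irreducibleComponent)
  -- `w ⤳ x` and `x` maximal imply `x ⤳ w`
  have h1 : closure {x} ⊆ closure {w} := specializes_iff_closure_subset.mp hw
  have h2 : closure {w} ⊆ closure {x} := hx.2 isIrreducible_singleton.closure h1
  have h3 : x ⤳ w := specializes_iff_closure_subset.mpr h2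
  have h4 : p x ⤳ ξ := hpw ▸ h3.map hc
  have h5 : ξ ⤳ p x := hξ.specializes mem_irreducibleComponent
  have h6 : closure {p x} = closure {ξ} :=
    Set.Subset.antisymm (specializes_iff_closure_subset.mp h5) (specializes_iff_closure_subset.mp h4)
  show closure {p x} ∈ irreducibleComponents Y
  rw [h6, hξ.def]
  exact irreducibleComponent_mem_irreducibleComponents _

theorem isMaxPt_homeo (h : X ≃ₜ Y) {x : X} (hx : IsMaxPt x) : IsMaxPt (h x) := by
  have := image_mem_irreducibleComponents_homeo h hx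
  rw [← h.isClosedMap.closure_image_eq_of_continuous h.continuous, Set.image_singleton] at this
  exact this

end Top

section Sch

/-- a closed subscheme with prescribed closed support -/
theorem exists_closedSubscheme {Y : Scheme.{u}} (T : Set Y) (hT : IsClosed T) :
    ∃ (Z : Scheme.{u}) (i : Z ⟶ Y), IsClosedImmersion i ∧ Set.range i = T := by
  let I := Scheme.IdealSheafData.vanishingIdeal (⟨T, hT⟩ : TopologicalSpace.Closeds ↥Y)
  refine ⟨I.subscheme, I.subschemeι, inferInstance, ?_⟩
  rw [Scheme.IdealSheafData.range_subschemeι, Scheme.IdealSheafData.coe_support_vanishingIdeal]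
  rfl

theorem irreducibleSpace_of_range {Z Y : Scheme.{u}} (i : Z ⟶ Y) [IsClosedImmersion i]
    (h : IsIrreducible (Set.range i)) : IrreducibleSpace Z := by
  haveI : IrreducibleSpace ↥(Set.range i) := Subtype.irreducibleSpace h
  let eh := i.isEmbedding.toHomeomorph
  exact eh.symm.surjective.irreducibleSpace eh.symm.continuous

theorem compactSpace_of_range {Z Y : Scheme.{u}} (i : Z ⟶ Y) [IsClosedImmersion i]
    (h : IsCompact (Set.range i)) : CompactSpace Z := by
  haveI : CompactSpace ↥(Set.range i) := isCompact_iff_compactSpace.mp h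
  let eh := i.isEmbedding.toHomeomorph
  exact eh.symm.compactSpace

/-- a quasi-compact open subset stable under specialization of a quasi-separated scheme is closed -/
theorem isClosed_of_isCompact_of_stableUnderSpecialization {Y : Scheme.{u}} [QuasiSeparatedSpace Y]
    (W : Y.Opens) (hc : IsCompact (W : Set Y)) (hs : StableUnderSpecialization (W : Set Y)) :
    IsClosed (W : Set Y) := by
  haveI : CompactSpace ↥(W : Scheme) := isCompact_iff_compactSpace.mp hc
  haveI : QuasiCompact W.ι := quasiCompact_of_compactSpace W.ι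
  have hsp : SpecializingMap W.ι := by
    intro w y hwy
    have hy : y ∈ (W : Set Y) := by
      have hw : W.ι w ∈ (W : Set Y) := by
        rw [← Scheme.Opens.range_ι W]; exact Set.mem_range_self w
      exact hs hwy hw
    rw [← Scheme.Opens.range_ι W] at hy
    obtain ⟨w', rfl⟩ := hy
    exact ⟨w', W.ι.isEmbedding.isInducing.specializes_iff.mp hwy, rfl⟩
  have := (isClosedMap_iff_specializingMap W.ι).mpr hsp
  rw [← Scheme.Opens.range_ι W]
  exact this.isClosed_range

end Sch

end Groth.Agent.Lib.Helper11.GrpA
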