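import Mathlib
import Groth.Agent.Lib.Helper11.AA5
import Groth.Agent.Lib.Helper11.KPts
import Groth.Agent.Lib.Helper7.RedLib
import Groth.Agent.Lib.Helper2.ProperOver

/-!
# AA6: rigidity for anti-affine schemes over an algebraically closed field, connected base
-/

set_option autoImplicit false
universe u
open CategoryTheory MonoidalCategory CartesianMonoidalCategory MonObj AlgebraicGeometry

namespace Groth.Agent.Lib.Helper11.AA6

open Groth.Agent.Lib.Helper11.AA4

section general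
variable {S : Scheme.{u}}

/-- goodness is local on the open set. -/
theorem good_of_forall {X Y Z : Over S} (f g : X ⊗ Y ⟶ Z) (W : Y.left.Opens)
    (h : ∀ y ∈ W, ∃ V : Y.left.Opens, y ∈ V ∧ Good f g V) : Good f g W := by
  intro T a b hb
  ext
  apply Scheme.hom_ext_of_forall
  intro t
  obtain ⟨V, hyV, hV⟩ := h (b.left t) (hb ⟨t, rfl⟩)
  let N : T.left.Opens := b.left ⁻¹ᵁ V
  refine ⟨N, hyV, ?_⟩
  let T' : Over S := Over.mk (N.ι ≫ T.hom)
  let n : T' ⟶ T := Over.homMk N.ι rfl
  have h1 := hV T' (n ≫ a) (n ≫ b) (by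
    rintro _ ⟨w, rfl⟩
    exact w.2)
  have h2 : lift (n ≫ a) (n ≫ b) = n ≫ lift a b := by
    rw [comp_lift]
  rw [h2, Category.assoc, Category.assoc] at h1
  exact congrArg (·.left) h1

/-- If `Y` is reduced and locally Noetherian, `X` flat over `S`, and `f`, `g` agree on `X × V`
for a dense open `V`, then `f = g`. -/
theorem eq_of_good_of_dense {X Y Z : Over S} [Flat X.hom] [IsLocallyNoetherian Y.left]
    [IsReduced Y.left] [IsSeparated Z.hom] (f g : X ⊗ Y ⟶ Z)
    (V : Y.left.Opens) (hV : Dense (V : Set Y.left)) (h : Good f g V) : f = g := by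
  have h1 := (good_iff f g V).mp h
  haveI : IsDominant V.ι := by
    constructor
    rw [DenseRange, Scheme.Opens.range_ι]
    exact hV
  haveI : IsSchemeTheoreticallyDominant V.ι := IsSchemeTheoreticallyDominant.of_isDominant _
  haveI : Flat (snd X Y).left := by
    show Flat (Limits.pullback.snd X.hom Y.hom)
    infer_instance
  haveI : IsSchemeTheoreticallyDominant ((snd X Y).left ⁻¹ᵁ V).ι :=
    IsSchemeTheoreticallyDominant.of_isPullback (isPullback_morphismRestrict (snd X Y).left V)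
  ext
  exact ext_of_schemeTheoreticallyDominant ((snd X Y).left ⁻¹ᵁ V).ι f.left g.left Z.hom
    (by rw [Over.w, Over.w]) h1

end general

section field
variable {k : Type u} [Field k]

local notation "𝕊" => Spec (CommRingCat.of k)

/-- **Rigidity over an algebraically closed field with connected base**: if `f(x₀, y) = g(y)` and
`f(x, y₀) = g(y₀)`, with `X` anti-affine and `Y` connected of finite type, then `f = g ∘ pr₂`. -/
theorem rigidity_connected [IsAlgClosed k] (X Y Z : Over 𝕊) [QuasiCompact X.hom]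
    [QuasiSeparated X.hom] [LocallyOfFiniteType Y.hom] [ConnectedSpace Y.left]
    [IsSeparated Z.hom]
    (hX : Function.Bijective ((Scheme.ΓSpecIso (CommRingCat.of k)).inv ≫ X.hom.appTop).hom)
    (x₀ : 𝟙_ (Over 𝕊) ⟶ X) (y₀ : 𝟙_ (Over 𝕊) ⟶ Y) (f : X ⊗ Y ⟶ Z) (g : Y ⟶ Z)
    (hx₀ : (x₀ ▷ Y) ≫ f = (x₀ ▷ Y) ≫ snd X Y ≫ g)
    (hy₀ : (X ◁ y₀) ≫ f = toUnit _ ≫ y₀ ≫ g) :
    f = snd X Y ≫ g := by
  haveI : IsLocallyNoetherian Y.left := LocallyOfFiniteType.isLocallyNoetherian Y.hom
  haveI : JacobsonSpace Y.left := LocallyOfFiniteType.jacobsonSpace Y.hom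
  haveI : Flat X.hom := inferInstance
  set F₂ : X ⊗ Y ⟶ Z := snd X Y ≫ g with hF₂
  -- constancy of F₂ on fibres
  have hconst : ∀ y₁ : 𝟙_ (Over 𝕊) ⟶ Y, (X ◁ y₁) ≫ F₂ = toUnit _ ≫ y₁ ≫ g := by
    intro y₁
    rw [hF₂, ← Category.assoc, whiskerLeft_snd, Category.assoc]
    congr 1
    exact toUnit_unique _ _
  -- local statement at any rational point where f is constant
  have hloc : ∀ y₁ : 𝟙_ (Over 𝕊) ⟶ Y, (X ◁ y₁) ≫ f = (X ◁ y₁) ≫ F₂ →
      ∃ V : Y.left.Opens, y₁.left (default : ↥(Spec (CommRingCat.of k))) ∈ V ∧ Good f F₂ V := by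
    intro y₁ h1
    exact local_rigidity_over X Y Z hX x₀ y₁ (y₁ ≫ g) f F₂ (h1.trans (hconst y₁)) (hconst y₁) hx₀
  let U : Y.left.Opens := ⟨{y | ∃ V' : Y.left.Opens, y ∈ V' ∧ Good f F₂ V'},
    isOpen_iff_forall_mem_open.mpr (fun x ⟨V', hx, hg⟩ =>
      ⟨V', fun y hy => ⟨V', hy, hg⟩, V'.isOpen, hx⟩)⟩
  have hUgood : Good f F₂ U := good_of_forall f F₂ U (fun y hy => hy)
  have hy₀U : y₀.left (default : ↥(Spec (CommRingCat.of k))) ∈ U :=
    hloc y₀ (hy₀.trans (hconst y₀).symm)
  have hUcl : IsClosed (U : Set Y.left) := by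
    by_contra hncl
    have hC : (closure (U : Set Y.left) ∩ (U : Set Y.left)ᶜ).Nonempty := by
      by_contra hemp
      rw [Set.not_nonempty_iff_eq_empty] at hemp
      apply hncl
      have : closure (U : Set Y.left) ⊆ U := by
        intro y hy
        by_contra hyU
        exact (Set.eq_empty_iff_forall_notMem.mp hemp y) ⟨hy, hyU⟩
      exact closure_subset_iff_isClosed.mp this
    have hCcl : IsClosed (closure (U : Set Y.left) ∩ (U : Set Y.left)ᶜ) :=
      isClosed_closure.inter U.isOpen.isClosed_compl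
    obtain ⟨y₁, ⟨hy₁cl, hy₁U⟩, hy₁pt⟩ :
        ((closure (U : Set Y.left) ∩ (U : Set Y.left)ᶜ) ∩ closedPoints Y.left).Nonempty := by
      by_contra hemp
      rw [Set.not_nonempty_iff_eq_empty] at hemp
      have h2 := JacobsonSpace.closure_inter_closedPoints hCcl
      rw [hemp, closure_empty] at h2
      exact hC.ne_empty h2.symm
    -- rational point
    obtain ⟨p, hp1, hp2⟩ := KPts.exists_point_of_isClosed k k Y.hom y₁ hy₁pt
    have hp1' : p ≫ Y.hom = 𝟙 _ := by
      rw [hp1]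
      have : algebraMap k k = RingHom.id k := rfl
      rw [this]
      exact Spec.map_id _
    let y₁' : 𝟙_ (Over 𝕊) ⟶ Y := Over.homMk p hp1'
    -- reduced closed subscheme on closure U
    let Cl : TopologicalSpace.Closeds Y.left := ⟨closure (U : Set Y.left), isClosed_closure⟩
    let j := (Scheme.IdealSheafData.vanishingIdeal Cl).subschemeι
    have hjr : Set.range j = closure (U : Set Y.left) :=
      Groth.Agent.Lib.Helper2.range_vanishingIdeal_subschemeι Cl
    haveI : IsReduced (Scheme.IdealSheafData.vanishingIdeal Cl).subscheme :=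
      Groth.Agent.Lib.Helper7.isReduced_vanishingIdeal_subscheme Cl
    let Y' : Over 𝕊 := Over.mk (j ≫ Y.hom)
    let jo : Y' ⟶ Y := Over.homMk j rfl
    haveI : IsLocallyNoetherian Y'.left := LocallyOfFiniteType.isLocallyNoetherian (j ≫ Y.hom)
    haveI : IsReduced Y'.left :=
      Groth.Agent.Lib.Helper7.isReduced_vanishingIdeal_subscheme Cl
    let V' : Y'.left.Opens := j ⁻¹ᵁ U
    have hV'dense : Dense (V' : Set Y'.left) := by
      rw [dense_iff_inter_open]
      intro N' hN' hN'ne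
      obtain ⟨y', hy'⟩ := hN'ne
      obtain ⟨N, hN, rfl⟩ := j.isClosedEmbedding.isInducing.isOpen_iff.mp hN'
      have hjy : j y' ∈ closure (U : Set Y.left) := hjr ▸ ⟨y', rfl⟩
      obtain ⟨u, huN, huU⟩ := mem_closure_iff.mp hjy N hN hy'
      have hu : u ∈ Set.range j := hjr ▸ subset_closure huU
      obtain ⟨u', rfl⟩ := hu
      exact ⟨u', huN, huU⟩
    have hgood' : Good ((X ◁ jo) ≫ f) ((X ◁ jo) ≫ F₂) V' := by
      intro T a b hb
      rw [← Category.assoc, ← Category.assoc, lift_whiskerLeft]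
      apply hUgood
      rintro _ ⟨t, rfl⟩
      rw [Over.comp_left, Scheme.Hom.comp_apply]
      exact hb ⟨t, rfl⟩
    have heq' : (X ◁ jo) ≫ f = (X ◁ jo) ≫ F₂ :=
      eq_of_good_of_dense _ _ V' hV'dense hgood'
    -- y₁ factors through Y'
    obtain ⟨l, hl⟩ := Groth.Agent.Lib.Helper7.exists_lift_of_isReduced_of_range_subset p j (by
      rintro _ ⟨t, rfl⟩
      rw [hjr, hp2]
      exact hy₁cl)
    let lo : 𝟙_ (Over 𝕊) ⟶ Y' := Over.homMk l (by
      show l ≫ j ≫ Y.hom = 𝟙 _
      rw [← Category.assoc, hl, hp1'])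
    have hlo : lo ≫ jo = y₁' := by
      ext
      exact hl
    have h3 : (X ◁ y₁') ≫ f = (X ◁ y₁') ≫ F₂ := by
      rw [← hlo, MonoidalCategory.whiskerLeft_comp, Category.assoc, Category.assoc, heq']
    obtain ⟨V₁, hV₁, hV₁g⟩ := hloc y₁' h3
    apply hy₁U
    refine ⟨V₁, ?_, hV₁g⟩
    have : y₁'.left (default : ↥(Spec (CommRingCat.of k))) = y₁ := hp2 _
    rw [← this]
    exact hV₁
  have hUtop : (U : Set Y.left) = Set.univ :=
    IsClopen.eq_univ ⟨hUcl, U.isOpen⟩ ⟨_, hy₀U⟩
  have h4 := hUgood (X ⊗ Y) (fst X Y) (snd X Y) (by rw [hUtop]; exact Set.subset_univ _)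
  rw [lift_fst_snd, Category.id_comp, Category.id_comp] at h4
  exact h4

end field

end Groth.Agent.Lib.Helper11.AA6
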