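import Mathlib
import Groth.Agent.Lib.Helper11.AA1

/-!
# AA7: anti-affineness and base change / products (Künneth over a field)
-/

set_option autoImplicit false
universe u
open CategoryTheory Limits AlgebraicGeometry

namespace Groth.Agent.Lib.Helper11.AA7

/-- Bijectivity codescends along faithfully flat maps, for pushout squares in `CommRingCat`. -/
theorem bijective_of_isPushout {R A R' A' : CommRingCat.{u}} (a : R ⟶ A) (b : R ⟶ R')
    (d : A ⟶ A') (c : R' ⟶ A') (h : IsPushout a b d c) (hb : b.hom.FaithfullyFlat)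
    (hc : Function.Bijective c.hom) : Function.Bijective a.hom := by
  algebraize [a.hom, b.hom, d.hom, c.hom, (d.hom.comp a.hom)]
  haveI : IsScalarTower R A A' := IsScalarTower.of_algebraMap_eq' rfl
  haveI : IsScalarTower R R' A' := IsScalarTower.of_algebraMap_eq' (by
    show d.hom.comp a.hom = c.hom.comp b.hom
    have := congrArg CommRingCat.Hom.hom h.w
    simpa using this)
  have h' : IsPushout (CommRingCat.ofHom (algebraMap R A)) (CommRingCat.ofHom (algebraMap R R'))
      (CommRingCat.ofHom (algebraMap A A')) (CommRingCat.ofHom (algebraMap R' A')) := h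
  haveI : Algebra.IsPushout R A R' A' := CommRingCat.isPushout_iff_isPushout.mp h'
  exact RingHom.FaithfullyFlat.codescendsAlong_bijective (R := R) (S := A) (R' := R') (S' := A')
    hb hc

theorem bijective_comp_ΓSpecIso_iff {k : Type u} [Field k] {X : Scheme.{u}}
    (p : X ⟶ Spec (CommRingCat.of k)) :
    Function.Bijective ((Scheme.ΓSpecIso (CommRingCat.of k)).inv ≫ p.appTop).hom ↔
      Function.Bijective p.appTop.hom := by
  have h1 : Function.Bijective (Scheme.ΓSpecIso (CommRingCat.of k)).inv.hom :=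
    ConcreteCategory.bijective_of_isIso (Scheme.ΓSpecIso (CommRingCat.of k)).inv
  rw [CommRingCat.hom_comp, RingHom.coe_comp]
  constructor
  · intro h
    exact (Function.Bijective.of_comp_iff _ h1).mp h
  · intro h
    exact h.comp h1

/-- Anti-affineness is invariant under extension of the base field. -/
theorem bijective_baseChange_iff {k K : Type u} [Field k] [Field K] [Algebra k K] {X : Scheme.{u}}
    (p : X ⟶ Spec (CommRingCat.of k)) [QuasiCompact p] [QuasiSeparated p] :
    Function.Bijective ((Scheme.ΓSpecIso (CommRingCat.of k)).inv ≫ p.appTop).hom ↔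
      Function.Bijective ((Scheme.ΓSpecIso (CommRingCat.of K)).inv ≫
        (pullback.snd p (Spec.map (CommRingCat.ofHom (algebraMap k K)))).appTop).hom := by
  constructor
  · intro h
    haveI := AA1.isIso_snd_appTop_field p (Spec.map (CommRingCat.ofHom (algebraMap k K))) h
    rw [bijective_comp_ΓSpecIso_iff]
    exact ConcreteCategory.bijective_of_isIso _
  · intro h
    rw [bijective_comp_ΓSpecIso_iff] at h ⊢
    set f := Spec.map (CommRingCat.ofHom (algebraMap k K)) with hf
    haveI : CompactSpace X := (quasiCompact_iff_compactSpace p).mp inferInstance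
    haveI : QuasiSeparatedSpace X := (quasiSeparated_iff_quasiSeparatedSpace p).mp inferInstance
    have H := IsPullback.of_hasPullback p f
    have hUST : (⊤ : (Spec (CommRingCat.of K)).Opens) ≤ f ⁻¹ᵁ (⊤ : (Spec (CommRingCat.of k)).Opens) :=
      le_of_eq (by simp)
    have hUSX : (⊤ : X.Opens) ≤ p ⁻¹ᵁ (⊤ : (Spec (CommRingCat.of k)).Opens) := le_of_eq (by simp)
    have hUY : (⊤ : (pullback p f).Opens) =
        (pullback.fst p f) ⁻¹ᵁ (⊤ : X.Opens) ⊓
          (pullback.snd p f) ⁻¹ᵁ (⊤ : (Spec (CommRingCat.of K)).Opens) := by simp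
    haveI hiso := isIso_pushoutSection_of_isQuasiSeparated_of_flat_right H hUST hUSX hUY
      (isAffineOpen_top _) (isAffineOpen_top _) isCompact_univ isQuasiSeparated_univ
    have hpo := (isIso_pushoutSection_iff H hUST hUSX hUY).mp hiso
    have e1 : p.appLE ⊤ ⊤ hUSX = p.appTop := by simp [Scheme.Hom.appLE]
    have e2 : f.appLE ⊤ ⊤ hUST = f.appTop := by simp [Scheme.Hom.appLE]
    have hl1 : (⊤ : (pullback p f).Opens) ≤ (pullback.fst p f) ⁻¹ᵁ (⊤ : X.Opens) :=
      le_of_eq (by simp)
    have hl2 : (⊤ : (pullback p f).Opens) ≤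
        (pullback.snd p f) ⁻¹ᵁ (⊤ : (Spec (CommRingCat.of K)).Opens) := le_of_eq (by simp)
    have hpo' : IsPushout p.appTop f.appTop ((pullback.fst p f).appLE ⊤ ⊤ hl1)
        ((pullback.snd p f).appLE ⊤ ⊤ hl2) := by
      rw [← e1, ← e2]; exact hpo
    have e4 : (pullback.snd p f).appLE ⊤ ⊤ hl2 = (pullback.snd p f).appTop := by
      simp [Scheme.Hom.appLE]
    rw [e4] at hpo'
    haveI : Surjective f := ⟨fun x => ⟨default, Subsingleton.elim _ _⟩⟩
    have hff : f.appTop.hom.FaithfullyFlat :=
      (Flat.flat_and_surjective_iff_faithfullyFlat_of_isAffine f).mp ⟨inferInstance, inferInstance⟩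
    exact bijective_of_isPushout _ _ _ _ hpo' hff h

/-- Products of anti-affine qcqs schemes over a field are anti-affine. -/
theorem bijective_prod {k : Type u} [Field k] {X T : Scheme.{u}}
    (p : X ⟶ Spec (CommRingCat.of k)) (q : T ⟶ Spec (CommRingCat.of k))
    [QuasiCompact p] [QuasiSeparated p] [QuasiCompact q] [QuasiSeparated q]
    (hp : Function.Bijective ((Scheme.ΓSpecIso (CommRingCat.of k)).inv ≫ p.appTop).hom)
    (hq : Function.Bijective ((Scheme.ΓSpecIso (CommRingCat.of k)).inv ≫ q.appTop).hom) :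
    Function.Bijective ((Scheme.ΓSpecIso (CommRingCat.of k)).inv ≫
      (pullback.fst p q ≫ p).appTop).hom := by
  rw [bijective_comp_ΓSpecIso_iff]
  haveI hip : IsIso p.appTop := AA1.isIso_appTop_of_bijective p hp
  haveI hiq : IsIso q.appTop := AA1.isIso_appTop_of_bijective q hq
  haveI : CompactSpace X := (quasiCompact_iff_compactSpace p).mp inferInstance
  haveI : QuasiSeparatedSpace X := (quasiSeparated_iff_quasiSeparatedSpace p).mp inferInstance
  haveI : CompactSpace T := (quasiCompact_iff_compactSpace q).mp inferInstance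
  haveI : QuasiSeparatedSpace T := (quasiSeparated_iff_quasiSeparatedSpace q).mp inferInstance
  have H := IsPullback.of_hasPullback p q
  have hUST : (⊤ : T.Opens) ≤ q ⁻¹ᵁ (⊤ : (Spec (CommRingCat.of k)).Opens) := le_of_eq (by simp)
  have hUSX : (⊤ : X.Opens) ≤ p ⁻¹ᵁ (⊤ : (Spec (CommRingCat.of k)).Opens) := le_of_eq (by simp)
  have hUY : (⊤ : (pullback p q).Opens) =
      (pullback.fst p q) ⁻¹ᵁ (⊤ : X.Opens) ⊓ (pullback.snd p q) ⁻¹ᵁ (⊤ : T.Opens) := by simp
  have e1 : p.appLE ⊤ ⊤ hUSX = p.appTop := by simp [Scheme.Hom.appLE]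
  have e2 : q.appLE ⊤ ⊤ hUST = q.appTop := by simp [Scheme.Hom.appLE]
  have hflat : (p.appLE ⊤ ⊤ hUSX).hom.Flat := by
    rw [e1]
    exact RingHom.Flat.of_bijective (ConcreteCategory.bijective_of_isIso p.appTop)
  haveI hiso := isIso_pushoutSection_of_isCompact_of_flat_right_of_ringHomFlat H hUST hUSX hUY
    (isAffineOpen_top _) isCompact_univ isQuasiSeparated_univ isCompact_univ
    isQuasiSeparated_univ hflat
  haveI : IsIso (q.appLE ⊤ ⊤ hUST) := by rw [e2]; exact hiq
  have h3 : (pullback.fst p q).appTop =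
      pushout.inl (p.appLE ⊤ ⊤ hUSX) (q.appLE ⊤ ⊤ hUST) ≫ pushoutSection H hUST hUSX hUY := by
    rw [pushout.inl_desc]; simp [Scheme.Hom.appLE]
  haveI : IsIso (pullback.fst p q).appTop := by rw [h3]; infer_instance
  rw [Scheme.Hom.comp_appTop]
  exact ConcreteCategory.bijective_of_isIso _

/-- A retract of an anti-affine scheme is anti-affine. -/
theorem bijective_of_retract {k : Type u} [Field k] {X P : Scheme.{u}}
    (p : X ⟶ Spec (CommRingCat.of k)) (r : P ⟶ X) (s : X ⟶ P) (hs : s ≫ r = 𝟙 X)
    (h : Function.Bijective ((Scheme.ΓSpecIso (CommRingCat.of k)).inv ≫ (r ≫ p).appTop).hom) :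
    Function.Bijective ((Scheme.ΓSpecIso (CommRingCat.of k)).inv ≫ p.appTop).hom := by
  rw [bijective_comp_ΓSpecIso_iff] at h ⊢
  rw [Scheme.Hom.comp_appTop, CommRingCat.hom_comp, RingHom.coe_comp] at h
  have h1 : r.appTop ≫ s.appTop = 𝟙 _ := by
    rw [← Scheme.Hom.comp_appTop, hs, Scheme.Hom.id_appTop]
  have hinj : Function.Injective r.appTop.hom := by
    intro a b hab
    have := congrArg s.appTop.hom hab
    have e : ∀ c, s.appTop.hom (r.appTop.hom c) = c := fun c => by
      have := congrArg (fun m => m.hom c) h1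
      simpa using this
    rwa [e, e] at this
  refine ⟨Function.Injective.of_comp h.1, ?_⟩
  intro a
  obtain ⟨c, hc⟩ := h.2 (r.appTop.hom a)
  exact ⟨c, hinj hc⟩

end Groth.Agent.Lib.Helper11.AA7
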