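import Mathlib
import Groth.Agent.Lib.Helper11.GrpA
import Groth.Agent.Lib.Helper11.FBaseLib

/-!
# Group schemes over a field: every point lies in a unique irreducible component (helper11)
-/

set_option autoImplicit false
universe u

open CategoryTheory CategoryTheory.Limits MonoidalCategory CartesianMonoidalCategory MonObj GrpObj
  AlgebraicGeometry
open Groth.Agent.Lib.Helper11.GrpA
open scoped Obj

namespace Groth.Agent.Lib.Helper11.GrpB

variable {k : Type u} [Field k]

instance subsingleton_spec_field : Subsingleton ↥(Spec (CommRingCat.of k)) :=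
  inferInstanceAs (Subsingleton (PrimeSpectrum k))

instance nonempty_spec_field : Nonempty ↥(Spec (CommRingCat.of k)) :=
  inferInstanceAs (Nonempty (PrimeSpectrum k))

/-- over an algebraically closed field, the unit point lies in a unique irreducible component -/
theorem uniqueComp_unit_of_isAlgClosed [IsAlgClosed k] (G : Over (Spec (CommRingCat.of k)))
    [GrpObj G] (pt : ↥(Spec (CommRingCat.of k))) : UniqueComp (η[G].left pt) := by
  intro Z₁ hZ₁ Z₂ hZ₂ h1 h2
  obtain ⟨Y₁, i₁, _, hr₁⟩ :=
    exists_closedSubscheme Z₁ (isClosed_of_mem_irreducibleComponents _ hZ₁)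
  obtain ⟨Y₂, i₂, _, hr₂⟩ :=
    exists_closedSubscheme Z₂ (isClosed_of_mem_irreducibleComponents _ hZ₂)
  haveI : IrreducibleSpace Y₁ := irreducibleSpace_of_range i₁ (hr₁ ▸ hZ₁.1)
  haveI : IrreducibleSpace Y₂ := irreducibleSpace_of_range i₂ (hr₂ ▸ hZ₂.1)
  haveI : GeometricallyIrreducible (i₂ ≫ G.hom) :=
    FBaseLib.geometricallyIrreducible_of_irreducibleSpace (i₂ ≫ G.hom)
  haveI : UniversallyOpen (i₂ ≫ G.hom) := inferInstance
  haveI : IrreducibleSpace ↥(pullback (i₁ ≫ G.hom) (i₂ ≫ G.hom)) := inferInstance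
  let j : pullback (i₁ ≫ G.hom) (i₂ ≫ G.hom) ⟶ pullback G.hom G.hom :=
    pullback.map _ _ _ _ i₁ i₂ (𝟙 _) (by simp) (by simp)
  have hj : Set.range j = (fst G G).left ⁻¹' Z₁ ∩ (snd G G).left ⁻¹' Z₂ := by
    rw [← hr₁, ← hr₂]
    exact Scheme.Pullback.range_map ..
  have hirr : IsIrreducible (Set.range (j ≫ μ[G].left)) := by
    rw [← Set.image_univ]
    exact (IrreducibleSpace.isIrreducible_univ _).image _
      (j ≫ μ[G].left).continuous.continuousOn
  have hE := hirr.closure
  have hsub₁ : Z₁ ⊆ closure (Set.range (j ≫ μ[G].left)) := by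
    intro z hz
    apply subset_closure
    have hζ : (unitR : G ⟶ G ⊗ G).left z ∈ Set.range j := by
      rw [hj]
      refine ⟨?_, ?_⟩
      · show (fst G G).left ((unitR : G ⟶ G ⊗ G).left z) ∈ Z₁
        have : (fst G G).left ((unitR : G ⟶ G ⊗ G).left z) = z :=
          congrArg (fun f : G ⟶ G => f.left z) (unitR_fst (G := G))
        rw [this]; exact hz
      · show (snd G G).left ((unitR : G ⟶ G ⊗ G).left z) ∈ Z₂
        have : (snd G G).left ((unitR : G ⟶ G ⊗ G).left z) = η[G].left pt := by
          refine (congrArg (fun f : G ⟶ G => f.left z) (unitR_snd (G := G))).trans ?_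
          show η[G].left ((toUnit G).left z) = η[G].left pt
          rw [@Subsingleton.elim ↥(Spec (CommRingCat.of k)) _ ((toUnit G).left z) pt]
        rw [this]; exact h2
    obtain ⟨w, hw⟩ := hζ
    refine ⟨w, ?_⟩
    show μ[G].left (j w) = z
    rw [hw]
    exact congrArg (fun f : G ⟶ G => f.left z) (unitR_mul (G := G))
  have hsub₂ : Z₂ ⊆ closure (Set.range (j ≫ μ[G].left)) := by
    intro z hz
    apply subset_closure
    have hζ : (unitL : G ⟶ G ⊗ G).left z ∈ Set.range j := by
      rw [hj]
      refine ⟨?_, ?_⟩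
      · show (fst G G).left ((unitL : G ⟶ G ⊗ G).left z) ∈ Z₁
        have : (fst G G).left ((unitL : G ⟶ G ⊗ G).left z) = η[G].left pt := by
          refine (congrArg (fun f : G ⟶ G => f.left z) (unitL_fst (G := G))).trans ?_
          show η[G].left ((toUnit G).left z) = η[G].left pt
          rw [@Subsingleton.elim ↥(Spec (CommRingCat.of k)) _ ((toUnit G).left z) pt]
        rw [this]; exact h1
      · show (snd G G).left ((unitL : G ⟶ G ⊗ G).left z) ∈ Z₂
        have : (snd G G).left ((unitL : G ⟶ G ⊗ G).left z) = z :=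
          congrArg (fun f : G ⟶ G => f.left z) (unitL_snd (G := G))
        rw [this]; exact hz
    obtain ⟨w, hw⟩ := hζ
    refine ⟨w, ?_⟩
    show μ[G].left (j w) = z
    rw [hw]
    exact congrArg (fun f : G ⟶ G => f.left z) (unitL_mul (G := G))
  exact (Set.Subset.antisymm hsub₁ (hZ₁.2 hE hsub₁)).trans
    (Set.Subset.antisymm hsub₂ (hZ₂.2 hE hsub₂)).symm

/-- base change to a field is flat, surjective -/
theorem flat_fst_of_field {X : Scheme.{u}} (f : X ⟶ Spec (CommRingCat.of k)) {T : Scheme.{u}}
    (t : T ⟶ Spec (CommRingCat.of k)) : Flat (pullback.fst f t) := by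
  haveI : Flat t := inferInstance
  exact MorphismProperty.pullback_fst (P := @Flat) f t inferInstance

theorem surjective_fst_of_field {X : Scheme.{u}} (f : X ⟶ Spec (CommRingCat.of k))
    {T : Scheme.{u}} [Nonempty T]
    (t : T ⟶ Spec (CommRingCat.of k)) : Surjective (pullback.fst f t) := by
  haveI : Surjective t := ⟨fun y => ⟨Classical.arbitrary _, Subsingleton.elim _ _⟩⟩
  exact MorphismProperty.pullback_fst (P := @Surjective) f t inferInstance

/-- a point in the image of a point with values in an algebraically closed field lies in a unique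
irreducible component -/
theorem uniqueComp_of_point (G : Over (Spec (CommRingCat.of k))) [GrpObj G] (x : G.left)
    (K : Type u) [Field K] [IsAlgClosed K] (tK : Spec (CommRingCat.of K) ⟶ G.left)
    (ptK : ↥(Spec (CommRingCat.of K))) (hx : tK ptK = x) : UniqueComp x := by
  obtain ⟨t, ht⟩ : ∃ t : Spec (CommRingCat.of K) ⟶ Spec (CommRingCat.of k), t = tK ≫ G.hom :=
    ⟨_, rfl⟩
  obtain ⟨GK, hGK⟩ : ∃ GK : Over (Spec (CommRingCat.of K)), GK = (Over.pullback t).obj G :=
    ⟨_, rfl⟩
  letI : GrpObj GK := hGK ▸ Functor.grpObjObj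
  obtain ⟨p, x'l, hp, hxp, hxh⟩ : ∃ (p : GK.left ⟶ G.left) (x'l : Spec (CommRingCat.of K) ⟶ GK.left),
      Flat p ∧ x'l ≫ p = tK ∧ x'l ≫ GK.hom = 𝟙 _ := by
    subst hGK
    exact ⟨pullback.fst G.hom t, pullback.lift tK (𝟙 _) (by rw [ht, Category.id_comp]),
      flat_fst_of_field G.hom t, pullback.lift_fst _ _ _, pullback.lift_snd _ _ _⟩
  let x' : 𝟙_ (Over (Spec (CommRingCat.of K))) ⟶ GK := Over.homMk x'l hxh
  have hgen : GeneralizingMap p := Flat.generalizingMap p
  have h1 : UniqueComp (η[GK].left ptK) := uniqueComp_unit_of_isAlgClosed GK ptK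
  let τ := transIso x'
  let τh : ↥GK.left ≃ₜ ↥GK.left := Scheme.homeoOfIso ((Over.forget _).mapIso τ)
  have h2 : τh (η[GK].left ptK) = x'l ptK :=
    congrArg (fun f : 𝟙_ (Over (Spec (CommRingCat.of K))) ⟶ GK => f.left ptK) (unit_transIso x')
  have h3 : UniqueComp (x'l ptK) := h2 ▸ uniqueComp_homeo τh h1
  have h4 : p (x'l ptK) = x := by
    have h6 : p (x'l ptK) = tK ptK :=
      congrArg (fun f : Spec (CommRingCat.of K) ⟶ G.left => f ptK) hxp
    rw [h6, hx]
  rw [← h4]
  exact uniqueComp_of_generalizing p.continuous hgen h3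

/-- every point of a group scheme over a field lies in a unique irreducible component -/
theorem uniqueComp_of_field (G : Over (Spec (CommRingCat.of k))) [GrpObj G] (x : G.left) :
    UniqueComp x := by
  let K := AlgebraicClosure (G.left.residueField x)
  let ptK : ↥(Spec (CommRingCat.of K)) := Classical.arbitrary _
  refine uniqueComp_of_point G x K
    (Spec.map (CommRingCat.ofHom (algebraMap (G.left.residueField x) K)) ≫
      G.left.fromSpecResidueField x) ptK ?_
  rw [Scheme.Hom.comp_apply]
  exact Scheme.fromSpecResidueField_apply x _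

end Groth.Agent.Lib.Helper11.GrpB
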