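import Mathlib
import Groth.Agent.Lib.Helper11.GrpB
import Groth.Agent.Lib.Helper11.GalOrbit

/-!
# Group schemes over a field: the component of the unit is geometrically irreducible (helper11)
-/

set_option autoImplicit false
universe u

open CategoryTheory CategoryTheory.Limits MonoidalCategory CartesianMonoidalCategory MonObj GrpObj
  AlgebraicGeometry
open Groth.Agent.Lib.Helper11.GrpA Groth.Agent.Lib.Helper11.GrpB
  Groth.Agent.Lib.Helper11.BcLevels
open scoped Obj

namespace Groth.Agent.Lib.Helper11.GrpC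

variable {k : Type u} [Field k]

/-- the fibre over a rational point of a base change to a one point scheme is a single point -/
theorem eq_of_fst_eq_rational {X T : Scheme.{u}} (f : X ⟶ Spec (CommRingCat.of k))
    (t : T ⟶ Spec (CommRingCat.of k)) [Subsingleton T] (x : Spec (CommRingCat.of k) ⟶ X)
    (hx : x ≫ f = 𝟙 _) (pt : ↥(Spec (CommRingCat.of k))) (z z' : ↥(pullback f t))
    (hz : pullback.fst f t z = x pt) (hz' : pullback.fst f t z' = x pt) : z = z' := by
  haveI hP : Subsingleton ↥(pullback x (pullback.fst f t)) := by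
    let e1 : pullback x (pullback.fst f t) ≅ pullback (x ≫ f) t := pullbackRightPullbackFstIso f t x
    haveI : IsIso (x ≫ f) := by rw [hx]; infer_instance
    let e2 : pullback (x ≫ f) t ≅ T := asIso (pullback.snd (x ≫ f) t)
    exact (Scheme.homeoOfIso (e1 ≪≫ e2)).injective.subsingleton
  obtain ⟨w, hw1, hw2⟩ :=
    Scheme.Pullback.exists_preimage_pullback (f := x) (g := pullback.fst f t) pt z hz.symm
  obtain ⟨w', hw1', hw2'⟩ :=
    Scheme.Pullback.exists_preimage_pullback (f := x) (g := pullback.fst f t) pt z' hz'.symm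
  rw [← hw2, ← hw2', Subsingleton.elim w w']

theorem unit_left_hom (G : Over (Spec (CommRingCat.of k))) [GrpObj G] :
    η[G].left ≫ G.hom = 𝟙 (Spec (CommRingCat.of k)) := by
  have := Over.w η[G]
  simpa using this

variable (G : Over (Spec (CommRingCat.of k))) [GrpObj G] (pt : ↥(Spec (CommRingCat.of k)))
  (Z : Set ↥G.left) (hZ : Z ∈ irreducibleComponents ↥G.left) (he : η[G].left pt ∈ Z)

include hZ he in
theorem isIrreducible_preimage_unit_component_algClosure :
    IsIrreducible ((FBase.bcπ G.hom (AlgebraicClosure k)) ⁻¹' Z) := by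
  obtain ⟨h1, h2⟩ := GalOrbit.orbit_components G.hom (AlgebraicClosure k) Z hZ
  let s := Spec.map (CommRingCat.ofHom (algebraMap k (AlgebraicClosure k)))
  let GK : Over (Spec (CommRingCat.of (AlgebraicClosure k))) := (Over.pullback s).obj G
  have hU : ∀ y : ↥(FBase.bc G.hom (AlgebraicClosure k)), UniqueComp y :=
    fun y => uniqueComp_of_field GK y
  haveI : Surjective (FBase.bcπ G.hom (AlgebraicClosure k)) := surjective_fst_of_field G.hom s
  obtain ⟨e', he'⟩ := (FBase.bcπ G.hom (AlgebraicClosure k)).surjective (η[G].left pt)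
  have huniq : ∀ z : ↥(FBase.bc G.hom (AlgebraicClosure k)),
      (FBase.bcπ G.hom (AlgebraicClosure k)) z = η[G].left pt → z = e' := fun z hz =>
    eq_of_fst_eq_rational G.hom s η[G].left (unit_left_hom G) pt z e' hz he'
  have he'Z : e' ∈ (FBase.bcπ G.hom (AlgebraicClosure k)) ⁻¹' Z := by
    show (FBase.bcπ G.hom (AlgebraicClosure k)) e' ∈ Z
    rw [he']; exact he
  rw [h1] at he'Z
  obtain ⟨T₀, ⟨hT₀, hT₀Z⟩, he'T₀⟩ := he'Z
  have hall : ∀ T' : Set ↥(FBase.bc G.hom (AlgebraicClosure k)),
      T' ∈ irreducibleComponents ↥(FBase.bc G.hom (AlgebraicClosure k)) →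
      (FBase.bcπ G.hom (AlgebraicClosure k)) '' T' ⊆ Z → T' = T₀ := by
    intro T' hT' hT'Z
    obtain ⟨σ, hσ⟩ := h2 T₀ T' hT₀ hT' hT₀Z hT'Z
    have hm : (bcHom G.hom (σ : AlgebraicClosure k →ₐ[k] AlgebraicClosure k)) e' ∈ T' :=
      hσ ▸ ⟨e', he'T₀, rfl⟩
    have hfix : (bcHom G.hom (σ : AlgebraicClosure k →ₐ[k] AlgebraicClosure k)) e' = e' :=
      huniq _ (by rw [bcHom_π_apply]; exact he')
    rw [hfix] at hm
    exact hU e' T' hT' T₀ hT₀ hm he'T₀
  have hEq : (FBase.bcπ G.hom (AlgebraicClosure k)) ⁻¹' Z = T₀ := by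
    rw [h1]
    apply Set.Subset.antisymm
    · rintro y ⟨T', ⟨hT', hT'Z⟩, hy⟩
      rw [← hall T' hT' hT'Z]; exact hy
    · intro y hy
      exact ⟨T₀, ⟨hT₀, hT₀Z⟩, hy⟩
  rw [hEq]
  exact hT₀.1

include hZ he in
theorem isIrreducible_preimage_unit_component (K : Type u) [Field K] [Algebra k K] :
    IsIrreducible ((FBase.bcπ G.hom K) ⁻¹' Z) :=
  GalOrbit.isIrreducible_preimage_of_isSepClosed G.hom Z
    (isClosed_of_mem_irreducibleComponents _ hZ) (AlgebraicClosure k)
    (isIrreducible_preimage_unit_component_algClosure G pt Z hZ he) K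

include hZ he in
theorem isIrreducible_preimage_unit_component' (K : Type u) [Field K]
    (t : Spec (CommRingCat.of K) ⟶ Spec (CommRingCat.of k)) :
    IsIrreducible ((pullback.fst G.hom t) ⁻¹' Z) := by
  obtain ⟨φ, rfl⟩ := Spec.map_surjective t
  letI := φ.hom.toAlgebra
  exact isIrreducible_preimage_unit_component G pt Z hZ he K

include hZ he in
theorem geometricallyIrreducible_unit_component {Zs : Scheme.{u}} (incl : Zs ⟶ G.left)
    [IsClosedImmersion incl] (hr : Set.range incl = Z) :
    GeometricallyIrreducible (incl ≫ G.hom) := by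
  haveI : IrreducibleSpace ↥(FBase.bc (incl ≫ G.hom) (AlgebraicClosure k)) :=
    GalDescent.irreducibleSpace_bc_comp G.hom incl (AlgebraicClosure k)
      (hr ▸ isIrreducible_preimage_unit_component_algClosure G pt Z hZ he)
  exact GalDescent.geometricallyIrreducible_of_isSepClosed (incl ≫ G.hom) (AlgebraicClosure k)

end Groth.Agent.Lib.Helper11.GrpC
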