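import Mathlib
import Groth.Agent.Lib.Helper11.GrpC
import Groth.Agent.S5331

/-!
# Group schemes over a field: the component of the unit is quasi-compact (helper11)
-/

set_option autoImplicit false
universe u

open CategoryTheory CategoryTheory.Limits MonoidalCategory CartesianMonoidalCategory MonObj GrpObj
  AlgebraicGeometry
open Groth.Agent.Lib.Helper11.GrpA Groth.Agent.Lib.Helper11.GrpB Groth.Agent.Lib.Helper11.GrpC
open scoped Obj

namespace Groth.Agent.Lib.Helper11.GrpD

variable {k : Type u} [Field k]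

theorem isSeparated_hom (G : Over (Spec (CommRingCat.of k))) [GrpObj G] : IsSeparated G.hom :=
  Groth.Agent.S5331.result (Spec (CommRingCat.of k)) G

theorem quasiSeparatedSpace_left (G : Over (Spec (CommRingCat.of k))) [GrpObj G] :
    QuasiSeparatedSpace ↥G.left := by
  haveI := isSeparated_hom G
  exact quasiSeparatedSpace_of_quasiSeparated G.hom

/-- the residue field point at `x` as an object over the base -/
noncomputable def Tx (A : Over (Spec (CommRingCat.of k))) (x : A.left) :
    Over (Spec (CommRingCat.of k)) :=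
  Over.mk (A.left.fromSpecResidueField x ≫ A.hom)

/-- the point `x` as a morphism over the base -/
noncomputable def cx (A : Over (Spec (CommRingCat.of k))) (x : A.left) : Tx A x ⟶ A :=
  Over.homMk (A.left.fromSpecResidueField x) rfl

theorem cx_left_apply (A : Over (Spec (CommRingCat.of k))) (x : A.left) (s : ↥(Tx A x).left) :
    (cx A x).left s = x :=
  Scheme.fromSpecResidueField_apply x s

instance nonempty_Tx (A : Over (Spec (CommRingCat.of k))) (x : A.left) :
    Nonempty ↥(Tx A x).left :=
  inferInstanceAs (Nonempty (PrimeSpectrum (A.left.residueField x)))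

theorem left_apply_congr {A B : Over (Spec (CommRingCat.of k))} {f g : A ⟶ B} (h : f = g)
    (z : A.left) : f.left z = g.left z := by rw [h]

theorem one_left_apply (G : Over (Spec (CommRingCat.of k))) [GrpObj G]
    (pt : ↥(Spec (CommRingCat.of k))) (T : Over (Spec (CommRingCat.of k))) (s : ↥T.left) :
    (1 : T ⟶ G).left s = η[G].left pt := by
  rw [Hom.one_def]
  show η[G].left ((toUnit T).left s) = η[G].left pt
  rw [@Subsingleton.elim ↥(Spec (CommRingCat.of k)) _ ((toUnit T).left s) pt]

theorem isAffineOpen_prod {A B : Over (Spec (CommRingCat.of k))} (U : A.left.Opens)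
    (V : B.left.Opens) (hU : IsAffineOpen U) (hV : IsAffineOpen V) :
    IsAffineOpen ((fst A B).left ⁻¹ᵁ U ⊓ (snd A B).left ⁻¹ᵁ V) := by
  have hUS : IsAffineOpen (⊤ : (Spec (CommRingCat.of k)).Opens) := isAffineOpen_top _
  haveI : IsAffine (⊤ : (Spec (CommRingCat.of k)).Opens).toScheme := hUS
  haveI : IsAffine U.toScheme := hU
  haveI : IsAffine V.toScheme := hV
  have H := Scheme.Hom.isPullback_resLE (IsPullback.of_hasPullback A.hom B.hom)
    (US := ⊤) (UT := V) (UX := U) (by simp) (by simp) rfl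
  exact .of_isIso H.isoPullback.hom

theorem surjective_fst_left (G T : Over (Spec (CommRingCat.of k))) [Nonempty ↥T.left] :
    Function.Surjective (fst G T).left := by
  haveI := surjective_fst_of_field G.hom T.hom
  exact (pullback.fst G.hom T.hom).surjective

/-- the preimage of the unit component in `G ⊗ T`, `T` the spectrum of a field, is an irreducible
component -/
theorem preimage_unit_component_mem (G : Over (Spec (CommRingCat.of k))) [GrpObj G]
    (pt : ↥(Spec (CommRingCat.of k))) (Z : Set ↥G.left)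
    (hZ : Z ∈ irreducibleComponents ↥G.left) (he : η[G].left pt ∈ Z)
    (K : Type u) [Field K] (t : Spec (CommRingCat.of K) ⟶ Spec (CommRingCat.of k)) :
    (fst G (Over.mk t)).left ⁻¹' Z ∈ irreducibleComponents ↥(G ⊗ Over.mk t).left := by
  have hirr : IsIrreducible ((fst G (Over.mk t)).left ⁻¹' Z) :=
    isIrreducible_preimage_unit_component' G pt Z hZ he K t
  obtain ⟨D, hD, hZD⟩ := exists_mem_irreducibleComponents_subset_of_isIrreducible _ hirr
  haveI : Nonempty ↥(Over.mk t).left := inferInstanceAs (Nonempty (PrimeSpectrum K))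
  have hsurj := surjective_fst_left G (Over.mk t)
  have hZsub : Z ⊆ closure ((fst G (Over.mk t)).left '' D) := by
    intro z hz
    obtain ⟨w, rfl⟩ := hsurj z
    exact subset_closure ⟨w, hZD hz, rfl⟩
  have hEirr : IsIrreducible (closure ((fst G (Over.mk t)).left '' D)) :=
    (hD.1.image _ (fst G (Over.mk t)).left.continuous.continuousOn).closure
  have hle := hZ.2 hEirr hZsub
  have hDZ : D ⊆ (fst G (Over.mk t)).left ⁻¹' Z := fun w hw => hle (subset_closure ⟨w, hw, rfl⟩)
  rw [Set.Subset.antisymm hZD hDZ]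
  exact hD

/-- every point of `G ⊗ T`, `T` the spectrum of a field, lies in a unique component -/
theorem uniqueComp_tensor (G : Over (Spec (CommRingCat.of k))) [GrpObj G]
    (K : Type u) [Field K] (t : Spec (CommRingCat.of K) ⟶ Spec (CommRingCat.of k))
    (y : ↥(G ⊗ Over.mk t).left) : UniqueComp y :=
  uniqueComp_of_field ((Over.pullback t).obj G) y

variable (G : Over (Spec (CommRingCat.of k))) [GrpObj G] (pt : ↥(Spec (CommRingCat.of k)))
  (Z : Set ↥G.left) (hZ : Z ∈ irreducibleComponents ↥G.left) (he : η[G].left pt ∈ Z)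

include hZ he in
theorem exists_mul_eq_of_mem_unit_component (U : G.left.Opens) (heU : η[G].left pt ∈ U)
    (g : G.left) (hg : g ∈ Z) :
    ∃ ζ : ↥(G ⊗ G).left, (fst G G).left ζ ∈ U ∧ (snd G G).left ζ ∈ U ∧ μ[G].left ζ = g := by
  obtain ⟨T, hT⟩ : ∃ T : Over (Spec (CommRingCat.of k)), T = Tx G g := ⟨_, rfl⟩
  obtain ⟨c, hc⟩ : ∃ c : T ⟶ G, ∀ s : ↥T.left, c.left s = g := by
    subst hT
    exact ⟨cx G g, cx_left_apply G g⟩
  haveI : Nonempty ↥T.left := by subst hT; infer_instance
  have hZTcomp : (fst G T).left ⁻¹' Z ∈ irreducibleComponents ↥(G ⊗ T).left := by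
    subst hT
    exact preimage_unit_component_mem G pt Z hZ he _ _
  have hUq : ∀ y : ↥(G ⊗ T).left, UniqueComp y := by
    subst hT
    exact uniqueComp_tensor G _ _
  let s₀ : ↥T.left := Classical.arbitrary _
  let σh : ↥(G ⊗ T).left ≃ₜ ↥(G ⊗ T).left :=
    Scheme.homeoOfIso ((Over.forget _).mapIso (sigmaIso T c))
  let a : ↥(G ⊗ T).left := (tpt T c).left s₀
  let b : ↥(G ⊗ T).left := (tpt T (1 : T ⟶ G)).left s₀
  have hσab : σh a = b := by
    have h := tpt_sigma T c c
    rw [inv_mul_cancel] at h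
    exact left_apply_congr h s₀
  have hfa : (fst G T).left a = g := (left_apply_congr (tpt_fst T c) s₀).trans (hc s₀)
  have hfb : (fst G T).left b = η[G].left pt :=
    (left_apply_congr (tpt_fst T (1 : T ⟶ G)) s₀).trans (one_left_apply G pt T s₀)
  have haZ : a ∈ (fst G T).left ⁻¹' Z := by
    show (fst G T).left a ∈ Z
    rw [hfa]; exact hg
  have hbZ : b ∈ (fst G T).left ⁻¹' Z := by
    show (fst G T).left b ∈ Z
    rw [hfb]; exact he
  have hσZ : σh '' ((fst G T).left ⁻¹' Z) = (fst G T).left ⁻¹' Z :=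
    hUq b _ (image_mem_irreducibleComponents_homeo σh hZTcomp) _ hZTcomp ⟨a, haZ, hσab⟩ hbZ
  have hO₁ : IsOpen ((fst G T).left ⁻¹' (U : Set ↥G.left)) :=
    U.isOpen.preimage (fst G T).left.continuous
  have hO₂ : IsOpen (σh ⁻¹' ((fst G T).left ⁻¹' (U : Set ↥G.left))) :=
    hO₁.preimage σh.continuous
  have hn₁ : ((fst G T).left ⁻¹' Z ∩ (fst G T).left ⁻¹' (U : Set ↥G.left)).Nonempty :=
    ⟨b, hbZ, by show (fst G T).left b ∈ U; rw [hfb]; exact heU⟩
  have hn₂ : ((fst G T).left ⁻¹' Z ∩ σh ⁻¹' ((fst G T).left ⁻¹' (U : Set ↥G.left))).Nonempty :=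
    ⟨a, haZ, by show (fst G T).left (σh a) ∈ U; rw [hσab, hfb]; exact heU⟩
  obtain ⟨z, -, hz1, hz2⟩ := hZTcomp.1.2 _ _ hO₁ hO₂ hn₁ hn₂
  refine ⟨(theta T c).left z, ?_, ?_, ?_⟩
  · have h := left_apply_congr (theta_fst T c) z
    show (fst G G).left ((theta T c).left z) ∈ U
    rw [show (fst G G).left ((theta T c).left z) = (fst G T).left z from h]
    exact hz1
  · have h := left_apply_congr (theta_snd T c) z
    show (snd G G).left ((theta T c).left z) ∈ U
    rw [show (snd G G).left ((theta T c).left z) = (fst G T).left (σh z) from h]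
    exact hz2
  · have h := left_apply_congr (theta_mul T c) z
    show μ[G].left ((theta T c).left z) = g
    rw [show μ[G].left ((theta T c).left z) = c.left ((snd G T).left z) from h]
    exact hc _

include hZ he in
theorem isCompact_unit_component : IsCompact Z := by
  obtain ⟨U, hU, heU, -⟩ :=
    exists_isAffineOpen_mem_and_subset (x := η[G].left pt) (U := ⊤) trivial
  have hW₀ : IsCompact (((fst G G).left ⁻¹ᵁ U ⊓ (snd G G).left ⁻¹ᵁ U : (G ⊗ G).left.Opens) :
      Set ↥(G ⊗ G).left) := (isAffineOpen_prod U U hU hU).isCompact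
  have hsub : Z ⊆ μ[G].left ''
      (((fst G G).left ⁻¹ᵁ U ⊓ (snd G G).left ⁻¹ᵁ U : (G ⊗ G).left.Opens) :
        Set ↥(G ⊗ G).left) := by
    intro g hg
    obtain ⟨z, hz1, hz2, hz3⟩ := exists_mul_eq_of_mem_unit_component G pt Z hZ he U heU g hg
    exact ⟨z, ⟨hz1, hz2⟩, hz3⟩
  exact (hW₀.image μ[G].left.continuous).of_isClosed_subset
    (isClosed_of_mem_irreducibleComponents _ hZ) hsub

end Groth.Agent.Lib.Helper11.GrpD
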