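import Mathlib
import Groth.Agent.Lib.Helper11.GrpD

/-!
# Group schemes over a field: the connected component of the unit is its irreducible component
(helper11)
-/

set_option autoImplicit false
universe u

open CategoryTheory CategoryTheory.Limits MonoidalCategory CartesianMonoidalCategory MonObj GrpObj
  AlgebraicGeometry
open Groth.Agent.Lib.Helper11.GrpA Groth.Agent.Lib.Helper11.GrpB Groth.Agent.Lib.Helper11.GrpC
  Groth.Agent.Lib.Helper11.GrpD
open scoped Obj

namespace Groth.Agent.Lib.Helper11.GrpE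

variable {k : Type u} [Field k]
variable (G : Over (Spec (CommRingCat.of k))) [GrpObj G] (pt : ↥(Spec (CommRingCat.of k)))
  (Z : Set ↥G.left) (hZ : Z ∈ irreducibleComponents ↥G.left) (he : η[G].left pt ∈ Z)

include hZ he in
/-- generizations of the unit lie in `Z` -/
theorem mem_of_specializes_unit {x : G.left} (hx : x ⤳ η[G].left pt) : x ∈ Z := by
  have h1 : η[G].left pt ∈ irreducibleComponent x :=
    hx.mem_closed isClosed_irreducibleComponent mem_irreducibleComponent
  have := uniqueComp_of_field G (η[G].left pt) _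
    (irreducibleComponent_mem_irreducibleComponents x) Z hZ h1 he
  rw [← this]; exact mem_irreducibleComponent

include hZ he in
/-- `Z` is stable under the inverse -/
theorem inv_mem_unit_component {z : G.left} (hz : z ∈ Z) : ι[G].left z ∈ Z := by
  let ιh : ↥G.left ≃ₜ ↥G.left := Scheme.homeoOfIso ((Over.forget _).mapIso (invIso (G := G)))
  have h1 : ιh '' Z ∈ irreducibleComponents ↥G.left := image_mem_irreducibleComponents_homeo ιh hZ
  have h2 : η[G].left pt ∈ ιh '' Z :=
    ⟨η[G].left pt, he, congrArg (fun f : 𝟙_ (Over (Spec (CommRingCat.of k))) ⟶ G => f.left pt)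
      (GrpObj.one_inv (G := G))⟩
  have := uniqueComp_of_field G (η[G].left pt) _ h1 Z hZ h2 he
  rw [← this]; exact ⟨z, hz, rfl⟩

include hZ he in
theorem exists_component_of_mem_mul (ζ : ↥(G ⊗ G).left) (h1 : (fst G G).left ζ ∈ Z) :
    ∃ C ∈ irreducibleComponents ↥G.left, (snd G G).left ζ ∈ C ∧ μ[G].left ζ ∈ C := by
  obtain ⟨T, hT⟩ : ∃ T : Over (Spec (CommRingCat.of k)), T = Tx (G ⊗ G) ζ := ⟨_, rfl⟩
  obtain ⟨a, b, ha, hb, hab⟩ : ∃ a b : T ⟶ G, (∀ s : ↥T.left, a.left s = (fst G G).left ζ) ∧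
      (∀ s : ↥T.left, b.left s = (snd G G).left ζ) ∧
      (∀ s : ↥T.left, (a * b).left s = μ[G].left ζ) := by
    subst hT
    refine ⟨cx (G ⊗ G) ζ ≫ fst G G, cx (G ⊗ G) ζ ≫ snd G G, ?_, ?_, ?_⟩
    · intro s
      show (fst G G).left ((cx (G ⊗ G) ζ).left s) = _
      rw [cx_left_apply]
    · intro s
      show (snd G G).left ((cx (G ⊗ G) ζ).left s) = _
      rw [cx_left_apply]
    · intro s
      rw [Hom.mul_def, lift_comp_fst_snd]
      show μ[G].left ((cx (G ⊗ G) ζ).left s) = _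
      rw [cx_left_apply]
  haveI : Nonempty ↥T.left := by subst hT; infer_instance
  have hZTirr : IsIrreducible ((fst G T).left ⁻¹' Z) := by
    subst hT
    exact (preimage_unit_component_mem G pt Z hZ he _ _).1
  let s₀ : ↥T.left := Classical.arbitrary _
  let ρh : ↥(G ⊗ T).left ≃ₜ ↥(G ⊗ T).left :=
    Scheme.homeoOfIso ((Over.forget _).mapIso (rhoIso T b))
  let pa : ↥(G ⊗ T).left := (tpt T a).left s₀
  let pe : ↥(G ⊗ T).left := (tpt T (1 : T ⟶ G)).left s₀
  have hρa : ρh pa = (tpt T (a * b)).left s₀ := left_apply_congr (tpt_rho T b a) s₀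
  have hρe : ρh pe = (tpt T b).left s₀ := by
    have h := tpt_rho T b (1 : T ⟶ G)
    rw [_root_.one_mul] at h
    exact left_apply_congr h s₀
  have hfa : (fst G T).left (ρh pa) = μ[G].left ζ := by
    rw [hρa]
    exact (left_apply_congr (tpt_fst T (a * b)) s₀).trans (hab s₀)
  have hfe : (fst G T).left (ρh pe) = (snd G G).left ζ := by
    rw [hρe]
    exact (left_apply_congr (tpt_fst T b) s₀).trans (hb s₀)
  have hpa : pa ∈ (fst G T).left ⁻¹' Z := by
    show (fst G T).left pa ∈ Z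
    rw [show (fst G T).left pa = (fst G G).left ζ from
      (left_apply_congr (tpt_fst T a) s₀).trans (ha s₀)]
    exact h1
  have hpe : pe ∈ (fst G T).left ⁻¹' Z := by
    show (fst G T).left pe ∈ Z
    rw [show (fst G T).left pe = η[G].left pt from
      (left_apply_congr (tpt_fst T (1 : T ⟶ G)) s₀).trans (one_left_apply G pt T s₀)]
    exact he
  have hI : IsIrreducible ((fst G T).left '' (ρh '' ((fst G T).left ⁻¹' Z))) :=
    (hZTirr.image ρh ρh.continuous.continuousOn).image _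
      (fst G T).left.continuous.continuousOn
  obtain ⟨C, hC, hIC⟩ := exists_mem_irreducibleComponents_subset_of_isIrreducible _ hI
  exact ⟨C, hC, hIC ⟨ρh pe, ⟨pe, hpe, rfl⟩, hfe⟩, hIC ⟨ρh pa, ⟨pa, hpa, rfl⟩, hfa⟩⟩

include hZ he in
theorem mem_mul_of_mem_component (U : G.left.Opens) (u : G.left) (hu : u ∈ U) (C : Set ↥G.left)
    (hC : C ∈ irreducibleComponents ↥G.left) (huC : u ∈ C) (y : G.left) (hy : y ∈ C) :
    ∃ ζ : ↥(G ⊗ G).left, (fst G G).left ζ ∈ Z ∧ (snd G G).left ζ ∈ U ∧ μ[G].left ζ = y := by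
  obtain ⟨T, hT⟩ : ∃ T : Over (Spec (CommRingCat.of k)), T = Tx G y := ⟨_, rfl⟩
  obtain ⟨c, hc⟩ : ∃ c : T ⟶ G, ∀ s : ↥T.left, c.left s = y := by
    subst hT
    exact ⟨cx G y, cx_left_apply G y⟩
  haveI : Nonempty ↥T.left := by subst hT; infer_instance
  haveI : Flat (fst G T).left := flat_fst_of_field G.hom T.hom
  haveI : IsIso (rhoIso T c).hom.left :=
    inferInstanceAs (IsIso ((Over.forget _).map (rhoIso T c).hom))
  haveI : Flat ((rhoIso T c).hom.left ≫ (fst G T).left) := inferInstance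
  have hgen : GeneralizingMap ((rhoIso T c).hom.left ≫ (fst G T).left) :=
    Flat.generalizingMap _
  let s₀ : ↥T.left := Classical.arbitrary _
  let pe : ↥(G ⊗ T).left := (tpt T (1 : T ⟶ G)).left s₀
  have hqe : ((rhoIso T c).hom.left ≫ (fst G T).left) pe = y := by
    have h := tpt_rho T c (1 : T ⟶ G)
    rw [_root_.one_mul] at h
    have h2 : (rhoIso T c).hom.left pe = (tpt T c).left s₀ := left_apply_congr h s₀
    show (fst G T).left ((rhoIso T c).hom.left pe) = y
    rw [h2]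
    exact (left_apply_congr (tpt_fst T c) s₀).trans (hc s₀)
  obtain ⟨ξ, hξ⟩ := QuasiSober.sober hC.1 (isClosed_of_mem_irreducibleComponents _ hC)
  have hξy : ξ ⤳ ((rhoIso T c).hom.left ≫ (fst G T).left) pe := hqe ▸ hξ.specializes hy
  obtain ⟨w, hw, hqw⟩ := hgen hξy
  have hfw : (fst G T).left w ∈ Z := by
    apply mem_of_specializes_unit G pt Z hZ he
    have h3 : (fst G T).left w ⤳ (fst G T).left pe := hw.map (fst G T).left.continuous
    rwa [show (fst G T).left pe = η[G].left pt from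
      (left_apply_congr (tpt_fst T (1 : T ⟶ G)) s₀).trans (one_left_apply G pt T s₀)] at h3
  refine ⟨(theta' T c).left w, ?_, ?_, ?_⟩
  · have h := left_apply_congr (theta'_fst T c) w
    show (fst G G).left ((theta' T c).left w) ∈ Z
    rw [show (fst G G).left ((theta' T c).left w) = ι[G].left ((fst G T).left w) from h]
    exact inv_mem_unit_component G pt Z hZ he hfw
  · have h := left_apply_congr (theta'_snd T c) w
    show (snd G G).left ((theta' T c).left w) ∈ U
    rw [show (snd G G).left ((theta' T c).left w) =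
      ((rhoIso T c).hom.left ≫ (fst G T).left) w from h, hqw]
    exact (hξ.specializes huC).mem_open U.isOpen hu
  · have h := left_apply_congr (theta'_mul T c) w
    show μ[G].left ((theta' T c).left w) = y
    rw [show μ[G].left ((theta' T c).left w) = c.left ((snd G T).left w) from h]
    exact hc _

theorem isOpen_mul (hZc : IsClosed Z) (U : G.left.Opens) :
    IsOpen (μ[G].left '' ((fst G G).left ⁻¹' Z ∩ (snd G G).left ⁻¹' (U : Set ↥G.left))) := by
  obtain ⟨Zs, i, _, hr⟩ := exists_closedSubscheme Z hZc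
  let j : pullback (i ≫ G.hom) G.hom ⟶ pullback G.hom G.hom :=
    pullback.map _ _ _ _ i (𝟙 _) (𝟙 _) (by simp) (by simp)
  have hj : Set.range j = (fst G G).left ⁻¹' Z := by
    have h := Scheme.Pullback.range_map (i ≫ G.hom) G.hom G.hom G.hom i (𝟙 _) (𝟙 _)
      (by simp) (by simp)
    rw [hr] at h
    refine h.trans ?_
    have : Set.range (𝟙 G.left : G.left ⟶ G.left) = Set.univ := by
      ext x; simp
    rw [this, Set.preimage_univ, Set.inter_univ]
    rfl
  have hj2 : j ≫ (snd G G).left = pullback.snd (i ≫ G.hom) G.hom :=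
    (pullback.lift_snd _ _ _).trans (Category.comp_id _)
  haveI : UniversallyOpen (i ≫ G.hom) := inferInstance
  have hopen : IsOpenMap (pullback.snd (i ≫ G.hom) G.hom) :=
    (pullback.snd (i ≫ G.hom) G.hom).isOpenMap
  let shh : ↥(G ⊗ G).left ≃ₜ ↥(G ⊗ G).left :=
    Scheme.homeoOfIso ((Over.forget _).mapIso (shearIso (G := G)))
  have hO : IsOpen (shh.symm ⁻¹' ((snd G G).left ⁻¹' (U : Set ↥G.left))) :=
    (U.isOpen.preimage (snd G G).left.continuous).preimage shh.symm.continuous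
  have hfst : ∀ ζ : ↥(G ⊗ G).left, (fst G G).left (shh ζ) = (fst G G).left ζ := fun ζ =>
    left_apply_congr (shearIso_hom_fst (G := G)) ζ
  have hsnd : ∀ ζ : ↥(G ⊗ G).left, (snd G G).left (shh ζ) = μ[G].left ζ := fun ζ =>
    left_apply_congr (shearIso_hom_snd (G := G)) ζ
  have hjs : ∀ w, (snd G G).left (j w) = pullback.snd (i ≫ G.hom) G.hom w := fun w =>
    congrArg (fun f : pullback (i ≫ G.hom) G.hom ⟶ G.left => f w) hj2
  have hW : μ[G].left '' ((fst G G).left ⁻¹' Z ∩ (snd G G).left ⁻¹' (U : Set ↥G.left)) =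
      (pullback.snd (i ≫ G.hom) G.hom) ''
        (j ⁻¹' (shh.symm ⁻¹' ((snd G G).left ⁻¹' (U : Set ↥G.left)))) := by
    ext x
    constructor
    · rintro ⟨ζ, ⟨hζ1, hζ2⟩, rfl⟩
      have hm : shh ζ ∈ Set.range j := by
        rw [hj]
        show (fst G G).left (shh ζ) ∈ Z
        rw [hfst]; exact hζ1
      obtain ⟨w, hw⟩ := hm
      refine ⟨w, ?_, ?_⟩
      · show (snd G G).left (shh.symm (j w)) ∈ U
        rw [hw, shh.symm_apply_apply]; exact hζ2
      · rw [← hjs, hw, hsnd]
    · rintro ⟨w, hw, rfl⟩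
      refine ⟨shh.symm (j w), ⟨?_, hw⟩, ?_⟩
      · have h1 := hfst (shh.symm (j w))
        rw [shh.apply_symm_apply] at h1
        show (fst G G).left (shh.symm (j w)) ∈ Z
        rw [← h1]
        have : j w ∈ Set.range j := ⟨w, rfl⟩
        rw [hj] at this
        exact this
      · have h2 := hsnd (shh.symm (j w))
        rw [shh.apply_symm_apply] at h2
        rw [← h2, hjs]
  rw [hW]
  exact hopen _ (hO.preimage j.continuous)

theorem isCompact_mul (hZc : IsClosed Z) (t : Finset ↥G.left) (V : ↥G.left → G.left.Opens)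
    (hV : ∀ z ∈ t, IsAffineOpen (V z)) (hZU : Z ⊆ ⋃ z ∈ t, (V z : Set ↥G.left)) :
    IsCompact (μ[G].left '' ((fst G G).left ⁻¹' Z ∩
      (snd G G).left ⁻¹' (⋃ z ∈ t, (V z : Set ↥G.left)))) := by
  have hB : IsCompact (⋃ z ∈ t, ⋃ z' ∈ t,
      (((fst G G).left ⁻¹ᵁ (V z) ⊓ (snd G G).left ⁻¹ᵁ (V z') : (G ⊗ G).left.Opens) :
        Set ↥(G ⊗ G).left)) :=
    t.isCompact_biUnion fun z hz => t.isCompact_biUnion fun z' hz' =>
      (isAffineOpen_prod (V z) (V z') (hV z hz) (hV z' hz')).isCompact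
  have hA : (fst G G).left ⁻¹' Z ∩ (snd G G).left ⁻¹' (⋃ z ∈ t, (V z : Set ↥G.left)) =
      (⋃ z ∈ t, ⋃ z' ∈ t,
      (((fst G G).left ⁻¹ᵁ (V z) ⊓ (snd G G).left ⁻¹ᵁ (V z') : (G ⊗ G).left.Opens) :
        Set ↥(G ⊗ G).left)) ∩ (fst G G).left ⁻¹' Z := by
    ext ζ
    constructor
    · rintro ⟨h1, h2⟩
      refine ⟨?_, h1⟩
      obtain ⟨z, hz, hζz⟩ := Set.mem_iUnion₂.mp (hZU h1)
      obtain ⟨z', hz', hζz'⟩ := Set.mem_iUnion₂.mp h2
      exact Set.mem_iUnion₂.mpr ⟨z, hz, Set.mem_iUnion₂.mpr ⟨z', hz', ⟨hζz, hζz'⟩⟩⟩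
    · rintro ⟨h1, h2⟩
      refine ⟨h2, ?_⟩
      obtain ⟨z, hz, h3⟩ := Set.mem_iUnion₂.mp h1
      obtain ⟨z', hz', h4⟩ := Set.mem_iUnion₂.mp h3
      exact Set.mem_iUnion₂.mpr ⟨z', hz', h4.2⟩
  rw [hA]
  exact (hB.inter_right (hZc.preimage (fst G G).left.continuous)).image μ[G].left.continuous

include hZ he in
/-- the connected component of the unit is the irreducible component of the unit -/
theorem connectedComponent_unit_eq : connectedComponent (η[G].left pt) = Z := by
  apply Set.Subset.antisymm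
  · intro y hy
    by_contra hyZ
    have hZ' := irreducibleComponent_mem_irreducibleComponents y
    have hdisj : ∀ w ∈ Z, w ∉ irreducibleComponent y := fun w hw hw' =>
      hyZ ((uniqueComp_of_field G w Z hZ _ hZ' hw hw') ▸ mem_irreducibleComponent)
    have hZcl := isClosed_of_mem_irreducibleComponents _ hZ
    have hZc := isCompact_unit_component G pt Z hZ he
    have hV : ∀ z ∈ Z, ∃ V : G.left.Opens, IsAffineOpen V ∧ z ∈ V ∧
        (V : Set ↥G.left) ⊆ (irreducibleComponent y)ᶜ := by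
      intro z hz
      obtain ⟨V, h1, h2, h3⟩ := exists_isAffineOpen_mem_and_subset (x := z)
        (U := ⟨(irreducibleComponent y)ᶜ, isClosed_irreducibleComponent.isOpen_compl⟩)
        (hdisj z hz)
      exact ⟨V, h1, h2, h3⟩
    choose! V hV1 hV2 hV3 using hV
    obtain ⟨t, htZ, hcover⟩ := hZc.elim_nhds_subcover (fun z => (V z : Set ↥G.left))
      (fun z hz => (V z).isOpen.mem_nhds (hV2 z hz))
    let Uo : G.left.Opens :=
      ⟨⋃ z ∈ t, (V z : Set ↥G.left), isOpen_biUnion fun z _ => (V z).isOpen⟩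
    have hUZ' : ∀ u ∈ Uo, u ∉ irreducibleComponent y := by
      intro u hu
      obtain ⟨z, hz, huz⟩ := Set.mem_iUnion₂.mp hu
      exact hV3 z (htZ z hz) huz
    have hWopen := isOpen_mul G Z hZcl Uo
    have hWc := isCompact_mul G Z hZcl t V (fun z hz => hV1 z (htZ z hz)) hcover
    have ha : ∀ x ∈ μ[G].left '' ((fst G G).left ⁻¹' Z ∩ (snd G G).left ⁻¹' (Uo : Set ↥G.left)),
        ∃ u ∈ Uo, ∃ C ∈ irreducibleComponents ↥G.left, u ∈ C ∧ x ∈ C := by
      rintro _ ⟨ζ, ⟨h1, h2⟩, rfl⟩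
      obtain ⟨C, hC, h3, h4⟩ := exists_component_of_mem_mul G pt Z hZ he ζ h1
      exact ⟨_, h2, C, hC, h3, h4⟩
    have hb : ∀ u ∈ Uo, ∀ C ∈ irreducibleComponents ↥G.left, u ∈ C →
        C ⊆ μ[G].left '' ((fst G G).left ⁻¹' Z ∩ (snd G G).left ⁻¹' (Uo : Set ↥G.left)) := by
      intro u hu C hC huC y' hy'
      obtain ⟨ζ, h1, h2, h3⟩ := mem_mul_of_mem_component G pt Z hZ he Uo u hu C hC huC y' hy'
      exact ⟨ζ, ⟨h1, h2⟩, h3⟩
    have hstab : StableUnderSpecialization
        (μ[G].left '' ((fst G G).left ⁻¹' Z ∩ (snd G G).left ⁻¹' (Uo : Set ↥G.left))) := by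
      intro x x' hxx' hx
      obtain ⟨u, hu, C, hC, huC, hxC⟩ := ha x hx
      exact hb u hu C hC huC (hxx'.mem_closed (isClosed_of_mem_irreducibleComponents _ hC) hxC)
    haveI := quasiSeparatedSpace_left G
    have hWclosed : IsClosed
        (μ[G].left '' ((fst G G).left ⁻¹' Z ∩ (snd G G).left ⁻¹' (Uo : Set ↥G.left))) :=
      isClosed_of_isCompact_of_stableUnderSpecialization ⟨_, hWopen⟩ hWc hstab
    have heW : η[G].left pt ∈
        μ[G].left '' ((fst G G).left ⁻¹' Z ∩ (snd G G).left ⁻¹' (Uo : Set ↥G.left)) :=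
      hb _ (hcover he) Z hZ he he
    have hsubW := (IsClopen.connectedComponent_subset ⟨hWclosed, hWopen⟩ heW) hy
    obtain ⟨u, hu, C, hC, huC, hyC⟩ := ha y hsubW
    have : C = irreducibleComponent y :=
      uniqueComp_of_field G y C hC _ hZ' hyC mem_irreducibleComponent
    exact hUZ' u hu (this ▸ huC)
  · exact hZ.1.isConnected.subset_connectedComponent he

end Groth.Agent.Lib.Helper11.GrpE
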