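import Mathlib
import Groth.Agent.Lib.Helper11.GrpE

/-!
# Group schemes over a field: quotients `u₁ u₂⁻¹` from a nonempty open of the unit component
(helper11)
-/

set_option autoImplicit false
universe u

open CategoryTheory CategoryTheory.Limits MonoidalCategory CartesianMonoidalCategory MonObj GrpObj
  AlgebraicGeometry
open Groth.Agent.Lib.Helper11.GrpA Groth.Agent.Lib.Helper11.GrpB Groth.Agent.Lib.Helper11.GrpC
  Groth.Agent.Lib.Helper11.GrpD
open scoped Obj

namespace Groth.Agent.Lib.Helper11.GrpG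

section Abstract

variable {C : Type*} [Category C] [CartesianMonoidalCategory C] {G : C} [GrpObj G]
variable (T : C) (c : T ⟶ G)

/-- `x ↦ c⁻¹ x` on `G ⊗ T` -/
noncomputable def lamIso : G ⊗ T ≅ G ⊗ T where
  hom := lift ((snd G T ≫ c)⁻¹ * fst G T) (snd G T)
  inv := lift ((snd G T ≫ c) * fst G T) (snd G T)
  hom_inv_id := by
    apply CartesianMonoidalCategory.hom_ext
    · rw [Category.assoc, lift_fst, Category.id_comp, MonObj.comp_mul,
        lift_snd_assoc, lift_fst, mul_inv_cancel_left]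
    · rw [Category.assoc, lift_snd, lift_snd, Category.id_comp]
  inv_hom_id := by
    apply CartesianMonoidalCategory.hom_ext
    · rw [Category.assoc, lift_fst, Category.id_comp, MonObj.comp_mul, GrpObj.comp_inv,
        lift_snd_assoc, lift_fst, inv_mul_cancel_left]
    · rw [Category.assoc, lift_snd, lift_snd, Category.id_comp]

theorem lamIso_hom_fst :
    (lamIso T c).hom ≫ fst G T = (snd G T ≫ c)⁻¹ * fst G T := lift_fst _ _

theorem lamIso_hom_snd : (lamIso T c).hom ≫ snd G T = snd G T := lift_snd _ _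

/-- `x ↦ (x, c⁻¹ x)` -/
noncomputable def thetaL : G ⊗ T ⟶ G ⊗ G := lift (fst G T) ((snd G T ≫ c)⁻¹ * fst G T)

theorem thetaL_fst : thetaL T c ≫ fst G G = fst G T := lift_fst _ _

theorem thetaL_snd : thetaL T c ≫ snd G G = (lamIso T c).hom ≫ fst G T := by
  rw [thetaL, lift_snd, lamIso_hom_fst]

theorem thetaL_div : thetaL T c ≫ (fst G G * (snd G G)⁻¹) = snd G T ≫ c := by
  rw [MonObj.comp_mul, GrpObj.comp_inv, thetaL, lift_fst, lift_snd, _root_.mul_inv_rev,
    _root_.inv_inv, mul_inv_cancel_left]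

theorem tpt_lam (a : T ⟶ G) : tpt T a ≫ (lamIso T c).hom = tpt T (c⁻¹ * a) := by
  apply CartesianMonoidalCategory.hom_ext
  · rw [Category.assoc, lamIso_hom_fst, MonObj.comp_mul, GrpObj.comp_inv, tpt_fst,
      ← Category.assoc, tpt_snd, Category.id_comp, tpt_fst]
  · rw [Category.assoc, lamIso_hom_snd, tpt_snd, tpt_snd]

end Abstract

variable {k : Type u} [Field k]
variable (G : Over (Spec (CommRingCat.of k))) [GrpObj G] (pt : ↥(Spec (CommRingCat.of k)))
  (Z : Set ↥G.left) (hZ : Z ∈ irreducibleComponents ↥G.left) (he : η[G].left pt ∈ Z)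

include hZ he in
theorem exists_div_eq_of_mem_unit_component (U : G.left.Opens)
    (hne : ((U : Set ↥G.left) ∩ Z).Nonempty) (g : G.left) (hg : g ∈ Z) :
    ∃ ζ : ↥(G ⊗ G).left, (fst G G).left ζ ∈ U ∧ (snd G G).left ζ ∈ U ∧
      (fst G G * (snd G G)⁻¹).left ζ = g := by
  obtain ⟨T, hT⟩ : ∃ T : Over (Spec (CommRingCat.of k)), T = Tx G g := ⟨_, rfl⟩
  obtain ⟨c, hc⟩ : ∃ c : T ⟶ G, ∀ s : ↥T.left, c.left s = g := by
    subst hT
    exact ⟨cx G g, cx_left_apply G g⟩
  haveI : Nonempty ↥T.left := by subst hT; infer_instance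
  have hZTcomp : (fst G T).left ⁻¹' Z ∈ irreducibleComponents ↥(G ⊗ T).left := by
    subst hT
    exact preimage_unit_component_mem G pt Z hZ he _ _
  have hUq : ∀ y : ↥(G ⊗ T).left, UniqueComp y := by
    subst hT
    exact uniqueComp_tensor G _ _
  let s₀ : ↥T.left := Classical.arbitrary _
  let lh : ↥(G ⊗ T).left ≃ₜ ↥(G ⊗ T).left :=
    Scheme.homeoOfIso ((Over.forget _).mapIso (lamIso T c))
  let a : ↥(G ⊗ T).left := (tpt T c).left s₀
  let b : ↥(G ⊗ T).left := (tpt T (1 : T ⟶ G)).left s₀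
  have hlab : lh a = b := by
    have h := tpt_lam T c c
    rw [inv_mul_cancel] at h
    exact left_apply_congr h s₀
  have hfa : (fst G T).left a = g := (left_apply_congr (tpt_fst T c) s₀).trans (hc s₀)
  have hfb : (fst G T).left b = η[G].left pt :=
    (left_apply_congr (tpt_fst T (1 : T ⟶ G)) s₀).trans (one_left_apply G pt T s₀)
  have haZ : a ∈ (fst G T).left ⁻¹' Z := by
    show (fst G T).left a ∈ Z
    rw [hfa]; exact hg
  have hbZ : b ∈ (fst G T).left ⁻¹' Z := by
    show (fst G T).left b ∈ Z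
    rw [hfb]; exact he
  have hlZ : lh '' ((fst G T).left ⁻¹' Z) = (fst G T).left ⁻¹' Z :=
    hUq b _ (image_mem_irreducibleComponents_homeo lh hZTcomp) _ hZTcomp ⟨a, haZ, hlab⟩ hbZ
  obtain ⟨u, huU, huZ⟩ := hne
  obtain ⟨b', hb'⟩ := surjective_fst_left G T u
  have hb'Z : b' ∈ (fst G T).left ⁻¹' Z := by
    show (fst G T).left b' ∈ Z
    rw [hb']; exact huZ
  obtain ⟨a', ha'Z, ha'⟩ : b' ∈ lh '' ((fst G T).left ⁻¹' Z) := by
    rw [hlZ]; exact hb'Z
  have hO₁ : IsOpen ((fst G T).left ⁻¹' (U : Set ↥G.left)) :=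
    U.isOpen.preimage (fst G T).left.continuous
  have hO₂ : IsOpen (lh ⁻¹' ((fst G T).left ⁻¹' (U : Set ↥G.left))) :=
    hO₁.preimage lh.continuous
  have hn₁ : ((fst G T).left ⁻¹' Z ∩ (fst G T).left ⁻¹' (U : Set ↥G.left)).Nonempty :=
    ⟨b', hb'Z, by show (fst G T).left b' ∈ U; rw [hb']; exact huU⟩
  have hn₂ : ((fst G T).left ⁻¹' Z ∩ lh ⁻¹' ((fst G T).left ⁻¹' (U : Set ↥G.left))).Nonempty :=
    ⟨a', ha'Z, by show (fst G T).left (lh a') ∈ U; rw [ha', hb']; exact huU⟩
  obtain ⟨z, -, hz1, hz2⟩ := hZTcomp.1.2 _ _ hO₁ hO₂ hn₁ hn₂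
  refine ⟨(thetaL T c).left z, ?_, ?_, ?_⟩
  · have h := left_apply_congr (thetaL_fst T c) z
    show (fst G G).left ((thetaL T c).left z) ∈ U
    rw [show (fst G G).left ((thetaL T c).left z) = (fst G T).left z from h]
    exact hz1
  · have h := left_apply_congr (thetaL_snd T c) z
    show (snd G G).left ((thetaL T c).left z) ∈ U
    rw [show (snd G G).left ((thetaL T c).left z) = (fst G T).left (lh z) from h]
    exact hz2
  · have h := left_apply_congr (thetaL_div T c) z
    show (fst G G * (snd G G)⁻¹).left ((thetaL T c).left z) = g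
    rw [show (fst G G * (snd G G)⁻¹).left ((thetaL T c).left z) = c.left ((snd G T).left z) from h]
    exact hc _

end Groth.Agent.Lib.Helper11.GrpG
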