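import Mathlib
import Groth.Prelude.Def_AlgGrp
import Groth.Agent.Lib.Helper11.GrpG

/-!
# Actions of group schemes: `T`-point calculus (helper11)
-/

set_option autoImplicit false
universe u

open CategoryTheory CategoryTheory.Limits MonoidalCategory CartesianMonoidalCategory MonObj GrpObj
  AlgebraicGeometry
open Groth.Agent.Lib.Helper11.GrpA Groth.Agent.Lib.Helper11.GrpG

namespace Groth.Agent.Lib.Helper11.ActA

variable {S : Scheme.{u}} {G X : Over S} [GrpObj G] (a : AlgGrp.Action G X)

/-- `g · x` for `T`-points -/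
noncomputable def actT {T : Over S} (g : T ⟶ G) (x : T ⟶ X) : T ⟶ X := lift g x ≫ a.act

theorem comp_actT {T T' : Over S} (f : T' ⟶ T) (g : T ⟶ G) (x : T ⟶ X) :
    f ≫ actT a g x = actT a (f ≫ g) (f ≫ x) := by
  rw [actT, actT, comp_lift_assoc]

theorem one_actT {T : Over S} (x : T ⟶ X) : actT a (1 : T ⟶ G) x = x := by
  rw [actT, Hom.one_def, ← lift_whiskerRight_assoc, a.one_act, lift_leftUnitor_hom]

theorem mul_actT {T : Over S} (g h : T ⟶ G) (x : T ⟶ X) :
    actT a (g * h) x = actT a g (actT a h x) := by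
  rw [actT, actT, actT, Hom.mul_def, ← lift_whiskerRight_assoc, a.mul_act,
    lift_lift_associator_hom_assoc, lift_whiskerLeft_assoc]

theorem inv_actT_actT {T : Over S} (g : T ⟶ G) (x : T ⟶ X) :
    actT a g⁻¹ (actT a g x) = x := by
  rw [← mul_actT, inv_mul_cancel, one_actT]

theorem actT_inv_actT {T : Over S} (g : T ⟶ G) (x : T ⟶ X) :
    actT a g (actT a g⁻¹ x) = x := by
  rw [← mul_actT, mul_inv_cancel, one_actT]

variable (T : Over S)

/-- `(x, t) ↦ (g(t) · x, t)` on `X ⊗ T` -/
noncomputable def lamX (g : T ⟶ G) : X ⊗ T ≅ X ⊗ T where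
  hom := lift (actT a (snd X T ≫ g) (fst X T)) (snd X T)
  inv := lift (actT a (snd X T ≫ g)⁻¹ (fst X T)) (snd X T)
  hom_inv_id := by
    apply CartesianMonoidalCategory.hom_ext
    · rw [Category.assoc, lift_fst, Category.id_comp, comp_actT, GrpObj.comp_inv,
        lift_snd_assoc, lift_fst, inv_actT_actT]
    · rw [Category.assoc, lift_snd, lift_snd, Category.id_comp]
  inv_hom_id := by
    apply CartesianMonoidalCategory.hom_ext
    · rw [Category.assoc, lift_fst, Category.id_comp, comp_actT,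
        lift_snd_assoc, lift_fst, actT_inv_actT]
    · rw [Category.assoc, lift_snd, lift_snd, Category.id_comp]

theorem lamX_hom_fst (g : T ⟶ G) :
    (lamX a T g).hom ≫ fst X T = actT a (snd X T ≫ g) (fst X T) := lift_fst _ _

theorem lamX_hom_snd (g : T ⟶ G) : (lamX a T g).hom ≫ snd X T = snd X T := lift_snd _ _

/-- the `T`-point `(x, id)` of `X ⊗ T` -/
noncomputable def xpt (x : T ⟶ X) : T ⟶ X ⊗ T := lift x (𝟙 T)

theorem xpt_fst (x : T ⟶ X) : xpt T x ≫ fst X T = x := lift_fst _ _

theorem xpt_snd (x : T ⟶ X) : xpt T x ≫ snd X T = 𝟙 T := lift_snd _ _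

theorem xpt_lamX (g : T ⟶ G) (x : T ⟶ X) :
    xpt T x ≫ (lamX a T g).hom = xpt T (actT a g x) := by
  apply CartesianMonoidalCategory.hom_ext
  · rw [Category.assoc, lamX_hom_fst, comp_actT, xpt_fst, ← Category.assoc, xpt_snd,
      Category.id_comp, xpt_fst]
  · rw [Category.assoc, lamX_hom_snd, xpt_snd, xpt_snd]

theorem xpt_whiskerLeft {T' : Over S} (f : T' ⟶ T) (x : T ⟶ X) :
    xpt T' (f ≫ x) ≫ (X ◁ f) = f ≫ xpt T x := by
  rw [xpt, xpt, lift_whiskerLeft, comp_lift, Category.id_comp, Category.comp_id]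

/-- orbit map `(h, t) ↦ (h · x(t), t)` -/
noncomputable def orb (x : T ⟶ X) : G ⊗ T ⟶ X ⊗ T :=
  lift (actT a (fst G T) (snd G T ≫ x)) (snd G T)

theorem orb_fst (x : T ⟶ X) : orb a T x ≫ fst X T = actT a (fst G T) (snd G T ≫ x) :=
  lift_fst _ _

theorem orb_snd (x : T ⟶ X) : orb a T x ≫ snd X T = snd G T := lift_snd _ _

theorem tpt_orb (x : T ⟶ X) (h : T ⟶ G) : tpt T h ≫ orb a T x = xpt T (actT a h x) := by
  apply CartesianMonoidalCategory.hom_ext
  · rw [Category.assoc, orb_fst, comp_actT, tpt_fst, ← Category.assoc, tpt_snd, Category.id_comp,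
      xpt_fst]
  · rw [Category.assoc, orb_snd, tpt_snd, xpt_snd]

/-- left translation intertwines the orbit map -/
theorem lam_orb (x : T ⟶ X) (g : T ⟶ G) :
    (lamIso T g).inv ≫ orb a T x = orb a T x ≫ (lamX a T g).hom := by
  apply CartesianMonoidalCategory.hom_ext
  · rw [Category.assoc, orb_fst, comp_actT, Category.assoc, lamX_hom_fst, comp_actT, orb_fst]
    have h1 : (lamIso T g).inv ≫ fst G T = (snd G T ≫ g) * fst G T := lift_fst _ _
    have h2 : (lamIso T g).inv ≫ snd G T = snd G T := lift_snd _ _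
    rw [h1, ← Category.assoc, h2, ← Category.assoc, orb_snd, mul_actT]
  · rw [Category.assoc, orb_snd, Category.assoc, lamX_hom_snd, orb_snd]
    exact lift_snd _ _

/-- right translation intertwines the orbit map -/
theorem rho_orb (x : T ⟶ X) (g : T ⟶ G) :
    (rhoIso T g).hom ≫ orb a T x = orb a T (actT a g x) := by
  apply CartesianMonoidalCategory.hom_ext
  · rw [Category.assoc, orb_fst, comp_actT, rhoIso_hom_fst, ← Category.assoc, rhoIso_hom_snd,
      orb_fst, mul_actT, comp_actT]
  · rw [Category.assoc, orb_snd, rhoIso_hom_snd, orb_snd]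

theorem whisker_orb {T' : Over S} (f : T' ⟶ T) (x : T ⟶ X) :
    (G ◁ f) ≫ orb a T x = orb a T' (f ≫ x) ≫ (X ◁ f) := by
  apply CartesianMonoidalCategory.hom_ext
  · rw [Category.assoc, orb_fst, comp_actT, whiskerLeft_fst, ← Category.assoc, whiskerLeft_snd,
      Category.assoc, Category.assoc, whiskerLeft_fst, orb_fst]
  · rw [Category.assoc, orb_snd, whiskerLeft_snd, Category.assoc, whiskerLeft_snd,
      ← Category.assoc, orb_snd]

theorem whisker_lamX {T' : Over S} (f : T' ⟶ T) (g : T ⟶ G) :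
    (lamX a T' (f ≫ g)).hom ≫ (X ◁ f) = (X ◁ f) ≫ (lamX a T g).hom := by
  apply CartesianMonoidalCategory.hom_ext
  · rw [Category.assoc, whiskerLeft_fst, lamX_hom_fst, Category.assoc, lamX_hom_fst, comp_actT,
      whiskerLeft_fst, whiskerLeft_snd_assoc]
  · rw [Category.assoc, whiskerLeft_snd, ← Category.assoc, lamX_hom_snd, Category.assoc,
      lamX_hom_snd, whiskerLeft_snd]

/-- the orbit map is a base change of `(g, x) ↦ (g x, x)` -/
theorem isPullback_orb (x : T ⟶ X) :
    IsPullback (orb a T x) (lift (fst G T) (snd G T ≫ x)) (X ◁ x) (lift a.act (snd G X)) := by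
  refine ⟨⟨?_⟩, ⟨PullbackCone.IsLimit.mk _ (fun s => lift (s.snd ≫ fst G X) (s.fst ≫ snd X T))
    ?_ ?_ ?_⟩⟩
  · apply CartesianMonoidalCategory.hom_ext
    · rw [Category.assoc, whiskerLeft_fst, orb_fst, Category.assoc, lift_fst, actT]
    · rw [Category.assoc, whiskerLeft_snd, ← Category.assoc, orb_snd, Category.assoc, lift_snd,
        lift_snd]
  · intro s
    have hc := s.condition
    have hc1 : s.fst ≫ fst X T = s.snd ≫ a.act := by
      have := congrArg (fun f => f ≫ fst X X) hc
      simpa only [Category.assoc, whiskerLeft_fst, lift_fst] using this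
    have hc2 : s.fst ≫ snd X T ≫ x = s.snd ≫ snd G X := by
      have := congrArg (fun f => f ≫ snd X X) hc
      simpa only [Category.assoc, whiskerLeft_snd, lift_snd] using this
    apply CartesianMonoidalCategory.hom_ext
    · rw [Category.assoc, orb_fst, comp_actT, lift_fst, ← Category.assoc, lift_snd,
        Category.assoc, hc2, hc1, actT, lift_comp_fst_snd]
    · rw [Category.assoc, orb_snd, lift_snd]
  · intro s
    have hc := s.condition
    have hc2 : s.fst ≫ snd X T ≫ x = s.snd ≫ snd G X := by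
      have := congrArg (fun f => f ≫ snd X X) hc
      simpa only [Category.assoc, whiskerLeft_snd, lift_snd] using this
    apply CartesianMonoidalCategory.hom_ext
    · rw [Category.assoc, lift_fst, lift_fst]
    · rw [Category.assoc, lift_snd, ← Category.assoc, lift_snd, Category.assoc, hc2]
  · intro s m h1 h2
    apply CartesianMonoidalCategory.hom_ext
    · rw [lift_fst, ← h2, Category.assoc, lift_fst]
    · rw [lift_snd, ← h1, Category.assoc, orb_snd]

/-- compatibility of orbit maps with change of `T` is a pullback square -/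
theorem isPullback_whisker_orb {T' : Over S} (f : T' ⟶ T) (x : T ⟶ X) :
    IsPullback (orb a T' (f ≫ x)) (G ◁ f) (X ◁ f) (orb a T x) := by
  have hbig := isPullback_orb a T' (f ≫ x)
  have e1 : lift (fst G T') (snd G T' ≫ f ≫ x) = (G ◁ f) ≫ lift (fst G T) (snd G T ≫ x) := by
    rw [comp_lift, whiskerLeft_fst, whiskerLeft_snd_assoc]
  have e2 : X ◁ (f ≫ x) = (X ◁ f) ≫ (X ◁ x) := MonoidalCategory.whiskerLeft_comp _ _ _
  rw [e1, e2] at hbig
  exact IsPullback.of_bot hbig (whisker_orb a T f x).symm (isPullback_orb a T x)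

/-- the square for change of `T` is a pullback -/
theorem isPullback_whiskerLeft {T' : Over S} (f : T' ⟶ T) (Y : Over S) :
    IsPullback (Y ◁ f) (snd Y T') (snd Y T) f := by
  refine ⟨⟨whiskerLeft_snd _ _⟩, ⟨PullbackCone.IsLimit.mk _
    (fun s => lift (s.fst ≫ fst Y T) s.snd) ?_ ?_ ?_⟩⟩
  · intro s
    apply CartesianMonoidalCategory.hom_ext
    · rw [Category.assoc, whiskerLeft_fst, lift_fst]
    · rw [Category.assoc, whiskerLeft_snd, ← Category.assoc, lift_snd, s.condition]
  · intro s
    exact lift_snd _ _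
  · intro s m h1 h2
    apply CartesianMonoidalCategory.hom_ext
    · rw [lift_fst, ← h1, Category.assoc, whiskerLeft_fst]
    · rw [lift_snd, ← h2]

/-- shear `(g, x) ↦ (g, g x)` on `G ⊗ X` -/
noncomputable def shearX : G ⊗ X ≅ G ⊗ X where
  hom := lift (fst G X) a.act
  inv := lift (fst G X) (actT a (fst G X)⁻¹ (snd G X))
  hom_inv_id := by
    apply CartesianMonoidalCategory.hom_ext
    · rw [Category.assoc, lift_fst, lift_fst, Category.id_comp]
    · rw [Category.assoc, lift_snd, Category.id_comp, comp_actT, GrpObj.comp_inv, lift_fst,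
        lift_snd]
      have : a.act = actT a (fst G X) (snd G X) := by
        rw [actT, lift_fst_snd, Category.id_comp]
      rw [this, inv_actT_actT]
  inv_hom_id := by
    apply CartesianMonoidalCategory.hom_ext
    · rw [Category.assoc, lift_fst, lift_fst, Category.id_comp]
    · rw [Category.assoc, lift_snd, Category.id_comp]
      have : lift (fst G X) (actT a (fst G X)⁻¹ (snd G X)) ≫ a.act =
          actT a (fst G X) (actT a (fst G X)⁻¹ (snd G X)) := rfl
      rw [this, actT_inv_actT]

theorem shearX_hom_fst : (shearX a).hom ≫ fst G X = fst G X := lift_fst _ _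

theorem shearX_hom_snd : (shearX a).hom ≫ snd G X = a.act := lift_snd _ _

/-- `(h, t) ↦ (h⁻¹, h · x(t))` -/
noncomputable def thetaX (x : T ⟶ X) : G ⊗ T ⟶ G ⊗ X :=
  lift (fst G T)⁻¹ (actT a (fst G T) (snd G T ≫ x))

theorem thetaX_fst (x : T ⟶ X) : thetaX a T x ≫ fst G X = fst G T ≫ ι[G] := by
  rw [thetaX, lift_fst, Hom.inv_def]

theorem thetaX_snd (x : T ⟶ X) : thetaX a T x ≫ snd G X = orb a T x ≫ fst X T := by
  rw [thetaX, lift_snd, orb_fst]

theorem thetaX_act (x : T ⟶ X) : thetaX a T x ≫ a.act = snd G T ≫ x := by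
  have : thetaX a T x ≫ a.act = actT a (fst G T)⁻¹ (actT a (fst G T) (snd G T ≫ x)) := rfl
  rw [this, inv_actT_actT]

/-- the orbit map of a rational point through `actT` -/
theorem actT_toUnit (x : 𝟙_ (Over S) ⟶ X) (g : T ⟶ G) :
    actT a g (toUnit T ≫ x) = g ≫ a.orbitMap x := by
  rw [AlgGrp.Action.orbitMap, actT, comp_lift_assoc, Category.comp_id, ← Category.assoc,
    toUnit_unique (g ≫ toUnit G) (toUnit T)]

end Groth.Agent.Lib.Helper11.ActA
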