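import Mathlib
import Groth.Prelude.Def_Grpd
import Groth.Prelude.Def_AlgGrp
import Groth.Prelude.Def_Mor2
import Groth.Agent.Lib.Helper11.ActA
import Groth.Agent.Lib.Helper11.GrpdLib
import Groth.Agent.Lib.Helper11.FinQuotD
import Groth.Agent.Lib.Helper11.GQ7b
import Groth.Agent.Lib.Helper11.GQ7e

/-!
# The action groupoid of a group scheme action (helper11)

For an action `a : G ×_S X ⟶ X` the groupoid scheme `(X, G ×_S X, s = pr₂, t = a)`, with
composition `(g, h·x) ∘ (h, x) = (gh, x)`.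
-/

set_option autoImplicit false
universe u

open CategoryTheory CategoryTheory.Limits MonoidalCategory CartesianMonoidalCategory MonObj GrpObj
  AlgebraicGeometry
open Groth.Agent.Lib.Helper11.ActA

namespace Groth.Agent.Lib.Helper11.AG1

variable {S : Scheme.{u}} {G X : Over S} [GrpObj G] (a : AlgGrp.Action G X)

section tpoints

variable {T T' : Over S}

/-- composition of arrows `(g, h·x) ∘ (h, x) = (gh, x)` on `T`-points -/
noncomputable def compT (α β : T ⟶ G ⊗ X) : T ⟶ G ⊗ X :=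
  lift ((α ≫ fst G X) * (β ≫ fst G X)) (β ≫ snd G X)

/-- identity arrows `(1, x)` -/
noncomputable def idT (x : T ⟶ X) : T ⟶ G ⊗ X := lift 1 x

/-- inverse arrows `(g, x) ↦ (g⁻¹, g·x)` -/
noncomputable def invT (α : T ⟶ G ⊗ X) : T ⟶ G ⊗ X := lift (α ≫ fst G X)⁻¹ (α ≫ a.act)

theorem act_eq (α : T ⟶ G ⊗ X) : α ≫ a.act = actT a (α ≫ fst G X) (α ≫ snd G X) := by
  rw [actT, lift_comp_fst_snd]

theorem compT_fst (α β : T ⟶ G ⊗ X) :
    compT α β ≫ fst G X = (α ≫ fst G X) * (β ≫ fst G X) := lift_fst _ _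

theorem compT_snd (α β : T ⟶ G ⊗ X) : compT α β ≫ snd G X = β ≫ snd G X := lift_snd _ _

theorem compT_act (α β : T ⟶ G ⊗ X) (h : α ≫ snd G X = β ≫ a.act) :
    compT α β ≫ a.act = α ≫ a.act := by
  rw [act_eq a (compT α β), compT_fst, compT_snd, mul_actT, ← act_eq a β, ← h, ← act_eq a α]

theorem compT_assoc (α β z : T ⟶ G ⊗ X) : compT (compT α β) z = compT α (compT β z) := by
  apply CartesianMonoidalCategory.hom_ext
  · simp only [compT_fst, _root_.mul_assoc]
  · simp only [compT_snd]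

theorem idT_fst (x : T ⟶ X) : (idT x : T ⟶ G ⊗ X) ≫ fst G X = 1 := lift_fst _ _

theorem idT_snd (x : T ⟶ X) : (idT x : T ⟶ G ⊗ X) ≫ snd G X = x := lift_snd _ _

theorem idT_act (x : T ⟶ X) : (idT x : T ⟶ G ⊗ X) ≫ a.act = x := by
  rw [act_eq a (idT x), idT_fst, idT_snd, one_actT]

theorem invT_fst (α : T ⟶ G ⊗ X) : invT a α ≫ fst G X = (α ≫ fst G X)⁻¹ := lift_fst _ _

theorem invT_snd (α : T ⟶ G ⊗ X) : invT a α ≫ snd G X = α ≫ a.act := lift_snd _ _

theorem invT_act (α : T ⟶ G ⊗ X) : invT a α ≫ a.act = α ≫ snd G X := by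
  rw [act_eq a (invT a α), invT_fst, invT_snd, act_eq a α, inv_actT_actT]

theorem compT_idT (α : T ⟶ G ⊗ X) : compT α (idT (α ≫ snd G X)) = α := by
  apply CartesianMonoidalCategory.hom_ext
  · rw [compT_fst, idT_fst, _root_.mul_one]
  · rw [compT_snd, idT_snd]

theorem idT_compT (α : T ⟶ G ⊗ X) : compT (idT (α ≫ a.act)) α = α := by
  apply CartesianMonoidalCategory.hom_ext
  · rw [compT_fst, idT_fst, _root_.one_mul]
  · rw [compT_snd]

theorem compT_invT (α : T ⟶ G ⊗ X) : compT α (invT a α) = idT (α ≫ a.act) := by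
  apply CartesianMonoidalCategory.hom_ext
  · rw [compT_fst, invT_fst, mul_inv_cancel, idT_fst]
  · rw [compT_snd, invT_snd, idT_snd]

theorem invT_compT (α : T ⟶ G ⊗ X) : compT (invT a α) α = idT (α ≫ snd G X) := by
  apply CartesianMonoidalCategory.hom_ext
  · rw [compT_fst, invT_fst, inv_mul_cancel, idT_fst]
  · rw [compT_snd, idT_snd]

theorem comp_compT (f : T' ⟶ T) (α β : T ⟶ G ⊗ X) :
    f ≫ compT α β = compT (f ≫ α) (f ≫ β) := by
  apply CartesianMonoidalCategory.hom_ext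
  · rw [Category.assoc, compT_fst, compT_fst, MonObj.comp_mul, Category.assoc, Category.assoc]
  · rw [Category.assoc, compT_snd, compT_snd, Category.assoc]

theorem comp_idT (f : T' ⟶ T) (x : T ⟶ X) : f ≫ (idT x : T ⟶ G ⊗ X) = idT (f ≫ x) := by
  apply CartesianMonoidalCategory.hom_ext
  · rw [Category.assoc, idT_fst, idT_fst, MonObj.comp_one]
  · rw [Category.assoc, idT_snd, idT_snd]

theorem comp_invT (f : T' ⟶ T) (α : T ⟶ G ⊗ X) : f ≫ invT a α = invT a (f ≫ α) := by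
  apply CartesianMonoidalCategory.hom_ext
  · rw [Category.assoc, invT_fst, invT_fst, GrpObj.comp_inv, Category.assoc]
  · rw [Category.assoc, invT_snd, invT_snd, Category.assoc]

/-- freeness on `T`-points makes `(t, s)` injective on `T`-points -/
theorem eq_of_free
    (hfree : ∀ (T : Over S) (g : T ⟶ G) (x : T ⟶ X), lift g x ≫ a.act = x → g = toUnit T ≫ η[G])
    (α β : T ⟶ G ⊗ X) (hs : α ≫ snd G X = β ≫ snd G X) (ht : α ≫ a.act = β ≫ a.act) : α = β := by
  have h1 : actT a ((β ≫ fst G X)⁻¹ * (α ≫ fst G X)) (α ≫ snd G X) = α ≫ snd G X := by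
    rw [mul_actT, ← act_eq a α, ht, act_eq a β, inv_actT_actT, hs]
  have h2 : (β ≫ fst G X)⁻¹ * (α ≫ fst G X) = 1 := hfree T _ _ h1
  have h4 : α ≫ fst G X = β ≫ fst G X := (inv_mul_eq_one.mp h2).symm
  exact CartesianMonoidalCategory.hom_ext _ _ h4 hs

end tpoints

section grpd

/-- the object of composable pairs, as an object over `S` -/
noncomputable def P : Over S :=
  Over.mk (pullback.fst (snd G X).left a.act.left ≫ (G ⊗ X).hom)

/-- first projection from composable pairs -/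
noncomputable def π₁ : P a ⟶ G ⊗ X := Over.homMk (pullback.fst (snd G X).left a.act.left) rfl

theorem snd_hom : pullback.snd (snd G X).left a.act.left ≫ (G ⊗ X).hom =
    pullback.fst (snd G X).left a.act.left ≫ (G ⊗ X).hom := by
  calc pullback.snd (snd G X).left a.act.left ≫ (G ⊗ X).hom
      = pullback.snd (snd G X).left a.act.left ≫ a.act.left ≫ X.hom := by rw [Over.w a.act]
    _ = pullback.fst (snd G X).left a.act.left ≫ (snd G X).left ≫ X.hom := by
        rw [← Category.assoc, ← pullback.condition, Category.assoc]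
    _ = pullback.fst (snd G X).left a.act.left ≫ (G ⊗ X).hom := by rw [Over.w (snd G X)]

/-- second projection from composable pairs -/
noncomputable def π₂ : P a ⟶ G ⊗ X :=
  Over.homMk (pullback.snd (snd G X).left a.act.left) (snd_hom a)

/-- the composition morphism -/
noncomputable def cMor : pullback (snd G X).left a.act.left ⟶ (G ⊗ X).left :=
  (compT (π₁ a) (π₂ a)).left

theorem lift_c {T : Over S} (α β : T ⟶ G ⊗ X) (x y : T.left ⟶ (G ⊗ X).left)
    (hx : α.left = x) (hy : β.left = y) (h : x ≫ (snd G X).left = y ≫ a.act.left) :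
    pullback.lift x y h ≫ cMor a = (compT α β).left := by
  subst hx hy
  have hl : pullback.lift α.left β.left h ≫ (P a).hom = T.hom := by
    show pullback.lift α.left β.left h ≫
      pullback.fst (snd G X).left a.act.left ≫ (G ⊗ X).hom = T.hom
    rw [pullback.lift_fst_assoc, Over.w α]
  let l : T ⟶ P a := Over.homMk (pullback.lift α.left β.left h) hl
  have h1 : l ≫ π₁ a = α := Over.OverMorphism.ext (pullback.lift_fst α.left β.left h)
  have h2 : l ≫ π₂ a = β := Over.OverMorphism.ext (pullback.lift_snd α.left β.left h)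
  have h3 : l ≫ compT (π₁ a) (π₂ a) = compT α β := by rw [comp_compT, h1, h2]
  exact congrArg (fun f => f.left) h3

variable {T : Scheme.{u}}

theorem hβ_of (α β : T ⟶ (G ⊗ X).left) (h : α ≫ (snd G X).left = β ≫ a.act.left) :
    β ≫ (G ⊗ X).hom = α ≫ (G ⊗ X).hom := by
  calc β ≫ (G ⊗ X).hom = β ≫ a.act.left ≫ X.hom := by rw [Over.w a.act]
    _ = α ≫ (snd G X).left ≫ X.hom := by rw [← Category.assoc, ← h, Category.assoc]
    _ = α ≫ (G ⊗ X).hom := by rw [Over.w (snd G X)]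

theorem c_comp_s (α β : T ⟶ (G ⊗ X).left) (h : α ≫ (snd G X).left = β ≫ a.act.left) :
    (pullback.lift α β h ≫ cMor a) ≫ (snd G X).left = β ≫ (snd G X).left := by
  let α' : Over.mk (α ≫ (G ⊗ X).hom) ⟶ G ⊗ X := Over.homMk α rfl
  let β' : Over.mk (α ≫ (G ⊗ X).hom) ⟶ G ⊗ X := Over.homMk β (hβ_of a α β h)
  rw [lift_c a α' β' α β rfl rfl h]
  exact congrArg (fun f => f.left) (compT_snd α' β')

theorem c_comp_t (α β : T ⟶ (G ⊗ X).left) (h : α ≫ (snd G X).left = β ≫ a.act.left) :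
    (pullback.lift α β h ≫ cMor a) ≫ a.act.left = α ≫ a.act.left := by
  let α' : Over.mk (α ≫ (G ⊗ X).hom) ⟶ G ⊗ X := Over.homMk α rfl
  let β' : Over.mk (α ≫ (G ⊗ X).hom) ⟶ G ⊗ X := Over.homMk β (hβ_of a α β h)
  have h' : α' ≫ snd G X = β' ≫ a.act := Over.OverMorphism.ext h
  rw [lift_c a α' β' α β rfl rfl h]
  exact congrArg (fun f => f.left) (compT_act a α' β' h')

theorem c_assoc (α β z : T ⟶ (G ⊗ X).left) (h₁ : α ≫ (snd G X).left = β ≫ a.act.left)
    (h₂ : β ≫ (snd G X).left = z ≫ a.act.left)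
    (h₁₂ : (pullback.lift α β h₁ ≫ cMor a) ≫ (snd G X).left = z ≫ a.act.left)
    (h₂₃ : α ≫ (snd G X).left = (pullback.lift β z h₂ ≫ cMor a) ≫ a.act.left) :
    pullback.lift (pullback.lift α β h₁ ≫ cMor a) z h₁₂ ≫ cMor a =
      pullback.lift α (pullback.lift β z h₂ ≫ cMor a) h₂₃ ≫ cMor a := by
  have hβ := hβ_of a α β h₁
  have hz : z ≫ (G ⊗ X).hom = α ≫ (G ⊗ X).hom := (hβ_of a β z h₂).trans hβ
  let α' : Over.mk (α ≫ (G ⊗ X).hom) ⟶ G ⊗ X := Over.homMk α rfl
  let β' : Over.mk (α ≫ (G ⊗ X).hom) ⟶ G ⊗ X := Over.homMk β hβ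
  let z' : Over.mk (α ≫ (G ⊗ X).hom) ⟶ G ⊗ X := Over.homMk z hz
  have e1 : (compT α' β').left = pullback.lift α β h₁ ≫ cMor a :=
    (lift_c a α' β' α β rfl rfl h₁).symm
  have e2 : (compT β' z').left = pullback.lift β z h₂ ≫ cMor a :=
    (lift_c a β' z' β z rfl rfl h₂).symm
  refine (lift_c a (compT α' β') z' _ z e1 rfl _).trans ?_
  refine Eq.trans ?_ (lift_c a α' (compT β' z') α _ rfl e2 _).symm
  rw [compT_assoc]

theorem c_comp_e (α : T ⟶ (G ⊗ X).left)
    (h : α ≫ (snd G X).left =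
      (α ≫ (snd G X).left ≫ (idT (𝟙 X) : X ⟶ G ⊗ X).left) ≫ a.act.left) :
    pullback.lift α (α ≫ (snd G X).left ≫ (idT (𝟙 X) : X ⟶ G ⊗ X).left) h ≫ cMor a = α := by
  let α' : Over.mk (α ≫ (G ⊗ X).hom) ⟶ G ⊗ X := Over.homMk α rfl
  have e0 : (idT (α' ≫ snd G X) : _ ⟶ G ⊗ X) = α' ≫ snd G X ≫ (idT (𝟙 X) : X ⟶ G ⊗ X) := by
    rw [comp_idT, comp_idT, Category.comp_id]
  have e1 : (idT (α' ≫ snd G X) : _ ⟶ G ⊗ X).left =
      α ≫ (snd G X).left ≫ (idT (𝟙 X) : X ⟶ G ⊗ X).left := congrArg (fun f => f.left) e0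
  refine (lift_c a α' (idT (α' ≫ snd G X)) α _ rfl e1 _).trans ?_
  exact congrArg (fun f => f.left) (compT_idT α')

theorem c_e_comp (α : T ⟶ (G ⊗ X).left)
    (h : (α ≫ a.act.left ≫ (idT (𝟙 X) : X ⟶ G ⊗ X).left) ≫ (snd G X).left = α ≫ a.act.left) :
    pullback.lift (α ≫ a.act.left ≫ (idT (𝟙 X) : X ⟶ G ⊗ X).left) α h ≫ cMor a = α := by
  let α' : Over.mk (α ≫ (G ⊗ X).hom) ⟶ G ⊗ X := Over.homMk α rfl
  have e0 : (idT (α' ≫ a.act) : _ ⟶ G ⊗ X) = α' ≫ a.act ≫ (idT (𝟙 X) : X ⟶ G ⊗ X) := by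
    rw [comp_idT, comp_idT, Category.comp_id]
  have e1 : (idT (α' ≫ a.act) : _ ⟶ G ⊗ X).left =
      α ≫ a.act.left ≫ (idT (𝟙 X) : X ⟶ G ⊗ X).left := congrArg (fun f => f.left) e0
  refine (lift_c a (idT (α' ≫ a.act)) α' _ α e1 rfl _).trans ?_
  exact congrArg (fun f => f.left) (idT_compT a α')

theorem c_comp_i (α : T ⟶ (G ⊗ X).left)
    (h : α ≫ (snd G X).left = (α ≫ (invT a (𝟙 (G ⊗ X))).left) ≫ a.act.left) :
    pullback.lift α (α ≫ (invT a (𝟙 (G ⊗ X))).left) h ≫ cMor a =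
      α ≫ a.act.left ≫ (idT (𝟙 X) : X ⟶ G ⊗ X).left := by
  let α' : Over.mk (α ≫ (G ⊗ X).hom) ⟶ G ⊗ X := Over.homMk α rfl
  have e0 : invT a α' = α' ≫ invT a (𝟙 (G ⊗ X)) := by rw [comp_invT, Category.comp_id]
  have e1 : (invT a α').left = α ≫ (invT a (𝟙 (G ⊗ X))).left := congrArg (fun f => f.left) e0
  refine (lift_c a α' (invT a α') α _ rfl e1 _).trans ?_
  have e2 : compT α' (invT a α') = α' ≫ a.act ≫ (idT (𝟙 X) : X ⟶ G ⊗ X) := by
    rw [compT_invT, comp_idT, comp_idT, Category.comp_id]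
  exact congrArg (fun f => f.left) e2

theorem c_i_comp (α : T ⟶ (G ⊗ X).left)
    (h : (α ≫ (invT a (𝟙 (G ⊗ X))).left) ≫ (snd G X).left = α ≫ a.act.left) :
    pullback.lift (α ≫ (invT a (𝟙 (G ⊗ X))).left) α h ≫ cMor a =
      α ≫ (snd G X).left ≫ (idT (𝟙 X) : X ⟶ G ⊗ X).left := by
  let α' : Over.mk (α ≫ (G ⊗ X).hom) ⟶ G ⊗ X := Over.homMk α rfl
  have e0 : invT a α' = α' ≫ invT a (𝟙 (G ⊗ X)) := by rw [comp_invT, Category.comp_id]
  have e1 : (invT a α').left = α ≫ (invT a (𝟙 (G ⊗ X))).left := congrArg (fun f => f.left) e0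
  refine (lift_c a (invT a α') α' _ α e1 rfl _).trans ?_
  have e2 : compT (invT a α') α' = α' ≫ snd G X ≫ (idT (𝟙 X) : X ⟶ G ⊗ X) := by
    rw [invT_compT, comp_idT, comp_idT, Category.comp_id]
  exact congrArg (fun f => f.left) e2

/-- the action groupoid -/
noncomputable def grpd : Grpd.GroupoidScheme S where
  U := X.left
  R := (G ⊗ X).left
  pU := X.hom
  pR := (G ⊗ X).hom
  s := (snd G X).left
  t := a.act.left
  e := (idT (𝟙 X) : X ⟶ G ⊗ X).left
  i := (invT a (𝟙 (G ⊗ X))).left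
  c := cMor a
  s_over := Over.w (snd G X)
  t_over := Over.w a.act
  comp_s := fun α β h => c_comp_s a α β h
  comp_t := fun α β h => c_comp_t a α β h
  assoc := fun α β z h₁ h₂ => c_assoc a α β z h₁ h₂ _ _
  e_s := congrArg (fun f => f.left) (idT_snd (𝟙 X))
  e_t := congrArg (fun f => f.left) (idT_act a (𝟙 X))
  comp_e := fun α => c_comp_e a α _
  e_comp := fun α => c_e_comp a α _
  i_s := (congrArg (fun f => f.left) (invT_snd a (𝟙 (G ⊗ X)))).trans
    (congrArg (fun f => f.left) (Category.id_comp a.act))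
  i_t := (congrArg (fun f => f.left) (invT_act a (𝟙 (G ⊗ X)))).trans
    (congrArg (fun f => f.left) (Category.id_comp (snd G X)))
  comp_i := fun α => c_comp_i a α _
  i_comp := fun α => c_i_comp a α _

end grpd

end Groth.Agent.Lib.Helper11.AG1
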