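import Mathlib
import Groth.Prelude.Def_Grpd
import Groth.Prelude.Def_AlgGrp
import Groth.Prelude.Def_Mor2
import Groth.Agent.Lib.Helper11.AG1
import Groth.Agent.Lib.Helper11.GrpdLib
import Groth.Agent.Lib.Helper11.FinQuotD
import Groth.Agent.Lib.Helper11.GQ7b
import Groth.Agent.Lib.Helper11.GQ7e

/-!
# The action groupoid: finiteness, freeness, affine orbits (helper11)
-/

set_option autoImplicit false
universe u

open CategoryTheory CategoryTheory.Limits MonoidalCategory CartesianMonoidalCategory MonObj GrpObj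
  AlgebraicGeometry
open Groth.Agent.Lib.Helper11.ActA Groth.Agent.Lib.Helper11.AG1
  Groth.Agent.Lib.Helper11.GrpdLib Groth.Agent.Lib.Helper11.FinQuotD
  Groth.Agent.Lib.Helper11.GQ7b Groth.Agent.Lib.Helper11.GQ7e

namespace Groth.Agent.Lib.Helper11.AG2

variable {S : Scheme.{u}} {G X : Over S} [GrpObj G] (a : AlgGrp.Action G X)

theorem s_props (hG : Mor2.IsFinLocFree G.hom) :
    IsFinite (grpd a).s ∧ Flat (grpd a).s ∧ LocallyOfFinitePresentation (grpd a).s := by
  obtain ⟨h1, h2, h3⟩ := hG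
  exact ⟨inferInstanceAs (IsFinite (pullback.snd G.hom X.hom)),
    inferInstanceAs (Flat (pullback.snd G.hom X.hom)),
    inferInstanceAs (LocallyOfFinitePresentation (pullback.snd G.hom X.hom))⟩

theorem mono_aux
    (hfree : ∀ (T : Over S) (g : T ⟶ G) (x : T ⟶ X), lift g x ≫ a.act = x → g = toUnit T ≫ η[G])
    {T : Scheme.{u}} (α β : T ⟶ (G ⊗ X).left)
    (ht' : α ≫ a.act.left = β ≫ a.act.left)
    (hs' : α ≫ (snd G X).left = β ≫ (snd G X).left) : α = β := by
  have hβ : β ≫ (G ⊗ X).hom = α ≫ (G ⊗ X).hom := by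
    calc β ≫ (G ⊗ X).hom = β ≫ (snd G X).left ≫ X.hom := by rw [Over.w (snd G X)]
      _ = α ≫ (snd G X).left ≫ X.hom := by
          rw [← Category.assoc, ← hs', Category.assoc]
      _ = α ≫ (G ⊗ X).hom := by rw [Over.w (snd G X)]
  let α' : Over.mk (α ≫ (G ⊗ X).hom) ⟶ G ⊗ X := Over.homMk α rfl
  let β' : Over.mk (α ≫ (G ⊗ X).hom) ⟶ G ⊗ X := Over.homMk β hβ
  have hs'' : α' ≫ snd G X = β' ≫ snd G X := Over.OverMorphism.ext hs'
  have ht'' : α' ≫ a.act = β' ≫ a.act := Over.OverMorphism.ext ht'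
  have key : α' = β' := eq_of_free a hfree α' β' hs'' ht''
  exact congrArg (fun f => f.left) key

theorem mono_j
    (hfree : ∀ (T : Over S) (g : T ⟶ G) (x : T ⟶ X), lift g x ≫ a.act = x → g = toUnit T ≫ η[G]) :
    Mono (grpd a).j :=
  mono_j_of_forall (grpd a) (fun α β ht hs => mono_aux a hfree α β ht hs)

theorem hom_t_apply' (r : (G ⊗ X).left) : X.hom (a.act.left r) = X.hom ((snd G X).left r) := by
  rw [← Scheme.Hom.comp_apply, ← Scheme.Hom.comp_apply, Over.w a.act, Over.w (snd G X)]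

theorem hom_t_apply (r : (grpd a).R) : X.hom ((grpd a).t r) = X.hom ((grpd a).s r) :=
  hom_t_apply' a r

theorem hasAffOrbits_of_isAffineHom [IsAffineHom X.hom] : HasAffOrbits (grpd a) := by
  constructor
  intro x
  obtain ⟨W, hW, hxW, -⟩ :=
    exists_isAffineOpen_mem_and_subset (x := X.hom x) (U := ⊤) trivial
  refine ⟨X.hom ⁻¹ᵁ W, hW.preimage X.hom, ?_⟩
  rintro _ ⟨r, hr, rfl⟩
  have hr' : (grpd a).s r = x := hr
  show X.hom ((grpd a).t r) ∈ W
  have h2 : X.hom ((grpd a).t r) = X.hom x := (hom_t_apply a r).trans (congrArg _ hr')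
  exact h2 ▸ hxW

theorem hasAffOrbits_of_openImm [IsFinite (grpd a).s] {R : CommRingCat.{u}}
    (i : X.left ⟶ Spec R) [IsOpenImmersion i] : HasAffOrbits (grpd a) := by
  constructor
  intro x
  have hfin : ((grpd a).t.base '' ((grpd a).s.base ⁻¹' {x})).Finite :=
    ((grpd a).s.finite_preimage_singleton x).image _
  obtain ⟨h, hle, hsub⟩ := exists_basicOpen_le_of_finite (X := Spec R) i.opensRange
    (i.base '' ((grpd a).t.base '' ((grpd a).s.base ⁻¹' {x}))) (hfin.image _)
    (by rintro _ ⟨y, -, rfl⟩; exact ⟨y, rfl⟩)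
  refine ⟨i ⁻¹ᵁ (Spec R).basicOpen h, ?_, ?_⟩
  · exact IsAffineOpen.preimage_of_isOpenImmersion ((isAffineOpen_top (Spec R)).basicOpen h) i hle
  · intro y hy
    exact hsub ⟨y, hy, rfl⟩

theorem hasAffOrbits_of_univInj [UniversallyInjective G.hom] : HasAffOrbits (grpd a) := by
  constructor
  intro x
  obtain ⟨V, hV, hxV, -⟩ := exists_isAffineOpen_mem_and_subset (x := x) (U := ⊤) trivial
  refine ⟨V, hV, ?_⟩
  rintro _ ⟨r, hr, rfl⟩
  haveI : UniversallyInjective (grpd a).s :=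
    MorphismProperty.pullback_snd (P := @UniversallyInjective) G.hom X.hom inferInstance
  have hr' : (grpd a).s r = x := hr
  have he : (grpd a).s ((grpd a).e x) = x := s_e_apply (G := grpd a) x
  have hre : r = (grpd a).e x := (grpd a).s.injective (hr'.trans he.symm)
  show (grpd a).t r ∈ V
  have h2 : (grpd a).t r = x := by rw [hre]; exact t_e_apply (G := grpd a) x
  exact h2 ▸ hxV

end Groth.Agent.Lib.Helper11.AG2
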