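import Mathlib
import Groth.Prelude.Def_FDesc
import Groth.Agent.Lib.Helper3.AssPoints
import Groth.Agent.Lib.Helper3.QCProps

set_option autoImplicit false
universe u
open CategoryTheory CategoryTheory.Limits AlgebraicGeometry TopologicalSpace TensorProduct

namespace Groth.Agent.Lib.Helper11.QFlat

theorem subsingleton_tensor_right {R : Type*} [CommRing R] (M Q : Type*) [AddCommGroup M] [Module R M]
    [AddCommGroup Q] [Module R Q] [Subsingleton Q] : Subsingleton (M ⊗[R] Q) := by
  refine ⟨fun a b => ?_⟩
  have h0 : ∀ x : M ⊗[R] Q, x = 0 := by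
    intro x
    induction x using TensorProduct.induction_on with
    | zero => rfl
    | tmul m q => rw [Subsingleton.elim q 0, TensorProduct.tmul_zero]
    | add x y hx hy => rw [hx, hy, add_zero]
  rw [h0 a, h0 b]

/-- Key algebra lemma: a local homomorphism of local rings `A → B` such that some nonzero finite
`B`-module is flat over `A` is surjective on spectra. -/
theorem comap_surjective_of_flat_module {A B N : Type u} [CommRing A] [CommRing B] [IsLocalRing A]
    [IsLocalRing B] (φ : A →+* B) [IsLocalHom φ] [AddCommGroup N] [Module B N] [Module.Finite B N]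
    [Nontrivial N] (hflat : @Module.Flat A N _ _ (Module.compHom N φ)) :
    Function.Surjective (PrimeSpectrum.comap φ) := by
  letI : Module A N := Module.compHom N φ
  letI : Algebra A B := φ.toAlgebra
  haveI : IsScalarTower A B N := ⟨fun a b n => by
    change (φ a * b) • n = φ a • (b • n); rw [mul_smul]⟩
  haveI : Module.Flat A N := hflat
  have hnak : IsLocalRing.maximalIdeal B • (⊤ : Submodule B N) ≠ ⊤ := by
    intro h
    have := Submodule.eq_bot_of_le_smul_of_le_jacobson_bot (IsLocalRing.maximalIdeal B)
      (⊤ : Submodule B N) Module.Finite.fg_top (by rw [h]) (IsLocalRing.maximalIdeal_le_jacobson _)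
    exact top_ne_bot this
  haveI : Module.FaithfullyFlat A N := by
    refine ⟨fun m hm h => hnak ?_⟩
    rw [IsLocalRing.eq_maximalIdeal hm] at h
    rw [eq_top_iff]
    intro n _
    have hn : n ∈ IsLocalRing.maximalIdeal A • (⊤ : Submodule A N) := by rw [h]; trivial
    refine Submodule.smul_induction_on hn (fun a ha n' _ => ?_) (fun x y hx hy => add_mem hx hy)
    change φ a • n' ∈ _
    exact Submodule.smul_mem_smul (map_nonunit φ a ha) trivial
  intro p
  have h1 : Nontrivial (N ⊗[A] p.asIdeal.ResidueField) := inferInstance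
  have h2 : Nontrivial (p.asIdeal.ResidueField ⊗[A] B) := by
    by_contra h
    rw [not_nontrivial_iff_subsingleton] at h
    haveI : Subsingleton (B ⊗[A] p.asIdeal.ResidueField) :=
      (TensorProduct.comm A B p.asIdeal.ResidueField).toEquiv.subsingleton
    haveI : Subsingleton (N ⊗[B] (B ⊗[A] p.asIdeal.ResidueField)) := subsingleton_tensor_right _ _
    exact not_subsingleton _
      ((TensorProduct.AlgebraTensorModule.cancelBaseChange A B B N
        p.asIdeal.ResidueField).symm.toEquiv.subsingleton)
  exact (PrimeSpectrum.nontrivial_iff_mem_rangeComap p).mp h2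

variable {X Y : Scheme.{u}}

theorem finite_stalk (M : X.Modules) (hM : Coh.IsCoh M) (x : X) :
    Module.Finite (X.presheaf.stalk x) (M.presheaf.stalk x) := by
  haveI : M.IsQuasicoherent := hM.1
  haveI : M.IsFiniteType := hM.2
  obtain ⟨U, hU, hxU⟩ := Helper3.QCProps.exists_affine_nbhd x
  obtain ⟨i1, i2, i3, i4, g, h1, h2, h3⟩ := Helper3.QS.exists_isLocalizedModule hU M x hxU
  haveI := Helper3.QCProps.finite_sections M hU
  exact Module.Finite.of_isLocalizedModule (hU.primeIdealOf ⟨x, hxU⟩).asIdeal.primeCompl g

theorem generalizingMap (f : X ⟶ Y) (hf : FDesc.IsQuasiFlat f) : GeneralizingMap f.base := by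
  obtain ⟨M, hM, hflat, hne⟩ := hf
  intro x y' hy'
  have hy'' : y' ∈ Set.range (Y.fromSpecStalk (f.base x)).base := by
    rw [Scheme.range_fromSpecStalk]; exact hy'
  obtain ⟨p, hp⟩ := hy''
  haveI := finite_stalk M hM x
  haveI := hne x
  obtain ⟨q, hq⟩ := comap_surjective_of_flat_module (f.stalkMap x).hom (N := M.presheaf.stalk x)
    (hflat x) p
  refine ⟨(X.fromSpecStalk x).base q, ?_, ?_⟩
  · have : (X.fromSpecStalk x).base q ∈ Set.range (X.fromSpecStalk x).base := ⟨q, rfl⟩
    rwa [Scheme.range_fromSpecStalk] at this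
  · have e := congrArg (fun g => g.base q) (Scheme.SpecMap_stalkMap_fromSpecStalk (f := f) (x := x))
    simp only [Scheme.Hom.comp_base, TopCat.comp_app] at e
    rw [← e, ← hp]
    congr 1

end Groth.Agent.Lib.Helper11.QFlat
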