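import Mathlib
import Groth.Agent.Lib.Helper11.QFlat

set_option autoImplicit false
universe u
open CategoryTheory CategoryTheory.Limits AlgebraicGeometry TopologicalSpace TensorProduct

namespace Groth.Agent.Lib.Helper11.QFlat

/-- For a quasi-compact morphism, every point of the closure of the image is a specialization
of a point of the image. -/
theorem exists_specializes_of_mem_closure_range {Y Y' : Scheme.{u}} (g : Y' ⟶ Y) [QuasiCompact g]
    (y : Y) (hy : y ∈ closure (Set.range g.base)) : ∃ z ∈ Set.range g.base, z ⤳ y := by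
  obtain ⟨_, ⟨V, hV, rfl⟩, hyV, -⟩ :=
    Y.isBasis_affineOpens.exists_subset_of_mem_open (Set.mem_univ y) isOpen_univ
  have hV' : IsAffineOpen (V : Y.Opens) := hV
  have hc : IsCompact ((g ⁻¹ᵁ V : Y'.Opens) : Set Y') :=
    quasiCompact_iff_forall_isAffineOpen.mp inferInstance V hV'
  obtain ⟨R, k, hk⟩ := isCompact_iff_exists.mp hc
  let ψ : Spec R ⟶ Y := k ≫ g
  have hψ : Set.range ψ.base = (V : Set Y) ∩ Set.range g.base := by
    simp only [ψ, Scheme.Hom.comp_base, TopCat.coe_comp, Set.range_comp]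
    rw [hk]
    change g.base '' (g.base ⁻¹' (V : Set Y)) = _
    rw [Set.image_preimage_eq_inter_range]
  have hle : Set.range ψ.base ⊆ Set.range hV'.fromSpec.base := by
    rw [hV'.range_fromSpec, hψ]; exact Set.inter_subset_left
  let θ : Spec R ⟶ Spec Γ(Y, V) := IsOpenImmersion.lift hV'.fromSpec ψ hle
  have hθ : θ ≫ hV'.fromSpec = ψ := IsOpenImmersion.lift_fac _ _ _
  obtain ⟨φ, hφ⟩ := Spec.map_surjective θ
  let p₀ : PrimeSpectrum Γ(Y, V) := hV'.primeIdealOf ⟨y, hyV⟩
  let p : ↥(Spec Γ(Y, V)) := p₀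
  have hpy : hV'.fromSpec.base p = y := hV'.fromSpec_primeIdealOf ⟨y, hyV⟩
  have h1 : y ∈ closure (Set.range ψ.base) := by
    rw [hψ]; exact V.isOpen.inter_closure ⟨hyV, hy⟩
  have h2 : p ∈ closure (Set.range θ.base) := by
    rw [hV'.fromSpec.isOpenEmbedding.isInducing.closure_eq_preimage_closure_image]
    refine Set.mem_preimage.mpr ?_
    rw [hpy, ← Set.range_comp]
    have : (hV'.fromSpec.base : _ → _) ∘ (θ.base : _ → _) = ψ.base := by
      rw [← hθ]; rfl
    rw [this]; exact h1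
  rw [← hφ] at h2
  have h3 : RingHom.ker φ.hom ≤ p₀.asIdeal := by
    have : p₀ ∈ closure (Set.range (PrimeSpectrum.comap φ.hom)) := h2
    rw [PrimeSpectrum.closure_range_comap] at this
    exact this
  obtain ⟨Q, -, hQ, hQp⟩ := Ideal.exists_ideal_comap_le_prime (f := φ.hom) p₀.asIdeal ⊥
    (by rw [← RingHom.ker_eq_comap_bot]; exact h3)
  let q : PrimeSpectrum R := ⟨Q, hQ⟩
  have h4 : PrimeSpectrum.comap φ.hom q ⤳ p₀ := (PrimeSpectrum.le_iff_specializes _ _).mp hQp
  refine ⟨ψ.base q, ⟨k.base q, rfl⟩, ?_⟩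
  have h5 : ψ.base q = hV'.fromSpec.base (PrimeSpectrum.comap φ.hom q) := by
    rw [← hθ, ← hφ]; rfl
  rw [h5, ← hpy]
  exact h4.map hV'.fromSpec.continuous

theorem preimage_closure_range {X Y Y' : Scheme.{u}} (f : X ⟶ Y) (hg : GeneralizingMap f.base)
    (g : Y' ⟶ Y) [QuasiCompact g] :
    f.base ⁻¹' closure (Set.range g.base) = closure (f.base ⁻¹' Set.range g.base) := by
  apply subset_antisymm
  · intro x hx
    obtain ⟨z, hz, hzy⟩ := exists_specializes_of_mem_closure_range g (f.base x) hx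
    obtain ⟨x', hx', rfl⟩ := hg hzy
    exact hx'.mem_closed isClosed_closure (subset_closure hz)
  · exact f.continuous.closure_preimage_subset _

end Groth.Agent.Lib.Helper11.QFlat
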