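import Mathlib
import Groth.Agent.Lib.Helper11.QFlat5

set_option autoImplicit false
universe u v
open CategoryTheory CategoryTheory.Limits AlgebraicGeometry TopologicalSpace TensorProduct

namespace Groth.Agent.Lib.Helper11.ASpaceOpen

/-- image of preimage = preimage of image in a cartesian square of schemes -/
theorem image_preimage_of_isPullback {P X Y Z : Scheme.{u}} {fst : P ⟶ X} {snd : P ⟶ Y}
    {f : X ⟶ Z} {g : Y ⟶ Z} (sq : IsPullback fst snd f g) (S : Set Y) :
    fst.base '' (snd.base ⁻¹' S) = f.base ⁻¹' (g.base '' S) := by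
  ext x
  constructor
  · rintro ⟨p, hp, rfl⟩
    refine ⟨snd.base p, hp, ?_⟩
    rw [← Scheme.Hom.comp_apply, ← Scheme.Hom.comp_apply, sq.w]
  · rintro ⟨s, hs, hsx⟩
    obtain ⟨p, hp1, hp2⟩ := QFlat.exists_preimage_of_isPullback sq x s hsx.symm
    exact ⟨p, by rw [Set.mem_preimage, hp2]; exact hs, hp1⟩

section Sums

variable {A B R : Type u} [CommRing A] [CommRing B] [CommRing R] [Algebra A B] [Algebra A R]

theorem exists_fin_sum_tmul (h : R ⊗[A] B) :
    ∃ (n : ℕ) (_ : 0 < n) (r : Fin n → R) (b : Fin n → B), h = ∑ k, r k ⊗ₜ[A] b k := by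
  induction h using TensorProduct.induction_on with
  | zero => exact ⟨1, Nat.one_pos, fun _ => 0, fun _ => 0, by simp⟩
  | tmul x y => exact ⟨1, Nat.one_pos, fun _ => x, fun _ => y, by simp⟩
  | add x y hx hy =>
    obtain ⟨n, hn, r, b, rfl⟩ := hx
    obtain ⟨m, hm, r', b', rfl⟩ := hy
    refine ⟨n + m, Nat.add_pos_left hn m, Fin.append r r', Fin.append b b', ?_⟩
    rw [Fin.sum_univ_add]
    simp

theorem exists_sum_tmul_of_span_eq_top {d : ℕ} (b : Fin d → B)
    (hb : Submodule.span A (Set.range b) = ⊤) (h : R ⊗[A] B) :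
    ∃ r : Fin d → R, h = ∑ i, r i ⊗ₜ[A] b i := by
  induction h using TensorProduct.induction_on with
  | zero => exact ⟨0, by simp⟩
  | tmul x y =>
    have hy : y ∈ Submodule.span A (Set.range b) := by rw [hb]; trivial
    obtain ⟨c, rfl⟩ := (Submodule.mem_span_range_iff_exists_fun A).mp hy
    refine ⟨fun i => c i • x, ?_⟩
    rw [TensorProduct.tmul_sum]
    refine Finset.sum_congr rfl fun i _ => ?_
    rw [TensorProduct.tmul_smul, TensorProduct.smul_tmul']
  | add x y hx hy =>
    obtain ⟨r, rfl⟩ := hx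
    obtain ⟨r', rfl⟩ := hy
    exact ⟨r + r', by simp [TensorProduct.add_tmul, Finset.sum_add_distrib]⟩

end Sums

section RL

variable {A B R : Type (max u v)} [CommRing A] [CommRing B] [CommRing R] [Algebra A B] [Algebra A R]
variable {σ : Type v}

attribute [local instance] Algebra.TensorProduct.rightAlgebra
attribute [local instance] MvPolynomial.algebraMvPolynomial

/-- the evaluation map `B[X] → R ⊗ B`, `X k ↦ r k ⊗ 1`. -/
noncomputable def bigTheta (r : σ → R) : MvPolynomial σ B →+* R ⊗[A] B :=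
  MvPolynomial.eval₂Hom (algebraMap B (R ⊗[A] B)) (fun k => r k ⊗ₜ[A] (1 : B))

theorem bigTheta_comp_map (r : σ → R) :
    (bigTheta (A := A) (B := B) r).comp (MvPolynomial.map (algebraMap A B)) =
      (algebraMap R (R ⊗[A] B)).comp
        (MvPolynomial.aeval r : MvPolynomial σ A →ₐ[A] R).toRingHom := by
  apply MvPolynomial.ringHom_ext
  · intro a
    show bigTheta (A := A) (B := B) r (MvPolynomial.map (algebraMap A B) (MvPolynomial.C a)) =
      algebraMap R (R ⊗[A] B) (MvPolynomial.aeval r (MvPolynomial.C a))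
    rw [MvPolynomial.map_C, MvPolynomial.aeval_C]
    have h1 : bigTheta (A := A) (B := B) r (MvPolynomial.C (algebraMap A B a)) =
        algebraMap B (R ⊗[A] B) (algebraMap A B a) := MvPolynomial.eval₂Hom_C _ _ _
    rw [h1, ← IsScalarTower.algebraMap_apply A B (R ⊗[A] B),
      ← IsScalarTower.algebraMap_apply A R (R ⊗[A] B)]
  · intro k
    show bigTheta (A := A) (B := B) r (MvPolynomial.map (algebraMap A B) (MvPolynomial.X k)) =
      algebraMap R (R ⊗[A] B) (MvPolynomial.aeval r (MvPolynomial.X k))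
    rw [MvPolynomial.map_X, MvPolynomial.aeval_X]
    have h1 : bigTheta (A := A) (B := B) r (MvPolynomial.X k) = r k ⊗ₜ[A] (1 : B) :=
      MvPolynomial.eval₂Hom_X' _ _ _
    rw [h1]
    rfl

theorem isPullback_RL (r : σ → R) :
    IsPullback (Spec.map (CommRingCat.ofHom (algebraMap R (R ⊗[A] B))))
      (Spec.map (CommRingCat.ofHom (bigTheta (A := A) (B := B) r)))
      (Spec.map (CommRingCat.ofHom (MvPolynomial.aeval r : MvPolynomial σ A →ₐ[A] R).toRingHom))
      (Spec.map (CommRingCat.ofHom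
        (MvPolynomial.map (algebraMap A B) : MvPolynomial σ A →+* MvPolynomial σ B))) := by
  letI i1 : Algebra (MvPolynomial σ A) R :=
    (MvPolynomial.aeval r : MvPolynomial σ A →ₐ[A] R).toRingHom.toAlgebra
  letI i2 : Algebra (MvPolynomial σ B) (R ⊗[A] B) := (bigTheta (A := A) (B := B) r).toAlgebra
  haveI t0 : IsScalarTower A (MvPolynomial σ A) R := IsScalarTower.of_algebraMap_eq fun a => by
    show algebraMap A R a = MvPolynomial.aeval r (algebraMap A (MvPolynomial σ A) a)
    rw [MvPolynomial.algebraMap_eq, MvPolynomial.aeval_C]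
  haveI t0' : SMulCommClass A (MvPolynomial σ A) R := inferInstance
  letI i3 : Algebra (MvPolynomial σ A) (R ⊗[A] B) := inferInstance
  haveI t1 : IsScalarTower (MvPolynomial σ A) R (R ⊗[A] B) := inferInstance
  haveI t2 : IsScalarTower (MvPolynomial σ A) (MvPolynomial σ B) (R ⊗[A] B) :=
    IsScalarTower.of_algebraMap_eq fun x => by
      have := congrArg (fun φ => φ x) (bigTheta_comp_map (A := A) (B := B) r)
      exact this.symm
  haveI t3 : IsScalarTower A (MvPolynomial σ B) (R ⊗[A] B) :=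
    IsScalarTower.of_algebraMap_eq fun a => by
      show algebraMap A (R ⊗[A] B) a =
        bigTheta (A := A) (B := B) r (algebraMap A (MvPolynomial σ B) a)
      rw [MvPolynomial.algebraMap_apply]
      have h1 : bigTheta (A := A) (B := B) r (MvPolynomial.C (algebraMap A B a)) =
          algebraMap B (R ⊗[A] B) (algebraMap A B a) := MvPolynomial.eval₂Hom_C _ _ _
      rw [h1, ← IsScalarTower.algebraMap_apply A B (R ⊗[A] B)]
  haveI t4 : IsScalarTower B (MvPolynomial σ B) (R ⊗[A] B) :=
    IsScalarTower.of_algebraMap_eq fun b => by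
      show algebraMap B (R ⊗[A] B) b =
        bigTheta (A := A) (B := B) r (algebraMap B (MvPolynomial σ B) b)
      rw [MvPolynomial.algebraMap_eq]
      exact (MvPolynomial.eval₂Hom_C _ _ _).symm
  haveI hp : Algebra.IsPushout (MvPolynomial σ A) R (MvPolynomial σ B) (R ⊗[A] B) :=
    (Algebra.IsPushout.comp_iff A (MvPolynomial σ A) B (MvPolynomial σ B)).mp inferInstance
  exact isPullback_SpecMap_of_isPushout _ _ _ _
    (CommRingCat.isPushout_of_isPushout (MvPolynomial σ A) R (MvPolynomial σ B) (R ⊗[A] B))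

theorem image_basicOpen_eq [Fintype σ] (r : σ → R) (b : σ → B) :
    PrimeSpectrum.comap (algebraMap R (R ⊗[A] B)) ''
        (PrimeSpectrum.basicOpen (∑ k, r k ⊗ₜ[A] b k) : Set (PrimeSpectrum (R ⊗[A] B))) =
      PrimeSpectrum.comap (MvPolynomial.aeval r : MvPolynomial σ A →ₐ[A] R).toRingHom ⁻¹'
        (PrimeSpectrum.comap (MvPolynomial.map (algebraMap A B)) ''
          (PrimeSpectrum.basicOpen (∑ k, MvPolynomial.X k * MvPolynomial.C (b k)) :
            Set (PrimeSpectrum (MvPolynomial σ B)))) := by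
  have hΘ : bigTheta (A := A) r (∑ k, MvPolynomial.X k * MvPolynomial.C (b k)) =
      ∑ k, r k ⊗ₜ[A] b k := by
    rw [map_sum]
    refine Finset.sum_congr rfl fun k _ => ?_
    rw [map_mul]
    have h1 : bigTheta (A := A) (B := B) r (MvPolynomial.X k) = r k ⊗ₜ[A] (1 : B) :=
      MvPolynomial.eval₂Hom_X' _ _ _
    have h2 : bigTheta (A := A) (B := B) r (MvPolynomial.C (b k)) = (1 : R) ⊗ₜ[A] b k :=
      MvPolynomial.eval₂Hom_C _ _ _
    rw [h1, h2, Algebra.TensorProduct.tmul_mul_tmul, mul_one, one_mul]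
  have key := image_preimage_of_isPullback (isPullback_RL (A := A) (B := B) r)
    (PrimeSpectrum.basicOpen (∑ k, MvPolynomial.X k * MvPolynomial.C (b k)) :
      Set (PrimeSpectrum (MvPolynomial σ B)))
  have hpre : PrimeSpectrum.comap (bigTheta (A := A) (B := B) r) ⁻¹'
      (PrimeSpectrum.basicOpen (∑ k, MvPolynomial.X k * MvPolynomial.C (b k)) :
        Set (PrimeSpectrum (MvPolynomial σ B))) =
      (PrimeSpectrum.basicOpen (bigTheta (A := A) (B := B) r
        (∑ k, MvPolynomial.X k * MvPolynomial.C (b k))) : Set (PrimeSpectrum (R ⊗[A] B))) := by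
    ext Q
    rfl
  rw [← hΘ, ← hpre]
  exact key

theorem isOpenMap_comap_tensor {τ : ℕ → Type v} [∀ n, Fintype (τ n)] (e : ∀ n, τ n ≃ Fin n)
    (H : ∀ n : ℕ, 0 < n → IsOpenMap (PrimeSpectrum.comap
      (MvPolynomial.map (algebraMap A B) : MvPolynomial (τ n) A →+* MvPolynomial (τ n) B))) :
    IsOpenMap (PrimeSpectrum.comap (algebraMap R (R ⊗[A] B))) := by
  rw [PrimeSpectrum.isTopologicalBasis_basic_opens.isOpenMap_iff]
  rintro _ ⟨h, rfl⟩
  obtain ⟨n, hn, r, b, rfl⟩ := exists_fin_sum_tmul (A := A) h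
  have hsum : ∑ k, r k ⊗ₜ[A] b k = ∑ j : τ n, (r ∘ e n) j ⊗ₜ[A] (b ∘ e n) j :=
    (Equiv.sum_comp (e n) (fun k => r k ⊗ₜ[A] b k)).symm
  rw [hsum, image_basicOpen_eq]
  exact (H n hn _ (PrimeSpectrum.basicOpen _).isOpen).preimage (PrimeSpectrum.continuous_comap _)

theorem isOpenMap_comap_map_of_universallyOpen
    (H : UniversallyOpen (Spec.map (CommRingCat.ofHom (algebraMap A B)))) :
    IsOpenMap (PrimeSpectrum.comap
      (MvPolynomial.map (algebraMap A B) : MvPolynomial σ A →+* MvPolynomial σ B)) := by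
  have sq := isPullback_SpecMap_of_isPushout _ _ _ _
    (CommRingCat.isPushout_of_isPushout A (MvPolynomial σ A) B (MvPolynomial σ B))
  exact H.universally_isOpenMap _ _ _ sq

end RL


section SchemeLevel

theorem universallyOpen_of_forall_isOpenMap_tensor {A B : Type u} [CommRing A] [CommRing B]
    [Algebra A B]
    (H : ∀ (R : Type u) [CommRing R] [Algebra A R],
      IsOpenMap (PrimeSpectrum.comap (algebraMap R (R ⊗[A] B)))) :
    UniversallyOpen (Spec.map (CommRingCat.ofHom (algebraMap A B))) := by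
  refine ⟨MorphismProperty.universally_mk' _ _ fun {T} g _ ↦ ?_⟩
  wlog hT : ∃ R, T = Spec R generalizing T
  · refine (IsZariskiLocalAtTarget.iff_of_openCover T.affineCover).mpr fun i ↦ ?_
    refine (MorphismProperty.cancel_left_of_respectsIso _
      ((pullbackRightPullbackFstIso ..).inv ≫ (pullbackSymmetry ..).hom) _).mp ?_
    simpa [Scheme.Cover.pullbackHom] using! this _ _ ⟨_, rfl⟩
  obtain ⟨R, rfl⟩ := hT
  obtain ⟨ψ, rfl⟩ := Spec.map_surjective g
  algebraize [ψ.hom]
  refine (MorphismProperty.cancel_left_of_respectsIso _ (pullbackSpecIso A R B).inv _).mp ?_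
  convert_to! topologically _ (Spec.map <| CommRingCat.ofHom (algebraMap R (TensorProduct A R B)))
  · exact pullbackSpecIso_inv_fst ..
  exact H R

/-- All maps of (positive-dimensional) affine spaces induced by `f` are open. -/
def AffOpen {X Y : Scheme.{u}} (f : X ⟶ Y) : Prop :=
  ∀ n : ℕ, 0 < n → IsOpenMap (AffineSpace.map (ULift.{u} (Fin n)) f).base

theorem isOpenImmersion_map (n : Type u) {X Y : Scheme.{u}} (j : X ⟶ Y) [IsOpenImmersion j] :
    IsOpenImmersion (AffineSpace.map n j) :=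
  MorphismProperty.of_isPullback (P := @IsOpenImmersion)
    (AffineSpace.isPullback_map (n := n) j).flip inferInstance

theorem AffOpen.comp_left {X Y Z : Scheme.{u}} (j : X ⟶ Y) [IsOpenImmersion j] {f : Y ⟶ Z}
    (h : AffOpen f) : AffOpen (j ≫ f) := by
  intro n hn
  haveI := isOpenImmersion_map (ULift.{u} (Fin n)) j
  rw [AffineSpace.map_comp, Scheme.Hom.comp_base, TopCat.coe_comp]
  exact (h n hn).comp (AffineSpace.map _ j).isOpenEmbedding.isOpenMap

theorem AffOpen.comp_right {X Y Z : Scheme.{u}} {f : X ⟶ Y} (h : AffOpen f) (j : Y ⟶ Z)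
    [IsOpenImmersion j] : AffOpen (f ≫ j) := by
  intro n hn
  haveI := isOpenImmersion_map (ULift.{u} (Fin n)) j
  rw [AffineSpace.map_comp, Scheme.Hom.comp_base, TopCat.coe_comp]
  exact (AffineSpace.map _ j).isOpenEmbedding.isOpenMap.comp (h n hn)

theorem AffOpen.of_comp_right {X Y Z : Scheme.{u}} (f : X ⟶ Y) (j : Y ⟶ Z) [IsOpenImmersion j]
    (h : AffOpen (f ≫ j)) : AffOpen f := by
  intro n hn
  haveI := isOpenImmersion_map (ULift.{u} (Fin n)) j
  have h1 := h n hn
  rw [AffineSpace.map_comp, Scheme.Hom.comp_base, TopCat.coe_comp] at h1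
  intro U hU
  have h2 := h1 U hU
  rw [Set.image_comp] at h2
  have h3 := h2.preimage (AffineSpace.map (ULift.{u} (Fin n)) j).continuous
  rwa [Set.preimage_image_eq _ (AffineSpace.map (ULift.{u} (Fin n)) j).isOpenEmbedding.injective]
    at h3

theorem universallyOpen_SpecMap_of_affOpen {A B : CommRingCat.{u}} (φ : A ⟶ B)
    (h : AffOpen (Spec.map φ)) : UniversallyOpen (Spec.map φ) := by
  letI := φ.hom.toAlgebra
  have H : ∀ n : ℕ, 0 < n → IsOpenMap (PrimeSpectrum.comap
      (MvPolynomial.map (algebraMap A B) :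
        MvPolynomial (ULift.{u} (Fin n)) A →+* MvPolynomial (ULift.{u} (Fin n)) B)) :=
    fun n hn => ((topologically @IsOpenMap).arrow_mk_iso_iff (AffineSpace.mapSpecMap φ)).mp (h n hn)
  exact universallyOpen_of_forall_isOpenMap_tensor (A := A) (B := B) fun R _ _ =>
    isOpenMap_comap_tensor.{u, u} (fun n => Equiv.ulift) H

instance respectsRight_universallyOpen :
    MorphismProperty.RespectsRight (@UniversallyOpen) (@IsOpenImmersion) where
  postcomp i hi f hf := by
    haveI : IsOpenImmersion i := hi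
    exact MorphismProperty.comp_mem _ _ _ hf inferInstance

theorem universallyOpen_of_affOpen {X Y : Scheme.{u}} (f : X ⟶ Y) (hQ : AffOpen f) :
    UniversallyOpen f := by
  rw [IsZariskiLocalAtSource.iff_exists_resLE (P := @UniversallyOpen)]
  intro x
  obtain ⟨U, hU, hxU⟩ : ∃ U : Y.Opens, IsAffineOpen U ∧ f.base x ∈ U := by
    obtain ⟨_, ⟨U, hU, rfl⟩, hxU, -⟩ := Y.isBasis_affineOpens.exists_subset_of_mem_open
      (Set.mem_univ (f.base x)) isOpen_univ
    exact ⟨U, hU, hxU⟩
  obtain ⟨V, hV, hxV, hVU⟩ : ∃ V : X.Opens, IsAffineOpen V ∧ x ∈ V ∧ V ≤ f ⁻¹ᵁ U := by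
    obtain ⟨_, ⟨V, hV, rfl⟩, hxV, hVU⟩ := X.isBasis_affineOpens.exists_subset_of_mem_open
      hxU (f ⁻¹ᵁ U).2
    exact ⟨V, hV, hxV, hVU⟩
  refine ⟨U, V, hxV, hVU, ?_⟩
  haveI : IsAffine U.toScheme := hU
  haveI : IsAffine V.toScheme := hV
  have h1 : AffOpen (f.resLE U V hVU) := by
    apply AffOpen.of_comp_right _ U.ι
    rw [Scheme.Hom.resLE_comp_ι]
    exact hQ.comp_left V.ι
  rw [MorphismProperty.arrow_mk_iso_iff (@UniversallyOpen)
    (arrowIsoSpecΓOfIsAffine (f.resLE U V hVU))]
  have h2 : AffOpen (Spec.map (f.resLE U V hVU).appTop) := by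
    have e : Spec.map (f.resLE U V hVU).appTop =
        (V.toScheme).isoSpec.inv ≫ (f.resLE U V hVU) ≫ (U.toScheme).isoSpec.hom := by
      rw [← Scheme.isoSpec_hom_naturality, Iso.inv_hom_id_assoc]
    rw [e]
    exact (h1.comp_right _).comp_left _
  exact universallyOpen_SpecMap_of_affOpen _ h2

theorem universallyOpen_iff_affineSpace {X S : Scheme.{u}} (f : X ⟶ S) :
    UniversallyOpen f ↔ ∀ n : ℕ, IsOpenMap (AffineSpace.map (ULift.{u} (Fin n)) f).base := by
  constructor
  · intro H n
    exact H.universally_isOpenMap _ _ _ (AffineSpace.isPullback_map f)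
  · intro H
    exact universallyOpen_of_affOpen f fun n _ => H n

theorem universallyOpen_of_pullback_affineSpace {X Y : Scheme.{u}} (f : X ⟶ Y)
    (h : ∀ n : ℕ, 0 < n →
      IsOpenMap (Limits.pullback.snd f (AffineSpace (ULift.{u} (Fin n)) Y ↘ Y)).base) :
    UniversallyOpen f := by
  apply universallyOpen_of_affOpen
  intro n hn
  have sq := (AffineSpace.isPullback_map (n := ULift.{u} (Fin n)) f).flip
  have e : AffineSpace.map (ULift.{u} (Fin n)) f =
      sq.isoPullback.hom ≫ Limits.pullback.snd f (AffineSpace (ULift.{u} (Fin n)) Y ↘ Y) :=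
    sq.isoPullback_hom_snd.symm
  rw [e, Scheme.Hom.comp_base, TopCat.coe_comp]
  exact (h n hn).comp sq.isoPullback.hom.isOpenEmbedding.isOpenMap

theorem universallyOpen_iff_isOpen_image_basicOpen {A B : Type u} [CommRing A] [CommRing B]
    [Algebra A B] {d : ℕ} (b : Fin d → B) (hb : Submodule.span A (Set.range b) = ⊤) :
    UniversallyOpen (Spec.map (CommRingCat.ofHom (algebraMap A B))) ↔
      IsOpen (PrimeSpectrum.comap (MvPolynomial.map (σ := Fin d) (algebraMap A B)) ''
        (PrimeSpectrum.basicOpen (∑ i : Fin d, MvPolynomial.X i * MvPolynomial.C (b i)) :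
          Set (PrimeSpectrum (MvPolynomial (Fin d) B)))) := by
  constructor
  · intro H
    exact isOpenMap_comap_map_of_universallyOpen.{u, 0} (σ := Fin d) H _
      (PrimeSpectrum.basicOpen _).isOpen
  · intro H
    apply universallyOpen_of_forall_isOpenMap_tensor
    intro R _ _
    rw [PrimeSpectrum.isTopologicalBasis_basic_opens.isOpenMap_iff]
    rintro _ ⟨h, rfl⟩
    obtain ⟨r, rfl⟩ := exists_sum_tmul_of_span_eq_top (R := R) b hb h
    rw [image_basicOpen_eq.{u, 0}]
    exact H.preimage (PrimeSpectrum.continuous_comap _)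

end SchemeLevel

end Groth.Agent.Lib.Helper11.ASpaceOpen
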