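import Mathlib
import Groth.Agent.Lib.Helper11.QFlat

set_option autoImplicit false
universe u
open CategoryTheory CategoryTheory.Limits AlgebraicGeometry TopologicalSpace TensorProduct

namespace Groth.Agent.Lib.Helper11.QFlat

/-- The support of the base change of a finite module contains the preimage of the support. -/
theorem mem_support_baseChange {B B' N : Type u} [CommRing B] [CommRing B'] [Algebra B B']
    [AddCommGroup N] [Module B N] [Module.Finite B N] (Q : PrimeSpectrum B')
    (hQ : PrimeSpectrum.comap (algebraMap B B') Q ∈ Module.support B N) :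
    Q ∈ Module.support B' (B' ⊗[B] N) := by
  obtain ⟨q, hq⟩ : ∃ q, q = PrimeSpectrum.comap (algebraMap B B') Q := ⟨_, rfl⟩
  rw [← hq] at hQ
  have hV : Nontrivial (q.asIdeal.ResidueField ⊗[B] N) :=
    (Module.mem_support_iff_nontrivial_residueField_tensorProduct q).mp hQ
  let g : q.asIdeal.ResidueField →+* Q.asIdeal.ResidueField :=
    Ideal.ResidueField.map q.asIdeal Q.asIdeal (algebraMap B B') (by rw [hq]; rfl)
  letI : Algebra q.asIdeal.ResidueField Q.asIdeal.ResidueField := g.toAlgebra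
  haveI : IsScalarTower B q.asIdeal.ResidueField Q.asIdeal.ResidueField :=
    IsScalarTower.of_algebraMap_eq fun b => by
      change algebraMap B Q.asIdeal.ResidueField b = g (algebraMap B _ b)
      rw [Ideal.ResidueField.map_algebraMap]
      exact IsScalarTower.algebraMap_apply B B' Q.asIdeal.ResidueField b
  haveI : Nontrivial (Q.asIdeal.ResidueField ⊗[q.asIdeal.ResidueField]
      (q.asIdeal.ResidueField ⊗[B] N)) := inferInstance
  haveI : Nontrivial (Q.asIdeal.ResidueField ⊗[B] N) :=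
    (AlgebraTensorModule.cancelBaseChange B q.asIdeal.ResidueField Q.asIdeal.ResidueField
      Q.asIdeal.ResidueField N).symm.toEquiv.nontrivial
  rw [Module.mem_support_iff_nontrivial_residueField_tensorProduct]
  exact (AlgebraTensorModule.cancelBaseChange B B' Q.asIdeal.ResidueField
      Q.asIdeal.ResidueField N).toEquiv.nontrivial

/-- Going-down along a base change of a ring map carrying a finite module flat over the base:
`B' = A' ⊗[A] B`, `N` a finite `B`-module flat over `A`, `Q'` a prime of `B'` whose image in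
`Spec B` lies in the support of `N`; then every prime of `A'` below the image of `Q'` is the
image of a prime below `Q'`. -/
theorem exists_prime_le_of_flat_module {A A' B B' N : Type u} [CommRing A] [CommRing A']
    [CommRing B] [CommRing B'] [Algebra A A'] [Algebra A B] [Algebra A' B'] [Algebra B B']
    [Algebra A B'] [IsScalarTower A A' B'] [IsScalarTower A B B'] [Algebra.IsPushout A A' B B']
    [AddCommGroup N] [Module A N] [Module B N] [IsScalarTower A B N] [Module.Finite B N]
    [Module.Flat A N] (Q' : PrimeSpectrum B')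
    (hQ : PrimeSpectrum.comap (algebraMap B B') Q' ∈ Module.support B N)
    (p'' : PrimeSpectrum A') (hp : p'' ≤ PrimeSpectrum.comap (algebraMap A' B') Q') :
    ∃ Q'' : PrimeSpectrum B', Q'' ≤ Q' ∧ PrimeSpectrum.comap (algebraMap A' B') Q'' = p'' := by
  haveI hfl : Module.Flat A' (B' ⊗[B] N) :=
    Module.Flat.of_linearEquiv (Algebra.IsPushout.cancelBaseChange A A' B B' N)
  haveI : IsScalarTower A' B' (B' ⊗[B] N) := inferInstance
  obtain ⟨I, hI⟩ : ∃ I : Ideal B', I = p''.asIdeal.map (algebraMap A' B') := ⟨_, rfl⟩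
  obtain ⟨J, hJ⟩ : ∃ J : Submodule B' (B' ⊗[B] N), J = I • ⊤ := ⟨_, rfl⟩
  have hIQ : I ≤ Q'.asIdeal := by
    rw [hI]; exact Ideal.map_le_iff_le_comap.mpr hp
  have hJ₀ : ∀ n : B' ⊗[B] N, n ∈ J ↔ n ∈ (p''.asIdeal • ⊤ : Submodule A' (B' ⊗[B] N)) := by
    intro n
    have h := Ideal.smul_restrictScalars (M := B' ⊗[B] N) p''.asIdeal
      (⊤ : Submodule B' (B' ⊗[B] N))
    rw [Submodule.restrictScalars_top] at h
    rw [← h, Submodule.restrictScalars_mem, hJ, hI]
  have hα : ∀ a : A', a ∉ p''.asIdeal → ∀ n : B' ⊗[B] N,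
      algebraMap A' B' a • n ∈ J → n ∈ J := by
    intro a ha n hn
    rw [algebraMap_smul, hJ₀] at hn
    rw [hJ₀]
    have hinj : Function.Injective (LinearMap.lsmul A' (A' ⧸ p''.asIdeal) a) := by
      rw [injective_iff_map_eq_zero]
      intro x hx
      obtain ⟨y, rfl⟩ := Ideal.Quotient.mk_surjective x
      rw [LinearMap.lsmul_apply, Algebra.smul_def, Ideal.Quotient.algebraMap_eq, ← map_mul,
        Ideal.Quotient.eq_zero_iff_mem] at hx
      rw [Ideal.Quotient.eq_zero_iff_mem]
      exact (p''.isPrime.mem_or_mem hx).resolve_left ha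
    have hinj' := Module.Flat.rTensor_preserves_injective_linearMap (M := B' ⊗[B] N) _ hinj
    have h1 : TensorProduct.quotTensorEquivQuotSMul (B' ⊗[B] N) p''.asIdeal
        ((1 : A' ⧸ p''.asIdeal) ⊗ₜ[A'] (a • n)) = 0 := by
      rw [TensorProduct.quotTensorEquivQuotSMul_mk_one_tmul]
      exact (Submodule.Quotient.mk_eq_zero _).mpr hn
    have h2 : (1 : A' ⧸ p''.asIdeal) ⊗ₜ[A'] (a • n) = 0 := by
      apply (TensorProduct.quotTensorEquivQuotSMul (B' ⊗[B] N) p''.asIdeal).injective
      rw [h1, map_zero]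
    have h3 : (LinearMap.lsmul A' (A' ⧸ p''.asIdeal) a).rTensor (B' ⊗[B] N)
        ((1 : A' ⧸ p''.asIdeal) ⊗ₜ[A'] n) = 0 := by
      rw [LinearMap.rTensor_tmul, LinearMap.lsmul_apply, TensorProduct.smul_tmul, h2]
    have h4 : (1 : A' ⧸ p''.asIdeal) ⊗ₜ[A'] n = 0 := hinj' (by rw [h3, map_zero])
    have h5 : TensorProduct.quotTensorEquivQuotSMul (B' ⊗[B] N) p''.asIdeal
        ((1 : A' ⧸ p''.asIdeal) ⊗ₜ[A'] n) = 0 := by rw [h4, map_zero]
    rw [TensorProduct.quotTensorEquivQuotSMul_mk_one_tmul] at h5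
    exact (Submodule.Quotient.mk_eq_zero _).mp h5
  have hsupp : Q' ∈ Module.support B' ((B' ⊗[B] N) ⧸ J) := by
    rw [hJ, Module.support_quotient]
    exact ⟨mem_support_baseChange Q' hQ,
      (PrimeSpectrum.mem_zeroLocus _ _).mpr (SetLike.coe_subset_coe.mpr hIQ)⟩
  obtain ⟨t, ht⟩ := Module.mem_support_iff_exists_annihilator.mp hsupp
  obtain ⟨n, rfl⟩ := Submodule.Quotient.mk_surjective J t
  have hann : ∀ b : B', b ∈ (Submodule.span B'
      {(Submodule.Quotient.mk n : (B' ⊗[B] N) ⧸ J)}).annihilator ↔ b • n ∈ J := by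
    intro b
    rw [Submodule.mem_annihilator_span_singleton, ← Submodule.Quotient.mk_smul,
      Submodule.Quotient.mk_eq_zero]
  have hn : ∀ b : B', b • n ∈ J → b ∈ Q'.asIdeal := fun b hb => ht ((hann b).mpr hb)
  have hdisj : Disjoint
      (((Submodule.span B' {(Submodule.Quotient.mk n : (B' ⊗[B] N) ⧸ J)}).annihilator :
        Ideal B') : Set B')
      ((Q'.asIdeal.primeCompl ⊔ Submonoid.map (algebraMap A' B') p''.asIdeal.primeCompl :
        Submonoid B') : Set B') := by
    rw [Set.disjoint_left]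
    intro x hx hxS
    obtain ⟨y, hy, z, hz, rfl⟩ := Submonoid.mem_sup.mp hxS
    obtain ⟨a, ha, rfl⟩ := Submonoid.mem_map.mp hz
    have hx' : (y * algebraMap A' B' a) • n ∈ J := (hann _).mp hx
    rw [mul_comm, mul_smul] at hx'
    exact (Ideal.mem_primeCompl_iff.mp hy) (hn y (hα a (Ideal.mem_primeCompl_iff.mp ha) _ hx'))
  obtain ⟨P, hP, haP, hPdisj⟩ := Ideal.exists_le_prime_disjoint _ _ hdisj
  refine ⟨⟨P, hP⟩, ?_, ?_⟩
  · show P ≤ Q'.asIdeal
    intro x hx
    by_contra hxQ
    exact Set.disjoint_left.mp hPdisj hx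
      (Submonoid.mem_sup_left (Ideal.mem_primeCompl_iff.mpr hxQ))
  · apply PrimeSpectrum.ext
    apply le_antisymm
    · intro a ha
      have ha' : algebraMap A' B' a ∈ P := ha
      by_contra hap
      exact Set.disjoint_left.mp hPdisj ha'
        (Submonoid.mem_sup_right (Submonoid.mem_map_of_mem _ (Ideal.mem_primeCompl_iff.mpr hap)))
    · intro a ha
      show algebraMap A' B' a ∈ P
      apply haP
      rw [hann, hJ]
      refine Submodule.smul_mem_smul ?_ Submodule.mem_top
      rw [hI]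
      exact Ideal.mem_map_of_mem _ ha

section

attribute [local instance] Algebra.TensorProduct.rightAlgebra

/-- Geometric form of `exists_prime_le_of_flat_module` on `Spec B ×_{Spec A} Spec A'`. -/
theorem exists_specializes_pullback_Spec {A B A' : CommRingCat.{u}} (φ : A ⟶ B) (ψ : A ⟶ A')
    (N : Type u) [AddCommGroup N] [Module B N] [Module.Finite B N]
    (hflat : @Module.Flat A N _ _ (Module.compHom N φ.hom))
    (z : ↥(pullback (Spec.map φ) (Spec.map ψ)))
    (hz : (pullback.fst (Spec.map φ) (Spec.map ψ)).base z ∈ Module.support B N)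
    (p : PrimeSpectrum A')
    (hp : p ≤ (show PrimeSpectrum A' from (pullback.snd (Spec.map φ) (Spec.map ψ)).base z)) :
    ∃ z' : ↥(pullback (Spec.map φ) (Spec.map ψ)), z' ⤳ z ∧
      (pullback.snd (Spec.map φ) (Spec.map ψ)).base z' = p := by
  letI : Algebra A B := φ.hom.toAlgebra
  letI : Algebra A A' := ψ.hom.toAlgebra
  letI : Module A N := Module.compHom N φ.hom
  haveI : IsScalarTower A B N := ⟨fun a b n => by
    change (φ.hom a * b) • n = φ.hom a • (b • n); rw [mul_smul]⟩
  haveI : Module.Flat A N := hflat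
  let e : pullback (Spec.map φ) (Spec.map ψ) ≅ Spec (.of (B ⊗[A] A')) := pullbackSpecIso A B A'
  have h1 : e.hom ≫ Spec.map (CommRingCat.ofHom (algebraMap B (B ⊗[A] A'))) =
      pullback.fst (Spec.map φ) (Spec.map ψ) := pullbackSpecIso_hom_fst' A B A'
  have h2 : e.hom ≫ Spec.map (CommRingCat.ofHom (algebraMap A' (B ⊗[A] A'))) =
      pullback.snd (Spec.map φ) (Spec.map ψ) := pullbackSpecIso_hom_snd A B A'
  have h3 : e.inv ≫ pullback.snd (Spec.map φ) (Spec.map ψ) =
      Spec.map (CommRingCat.ofHom (algebraMap A' (B ⊗[A] A'))) := pullbackSpecIso_inv_snd A B A'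
  have hQ1 : PrimeSpectrum.comap (algebraMap B (B ⊗[A] A')) (e.hom.base z) =
      (pullback.fst (Spec.map φ) (Spec.map ψ)).base z :=
    congrArg (fun g : pullback (Spec.map φ) (Spec.map ψ) ⟶ Spec B => g.base z) h1
  have hQ2 : PrimeSpectrum.comap (algebraMap A' (B ⊗[A] A')) (e.hom.base z) =
      (pullback.snd (Spec.map φ) (Spec.map ψ)).base z :=
    congrArg (fun g : pullback (Spec.map φ) (Spec.map ψ) ⟶ Spec A' => g.base z) h2
  obtain ⟨Q'', hle, hQ''⟩ := exists_prime_le_of_flat_module (A := A) (A' := A') (B := B)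
    (B' := B ⊗[A] A') (N := N) (e.hom.base z)
    (by have := hz; rwa [← hQ1] at this) p (by have := hp; rwa [← hQ2] at this)
  have hinv : e.inv.base (e.hom.base z) = z :=
    congrArg (fun g : pullback (Spec.map φ) (Spec.map ψ) ⟶ pullback (Spec.map φ) (Spec.map ψ) =>
      g.base z) e.hom_inv_id
  refine ⟨e.inv.base Q'', ?_, ?_⟩
  · have hs : (show ↥(Spec (.of (B ⊗[A] A'))) from Q'') ⤳ e.hom.base z :=
      (PrimeSpectrum.le_iff_specializes _ _).mp hle
    have := hs.map e.inv.continuous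
    rwa [hinv] at this
  · have := congrArg (fun g : Spec (.of (B ⊗[A] A')) ⟶ Spec A' => g.base Q'') h3
    exact this.trans hQ''

end

/-- Abstract form of the lifting of generalizations along a base change, from local data. -/
theorem exists_generalization_of_local_data {X Y X' Y' : Scheme.{u}} {f : X ⟶ Y} {f' : X' ⟶ Y'}
    {i₁ : X' ⟶ X} {i₂ : Y' ⟶ Y} (sq : IsPullback f' i₁ i₂ f)
    {A B A' R' : CommRingCat.{u}} (φ : A ⟶ B) (ψ : A ⟶ A') (α : B ⟶ R') (β : A' ⟶ R')
    (cX : Spec B ⟶ X) (cY : Spec A ⟶ Y) [Mono cY] (cY' : Spec A' ⟶ Y') (cX' : Spec R' ⟶ X')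
    (h1 : Spec.map φ ≫ cY = cX ≫ f) (h2 : Spec.map ψ ≫ cY = cY' ≫ i₂)
    (h3 : Spec.map α ≫ cX = cX' ≫ i₁) (h4 : Spec.map β ≫ cY' = cX' ≫ f')
    (N : Type u) [AddCommGroup N] [Module B N] [Module.Finite B N]
    (hflat : @Module.Flat A N _ _ (Module.compHom N φ.hom))
    (r : PrimeSpectrum R') (hr : PrimeSpectrum.comap α.hom r ∈ Module.support B N)
    (p : PrimeSpectrum A') (hp : p ≤ PrimeSpectrum.comap β.hom r) :
    ∃ x'' : X', x'' ⤳ cX'.base r ∧ f'.base x'' = cY'.base p := by
  have hcond : Spec.map α ≫ Spec.map φ = Spec.map β ≫ Spec.map ψ := by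
    rw [← cancel_mono cY, Category.assoc, Category.assoc, h1, h2, reassoc_of% h3,
      reassoc_of% h4, sq.w]
  have hw : (pullback.snd (Spec.map φ) (Spec.map ψ) ≫ cY') ≫ i₂ =
      (pullback.fst (Spec.map φ) (Spec.map ψ) ≫ cX) ≫ f := by
    rw [Category.assoc, Category.assoc, ← h2, ← h1, pullback.condition_assoc]
  let π : pullback (Spec.map φ) (Spec.map ψ) ⟶ X' :=
    sq.lift (pullback.snd (Spec.map φ) (Spec.map ψ) ≫ cY')
      (pullback.fst (Spec.map φ) (Spec.map ψ) ≫ cX) hw
  have hπ1 : π ≫ f' = pullback.snd (Spec.map φ) (Spec.map ψ) ≫ cY' := sq.lift_fst _ _ _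
  have hπ2 : π ≫ i₁ = pullback.fst (Spec.map φ) (Spec.map ψ) ≫ cX := sq.lift_snd _ _ _
  let ℓ : Spec R' ⟶ pullback (Spec.map φ) (Spec.map ψ) :=
    pullback.lift (Spec.map α) (Spec.map β) hcond
  have hℓ1 : ℓ ≫ pullback.fst (Spec.map φ) (Spec.map ψ) = Spec.map α := pullback.lift_fst _ _ _
  have hℓ2 : ℓ ≫ pullback.snd (Spec.map φ) (Spec.map ψ) = Spec.map β := pullback.lift_snd _ _ _
  have hℓπ : ℓ ≫ π = cX' := by
    apply sq.hom_ext
    · rw [Category.assoc, hπ1, reassoc_of% hℓ2, h4]
    · rw [Category.assoc, hπ2, reassoc_of% hℓ1, h3]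
  have hz1 : (pullback.fst (Spec.map φ) (Spec.map ψ)).base (ℓ.base r) =
      PrimeSpectrum.comap α.hom r :=
    congrArg (fun g : Spec R' ⟶ Spec B => g.base r) hℓ1
  have hz2 : (pullback.snd (Spec.map φ) (Spec.map ψ)).base (ℓ.base r) =
      PrimeSpectrum.comap β.hom r :=
    congrArg (fun g : Spec R' ⟶ Spec A' => g.base r) hℓ2
  obtain ⟨z', hz', hz'p⟩ := exists_specializes_pullback_Spec φ ψ N hflat (ℓ.base r)
    (by rw [hz1]; exact hr) p (by rw [hz2]; exact hp)
  refine ⟨π.base z', ?_, ?_⟩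
  · have h5 : π.base (ℓ.base r) = cX'.base r :=
      congrArg (fun g : Spec R' ⟶ X' => g.base r) hℓπ
    have := hz'.map π.continuous
    rwa [h5] at this
  · have h6 : f'.base (π.base z') =
        cY'.base ((pullback.snd (Spec.map φ) (Spec.map ψ)).base z') :=
      congrArg (fun g : pullback (Spec.map φ) (Spec.map ψ) ⟶ Y' => g.base z') hπ1
    rw [h6, hz'p]

/-- Every base change of a quasi-flat morphism is generalizing. -/
theorem generalizingMap_of_isPullback {X Y X' Y' : Scheme.{u}} (f : X ⟶ Y)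
    (hf : FDesc.IsQuasiFlat f) (f' : X' ⟶ Y') (i₁ : X' ⟶ X) (i₂ : Y' ⟶ Y)
    (sq : IsPullback f' i₁ i₂ f) : GeneralizingMap f'.base := by
  obtain ⟨M, hM, hflat, hne⟩ := hf
  intro x' t'' ht''
  have hpt : i₂.base (f'.base x') = f.base (i₁.base x') :=
    congrArg (fun g : X' ⟶ Y => g.base x') sq.w
  haveI := finite_stalk M hM (i₁.base x')
  haveI := hne (i₁.base x')
  have ht2 : t'' ∈ Set.range (Y'.fromSpecStalk (f'.base x')).base := by
    rw [Scheme.range_fromSpecStalk]; exact ht''
  obtain ⟨p, hp⟩ := ht2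
  obtain ⟨x'', hx'', hfx''⟩ := exists_generalization_of_local_data sq
    (f.stalkMap (i₁.base x'))
    (Y.presheaf.stalkSpecializes (specializes_of_eq hpt) ≫ i₂.stalkMap (f'.base x'))
    (i₁.stalkMap x') (f'.stalkMap x')
    (X.fromSpecStalk (i₁.base x')) (Y.fromSpecStalk (f.base (i₁.base x')))
    (Y'.fromSpecStalk (f'.base x')) (X'.fromSpecStalk x')
    (Scheme.SpecMap_stalkMap_fromSpecStalk f)
    (by rw [Spec.map_comp, Category.assoc, Scheme.SpecMap_stalkSpecializes_fromSpecStalk,
      Scheme.SpecMap_stalkMap_fromSpecStalk])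
    (Scheme.SpecMap_stalkMap_fromSpecStalk i₁) (Scheme.SpecMap_stalkMap_fromSpecStalk f')
    (M.presheaf.stalk (i₁.base x')) (hflat (i₁.base x'))
    (IsLocalRing.closedPoint (X'.presheaf.stalk x'))
    (by rw [IsLocalRing.comap_closedPoint]; exact IsLocalRing.closedPoint_mem_support _ _)
    p
    (by rw [IsLocalRing.comap_closedPoint]
        exact (PrimeSpectrum.le_iff_specializes _ _).mpr (IsLocalRing.specializes_closedPoint p))
  refine ⟨x'', ?_, ?_⟩
  · have h := Scheme.fromSpecStalk_closedPoint (X := X') (x := x')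
    rwa [h] at hx''
  · rw [hfx'']; exact hp

/-- A quasi-flat morphism locally of finite presentation is universally open. -/
theorem universallyOpen_of_isQuasiFlat {X Y : Scheme.{u}} (f : X ⟶ Y) (hf : FDesc.IsQuasiFlat f)
    [LocallyOfFinitePresentation f] : UniversallyOpen f := by
  refine ⟨fun X' Y' i₁ i₂ f' sq => ?_⟩
  haveI : LocallyOfFinitePresentation f' :=
    MorphismProperty.of_isPullback (P := @LocallyOfFinitePresentation) sq.flip inferInstance
  exact isOpenMap_of_generalizingMap f' (generalizingMap_of_isPullback f hf f' i₁ i₂ sq)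

end Groth.Agent.Lib.Helper11.QFlat
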