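import Mathlib
import Groth.Agent.Lib.Helper11.QFlat7

set_option autoImplicit false
universe u
open CategoryTheory CategoryTheory.Limits AlgebraicGeometry TopologicalSpace TensorProduct

namespace Groth.Agent.Lib.Helper11.QFlat

section Top

variable {α : Type*} [TopologicalSpace α]

theorem exists_maxPt_of_mem_irreducibleComponents [QuasiSober α] [T0Space α] {Z : Set α}
    (hZ : Z ∈ irreducibleComponents α) :
    ∃ ξ : α, closure {ξ} = Z ∧ ∀ ξ₁ : α, ξ₁ ⤳ ξ → ξ₁ = ξ := by
  have hZm : Maximal IsIrreducible Z := hZ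
  obtain ⟨ξ, hξ⟩ := QuasiSober.sober hZm.1 (isClosed_of_mem_irreducibleComponents Z hZ)
  refine ⟨ξ, hξ.def, fun ξ₁ h => ?_⟩
  have h1 : Z ⊆ closure {ξ₁} := by
    rw [← hξ.def]; exact specializes_iff_closure_subset.mp h
  have h2 : closure {ξ₁} ⊆ Z := hZm.2 (isIrreducible_singleton.closure) h1
  have h3 : ξ ⤳ ξ₁ := by
    rw [specializes_iff_mem_closure, hξ.def]; exact h2 (subset_closure rfl)
  exact (h.antisymm h3).eq

theorem closure_singleton_mem_irreducibleComponents [QuasiSober α] [T0Space α] {x : α}
    (hx : ∀ x₁ : α, x₁ ⤳ x → x₁ = x) : closure {x} ∈ irreducibleComponents α := by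
  have hZ := irreducibleComponent_mem_irreducibleComponents x
  obtain ⟨η, hη, -⟩ := exists_maxPt_of_mem_irreducibleComponents hZ
  have h1 : η ⤳ x := by
    rw [specializes_iff_mem_closure, hη]; exact mem_irreducibleComponent
  have h2 : η = x := hx η h1
  rw [← h2, hη]; exact hZ

theorem closure_image_closure_singleton {β : Type*} [TopologicalSpace β] {f : α → β}
    (hf : Continuous f) (x : α) : closure (f '' closure {x}) = closure {f x} := by
  apply subset_antisymm
  · apply closure_minimal _ isClosed_closure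
    have := image_closure_subset_closure_image hf (s := {x})
    rwa [Set.image_singleton] at this
  · apply closure_mono
    rw [Set.singleton_subset_iff]
    exact ⟨x, subset_closure rfl, rfl⟩

end Top

/-- Lifting of generalizations along the second projection of a fibre product, inside the fibre
over a point of the base (uses only flatness over a field). -/
theorem exists_generalization_snd_of_fibre {X Y Y' : Scheme.{u}} (f : X ⟶ Y) (g : Y' ⟶ Y)
    (ξ : ↥(pullback f g)) (y'₁ : Y') (h1 : y'₁ ⤳ (pullback.snd f g).base ξ)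
    (hy : g.base y'₁ = g.base ((pullback.snd f g).base ξ)) :
    ∃ ξ₁ : ↥(pullback f g), ξ₁ ⤳ ξ ∧ (pullback.snd f g).base ξ₁ = y'₁ := by
  obtain ⟨y', hy'⟩ : ∃ y' : Y', y' = (pullback.snd f g).base ξ := ⟨_, rfl⟩
  rw [← hy'] at h1 hy
  obtain ⟨y, hyy⟩ : ∃ y : Y, y = g.base y' := ⟨_, rfl⟩
  rw [← hyy] at hy
  -- squares
  have sqL := IsPullback.of_hasPullback (pullback.snd f g)
    (pullback.fst g (Y.fromSpecResidueField y))
  have sqR := IsPullback.of_hasPullback f g
  have outer := sqL.paste_horiz sqR
  rw [pullback.condition (f := g) (g := Y.fromSpecResidueField y)] at outer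
  have hcond : (pullback.fst (pullback.snd f g) (pullback.fst g (Y.fromSpecResidueField y)) ≫
      pullback.fst f g) ≫ f =
      (pullback.snd (pullback.snd f g) (pullback.fst g (Y.fromSpecResidueField y)) ≫
        pullback.snd g (Y.fromSpecResidueField y)) ≫ Y.fromSpecResidueField y := by
    rw [Category.assoc, Category.assoc]; exact outer.w
  have hu1 : pullback.lift _ _ hcond ≫ pullback.fst f (Y.fromSpecResidueField y) =
      pullback.fst (pullback.snd f g) (pullback.fst g (Y.fromSpecResidueField y)) ≫
        pullback.fst f g := pullback.lift_fst _ _ _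
  have hu2 : pullback.lift _ _ hcond ≫ pullback.snd f (Y.fromSpecResidueField y) =
      pullback.snd (pullback.snd f g) (pullback.fst g (Y.fromSpecResidueField y)) ≫
        pullback.snd g (Y.fromSpecResidueField y) := pullback.lift_snd _ _ _
  rw [← hu1] at outer
  have sqU := IsPullback.of_right outer hu2
    (IsPullback.of_hasPullback f (Y.fromSpecResidueField y))
  haveI : Flat (pullback.snd f (Y.fromSpecResidueField y)) := inferInstance
  haveI : Flat (pullback.snd (pullback.snd f g) (pullback.fst g (Y.fromSpecResidueField y))) :=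
    MorphismProperty.of_isPullback (P := @Flat) sqU inferInstance
  have hgen := Flat.generalizingMap
    (pullback.snd (pullback.snd f g) (pullback.fst g (Y.fromSpecResidueField y)))
  -- points
  have hpt : ∀ w : Y', g.base w = y → ∃ w₀ : ↥(pullback g (Y.fromSpecResidueField y)),
      (pullback.fst g (Y.fromSpecResidueField y)).base w₀ = w := by
    intro w hw
    obtain ⟨w₀, hw₀, -⟩ := Scheme.Pullback.exists_preimage_pullback (f := g)
      (g := Y.fromSpecResidueField y) w (IsLocalRing.closedPoint (Y.residueField y))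
      (by rw [Scheme.fromSpecResidueField_apply]; exact hw)
    exact ⟨w₀, hw₀⟩
  obtain ⟨y'₀, hy'₀⟩ := hpt y' hyy.symm
  obtain ⟨y'₁₀, hy'₁₀⟩ := hpt y'₁ hy
  obtain ⟨ξ₀, hξ₀, hξ₀'⟩ := Scheme.Pullback.exists_preimage_pullback (f := pullback.snd f g)
    (g := pullback.fst g (Y.fromSpecResidueField y)) ξ y'₀ (by rw [hy'₀, hy'])
  have hspec : y'₁₀ ⤳ y'₀ := by
    rw [← (pullback.fst g (Y.fromSpecResidueField y)).isEmbedding.toIsInducing.specializes_iff]
    rw [hy'₀, hy'₁₀]; exact h1
  have hspec' : y'₁₀ ⤳ (pullback.snd (pullback.snd f g)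
      (pullback.fst g (Y.fromSpecResidueField y))).base ξ₀ := by
    have : (pullback.snd (pullback.snd f g)
      (pullback.fst g (Y.fromSpecResidueField y))).base ξ₀ = y'₀ := hξ₀'
    rw [this]; exact hspec
  obtain ⟨ξ₁₀, hξ₁₀, hξ₁₀'⟩ := hgen hspec'
  refine ⟨(pullback.fst (pullback.snd f g) (pullback.fst g (Y.fromSpecResidueField y))).base ξ₁₀,
    ?_, ?_⟩
  · have := hξ₁₀.map
      (pullback.fst (pullback.snd f g) (pullback.fst g (Y.fromSpecResidueField y))).continuous
    have h5 : (pullback.fst (pullback.snd f g)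
      (pullback.fst g (Y.fromSpecResidueField y))).base ξ₀ = ξ := hξ₀
    rwa [h5] at this
  · have h6 := congrArg (fun k : pullback (pullback.snd f g)
      (pullback.fst g (Y.fromSpecResidueField y)) ⟶ Y' => k.base ξ₁₀) sqL.w
    have h7 : (pullback.snd f g).base ((pullback.fst (pullback.snd f g)
        (pullback.fst g (Y.fromSpecResidueField y))).base ξ₁₀) =
        (pullback.fst g (Y.fromSpecResidueField y)).base ((pullback.snd (pullback.snd f g)
        (pullback.fst g (Y.fromSpecResidueField y))).base ξ₁₀) := h6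
    have h8 : (pullback.snd (pullback.snd f g)
        (pullback.fst g (Y.fromSpecResidueField y))).base ξ₁₀ = y'₁₀ := hξ₁₀'
    rw [h7, h8, hy'₁₀]

/-- If every irreducible component of `X` dominates an irreducible component of `Y` and
`g : Y' ⟶ Y` is quasi-flat, every irreducible component of `X ×_Y Y'` dominates one of `Y'`. -/
theorem closure_image_snd_mem_irreducibleComponents {X Y Y' : Scheme.{u}} (f : X ⟶ Y)
    (g : Y' ⟶ Y)
    (hf : ∀ Z ∈ irreducibleComponents ↥X, closure (f.base '' Z) ∈ irreducibleComponents ↥Y)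
    (hg : FDesc.IsQuasiFlat g) (Z' : Set ↥(pullback f g))
    (hZ' : Z' ∈ irreducibleComponents ↥(pullback f g)) :
    closure ((pullback.snd f g).base '' Z') ∈ irreducibleComponents ↥Y' := by
  obtain ⟨ξ, hξZ, hξmax⟩ := exists_maxPt_of_mem_irreducibleComponents hZ'
  have hfst : GeneralizingMap (pullback.fst f g).base :=
    generalizingMap_of_isPullback g hg (pullback.fst f g) (pullback.snd f g) f
      (IsPullback.of_hasPullback f g)
  have hxmax : ∀ x₁ : X, x₁ ⤳ (pullback.fst f g).base ξ → x₁ = (pullback.fst f g).base ξ := by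
    intro x₁ h
    obtain ⟨ξ₁, hξ₁, rfl⟩ := hfst h
    rw [hξmax ξ₁ hξ₁]
  have hcomp := hf _ (closure_singleton_mem_irreducibleComponents hxmax)
  rw [closure_image_closure_singleton f.continuous] at hcomp
  obtain ⟨η, hη, hηmax⟩ := exists_maxPt_of_mem_irreducibleComponents hcomp
  have hyη : η = f.base ((pullback.fst f g).base ξ) :=
    IsGenericPoint.eq (hη : IsGenericPoint η _) isGenericPoint_closure
  subst hyη
  have hy'max : ∀ y'₁ : Y', y'₁ ⤳ (pullback.snd f g).base ξ →
      y'₁ = (pullback.snd f g).base ξ := by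
    intro y'₁ h
    have h2 : g.base y'₁ = g.base ((pullback.snd f g).base ξ) := by
      have h3 : g.base y'₁ ⤳ g.base ((pullback.snd f g).base ξ) := h.map g.continuous
      have h4 : g.base ((pullback.snd f g).base ξ) = f.base ((pullback.fst f g).base ξ) :=
        (congrArg (fun k : pullback f g ⟶ Y => k.base ξ) pullback.condition).symm
      rw [h4] at h3 ⊢
      exact hηmax _ h3
    obtain ⟨ξ₁, hξ₁, rfl⟩ := exists_generalization_snd_of_fibre f g ξ y'₁ h h2
    rw [hξmax ξ₁ hξ₁]
  rw [← hξZ, closure_image_closure_singleton (pullback.snd f g).continuous]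
  exact closure_singleton_mem_irreducibleComponents hy'max

end Groth.Agent.Lib.Helper11.QFlat
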