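import Mathlib
import Groth.Agent.Lib.Helper11.ASpaceOpen
import Groth.Agent.Lib.Helper11.QFlat4
import Groth.Agent.Lib.Helper11.QFlat8

set_option autoImplicit false
universe u
open CategoryTheory CategoryTheory.Limits AlgebraicGeometry TopologicalSpace TensorProduct

namespace Groth.Agent.Lib.Helper11.ASpaceOpen

theorem universallyOpen_of_components_dominate {X Y : Scheme.{u}} (f : X ⟶ Y)
    [LocallyOfFinitePresentation f]
    (h : ∀ (Y' : Scheme.{u}) (g : Y' ⟶ Y) [IrreducibleSpace Y'] [LocallyOfFiniteType g]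
      [QuasiCompact g],
      ∀ Z ∈ irreducibleComponents (↥(pullback f g) : Type u),
        Dense ((pullback.snd f g).base '' Z)) :
    UniversallyOpen f := by
  apply universallyOpen_of_affOpen
  intro n hn
  have sqA := AffineSpace.isPullback_map (n := ULift.{u} (Fin n)) f
  haveI : LocallyOfFinitePresentation (AffineSpace.map (ULift.{u} (Fin n)) f) :=
    MorphismProperty.of_isPullback (P := @LocallyOfFinitePresentation) sqA.flip inferInstance
  apply isOpenMap_of_generalizingMap
  intro w v' hv'
  obtain ⟨Y', i, hi, hr⟩ := QFlat.exists_closedImmersion_range (closure {v'}) isClosed_closure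
  haveI : IsClosedImmersion i := hi
  haveI : IrreducibleSpace (Set.range i.base) :=
    Subtype.irreducibleSpace (by rw [hr]; exact isIrreducible_singleton.closure)
  haveI : IrreducibleSpace Y' :=
    (i.isEmbedding.toHomeomorph.irreducibleSpace_iff).mpr inferInstance
  obtain ⟨g, hg⟩ : ∃ g : Y' ⟶ Y, g = i ≫ (AffineSpace (ULift.{u} (Fin n)) Y ↘ Y) := ⟨_, rfl⟩
  haveI : LocallyOfFiniteType g := by rw [hg]; infer_instance
  haveI : QuasiCompact g := by rw [hg]; infer_instance
  have hcond : (pullback.snd f g ≫ i) ≫ (AffineSpace (ULift.{u} (Fin n)) Y ↘ Y) =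
      pullback.fst f g ≫ f := by
    rw [Category.assoc, ← hg]; exact pullback.condition.symm
  obtain ⟨lam, hl1, hl2⟩ : ∃ lam : pullback f g ⟶ AffineSpace (ULift.{u} (Fin n)) X,
      lam ≫ AffineSpace.map (ULift.{u} (Fin n)) f = pullback.snd f g ≫ i ∧
      lam ≫ (AffineSpace (ULift.{u} (Fin n)) X ↘ X) = pullback.fst f g :=
    ⟨sqA.lift _ _ hcond, sqA.lift_fst _ _ _, sqA.lift_snd _ _ _⟩
  have outer : IsPullback (lam ≫ (AffineSpace (ULift.{u} (Fin n)) X ↘ X)) (pullback.snd f g) f
      (i ≫ (AffineSpace (ULift.{u} (Fin n)) Y ↘ Y)) := by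
    rw [hl2, ← hg]; exact IsPullback.of_hasPullback f g
  have sqL := IsPullback.of_right outer hl1 sqA.flip
  have hmem : (AffineSpace.map (ULift.{u} (Fin n)) f).base w ∈ Set.range i.base := by
    rw [hr]; exact specializes_iff_mem_closure.mp hv'
  obtain ⟨y₀, hy₀⟩ := hmem
  obtain ⟨p, hp1, hp2⟩ := QFlat.exists_preimage_of_isPullback sqL w y₀ hy₀.symm
  have hZ := irreducibleComponent_mem_irreducibleComponents p
  obtain ⟨ζ, hζ, -⟩ := QFlat.exists_maxPt_of_mem_irreducibleComponents hZ
  have hζp : ζ ⤳ p := by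
    rw [specializes_iff_mem_closure, hζ]; exact mem_irreducibleComponent
  have hdense := h Y' g (irreducibleComponent p) hZ
  have hcl : closure {(pullback.snd f g).base ζ} = Set.univ := by
    rw [← QFlat.closure_image_closure_singleton (pullback.snd f g).continuous, hζ]
    exact hdense.closure_eq
  have hv'mem : v' ∈ Set.range i.base := by rw [hr]; exact subset_closure rfl
  obtain ⟨η', hη'⟩ := hv'mem
  have h1 : (pullback.snd f g).base ζ ⤳ η' := by
    rw [specializes_iff_mem_closure, hcl]; trivial
  have h2 : η' ⤳ (pullback.snd f g).base ζ := by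
    rw [← i.isEmbedding.toIsInducing.specializes_iff, hη', specializes_iff_mem_closure, ← hr]
    exact ⟨_, rfl⟩
  have h3 : (pullback.snd f g).base ζ = η' := (h1.antisymm h2).eq
  refine ⟨lam.base ζ, ?_, ?_⟩
  · have := hζp.map lam.continuous
    rwa [hp1] at this
  · have h4 := congrArg (fun k : pullback f g ⟶ AffineSpace (ULift.{u} (Fin n)) Y => k.base ζ) hl1
    have h5 : (AffineSpace.map (ULift.{u} (Fin n)) f).base (lam.base ζ) =
        i.base ((pullback.snd f g).base ζ) := h4
    rw [h5, h3, hη']

end Groth.Agent.Lib.Helper11.ASpaceOpen
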