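import Mathlib
import Groth.Prelude.Def_Flat
import Groth.Agent.Lib.Helper11.UHRing

/-!
# Ring-level universal homeomorphisms: permanence (helper11)
-/

set_option autoImplicit false
universe u
open CategoryTheory AlgebraicGeometry CategoryTheory.Limits

namespace Groth.Agent.Lib.Helper11.UHRing

/-- cancellation for universally injective morphisms along a surjection. -/
theorem universallyInjective_of_comp_surjective {X Y Z : Scheme.{u}} (f : X ⟶ Y) (g : Y ⟶ Z)
    [Surjective f] [UniversallyInjective (f ≫ g)] : UniversallyInjective g := by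
  rw [UniversallyInjective.iff_diagonal]
  haveI h1 : Surjective (pullback.diagonal (f ≫ g)) :=
    (UniversallyInjective.iff_diagonal _).mp inferInstance
  haveI h2 : Surjective (pullback.map (f ≫ g) (f ≫ g) g g f f (𝟙 Z)
      ((Category.comp_id _).trans rfl) ((Category.comp_id _).trans rfl)) :=
    MorphismProperty.pullbackMap (P := @Surjective) (f := f ≫ g) (g := f ≫ g) (f' := g) (g' := g)
      (i₁ := f) (i₂ := f) inferInstance inferInstance rfl rfl
  have h3 : f ≫ pullback.diagonal g = pullback.diagonal (f ≫ g) ≫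
      pullback.map (f ≫ g) (f ≫ g) g g f f (𝟙 Z)
        ((Category.comp_id _).trans rfl) ((Category.comp_id _).trans rfl) := by
    apply pullback.hom_ext
    · simp only [Category.assoc, pullback.diagonal_fst, Category.comp_id, pullback.lift_fst,
        pullback.map]
      rw [← Category.assoc, pullback.diagonal_fst, Category.id_comp]
    · simp only [Category.assoc, pullback.diagonal_snd, Category.comp_id, pullback.lift_snd,
        pullback.map]
      rw [← Category.assoc, pullback.diagonal_snd, Category.id_comp]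
  haveI : Surjective (f ≫ pullback.diagonal g) := by rw [h3]; infer_instance
  exact Surjective.of_comp f _

variable {A B C : Type u} [CommRing A] [CommRing B] [CommRing C]

theorem UH.bijective_comap {φ : A →+* B} (h : UH φ) :
    Function.Bijective (PrimeSpectrum.comap φ) := by
  have h1 := (isUnivHomeo_SpecMap_iff φ).mpr h
  have h' : IsHomeomorph (Spec.map (CommRingCat.ofHom φ)) :=
    MorphismProperty.universally_le _ _ h1
  exact h'.bijective

theorem UH.comp {φ : A →+* B} {ψ : B →+* C} (h1 : UH φ) (h2 : UH ψ) : UH (ψ.comp φ) := by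
  refine ⟨h1.integral.trans _ _ h2.integral, ?_, ?_⟩
  · intro a ha
    have h3 : φ a ∈ RingHom.ker ψ := ha
    obtain ⟨n, hn⟩ := h2.ker_le h3
    have h4 : a ^ n ∈ RingHom.ker φ := by
      rw [RingHom.mem_ker, map_pow]; exact hn
    obtain ⟨m, hm⟩ := h1.ker_le h4
    exact ⟨n * m, by rw [pow_mul]; exact hm⟩
  · intro K _ g₁ g₂ hg
    apply h2.inj K
    apply h1.inj K
    rw [RingHom.comp_assoc, RingHom.comp_assoc]; exact hg

theorem UH.of_comp {φ : A →+* B} {ψ : B →+* C} (h1 : UH φ) (h2 : UH (ψ.comp φ)) : UH ψ := by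
  refine ⟨RingHom.IsIntegral.tower_top φ ψ h2.integral, ?_, ?_⟩
  · rw [← PrimeSpectrum.denseRange_comap_iff_ker_le_nilRadical]
    apply Function.Surjective.denseRange
    intro q
    obtain ⟨r, hr⟩ := h2.bijective_comap.2 (PrimeSpectrum.comap φ q)
    refine ⟨r, h1.bijective_comap.1 ?_⟩
    rw [← hr]; rfl
  · intro K _ g₁ g₂ hg
    apply h2.inj K
    rw [← RingHom.comp_assoc, ← RingHom.comp_assoc, hg]

/-- a surjective ring map with nil kernel is UH. -/
theorem UH.of_surjective {φ : A →+* B} (hs : Function.Surjective φ)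
    (hk : RingHom.ker φ ≤ nilradical A) : UH φ := by
  refine ⟨φ.isIntegral_of_surjective hs, hk, ?_⟩
  intro K _ g₁ g₂ hg
  ext b
  obtain ⟨a, rfl⟩ := hs b
  exact RingHom.congr_fun hg a

theorem UH.of_bijective {φ : A →+* B} (hs : Function.Bijective φ) : UH φ := by
  refine UH.of_surjective hs.2 ?_
  rw [(RingHom.injective_iff_ker_eq_bot φ).mp hs.1]
  exact bot_le

/-- left cancellation along an integral injective map: if `A → B' → B` with `B' → B` injective and
integral and `A → B` is UH then `A → B'` is UH. -/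
theorem UH.of_comp_injective {φ : A →+* B} {ι : B →+* C} (hι : Function.Injective ι)
    (h : UH (ι.comp φ)) : UH φ := by
  have hint : φ.IsIntegral := by
    intro b
    have := h.integral (ι b)
    obtain ⟨p, hp, hp'⟩ := this
    refine ⟨p, hp, hι ?_⟩
    rw [map_zero, Polynomial.hom_eval₂]
    exact hp'
  have hker : RingHom.ker φ ≤ nilradical A := by
    intro a ha
    apply h.ker_le
    rw [RingHom.mem_ker] at ha ⊢
    simp [ha]
  refine ⟨hint, hker, ?_⟩
  have hιint : ι.IsIntegral := RingHom.IsIntegral.tower_top φ ι h.integral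
  have hιsurj : Function.Surjective (PrimeSpectrum.comap ι) :=
    comap_surjective_of_integral ι hιint (by
      rw [(RingHom.injective_iff_ker_eq_bot ι).mp hι]; exact bot_le)
  rw [← universallyInjective_SpecMap_iff]
  haveI : Surjective (Spec.map (CommRingCat.ofHom ι)) := ⟨hιsurj⟩
  haveI : UniversallyInjective (Spec.map (CommRingCat.ofHom ι) ≫ Spec.map (CommRingCat.ofHom φ)) := by
    rw [← Spec.map_comp, ← CommRingCat.ofHom_comp]
    exact (universallyInjective_SpecMap_iff _).mpr h.inj
  exact universallyInjective_of_comp_surjective (Spec.map (CommRingCat.ofHom ι)) _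

/-! ### Subalgebras -/

section Sub
variable [Algebra A B]

theorem ker_algebraMap_subalgebra (C' : Subalgebra A B) :
    RingHom.ker (algebraMap A C') = RingHom.ker (algebraMap A B) := by
  ext a
  simp only [RingHom.mem_ker]
  constructor
  · intro h
    have := congrArg (Subtype.val) h
    simpa using this
  · intro h
    apply Subtype.ext
    simpa using h

theorem isIntegral_algebraMap_subalgebra (C' : Subalgebra A B)
    (h : ∀ c ∈ C', IsIntegral A c) : (algebraMap A C').IsIntegral := by
  intro c
  have := h c.1 c.2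
  exact (isIntegral_algHom_iff C'.val Subtype.val_injective).mp this

/-- the equaliser (inside `B`) of two ring maps out of a subalgebra which agree on `A`. -/
def eqSub (B' : Subalgebra A B) {K : Type u} [Field K] (g₁ g₂ : B' →+* K)
    (hg : g₁.comp (algebraMap A B') = g₂.comp (algebraMap A B')) : Subalgebra A B where
  carrier := {b | ∃ hb : b ∈ B', g₁ ⟨b, hb⟩ = g₂ ⟨b, hb⟩}
  mul_mem' := by
    rintro a b ⟨ha, ha'⟩ ⟨hb, hb'⟩
    refine ⟨B'.mul_mem ha hb, ?_⟩
    have : (⟨a * b, B'.mul_mem ha hb⟩ : B') = ⟨a, ha⟩ * ⟨b, hb⟩ := rfl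
    rw [this, map_mul, map_mul, ha', hb']
  add_mem' := by
    rintro a b ⟨ha, ha'⟩ ⟨hb, hb'⟩
    refine ⟨B'.add_mem ha hb, ?_⟩
    have : (⟨a + b, B'.add_mem ha hb⟩ : B') = ⟨a, ha⟩ + ⟨b, hb⟩ := rfl
    rw [this, map_add, map_add, ha', hb']
  algebraMap_mem' := by
    intro r
    exact ⟨B'.algebraMap_mem r, RingHom.congr_fun hg r⟩

theorem UH.of_sSup (S : Set (Subalgebra A B)) (hS : ∀ C' ∈ S, UH (algebraMap A C'))
    (hker : RingHom.ker (algebraMap A B) ≤ nilradical A) :
    UH (algebraMap A (sSup S : Subalgebra A B)) := by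
  refine ⟨?_, ?_, ?_⟩
  · apply isIntegral_algebraMap_subalgebra
    have hle : sSup S ≤ integralClosure A B := by
      apply sSup_le
      intro C' hC' c hc
      have h1 := (hS C' hC').integral ⟨c, hc⟩
      exact (isIntegral_algHom_iff C'.val Subtype.val_injective).mpr h1
    intro c hc
    exact hle hc
  · rw [ker_algebraMap_subalgebra]; exact hker
  · intro K _ g₁ g₂ hg
    have hle : sSup S ≤ eqSub (sSup S) g₁ g₂ hg := by
      apply sSup_le
      intro C' hC' c hc
      have hC'le : C' ≤ sSup S := le_sSup hC'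
      refine ⟨hC'le hc, ?_⟩
      have h1 := (hS C' hC').inj K (g₁.comp (Subalgebra.inclusion hC'le).toRingHom)
        (g₂.comp (Subalgebra.inclusion hC'le).toRingHom) (by
          ext a
          exact RingHom.congr_fun hg a)
      exact RingHom.congr_fun h1 ⟨c, hc⟩
    ext b
    obtain ⟨hb, hb'⟩ := hle b.2
    exact hb'

theorem UH.of_range {C : Type u} [CommRing C] [Algebra A C] (g : C →ₐ[A] B)
    (h : UH (algebraMap A C)) (hker : RingHom.ker (algebraMap A B) ≤ nilradical A) :
    UH (algebraMap A g.range) := by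
  refine ⟨?_, ?_, ?_⟩
  · apply isIntegral_algebraMap_subalgebra
    rintro _ ⟨c, rfl⟩
    exact (show IsIntegral A c from h.integral c).map g
  · rw [ker_algebraMap_subalgebra]; exact hker
  · intro K _ g₁ g₂ hg
    have h1 := h.inj K (g₁.comp g.rangeRestrict.toRingHom) (g₂.comp g.rangeRestrict.toRingHom) (by
      ext a
      have := RingHom.congr_fun hg a
      simpa using this)
    ext ⟨b, c, rfl⟩
    exact RingHom.congr_fun h1 c

/-- `UH` passes to subalgebras. -/
theorem UH.subalgebra (B' : Subalgebra A B) (h : UH (algebraMap A B)) :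
    UH (algebraMap A B') := by
  apply UH.of_comp_injective (ι := B'.val.toRingHom) Subtype.val_injective
  exact h

/-! ### `ResTriv` -/

/-- inside a subalgebra `B'`, the elements whose class at the prime `q` comes from the residue field
of `A`. -/
def resSub (B' : Subalgebra A B) (q : Ideal B') [q.IsPrime] : Subalgebra A B where
  carrier := {b | ∃ hb : b ∈ B', ∃ a s : A, algebraMap A B' s ∉ q ∧
      algebraMap A B' s * ⟨b, hb⟩ - algebraMap A B' a ∈ q}
  mul_mem' := by
    rintro b b' ⟨hb, a, s, hs, h⟩ ⟨hb', a', s', hs', h'⟩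
    refine ⟨B'.mul_mem hb hb', a * a', s * s', ?_, ?_⟩
    · rw [map_mul]
      exact fun h0 => (Ideal.IsPrime.mem_or_mem inferInstance h0).elim hs hs'
    · have : (⟨b * b', B'.mul_mem hb hb'⟩ : B') = ⟨b, hb⟩ * ⟨b', hb'⟩ := rfl
      rw [this, map_mul, map_mul]
      have e : algebraMap A B' s * algebraMap A B' s' * (⟨b, hb⟩ * ⟨b', hb'⟩) -
          algebraMap A B' a * algebraMap A B' a' =
          (algebraMap A B' s * ⟨b, hb⟩) * (algebraMap A B' s' * ⟨b', hb'⟩ - algebraMap A B' a') +
          algebraMap A B' a' * (algebraMap A B' s * ⟨b, hb⟩ - algebraMap A B' a) := by ring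
      rw [e]
      exact q.add_mem (q.mul_mem_left _ h') (q.mul_mem_left _ h)
  add_mem' := by
    rintro b b' ⟨hb, a, s, hs, h⟩ ⟨hb', a', s', hs', h'⟩
    refine ⟨B'.add_mem hb hb', s' * a + s * a', s * s', ?_, ?_⟩
    · rw [map_mul]
      exact fun h0 => (Ideal.IsPrime.mem_or_mem inferInstance h0).elim hs hs'
    · have : (⟨b + b', B'.add_mem hb hb'⟩ : B') = ⟨b, hb⟩ + ⟨b', hb'⟩ := rfl
      rw [this, map_mul, map_add, map_mul, map_mul]
      have e : algebraMap A B' s * algebraMap A B' s' * (⟨b, hb⟩ + ⟨b', hb'⟩) -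
          (algebraMap A B' s' * algebraMap A B' a + algebraMap A B' s * algebraMap A B' a') =
          algebraMap A B' s' * (algebraMap A B' s * ⟨b, hb⟩ - algebraMap A B' a) +
          algebraMap A B' s * (algebraMap A B' s' * ⟨b', hb'⟩ - algebraMap A B' a') := by ring
      rw [e]
      exact q.add_mem (q.mul_mem_left _ h) (q.mul_mem_left _ h')
  algebraMap_mem' := by
    intro r
    refine ⟨B'.algebraMap_mem r, r, 1, ?_, ?_⟩
    · rw [map_one]; exact fun h => (inferInstance : q.IsPrime).ne_top ((Ideal.eq_top_iff_one _).mpr h)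
    · rw [map_one, one_mul]
      have : (⟨algebraMap A B r, B'.algebraMap_mem r⟩ : B') = algebraMap A B' r := rfl
      rw [this, sub_self]; exact q.zero_mem

theorem ResTriv.of_sSup (S : Set (Subalgebra A B)) (hS : ∀ C' ∈ S, ResTriv (algebraMap A C')) :
    ResTriv (algebraMap A (sSup S : Subalgebra A B)) := by
  intro q b
  have hle : sSup S ≤ resSub (sSup S) q.asIdeal := by
    apply sSup_le
    intro C' hC' c hc
    have hC'le : C' ≤ sSup S := le_sSup hC'
    refine ⟨hC'le hc, ?_⟩
    obtain ⟨a, s, hs, hsa⟩ := hS C' hC' (PrimeSpectrum.comap (Subalgebra.inclusion hC'le).toRingHom q)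
      ⟨c, hc⟩
    refine ⟨a, s, ?_, ?_⟩
    · exact hs
    · exact hsa
  obtain ⟨hb, a, s, hs, hsa⟩ := hle b.2
  exact ⟨a, s, hs, hsa⟩

theorem ResTriv.of_range {C : Type u} [CommRing C] [Algebra A C] (g : C →ₐ[A] B)
    (h : ResTriv (algebraMap A C)) : ResTriv (algebraMap A g.range) := by
  rintro q ⟨b, c, rfl⟩
  show ∃ a s : A, algebraMap A g.range s ∉ q.asIdeal ∧
    algebraMap A g.range s * g.rangeRestrict c - algebraMap A g.range a ∈ q.asIdeal
  obtain ⟨a, s, hs, hsa⟩ := h (PrimeSpectrum.comap g.rangeRestrict.toRingHom q) c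
  refine ⟨a, s, ?_, ?_⟩
  · have : g.rangeRestrict (algebraMap A C s) = algebraMap A g.range s := by simp
    rw [← this]; exact hs
  · have h1 : g.rangeRestrict (algebraMap A C s * c - algebraMap A C a) ∈ q.asIdeal := hsa
    have h2 : g.rangeRestrict (algebraMap A C s * c - algebraMap A C a) =
        algebraMap A g.range s * g.rangeRestrict c - algebraMap A g.range a := by
      rw [map_sub, map_mul]; simp
    rw [← h2]; exact h1

end Sub

section Sub2
variable [Algebra A B]

theorem isIntegral_sub (B' : Subalgebra A B) (h : (algebraMap A B).IsIntegral) :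
    (algebraMap A B').IsIntegral :=
  isIntegral_algebraMap_subalgebra B' (fun c _ => h c)

theorem val_isIntegral (B' : Subalgebra A B) (h : (algebraMap A B).IsIntegral) :
    (B'.val.toRingHom).IsIntegral :=
  RingHom.IsIntegral.tower_top (algebraMap A B') B'.val.toRingHom h

theorem val_comap_surjective (B' : Subalgebra A B) (h : (algebraMap A B).IsIntegral) :
    Function.Surjective (PrimeSpectrum.comap B'.val.toRingHom) :=
  comap_surjective_of_integral _ (val_isIntegral B' h) (by
    rw [(RingHom.injective_iff_ker_eq_bot _).mp (show Function.Injective B'.val.toRingHom from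
      Subtype.val_injective)]; exact bot_le)

theorem ResTriv.subalgebra (B' : Subalgebra A B) (hint : (algebraMap A B).IsIntegral)
    (h : ResTriv (algebraMap A B)) : ResTriv (algebraMap A B') := by
  intro q' b'
  obtain ⟨q, hq⟩ := val_comap_surjective B' hint q'
  obtain ⟨a, s, hs, hsa⟩ := h q b'.1
  refine ⟨a, s, ?_, ?_⟩
  · rw [← hq]; exact hs
  · rw [← hq]; exact hsa

/-- the subalgebra generated by one integral element is a finite module. -/
theorem finite_adjoin_singleton (b : B) (hb : IsIntegral A b) :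
    Module.Finite A (Algebra.adjoin A {b}) :=
  Module.Finite.iff_fg.mpr hb.fg_adjoin_singleton

theorem not_mem_range_of_not_mem_bot (B' : Subalgebra A B) (b : B')
    (hb : b ∉ (⊥ : Subalgebra A B')) : (b : B) ∉ (algebraMap A B).range := by
  rintro ⟨a, ha⟩
  apply hb
  rw [Algebra.mem_bot]
  exact ⟨a, Subtype.ext ha⟩

theorem mem_range_of_mem_bot (B' : Subalgebra A B) (b : B')
    (hb : b ∈ (⊥ : Subalgebra A B')) : (b : B) ∈ (algebraMap A B).range := by
  rw [Algebra.mem_bot] at hb
  obtain ⟨a, ha⟩ := hb
  exact ⟨a, congrArg Subtype.val ha⟩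

end Sub2

end Groth.Agent.Lib.Helper11.UHRing
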