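import Mathlib
import Groth.Prelude.Def_Flat
import Groth.Agent.Lib.Helper11.UHSub

/-!
# The conductor argument for universal homeomorphisms of rings (helper11)
-/

set_option autoImplicit false
universe u
open CategoryTheory AlgebraicGeometry

namespace Groth.Agent.Lib.Helper11.UHRing

variable {A B : Type u} [CommRing A] [CommRing B] [Algebra A B]

variable (A B) in
/-- the conductor: the elements `c` of `B` with `c B ⊆ A`. -/
def cond : Ideal B where
  carrier := {c | ∀ b : B, c * b ∈ (⊥ : Subalgebra A B)}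
  add_mem' := fun {x y} hx hy b => by rw [add_mul]; exact add_mem (hx b) (hy b)
  zero_mem' := fun b => by rw [zero_mul]; exact zero_mem _
  smul_mem' := fun c x hx b => by
    have : c • x * b = x * (c * b) := by rw [smul_eq_mul]; ring
    rw [this]; exact hx _

theorem mem_cond {c : B} : c ∈ cond A B ↔ ∀ b : B, c * b ∈ (⊥ : Subalgebra A B) := Iff.rfl

theorem cond_le_bot {c : B} (hc : c ∈ cond A B) : c ∈ (⊥ : Subalgebra A B) := by
  have := hc 1; rwa [mul_one] at this

/-- Claim 1. -/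
theorem exists_mul_pow_mem_cond (p : Ideal A)
    (hp : p ∈ ((cond A B).comap (algebraMap A B)).minimalPrimes) (q : Ideal B) [hqp : q.IsPrime]
    (hq : q.comap (algebraMap A B) = p)
    (huniq : ∀ q' : Ideal B, q'.IsPrime → q'.comap (algebraMap A B) = p → q' = q) (f : B)
    (hf : f ∈ q) : ∃ s : A, s ∉ p ∧ ∃ n : ℕ, algebraMap A B s * f ^ n ∈ cond A B := by
  haveI hpp : p.IsPrime := hp.1.1
  by_contra hcon
  push Not at hcon
  let M : Submonoid B :=
    { carrier := {x | ∃ s : A, s ∉ p ∧ ∃ n : ℕ, x = algebraMap A B s * f ^ n}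
      mul_mem' := by
        rintro _ _ ⟨s, hs, n, rfl⟩ ⟨s', hs', n', rfl⟩
        refine ⟨s * s', fun h => (hpp.mem_or_mem h).elim hs hs', n + n', ?_⟩
        rw [map_mul, pow_add]; ring
      one_mem' := ⟨1, fun h => hpp.ne_top ((Ideal.eq_top_iff_one _).mpr h), 0, by simp⟩ }
  have hdisj : Disjoint (cond A B : Set B) (M : Set B) := by
    rw [Set.disjoint_left]
    rintro _ hx ⟨s, hs, n, rfl⟩
    exact hcon s hs n hx
  obtain ⟨q', hq'p, hle, hq'd⟩ := Ideal.exists_le_prime_disjoint (cond A B) M hdisj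
  have h1 : q'.comap (algebraMap A B) = p := by
    apply le_antisymm
    · intro a ha
      by_contra hap
      have hm : algebraMap A B a ∈ (M : Set B) := ⟨a, hap, 0, by simp⟩
      exact Set.disjoint_left.mp hq'd ha hm
    · exact hp.2 ⟨Ideal.comap_isPrime _ _, Ideal.comap_mono hle⟩ (by
        intro a ha
        by_contra hap
        have hm : algebraMap A B a ∈ (M : Set B) := ⟨a, hap, 0, by simp⟩
        exact Set.disjoint_left.mp hq'd ha hm)
  have h2 := huniq q' hq'p h1
  have hm : f ∈ (M : Set B) :=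
    ⟨1, fun h => hpp.ne_top ((Ideal.eq_top_iff_one _).mpr h), 1, by simp⟩
  exact Set.disjoint_left.mp hq'd (h2 ▸ hf) hm

/-- Claim 2 (case a). -/
theorem exists_sq_cube_of_case_a (p : Ideal A) [hpp : p.IsPrime]
    (hIp : (cond A B).comap (algebraMap A B) ≤ p) (f : B)
    (hf : ∀ t : A, t ∉ p → algebraMap A B t * f ∉ (⊥ : Subalgebra A B))
    (s : A) (hs : s ∉ p) (n : ℕ) (hsn : algebraMap A B s * f ^ n ∈ cond A B) :
    ∃ b : B, b ∉ (⊥ : Subalgebra A B) ∧ b ^ 2 ∈ (⊥ : Subalgebra A B) ∧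
      b ^ 3 ∈ (⊥ : Subalgebra A B) := by
  classical
  set g : B := algebraMap A B s * f with hg
  have hgk : ∀ k, n ≤ k → g ^ k ∈ (⊥ : Subalgebra A B) := by
    intro k hk
    obtain ⟨m, rfl⟩ := Nat.exists_eq_add_of_le hk
    have h1 : g ^ (n + m) = (algebraMap A B s * f ^ n) * (algebraMap A B (s ^ (n + m - 1)) * f ^ m) := by
      rcases Nat.eq_zero_or_pos (n + m) with h0 | hpos
      · have hn0 : n = 0 := by omega
        have hm0 : m = 0 := by omega
        subst hn0 hm0
        exfalso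
        have : algebraMap A B s ∈ cond A B := by simpa using hsn
        exact hs (hIp this)
      · have e : s ^ (n + m) = s * s ^ (n + m - 1) := by
          rw [← pow_succ']; congr 1; omega
        rw [hg, mul_pow, ← map_pow, e, map_mul, pow_add]; ring
    rw [h1]
    exact hsn _
  let P : ℕ → Prop := fun k => ∀ t : A, t ∉ p → algebraMap A B t * g ^ k ∉ (⊥ : Subalgebra A B)
  have hP1 : P 1 := by
    intro t ht
    rw [pow_one, hg, ← mul_assoc, ← map_mul]
    exact hf _ (fun h => (hpp.mem_or_mem h).elim ht hs)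
  have hn1 : 1 ≤ n := by
    rcases Nat.eq_zero_or_pos n with h0 | hpos
    · subst h0
      exfalso
      have : algebraMap A B s ∈ cond A B := by simpa using hsn
      exact hs (hIp this)
    · exact hpos
  have hone : (1 : A) ∉ p := fun h => hpp.ne_top ((Ideal.eq_top_iff_one _).mpr h)
  have hPn : ∀ k, n ≤ k → ¬ P k := by
    intro k hk hPk
    have := hPk 1 hone
    rw [map_one, one_mul] at this
    exact this (hgk k hk)
  set k₀ := Nat.findGreatest P n with hk₀
  have hk₀P : P k₀ := Nat.findGreatest_spec hn1 hP1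
  have hk₀1 : 1 ≤ k₀ := Nat.le_findGreatest hn1 hP1
  have hgt : ∀ k, k₀ < k → ¬ P k := by
    intro k hk
    by_cases hkn : k ≤ n
    · exact Nat.findGreatest_is_greatest hk hkn
    · exact hPn k (by omega)
  have h2 := hgt (2 * k₀) (by omega)
  have h3 := hgt (3 * k₀) (by omega)
  simp only [P] at h2 h3
  push Not at h2 h3
  obtain ⟨t₂, ht₂, ht₂'⟩ := h2
  obtain ⟨t₃, ht₃, ht₃'⟩ := h3
  have ht : t₂ * t₃ ∉ p := fun h => (hpp.mem_or_mem h).elim ht₂ ht₃
  refine ⟨algebraMap A B (t₂ * t₃) * g ^ k₀, hk₀P _ ht, ?_, ?_⟩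
  · have e : (algebraMap A B (t₂ * t₃) * g ^ k₀) ^ 2 =
        algebraMap A B (t₂ * t₃ ^ 2) * (algebraMap A B t₂ * g ^ (2 * k₀)) := by
      simp only [map_mul, map_pow, pow_mul]; ring
    rw [e]
    exact mul_mem (Subalgebra.algebraMap_mem _ _) ht₂'
  · have e : (algebraMap A B (t₂ * t₃) * g ^ k₀) ^ 3 =
        algebraMap A B (t₂ ^ 3 * t₃ ^ 2) * (algebraMap A B t₃ * g ^ (3 * k₀)) := by
      simp only [map_mul, map_pow, pow_mul]; ring
    rw [e]
    exact mul_mem (Subalgebra.algebraMap_mem _ _) ht₃'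

/-- finite generation: if every element of `B` is multiplied into `A` by some element outside `p`
then a single element outside `p` multiplies `B` into `A`. -/
theorem exists_mem_cond_of_finite [Module.Finite A B] (p : Ideal A) [hpp : p.IsPrime]
    (h : ∀ b : B, ∃ u : A, u ∉ p ∧ algebraMap A B u * b ∈ (⊥ : Subalgebra A B)) :
    ∃ u : A, u ∉ p ∧ algebraMap A B u ∈ cond A B := by
  classical
  obtain ⟨S, hS⟩ := (Module.Finite.fg_top : (⊤ : Submodule A B).FG)
  choose u hu hu' using h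
  refine ⟨∏ b ∈ S, u b, ?_, ?_⟩
  · intro hmem
    obtain ⟨b, _, hb⟩ := (Ideal.IsPrime.prod_mem_iff).mp hmem
    exact hu b hb
  · intro b
    have hb : b ∈ Submodule.span A (S : Set B) := by rw [hS]; trivial
    let N : Submodule A B :=
      { carrier := {x | algebraMap A B (∏ b ∈ S, u b) * x ∈ (⊥ : Subalgebra A B)}
        add_mem' := fun {x y} hx hy => by
          show algebraMap A B (∏ b ∈ S, u b) * (x + y) ∈ (⊥ : Subalgebra A B)
          rw [mul_add]; exact add_mem hx hy
        zero_mem' := by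
          show algebraMap A B (∏ b ∈ S, u b) * (0 : B) ∈ (⊥ : Subalgebra A B)
          rw [mul_zero]; exact zero_mem _
        smul_mem' := fun c x hx => by
          show algebraMap A B (∏ b ∈ S, u b) * (c • x) ∈ (⊥ : Subalgebra A B)
          rw [mul_smul_comm]; exact Subalgebra.smul_mem _ hx c }
    have hle : Submodule.span A (S : Set B) ≤ N := by
      rw [Submodule.span_le]
      intro x hx
      show algebraMap A B (∏ b ∈ S, u b) * x ∈ (⊥ : Subalgebra A B)
      rw [← Finset.mul_prod_erase S u hx, map_mul, mul_comm (algebraMap A B (u x)), mul_assoc]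
      exact mul_mem (Subalgebra.algebraMap_mem _ _) (hu' x)
    exact hle hb

/-- the dichotomy. -/
theorem core_dichotomy [Module.Finite A B]
    (hbij : Function.Bijective (PrimeSpectrum.comap (algebraMap A B)))
    (hns : ¬ Function.Surjective (algebraMap A B)) :
    (∃ b : B, b ∉ (⊥ : Subalgebra A B) ∧ b ^ 2 ∈ (⊥ : Subalgebra A B) ∧
      b ^ 3 ∈ (⊥ : Subalgebra A B)) ∨
    ∃ q : PrimeSpectrum B,
      (∀ f ∈ q.asIdeal, ∃ t : A, algebraMap A B t ∉ q.asIdeal ∧
        algebraMap A B t * f ∈ (⊥ : Subalgebra A B)) ∧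
      ∃ b₀ : B, ∀ u : A, algebraMap A B u ∉ q.asIdeal →
        algebraMap A B u * b₀ ∉ (⊥ : Subalgebra A B) := by
  set I := (cond A B).comap (algebraMap A B) with hI
  have hItop : I ≠ ⊤ := by
    intro h
    apply hns
    intro b
    have h1 : (1 : A) ∈ I := by rw [h]; trivial
    have h2 : algebraMap A B 1 * b ∈ (⊥ : Subalgebra A B) := h1 b
    rw [map_one, one_mul] at h2
    exact Algebra.mem_bot.mp h2
  obtain ⟨m, hm, hIm⟩ := Ideal.exists_le_maximal I hItop
  haveI := hm.isPrime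
  obtain ⟨p, hp, hpm⟩ := Ideal.exists_minimalPrimes_le hIm
  haveI hpp : p.IsPrime := hp.1.1
  have hIp : I ≤ p := hp.1.2
  obtain ⟨q, hq⟩ := hbij.2 ⟨p, hpp⟩
  have hq' : q.asIdeal.comap (algebraMap A B) = p := congrArg PrimeSpectrum.asIdeal hq
  have hmem : ∀ t : A, algebraMap A B t ∉ q.asIdeal ↔ t ∉ p := by
    intro t
    rw [← hq']; rfl
  have huniq : ∀ q' : Ideal B, q'.IsPrime → q'.comap (algebraMap A B) = p → q' = q.asIdeal := by
    intro q' hq'p hq'c
    have : (⟨q', hq'p⟩ : PrimeSpectrum B) = q := by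
      apply hbij.1
      rw [hq]
      exact PrimeSpectrum.ext hq'c
    exact congrArg PrimeSpectrum.asIdeal this
  by_cases hcase : ∃ f ∈ q.asIdeal, ∀ t : A, t ∉ p → algebraMap A B t * f ∉ (⊥ : Subalgebra A B)
  · left
    obtain ⟨f, hfq, hf⟩ := hcase
    obtain ⟨s, hs, n, hsn⟩ := exists_mul_pow_mem_cond p hp q.asIdeal hq' huniq f hfq
    exact exists_sq_cube_of_case_a p hIp f hf s hs n hsn
  · right
    push Not at hcase
    refine ⟨q, ?_, ?_⟩
    · intro f hf
      obtain ⟨t, ht, ht'⟩ := hcase f hf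
      exact ⟨t, (hmem t).mpr ht, ht'⟩
    · by_contra hcon
      push Not at hcon
      have : ∀ b : B, ∃ u : A, u ∉ p ∧ algebraMap A B u * b ∈ (⊥ : Subalgebra A B) := by
        intro b
        obtain ⟨u, hu, hu'⟩ := hcon b
        exact ⟨u, (hmem u).mp hu, hu'⟩
      obtain ⟨u, hu, hu'⟩ := exists_mem_cond_of_finite p this
      exact hu (hIp hu')

/-! ### Pure inseparability, ring-level -/

theorem UH.exists_expChar {A B : Type u} [CommRing A] [CommRing B] {φ : A →+* B} (h : UH φ)
    (q : PrimeSpectrum B) :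
    ∃ ℓ : ℕ, (ℓ = 1 ∨ (ℓ.Prime ∧ φ (ℓ : A) ∈ q.asIdeal)) ∧
      ∀ b : B, ∃ (n : ℕ) (a s : A), φ s ∉ q.asIdeal ∧ φ s * b ^ (ℓ ^ n) - φ a ∈ q.asIdeal := by
  have hUI : UniversallyInjective (Spec.map (CommRingCat.ofHom φ)) :=
    (universallyInjective_SpecMap_iff φ).mpr h.inj
  have key := (tfae_universallyInjective (Spec.map (CommRingCat.ofHom φ))).out 0 2
  have hpi := (key.mp hUI).2 q
  set f := Spec.map (CommRingCat.ofHom φ) with hf
  set ρ := (f.residueFieldMap q).hom with hρ
  set E := ev (CommRingCat.of B) q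
  set EA := ev (CommRingCat.of A) (f q)
  have hρE : ∀ a : A, ρ (EA a) = E (φ a) := fun a => residueFieldMap_ev (CommRingCat.ofHom φ) q a
  algebraize [ρ]
  refine ⟨ringExpChar ((Spec (CommRingCat.of A)).residueField (f q)), ?_, ?_⟩
  · have hexp : ExpChar ((Spec (CommRingCat.of A)).residueField (f q))
        (ringExpChar ((Spec (CommRingCat.of A)).residueField (f q))) := inferInstance
    generalize ringExpChar ((Spec (CommRingCat.of A)).residueField (f q)) = ℓ at hexp
    rcases hexp with _ | ⟨hprime⟩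
    · left; rfl
    · right
      refine ⟨hprime, ?_⟩
      rw [← ev_eq_zero_iff (CommRingCat.of B) q]
      show E (φ (ℓ : A)) = 0
      rw [← hρE, map_natCast, CharP.cast_eq_zero, map_zero]
  · intro b
    obtain ⟨n, z, hz⟩ := IsPurelyInseparable.pow_mem ((Spec (CommRingCat.of A)).residueField (f q))
      (ringExpChar ((Spec (CommRingCat.of A)).residueField (f q))) (E b)
    obtain ⟨a, s, hs, hzs⟩ := exists_ev_div (CommRingCat.of A) (f q) z
    refine ⟨n, a, s, hs, ?_⟩
    have h1 := congrArg ρ hzs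
    rw [map_mul, hρE, hρE] at h1
    have hz' : ρ z = E b ^ ringExpChar ((Spec (CommRingCat.of A)).residueField (f q)) ^ n := hz
    rw [hz'] at h1
    rw [← ev_eq_zero_iff (CommRingCat.of B) q]
    show E (φ s * b ^ _ - φ a) = 0
    rw [map_sub, map_mul, map_pow, sub_eq_zero, mul_comm]
    exact h1

/-! ### Lemma 0CNA -/

theorem exists_pth_root_step {B : Type u} [CommRing B] (R : Subring B) (ℓ : ℕ) :
    ∀ (n : ℕ) (b : B), b ∉ R → (ℓ : B) * b ∈ R → b ^ (ℓ ^ n) ∈ R →
      ∃ b' : B, b' ∉ R ∧ (ℓ : B) * b' ∈ R ∧ b' ^ ℓ ∈ R := by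
  classical
  intro n
  induction n with
  | zero =>
    intro b hb _ hpow
    exfalso
    rw [pow_zero, pow_one] at hpow
    exact hb hpow
  | succ n ih =>
    intro b hb hℓb hpow
    by_cases hbℓ : b ^ ℓ ∈ R
    · exact ⟨b, hb, hℓb, hbℓ⟩
    · have hex : ∃ i : ℕ, (ℓ : B) ^ i * b ^ ℓ ∈ R := ⟨ℓ, by rw [← mul_pow]; exact pow_mem hℓb ℓ⟩
      set i := Nat.find hex with hi
      have hi_spec : (ℓ : B) ^ i * b ^ ℓ ∈ R := Nat.find_spec hex
      have hi_pos : 0 < i := by
        rcases Nat.eq_zero_or_pos i with h0 | hpos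
        · exfalso
          rw [h0, pow_zero, one_mul] at hi_spec
          exact hbℓ hi_spec
        · exact hpos
      have hi_min : (ℓ : B) ^ (i - 1) * b ^ ℓ ∉ R := Nat.find_min hex (by omega)
      apply ih ((ℓ : B) ^ (i - 1) * b ^ ℓ) hi_min
      · rw [← mul_assoc, ← pow_succ']
        have : i - 1 + 1 = i := by omega
        rw [this]; exact hi_spec
      · rw [mul_pow, ← pow_mul, ← pow_mul, ← pow_succ']
        exact mul_mem (pow_mem (natCast_mem R ℓ) _) hpow

end Groth.Agent.Lib.Helper11.UHRing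

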