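import Mathlib
import Groth.Prelude.Def_Flat
import Groth.Agent.Lib.Helper11.UHCore

/-!
# Towers of elementary extensions (helper11)
-/

set_option autoImplicit false
universe u
open CategoryTheory AlgebraicGeometry

namespace Groth.Agent.Lib.Helper11.UHRing

variable {A B : Type u} [CommRing A] [CommRing B] [Algebra A B]

/-! ### Steps -/

theorem UH.step (S S' : Subalgebra A B) (hle : S ≤ S') (b : B) (hb : b ∈ S')
    (hS' : S' ≤ Algebra.adjoin A ((S : Set B) ∪ {b})) (h : UH (algebraMap A S))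
    (hint : IsIntegral A b)
    (huniq : ∀ (K : Type u) [Field K] (g₁ g₂ : S' →+* K),
      (∀ s : S, g₁ (Subalgebra.inclusion hle s) = g₂ (Subalgebra.inclusion hle s)) →
        g₁ ⟨b, hb⟩ = g₂ ⟨b, hb⟩) :
    UH (algebraMap A S') := by
  refine ⟨?_, ?_, ?_⟩
  · apply isIntegral_algebraMap_subalgebra
    have hle2 : Algebra.adjoin A ((S : Set B) ∪ {b}) ≤ integralClosure A B := by
      apply Algebra.adjoin_le
      rintro x (hx | hx)
      · have h1 := h.integral ⟨x, hx⟩
        exact (isIntegral_algHom_iff S.val Subtype.val_injective).mpr h1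
      · rw [Set.mem_singleton_iff] at hx
        rw [hx]; exact hint
    intro c hc
    exact hle2 (hS' hc)
  · rw [ker_algebraMap_subalgebra, ← ker_algebraMap_subalgebra S]
    exact h.ker_le
  · intro K _ g₁ g₂ hg
    have hS : ∀ s : S, g₁ (Subalgebra.inclusion hle s) = g₂ (Subalgebra.inclusion hle s) := by
      have h1 := h.inj K (g₁.comp (Subalgebra.inclusion hle).toRingHom)
        (g₂.comp (Subalgebra.inclusion hle).toRingHom) (by
          ext a
          exact RingHom.congr_fun hg a)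
      intro s
      exact RingHom.congr_fun h1 s
    have hb' := huniq K g₁ g₂ hS
    have hle3 : S' ≤ eqSub S' g₁ g₂ hg := by
      refine hS'.trans (Algebra.adjoin_le ?_)
      rintro x (hx | hx)
      · exact ⟨hle hx, hS ⟨x, hx⟩⟩
      · rw [Set.mem_singleton_iff] at hx
        subst hx
        exact ⟨hb, hb'⟩
    ext c
    obtain ⟨hc, hc'⟩ := hle3 c.2
    exact hc'

/-- `resSub` is closed under "division". -/
theorem resSub_div (S' : Subalgebra A B) (q : Ideal S') [hq : q.IsPrime] (u v β : S')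
    (hu : (u : B) ∈ resSub S' q) (hv : (v : B) ∈ resSub S' q) (huq : u ∉ q)
    (huv : u * β - v ∈ q) : (β : B) ∈ resSub S' q := by
  obtain ⟨hu', au, su, hsu, hau⟩ := hu
  obtain ⟨hv', av, sv, hsv, hav⟩ := hv
  have hu'' : (⟨(u : B), hu'⟩ : S') = u := rfl
  have hv'' : (⟨(v : B), hv'⟩ : S') = v := rfl
  rw [hu''] at hau
  rw [hv''] at hav
  have hauq : algebraMap A S' au ∉ q := by
    intro h
    have : algebraMap A S' su * u ∈ q := by
      have e : algebraMap A S' su * u = (algebraMap A S' su * u - algebraMap A S' au) +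
          algebraMap A S' au := by ring
      rw [e]; exact q.add_mem hau h
    exact (hq.mem_or_mem this).elim hsu huq
  refine ⟨β.2, av * su, sv * au, ?_, ?_⟩
  · rw [map_mul]
    exact fun h => (hq.mem_or_mem h).elim hsv hauq
  · have e : algebraMap A S' (sv * au) * (⟨(β : B), β.2⟩ : S') - algebraMap A S' (av * su) =
        algebraMap A S' su * (algebraMap A S' sv * v - algebraMap A S' av)
        + algebraMap A S' su * algebraMap A S' sv * (u * β - v)
        - algebraMap A S' sv * β * (algebraMap A S' su * u - algebraMap A S' au) := by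
      have : (⟨(β : B), β.2⟩ : S') = β := rfl
      rw [this, map_mul, map_mul]; ring
    rw [e]
    exact q.sub_mem (q.add_mem (q.mul_mem_left _ hav) (q.mul_mem_left _ huv))
      (q.mul_mem_left _ hau)

theorem ResTriv.step_sq_cube (S S' : Subalgebra A B) (hle : S ≤ S') (b : B) (hb : b ∈ S')
    (hS' : S' ≤ Algebra.adjoin A ((S : Set B) ∪ {b})) (hb2 : b ^ 2 ∈ S) (hb3 : b ^ 3 ∈ S)
    (h : ResTriv (algebraMap A S)) : ResTriv (algebraMap A S') := by
  intro q c
  have hSle : S ≤ resSub S' q.asIdeal := by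
    intro x hx
    refine ⟨hle hx, ?_⟩
    obtain ⟨a, s, hs, hsa⟩ := h (PrimeSpectrum.comap (Subalgebra.inclusion hle).toRingHom q) ⟨x, hx⟩
    exact ⟨a, s, hs, hsa⟩
  have hbmem : b ∈ resSub S' q.asIdeal := by
    set β : S' := ⟨b, hb⟩ with hβ
    set x : S' := ⟨b ^ 2, hle hb2⟩ with hx
    set y : S' := ⟨b ^ 3, hle hb3⟩ with hy
    have hxβ : x = β ^ 2 := rfl
    have hyβ : y = β ^ 3 := rfl
    by_cases hxq : x ∈ q.asIdeal
    · have hβq : β ∈ q.asIdeal := by
        rw [hxβ] at hxq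
        exact q.isPrime.mem_of_pow_mem 2 hxq
      refine ⟨hb, 0, 1, ?_, ?_⟩
      · rw [map_one]
        exact fun h => q.isPrime.ne_top ((Ideal.eq_top_iff_one _).mpr h)
      · simpa using hβq
    · exact resSub_div S' q.asIdeal x y β (hSle hb2) (hSle hb3) hxq (by
        rw [hxβ, hyβ]
        have : β ^ 2 * β - β ^ 3 = 0 := by ring
        rw [this]; exact q.asIdeal.zero_mem)
  have hle3 : S' ≤ resSub S' q.asIdeal := by
    refine hS'.trans (Algebra.adjoin_le ?_)
    rintro x (hx | hx)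
    · exact hSle hx
    · rw [Set.mem_singleton_iff] at hx
      subst hx
      exact hbmem
  obtain ⟨hc, a, s, hs, hsa⟩ := hle3 c.2
  exact ⟨a, s, hs, hsa⟩

theorem UH.step_sq_cube (S S' : Subalgebra A B) (hle : S ≤ S') (b : B) (hb : b ∈ S')
    (hS' : S' ≤ Algebra.adjoin A ((S : Set B) ∪ {b})) (hb2 : b ^ 2 ∈ S) (hb3 : b ^ 3 ∈ S)
    (h : UH (algebraMap A S)) : UH (algebraMap A S') := by
  have hint2 : IsIntegral A (b ^ 2) :=
    (isIntegral_algHom_iff S.val Subtype.val_injective).mpr (h.integral ⟨b ^ 2, hb2⟩)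
  refine UH.step S S' hle b hb hS' h (IsIntegral.of_pow (by norm_num) hint2) ?_
  intro K _ g₁ g₂ hS
  set β : S' := ⟨b, hb⟩ with hβ
  have e2 : g₁ β ^ 2 = g₂ β ^ 2 := by
    have := hS ⟨b ^ 2, hb2⟩
    have hx : Subalgebra.inclusion hle ⟨b ^ 2, hb2⟩ = β ^ 2 := rfl
    rw [hx, map_pow, map_pow] at this
    exact this
  have e3 : g₁ β ^ 3 = g₂ β ^ 3 := by
    have := hS ⟨b ^ 3, hb3⟩
    have hx : Subalgebra.inclusion hle ⟨b ^ 3, hb3⟩ = β ^ 3 := rfl
    rw [hx, map_pow, map_pow] at this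
    exact this
  by_cases h0 : g₁ β = 0
  · rw [h0] at e2 ⊢
    have : g₂ β ^ 2 = 0 := by rw [← e2]; ring
    exact (pow_eq_zero_iff (by norm_num)).mp this |>.symm
  · have h2 : g₁ β ^ 2 ≠ 0 := pow_ne_zero 2 h0
    have f1 : g₁ β * g₁ β ^ 2 = g₂ β * g₁ β ^ 2 := by
      have : g₂ β * g₁ β ^ 2 = g₂ β ^ 3 := by rw [e2]; ring
      rw [this, ← e3]; ring
    exact mul_right_cancel₀ h2 f1

theorem UH.step_pth_root (S S' : Subalgebra A B) (hle : S ≤ S') (b : B) (hb : b ∈ S')
    (hS' : S' ≤ Algebra.adjoin A ((S : Set B) ∪ {b})) (p : ℕ) (hp : p.Prime)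
    (hpb : (p : B) * b ∈ S) (hbp : b ^ p ∈ S)
    (h : UH (algebraMap A S)) : UH (algebraMap A S') := by
  have hint2 : IsIntegral A (b ^ p) :=
    (isIntegral_algHom_iff S.val Subtype.val_injective).mpr (h.integral ⟨b ^ p, hbp⟩)
  refine UH.step S S' hle b hb hS' h (IsIntegral.of_pow hp.pos hint2) ?_
  intro K _ g₁ g₂ hS
  set β : S' := ⟨b, hb⟩ with hβ
  have e2 : g₁ β ^ p = g₂ β ^ p := by
    have := hS ⟨b ^ p, hbp⟩
    have hx : Subalgebra.inclusion hle ⟨b ^ p, hbp⟩ = β ^ p := rfl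
    rw [hx, map_pow, map_pow] at this
    exact this
  have e3 : (p : K) * g₁ β = (p : K) * g₂ β := by
    have := hS ⟨(p : B) * b, hpb⟩
    have hx : Subalgebra.inclusion hle ⟨(p : B) * b, hpb⟩ = (p : S') * β := by
      apply Subtype.ext; simp [hβ]
    rw [hx, map_mul, map_mul, map_natCast, map_natCast] at this
    exact this
  by_cases hpK : (p : K) = 0
  · haveI : Fact p.Prime := ⟨hp⟩
    haveI : CharP K p := by
      rw [CharP.charP_iff_prime_eq_zero hp]; exact hpK
    apply frobenius_inj K p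
    rw [frobenius_def, frobenius_def, e2]
  · exact mul_left_cancel₀ hpK e3

/-! ### Exhaustion by UH subalgebras -/

theorem UH.of_forall_mem (hker : RingHom.ker (algebraMap A B) ≤ nilradical A)
    (h : ∀ b : B, ∃ C' : Subalgebra A B, b ∈ C' ∧ UH (algebraMap A C')) :
    UH (algebraMap A B) := by
  refine ⟨?_, hker, ?_⟩
  · intro b
    obtain ⟨C', hb, hC'⟩ := h b
    have h1 := hC'.integral ⟨b, hb⟩
    exact (isIntegral_algHom_iff C'.val Subtype.val_injective).mpr h1
  · intro K _ g₁ g₂ hg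
    ext b
    obtain ⟨C', hb, hC'⟩ := h b
    have h1 := hC'.inj K (g₁.comp C'.val.toRingHom) (g₂.comp C'.val.toRingHom) (by
      ext a
      exact RingHom.congr_fun hg a)
    exact RingHom.congr_fun h1 ⟨b, hb⟩

theorem ResTriv.of_forall_mem
    (h : ∀ b : B, ∃ C' : Subalgebra A B, b ∈ C' ∧ ResTriv (algebraMap A C')) :
    ResTriv (algebraMap A B) := by
  intro q b
  obtain ⟨C', hb, hC'⟩ := h b
  obtain ⟨a, s, hs, hsa⟩ := hC' (PrimeSpectrum.comap C'.val.toRingHom q) ⟨b, hb⟩
  exact ⟨a, s, hs, hsa⟩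

end Groth.Agent.Lib.Helper11.UHRing
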