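import Mathlib
import Groth.Prelude.Def_Flat
import Groth.Agent.Lib.Helper11.UHTower

/-!
# Towers of elementary extensions, part 2: lists (helper11)
-/

set_option autoImplicit false
universe u
open CategoryTheory AlgebraicGeometry

namespace Groth.Agent.Lib.Helper11.UHRing

variable {A B : Type u} [CommRing A] [CommRing B] [Algebra A B]

/-! ### ring-level S7398 / S7399 -/

theorem exists_sq_cube_or_prime_of_UH (hUH' : UH (algebraMap A B))
    (hns : ¬ Function.Surjective (algebraMap A B)) :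
    (∃ b : B, b ∉ (algebraMap A B).range ∧ b ^ 2 ∈ (algebraMap A B).range ∧
      b ^ 3 ∈ (algebraMap A B).range) ∨
    ∃ (ℓ : ℕ) (b : B), ℓ.Prime ∧ b ∉ (algebraMap A B).range ∧
      (ℓ : B) * b ∈ (algebraMap A B).range ∧ b ^ ℓ ∈ (algebraMap A B).range := by
  obtain ⟨b₀, hb₀⟩ : ∃ b₀ : B, b₀ ∉ (algebraMap A B).range := by
    by_contra hcon
    push Not at hcon
    exact hns (fun b => hcon b)
  set B₀ : Subalgebra A B := Algebra.adjoin A {b₀} with hB₀
  haveI hfin : Module.Finite A B₀ := finite_adjoin_singleton b₀ (hUH'.integral b₀)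
  have hUH₀ : UH (algebraMap A B₀) := UH.subalgebra B₀ hUH'
  have hns₀ : ¬ Function.Surjective (algebraMap A B₀) := by
    intro hs
    obtain ⟨a, ha⟩ := hs ⟨b₀, Algebra.subset_adjoin (Set.mem_singleton b₀)⟩
    exact hb₀ ⟨a, congrArg Subtype.val ha⟩
  rcases core_dichotomy hUH₀.bijective_comap hns₀ with ⟨b, hb, hb2, hb3⟩ | ⟨q, hq1, b₁, hb₁⟩
  · left
    exact ⟨b.1, not_mem_range_of_not_mem_bot B₀ b hb, mem_range_of_mem_bot B₀ (b ^ 2) hb2,
      mem_range_of_mem_bot B₀ (b ^ 3) hb3⟩
  · right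
    obtain ⟨ℓ, hℓ, hpow⟩ := hUH₀.exists_expChar q
    obtain ⟨n, a, s, hs, hsa⟩ := hpow b₁
    have hmulq : ∀ u v : A, algebraMap A B₀ u ∉ q.asIdeal → algebraMap A B₀ v ∉ q.asIdeal →
        algebraMap A B₀ (u * v) ∉ q.asIdeal := by
      intro u v hu hv h
      rw [map_mul] at h
      exact (q.isPrime.mem_or_mem h).elim hu hv
    rcases hℓ with rfl | ⟨hprime, hℓq⟩
    · exfalso
      rw [one_pow, pow_one] at hsa
      obtain ⟨t, ht, ht'⟩ := hq1 _ hsa
      apply hb₁ (t * s) (hmulq t s ht hs)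
      have e : algebraMap A B₀ (t * s) * b₁ =
          algebraMap A B₀ t * (algebraMap A B₀ s * b₁ - algebraMap A B₀ a) +
            algebraMap A B₀ (t * a) := by
        rw [map_mul, map_mul]; ring
      rw [e]
      exact add_mem ht' (Subalgebra.algebraMap_mem _ _)
    · set N := ℓ ^ n with hN
      have hNpos : 0 < N := pow_pos hprime.pos n
      have h1 : (algebraMap A B₀ s * b₁) ^ N - algebraMap A B₀ (s ^ (N - 1) * a) ∈ q.asIdeal := by
        have e : (algebraMap A B₀ s * b₁) ^ N - algebraMap A B₀ (s ^ (N - 1) * a) =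
            algebraMap A B₀ (s ^ (N - 1)) * (algebraMap A B₀ s * b₁ ^ N - algebraMap A B₀ a) := by
          have e2 : s ^ N = s ^ (N - 1) * s := by
            rw [← pow_succ]; congr 1; omega
          rw [mul_pow, ← map_pow, e2, map_mul, map_mul]; ring
        rw [e]
        exact q.asIdeal.mul_mem_left _ hsa
      obtain ⟨t, ht, ht'⟩ := hq1 _ h1
      have hd : (algebraMap A B₀ (t * s) * b₁) ^ N ∈ (⊥ : Subalgebra A B₀) := by
        have e : (algebraMap A B₀ (t * s) * b₁) ^ N =
            algebraMap A B₀ (t ^ (N - 1)) * (algebraMap A B₀ t *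
              ((algebraMap A B₀ s * b₁) ^ N - algebraMap A B₀ (s ^ (N - 1) * a)) +
              algebraMap A B₀ (t * (s ^ (N - 1) * a))) := by
          have e2 : t ^ N = t ^ (N - 1) * t := by
            rw [← pow_succ]; congr 1; omega
          rw [map_mul (algebraMap A B₀) t s, mul_assoc, mul_pow, ← map_pow, e2,
            map_mul (algebraMap A B₀) (t ^ (N - 1)) t,
            map_mul (algebraMap A B₀) t (s ^ (N - 1) * a)]
          ring
        rw [e]
        exact mul_mem (Subalgebra.algebraMap_mem _ _)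
          (add_mem ht' (Subalgebra.algebraMap_mem _ _))
      have hℓd : algebraMap A B₀ (ℓ : A) * (algebraMap A B₀ (t * s) * b₁) ∈ q.asIdeal :=
        q.asIdeal.mul_mem_right _ hℓq
      obtain ⟨t', ht'q, ht''⟩ := hq1 _ hℓd
      set e : B₀ := algebraMap A B₀ (t' * (t * s)) * b₁ with he
      have he1 : e ∉ (⊥ : Subalgebra A B₀) := hb₁ _ (hmulq t' (t * s) ht'q (hmulq t s ht hs))
      have he2 : (ℓ : B₀) * e ∈ (⊥ : Subalgebra A B₀) := by
        have : (ℓ : B₀) * e = algebraMap A B₀ t' * (algebraMap A B₀ (ℓ : A) *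
            (algebraMap A B₀ (t * s) * b₁)) := by
          rw [he, map_mul (algebraMap A B₀) t' (t * s), map_natCast]; ring
        rw [this]; exact ht''
      have he3 : e ^ N ∈ (⊥ : Subalgebra A B₀) := by
        have : e ^ N = algebraMap A B₀ (t' ^ N) * (algebraMap A B₀ (t * s) * b₁) ^ N := by
          rw [he, map_mul (algebraMap A B₀) t' (t * s), map_pow]; ring
        rw [this]
        exact mul_mem (Subalgebra.algebraMap_mem _ _) hd
      obtain ⟨b', hb'1, hb'2, hb'3⟩ :=
        exists_pth_root_step (⊥ : Subalgebra A B₀).toSubring ℓ n e he1 he2 he3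
      refine ⟨ℓ, b'.1, hprime, not_mem_range_of_not_mem_bot B₀ b' hb'1, ?_,
        mem_range_of_mem_bot B₀ (b' ^ ℓ) hb'3⟩
      obtain ⟨x, hx⟩ := mem_range_of_mem_bot B₀ ((ℓ : B₀) * b') hb'2
      refine ⟨x, ?_⟩
      have hx' : algebraMap A B x = (((ℓ : B₀) * b' : B₀) : B) := hx
      rw [hx']; simp

theorem exists_sq_cube_of_UH_resTriv (hUH' : UH (algebraMap A B))
    (hRT' : ResTriv (algebraMap A B))
    (hns : ¬ Function.Surjective (algebraMap A B)) :
    ∃ b : B, b ∉ (algebraMap A B).range ∧ b ^ 2 ∈ (algebraMap A B).range ∧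
      b ^ 3 ∈ (algebraMap A B).range := by
  obtain ⟨b₀, hb₀⟩ : ∃ b₀ : B, b₀ ∉ (algebraMap A B).range := by
    by_contra hcon
    push Not at hcon
    exact hns (fun b => hcon b)
  set B₀ : Subalgebra A B := Algebra.adjoin A {b₀} with hB₀
  haveI hfin : Module.Finite A B₀ := finite_adjoin_singleton b₀ (hUH'.integral b₀)
  have hUH₀ : UH (algebraMap A B₀) := UH.subalgebra B₀ hUH'
  have hRT₀ : ResTriv (algebraMap A B₀) := ResTriv.subalgebra B₀ hUH'.integral hRT'
  have hns₀ : ¬ Function.Surjective (algebraMap A B₀) := by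
    intro hs
    obtain ⟨a, ha⟩ := hs ⟨b₀, Algebra.subset_adjoin (Set.mem_singleton b₀)⟩
    exact hb₀ ⟨a, congrArg Subtype.val ha⟩
  rcases core_dichotomy hUH₀.bijective_comap hns₀ with ⟨b, hb, hb2, hb3⟩ | ⟨q, hq1, b₁, hb₁⟩
  · exact ⟨b.1, not_mem_range_of_not_mem_bot B₀ b hb, mem_range_of_mem_bot B₀ (b ^ 2) hb2,
      mem_range_of_mem_bot B₀ (b ^ 3) hb3⟩
  · exfalso
    obtain ⟨a, s, hs, hsa⟩ := hRT₀ q b₁
    obtain ⟨t, ht, ht'⟩ := hq1 _ hsa
    apply hb₁ (t * s)
    · rw [map_mul]
      exact fun h => (q.isPrime.mem_or_mem h).elim ht hs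
    · have e : algebraMap A B₀ (t * s) * b₁ =
          algebraMap A B₀ t * (algebraMap A B₀ s * b₁ - algebraMap A B₀ a) +
            algebraMap A B₀ (t * a) := by
        rw [map_mul, map_mul]; ring
      rw [e]
      exact add_mem ht' (Subalgebra.algebraMap_mem _ _)

/-! ### Towers -/

/-- the tower condition for a list, relative to a step predicate. -/
def TowerP (P : B → Subalgebra A B → Prop) (l : List B) : Prop :=
  ∀ i : Fin l.length,
    P (l.get i) (Algebra.adjoin A {b : B | ∃ j : Fin l.length, j < i ∧ b = l.get j})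

/-- monotonicity of a step predicate. -/
def StepMono (P : B → Subalgebra A B → Prop) : Prop :=
  ∀ (b : B) (S S' : Subalgebra A B), S ≤ S' → P b S → P b S'

theorem TowerP.nil (P : B → Subalgebra A B → Prop) : TowerP P ([] : List B) :=
  fun i => i.elim0

theorem TowerP.append_gen {P : B → Subalgebra A B → Prop} (hP : StepMono P) {l l' : List B}
    (hl : TowerP P l)
    (hl' : ∀ k : Fin l'.length, P (l'.get k) (Algebra.adjoin A
      ({x | x ∈ l} ∪ {b : B | ∃ j : Fin l'.length, j < k ∧ b = l'.get j}))) :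
    TowerP P (l ++ l') := by
  intro i
  by_cases hi : i.1 < l.length
  · have e : (l ++ l').get i = l.get ⟨i.1, hi⟩ := by
      simp [List.get_eq_getElem, List.getElem_append_left hi]
    rw [e]
    refine hP _ _ _ (Algebra.adjoin_mono ?_) (hl ⟨i.1, hi⟩)
    rintro x ⟨j, hj, rfl⟩
    have hj' : j.1 < (l ++ l').length := by
      rw [List.length_append]; exact Nat.lt_add_right _ j.2
    refine ⟨⟨j.1, hj'⟩, hj, ?_⟩
    simp [List.get_eq_getElem, List.getElem_append_left j.2]
  · push Not at hi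
    have hlen : i.1 < l.length + l'.length := by
      have := i.2; simpa [List.length_append] using this
    have hk : i.1 - l.length < l'.length := by omega
    have e : (l ++ l').get i = l'.get ⟨i.1 - l.length, hk⟩ := by
      simp [List.get_eq_getElem, List.getElem_append_right hi]
    rw [e]
    refine hP _ _ _ (Algebra.adjoin_mono ?_) (hl' ⟨i.1 - l.length, hk⟩)
    rintro x (hx | ⟨j, hj, rfl⟩)
    · obtain ⟨n, hn, rfl⟩ := List.getElem_of_mem hx
      have hn' : n < (l ++ l').length := by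
        rw [List.length_append]; exact Nat.lt_add_right _ hn
      refine ⟨⟨n, hn'⟩, ?_, ?_⟩
      · show n < i.1
        omega
      · simp [List.get_eq_getElem, List.getElem_append_left hn]
    · have hj' : l.length + j.1 < (l ++ l').length := by
        rw [List.length_append]; have := j.2; omega
      refine ⟨⟨l.length + j.1, hj'⟩, ?_, ?_⟩
      · show l.length + j.1 < i.1
        have : j.1 < i.1 - l.length := hj
        omega
      · simp [List.get_eq_getElem, List.getElem_append_right]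

theorem TowerP.append {P : B → Subalgebra A B → Prop} (hP : StepMono P) {l l' : List B}
    (hl : TowerP P l) (hl' : TowerP P l') : TowerP P (l ++ l') := by
  refine TowerP.append_gen hP hl (fun k => ?_)
  exact hP _ _ _ (Algebra.adjoin_mono Set.subset_union_right) (hl' k)

theorem TowerP.snoc {P : B → Subalgebra A B → Prop} (hP : StepMono P) {l : List B} {b : B}
    (hl : TowerP P l) (hb : P b (Algebra.adjoin A {x | x ∈ l})) : TowerP P (l ++ [b]) := by
  refine TowerP.append_gen hP hl (fun k => ?_)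
  have hk0 : k.1 = 0 := by
    have := k.2
    simp only [List.length_singleton] at this
    omega
  have e : [b].get k = b := by
    simp [List.get_eq_getElem, hk0]
  rw [e]
  exact hP _ _ _ (Algebra.adjoin_mono Set.subset_union_left) hb

theorem TowerP.of_snoc {P : B → Subalgebra A B → Prop} (hP : StepMono P) {l : List B} {b : B}
    (h : TowerP P (l ++ [b])) : TowerP P l ∧ P b (Algebra.adjoin A {x | x ∈ l}) := by
  constructor
  · intro i
    have hi' : i.1 < (l ++ [b]).length := by
      rw [List.length_append]; exact Nat.lt_add_right _ i.2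
    have h1 := h ⟨i.1, hi'⟩
    have e : (l ++ [b]).get ⟨i.1, hi'⟩ = l.get i := by
      simp [List.get_eq_getElem, List.getElem_append_left i.2]
    rw [e] at h1
    refine hP _ _ _ (Algebra.adjoin_mono ?_) h1
    rintro x ⟨j, hj, rfl⟩
    have hj1 : j.1 < i.1 := hj
    have hjl : j.1 < l.length := hj1.trans i.2
    refine ⟨⟨j.1, hjl⟩, hj1, ?_⟩
    simp [List.get_eq_getElem, List.getElem_append_left hjl]
  · have hi' : l.length < (l ++ [b]).length := by simp
    have h1 := h ⟨l.length, hi'⟩
    have e : (l ++ [b]).get ⟨l.length, hi'⟩ = b := by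
      simp [List.get_eq_getElem]
    rw [e] at h1
    refine hP _ _ _ (Algebra.adjoin_mono ?_) h1
    rintro x ⟨j, hj, rfl⟩
    have hj1 : j.1 < l.length := hj
    show (l ++ [b]).get j ∈ l
    have : (l ++ [b]).get j = l[j.1]'hj1 := by
      simp [List.get_eq_getElem, List.getElem_append_left hj1]
    rw [this]
    exact List.getElem_mem hj1

/-- the union of all tower algebras. -/
def towerUnion (P : B → Subalgebra A B → Prop) (hP : StepMono P) : Subalgebra A B where
  carrier := {b | ∃ l : List B, TowerP P l ∧ b ∈ Algebra.adjoin A {x | x ∈ l}}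
  mul_mem' := by
    rintro a b ⟨l, hl, ha⟩ ⟨l', hl', hb⟩
    refine ⟨l ++ l', hl.append hP hl', mul_mem ?_ ?_⟩
    · exact Algebra.adjoin_mono (fun x hx => List.mem_append_left _ hx) ha
    · exact Algebra.adjoin_mono (fun x hx => List.mem_append_right _ hx) hb
  add_mem' := by
    rintro a b ⟨l, hl, ha⟩ ⟨l', hl', hb⟩
    refine ⟨l ++ l', hl.append hP hl', add_mem ?_ ?_⟩
    · exact Algebra.adjoin_mono (fun x hx => List.mem_append_left _ hx) ha
    · exact Algebra.adjoin_mono (fun x hx => List.mem_append_right _ hx) hb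
  algebraMap_mem' := fun r => ⟨[], TowerP.nil P, Subalgebra.algebraMap_mem _ r⟩

theorem exists_tower_of_finset {P : B → Subalgebra A B → Prop} (hP : StepMono P)
    (h : ∀ b : B, b ∈ towerUnion P hP) (E : Finset B) :
    ∃ l : List B, (↑E : Set B) ⊆ Algebra.adjoin A {b : B | b ∈ l} ∧ TowerP P l := by
  classical
  induction E using Finset.induction_on with
  | empty => exact ⟨[], by simp, TowerP.nil P⟩
  | insert b E _ ih =>
    obtain ⟨l, hl, hlt⟩ := ih
    obtain ⟨l', hl't, hbl'⟩ := h b
    refine ⟨l ++ l', ?_, hlt.append hP hl't⟩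
    intro x hx
    rw [Finset.coe_insert] at hx
    rcases hx with rfl | hx
    · exact Algebra.adjoin_mono (fun y hy => List.mem_append_right _ hy) hbl'
    · exact Algebra.adjoin_mono (fun y hy => List.mem_append_left _ hy) (hl hx)

/-! ### The two step predicates -/

/-- square-cube step. -/
def Step0 (b : B) (S : Subalgebra A B) : Prop := b ^ 2 ∈ S ∧ b ^ 3 ∈ S

/-- square-cube or prime step. -/
def Step1 (b : B) (S : Subalgebra A B) : Prop :=
  (b ^ 2 ∈ S ∧ b ^ 3 ∈ S) ∨ ∃ p : ℕ, p.Prime ∧ (p : B) * b ∈ S ∧ b ^ p ∈ S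

theorem stepMono0 : StepMono (Step0 (A := A) (B := B)) :=
  fun _ _ _ hle h => ⟨hle h.1, hle h.2⟩

theorem stepMono1 : StepMono (Step1 (A := A) (B := B)) := by
  rintro b S S' hle (h | ⟨p, hp, h1, h2⟩)
  · exact Or.inl ⟨hle h.1, hle h.2⟩
  · exact Or.inr ⟨p, hp, hle h1, hle h2⟩

theorem ResTriv.of_surjective {A B : Type u} [CommRing A] [CommRing B] {φ : A →+* B}
    (hs : Function.Surjective φ) : ResTriv φ := by
  intro q b
  obtain ⟨a, rfl⟩ := hs b
  refine ⟨a, 1, ?_, ?_⟩
  · rw [map_one]
    exact fun h => q.isPrime.ne_top ((Ideal.eq_top_iff_one _).mpr h)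
  · rw [map_one, one_mul, sub_self]; exact q.asIdeal.zero_mem

theorem UH_of_le_bot (hinj : Function.Injective (algebraMap A B)) (S : Subalgebra A B)
    (hS : S ≤ ⊥) : UH (algebraMap A S) ∧ ResTriv (algebraMap A S) := by
  have hsurj : Function.Surjective (algebraMap A S) := by
    intro s
    obtain ⟨a, ha⟩ := Algebra.mem_bot.mp (hS s.2)
    exact ⟨a, Subtype.ext ha⟩
  have hinj' : Function.Injective (algebraMap A S) := by
    intro a a' h
    exact hinj (congrArg Subtype.val h)
  exact ⟨UH.of_bijective ⟨hinj', hsurj⟩, ResTriv.of_surjective hsurj⟩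

theorem snoc_le (l : List B) (b : B) :
    Algebra.adjoin A {x | x ∈ l ++ [b]} ≤
      Algebra.adjoin A ((Algebra.adjoin A {x | x ∈ l} : Set B) ∪ {b}) := by
  apply Algebra.adjoin_mono
  intro x hx
  rcases List.mem_append.mp hx with h | h
  · exact Or.inl (Algebra.subset_adjoin h)
  · right
    simpa using h

theorem tower_UH0 (hinj : Function.Injective (algebraMap A B)) (l : List B)
    (h : TowerP (A := A) Step0 l) :
    UH (algebraMap A (Algebra.adjoin A {x | x ∈ l})) ∧
      ResTriv (algebraMap A (Algebra.adjoin A {x | x ∈ l})) := by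
  induction l using List.reverseRecOn with
  | nil =>
    apply UH_of_le_bot hinj
    apply Algebra.adjoin_le
    intro x hx
    simp at hx
  | append_singleton l b ih =>
    obtain ⟨hl, hb2, hb3⟩ := TowerP.of_snoc stepMono0 h
    obtain ⟨ih1, ih2⟩ := ih hl
    have hle : Algebra.adjoin A {x | x ∈ l} ≤ Algebra.adjoin A {x | x ∈ l ++ [b]} :=
      Algebra.adjoin_mono (fun x hx => List.mem_append_left _ hx)
    have hb : b ∈ Algebra.adjoin A {x | x ∈ l ++ [b]} :=
      Algebra.subset_adjoin (by simp)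
    exact ⟨UH.step_sq_cube _ _ hle b hb (snoc_le l b) hb2 hb3 ih1,
      ResTriv.step_sq_cube _ _ hle b hb (snoc_le l b) hb2 hb3 ih2⟩

theorem tower_UH1 (hinj : Function.Injective (algebraMap A B)) (l : List B)
    (h : TowerP (A := A) Step1 l) :
    UH (algebraMap A (Algebra.adjoin A {x | x ∈ l})) := by
  induction l using List.reverseRecOn with
  | nil =>
    apply (UH_of_le_bot hinj _ _).1
    apply Algebra.adjoin_le
    intro x hx
    simp at hx
  | append_singleton l b ih =>
    obtain ⟨hl, hstep⟩ := TowerP.of_snoc stepMono1 h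
    have ih1 := ih hl
    have hle : Algebra.adjoin A {x | x ∈ l} ≤ Algebra.adjoin A {x | x ∈ l ++ [b]} :=
      Algebra.adjoin_mono (fun x hx => List.mem_append_left _ hx)
    have hb : b ∈ Algebra.adjoin A {x | x ∈ l ++ [b]} :=
      Algebra.subset_adjoin (by simp)
    rcases hstep with ⟨hb2, hb3⟩ | ⟨p, hp, hpb, hbp⟩
    · exact UH.step_sq_cube _ _ hle b hb (snoc_le l b) hb2 hb3 ih1
    · exact UH.step_pth_root _ _ hle b hb (snoc_le l b) p hp hpb hbp ih1

theorem UH_val_of_UH (T : Subalgebra A B) (hUH : UH (algebraMap A B)) :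
    UH (algebraMap T B) := by
  have h1 : UH (algebraMap A T) := UH.subalgebra T hUH
  exact UH.of_comp (φ := algebraMap A T) (ψ := algebraMap T B) h1 hUH

theorem resTriv_val_of_resTriv (T : Subalgebra A B) (hRT : ResTriv (algebraMap A B)) :
    ResTriv (algebraMap T B) := by
  intro q b
  obtain ⟨a, s, hs, hsa⟩ := hRT q b
  exact ⟨algebraMap A T a, algebraMap A T s, hs, hsa⟩

theorem not_surjective_val (T : Subalgebra A B) (b₀ : B) (hb₀ : b₀ ∉ T) :
    ¬ Function.Surjective (algebraMap T B) := by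
  intro hs
  obtain ⟨t, ht⟩ := hs b₀
  apply hb₀
  rw [← ht]
  exact t.2

theorem mem_of_mem_range_val (T : Subalgebra A B) (b : B)
    (hb : b ∈ (algebraMap T B).range) : b ∈ T := by
  obtain ⟨t, rfl⟩ := hb
  exact t.2

theorem towerUnion0_eq_top (hUH : UH (algebraMap A B)) (hRT : ResTriv (algebraMap A B)) :
    ∀ b : B, b ∈ towerUnion (A := A) Step0 stepMono0 := by
  by_contra hcon
  push Not at hcon
  obtain ⟨b₀, hb₀⟩ := hcon
  set T := towerUnion (A := A) (B := B) Step0 stepMono0 with hT
  obtain ⟨b, hb, hb2, hb3⟩ := exists_sq_cube_of_UH_resTriv (UH_val_of_UH T hUH)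
    (resTriv_val_of_resTriv T hRT) (not_surjective_val T b₀ hb₀)
  obtain ⟨l, hl, hbl⟩ := mem_of_mem_range_val T _ hb2
  obtain ⟨l', hl', hbl'⟩ := mem_of_mem_range_val T _ hb3
  apply hb
  have hmem : b ∈ T := by
    refine ⟨(l ++ l') ++ [b], TowerP.snoc stepMono0 (hl.append stepMono0 hl') ⟨?_, ?_⟩,
      Algebra.subset_adjoin (by simp)⟩
    · exact Algebra.adjoin_mono (fun x hx => List.mem_append_left _ hx) hbl
    · exact Algebra.adjoin_mono (fun x hx => List.mem_append_right _ hx) hbl'
  exact ⟨⟨b, hmem⟩, rfl⟩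

theorem towerUnion1_eq_top (hUH : UH (algebraMap A B)) :
    ∀ b : B, b ∈ towerUnion (A := A) Step1 stepMono1 := by
  by_contra hcon
  push Not at hcon
  obtain ⟨b₀, hb₀⟩ := hcon
  set T := towerUnion (A := A) (B := B) Step1 stepMono1 with hT
  have key : ∃ b : B, b ∉ (algebraMap T B).range ∧ ∃ l : List B, TowerP (A := A) Step1 l ∧
      Step1 b (Algebra.adjoin A {x | x ∈ l}) := by
    rcases exists_sq_cube_or_prime_of_UH (UH_val_of_UH T hUH) (not_surjective_val T b₀ hb₀) with
      ⟨b, hb, hb2, hb3⟩ | ⟨p, b, hp, hb, hpb, hbp⟩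
    · obtain ⟨l, hl, hbl⟩ := mem_of_mem_range_val T _ hb2
      obtain ⟨l', hl', hbl'⟩ := mem_of_mem_range_val T _ hb3
      refine ⟨b, hb, l ++ l', hl.append stepMono1 hl', Or.inl ⟨?_, ?_⟩⟩
      · exact Algebra.adjoin_mono (fun x hx => List.mem_append_left _ hx) hbl
      · exact Algebra.adjoin_mono (fun x hx => List.mem_append_right _ hx) hbl'
    · obtain ⟨l, hl, hbl⟩ := mem_of_mem_range_val T _ hpb
      obtain ⟨l', hl', hbl'⟩ := mem_of_mem_range_val T _ hbp
      refine ⟨b, hb, l ++ l', hl.append stepMono1 hl', Or.inr ⟨p, hp, ?_, ?_⟩⟩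
      · exact Algebra.adjoin_mono (fun x hx => List.mem_append_left _ hx) hbl
      · exact Algebra.adjoin_mono (fun x hx => List.mem_append_right _ hx) hbl'
  obtain ⟨b, hb, l, hl, hstep⟩ := key
  apply hb
  have hmem : b ∈ T :=
    ⟨l ++ [b], TowerP.snoc stepMono1 hl hstep, Algebra.subset_adjoin (by simp)⟩
  exact ⟨⟨b, hmem⟩, rfl⟩

end Groth.Agent.Lib.Helper11.UHRing

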