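import Mathlib
import Groth.Prelude.Def_Flat
import Groth.Agent.Lib.Helper11.UHSub

/-!
# Ring-level universal homeomorphisms: `A → A[X]/I` (helper11)
-/

set_option autoImplicit false
universe u
open CategoryTheory AlgebraicGeometry Polynomial

namespace Groth.Agent.Lib.Helper11.UHRing

variable {A B : Type u} [CommRing A] [CommRing B]

theorem mk_eq_aeval (I : Ideal A[X]) (f : A[X]) :
    Ideal.Quotient.mk I f = Polynomial.aeval (Ideal.Quotient.mk I X) f := by
  have : (Ideal.Quotient.mkₐ A I) = Polynomial.aeval (Ideal.Quotient.mk I X) :=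
    Polynomial.algHom_ext (by simp)
  exact congrArg (fun g => g f) this

theorem adjoin_mk_X_eq_top (I : Ideal A[X]) :
    Algebra.adjoin A {Ideal.Quotient.mk I X} = ⊤ := by
  rw [eq_top_iff]
  intro b _
  obtain ⟨f, rfl⟩ := Ideal.Quotient.mk_surjective b
  rw [mk_eq_aeval I f]
  exact Polynomial.aeval_mem_adjoin_singleton A (Ideal.Quotient.mk I X)

/-- criterion for `A → A[X]/(S)` to be UH in terms of field-valued points. -/
theorem UH_adjoin (S : Set A[X]) (hmonic : ∃ f ∈ Ideal.span S, f.Monic)
    (hex : ∀ 𝔭 : PrimeSpectrum A, ∃ (K : Type u) (_ : Field K) (j : A →+* K) (τ : K),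
      RingHom.ker j ≤ 𝔭.asIdeal ∧ ∀ f ∈ S, eval₂ j τ f = 0)
    (huniq : ∀ (K : Type u) [Field K] (j : A →+* K) (τ₁ τ₂ : K),
      (∀ f ∈ S, eval₂ j τ₁ f = 0) → (∀ f ∈ S, eval₂ j τ₂ f = 0) → τ₁ = τ₂) :
    UH (algebraMap A (A[X] ⧸ Ideal.span S)) := by
  set I := Ideal.span S with hI
  set t : A[X] ⧸ I := Ideal.Quotient.mk I X with ht
  have halg : ∀ a : A, algebraMap A (A[X] ⧸ I) a = Ideal.Quotient.mk I (C a) := fun a => rfl
  refine ⟨?_, ?_, ?_⟩
  · -- integral
    obtain ⟨f, hf, hfm⟩ := hmonic
    have htint : IsIntegral A t := by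
      refine ⟨f, hfm, ?_⟩
      have h1 : Polynomial.aeval t f = 0 := by
        rw [← mk_eq_aeval]; exact Ideal.Quotient.eq_zero_iff_mem.mpr hf
      exact h1
    intro b
    have hb : b ∈ Algebra.adjoin A {t} := by rw [adjoin_mk_X_eq_top]; trivial
    have hle : Algebra.adjoin A {t} ≤ integralClosure A (A[X] ⧸ I) :=
      Algebra.adjoin_le (by rintro _ rfl; exact htint)
    exact hle hb
  · -- kernel
    intro a ha
    rw [nilradical_eq_sInf, Ideal.mem_sInf]
    intro P hP
    obtain ⟨K, _, j, τ, hker, hτ⟩ := hex ⟨P, hP⟩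
    have hle : I ≤ RingHom.ker (eval₂RingHom j τ) := by
      rw [hI, Ideal.span_le]
      intro f hf
      exact hτ f hf
    let g : A[X] ⧸ I →+* K := Ideal.Quotient.lift I (eval₂RingHom j τ) (fun f hf => hle hf)
    have h1 : g (algebraMap A (A[X] ⧸ I) a) = j a := by
      rw [halg]; simp [g]
    have h2 : algebraMap A (A[X] ⧸ I) a = 0 := ha
    rw [h2, map_zero] at h1
    exact hker h1.symm
  · intro K _ g₁ g₂ hg
    set j := g₁.comp (algebraMap A (A[X] ⧸ I)) with hj
    have h1 : ∀ f ∈ S, eval₂ j (g₁ t) f = 0 := by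
      intro f hf
      have : g₁ (Ideal.Quotient.mk I f) = 0 := by
        rw [Ideal.Quotient.eq_zero_iff_mem.mpr (Ideal.subset_span hf), map_zero]
      rw [mk_eq_aeval, Polynomial.aeval_def, Polynomial.hom_eval₂] at this
      exact this
    have h2 : ∀ f ∈ S, eval₂ j (g₂ t) f = 0 := by
      intro f hf
      have : g₂ (Ideal.Quotient.mk I f) = 0 := by
        rw [Ideal.Quotient.eq_zero_iff_mem.mpr (Ideal.subset_span hf), map_zero]
      rw [mk_eq_aeval, Polynomial.aeval_def, Polynomial.hom_eval₂, ← hg] at this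
      exact this
    have h3 := huniq K j _ _ h1 h2
    apply Ideal.Quotient.ringHom_ext
    apply Polynomial.ringHom_ext
    · intro a
      exact RingHom.congr_fun hg a
    · exact h3

/-- the elements of `B` whose class at the prime `q` comes from the residue field of `A`. -/
def resAlg [Algebra A B] (q : Ideal B) [q.IsPrime] : Subalgebra A B where
  carrier := {b | ∃ a s : A, algebraMap A B s ∉ q ∧ algebraMap A B s * b - algebraMap A B a ∈ q}
  mul_mem' := by
    rintro b b' ⟨a, s, hs, h⟩ ⟨a', s', hs', h'⟩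
    refine ⟨a * a', s * s', ?_, ?_⟩
    · rw [map_mul]
      exact fun h0 => (Ideal.IsPrime.mem_or_mem inferInstance h0).elim hs hs'
    · rw [map_mul, map_mul]
      have e : algebraMap A B s * algebraMap A B s' * (b * b') -
          algebraMap A B a * algebraMap A B a' =
          (algebraMap A B s * b) * (algebraMap A B s' * b' - algebraMap A B a') +
          algebraMap A B a' * (algebraMap A B s * b - algebraMap A B a) := by ring
      rw [e]
      exact q.add_mem (q.mul_mem_left _ h') (q.mul_mem_left _ h)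
  add_mem' := by
    rintro b b' ⟨a, s, hs, h⟩ ⟨a', s', hs', h'⟩
    refine ⟨s' * a + s * a', s * s', ?_, ?_⟩
    · rw [map_mul]
      exact fun h0 => (Ideal.IsPrime.mem_or_mem inferInstance h0).elim hs hs'
    · rw [map_mul, map_add, map_mul, map_mul]
      have e : algebraMap A B s * algebraMap A B s' * (b + b') -
          (algebraMap A B s' * algebraMap A B a + algebraMap A B s * algebraMap A B a') =
          algebraMap A B s' * (algebraMap A B s * b - algebraMap A B a) +
          algebraMap A B s * (algebraMap A B s' * b' - algebraMap A B a') := by ring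
      rw [e]
      exact q.add_mem (q.mul_mem_left _ h) (q.mul_mem_left _ h')
  algebraMap_mem' := by
    intro r
    refine ⟨r, 1, ?_, ?_⟩
    · rw [map_one]
      exact fun h => (inferInstance : q.IsPrime).ne_top ((Ideal.eq_top_iff_one _).mpr h)
    · rw [map_one, one_mul, sub_self]; exact q.zero_mem

theorem resTriv_iff_resAlg [Algebra A B] :
    ResTriv (algebraMap A B) ↔ ∀ q : PrimeSpectrum B, resAlg (A := A) q.asIdeal = ⊤ := by
  constructor
  · intro h q
    rw [eq_top_iff]
    intro b _
    exact h q b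
  · intro h q b
    have : b ∈ resAlg (A := A) q.asIdeal := by rw [h q]; trivial
    exact this

end Groth.Agent.Lib.Helper11.UHRing
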