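import Mathlib
import Groth.Prelude.Def_HTop2
import Groth.Agent.Lib.Helper11.UHTower2
import Groth.Agent.S7402
import Groth.Agent.S7403

/-!
# Absolutely weakly normal rings (helper11)
-/

set_option autoImplicit false
universe u
open CategoryTheory AlgebraicGeometry Polynomial

namespace Groth.Agent.Lib.Helper11.UHRing

variable {A W : Type u} [CommRing A] [CommRing W]

/-- ring-level form of `HTop.IsRingAWN`. -/
theorem isRingAWN_iff (φ : A →+* W) :
    HTop.IsRingAWN φ ↔ UH φ ∧ ∀ (C : Type u) [CommRing C] (ψ : A →+* C), UH ψ →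
      ∃! χ : C →+* W, χ.comp ψ = φ := by
  unfold HTop.IsRingAWN
  rw [isUnivHomeo_SpecMap_iff]
  constructor
  · rintro ⟨h1, h2⟩
    exact ⟨h1, fun C _ ψ hψ => h2 C ψ ((isUnivHomeo_SpecMap_iff ψ).mpr hψ)⟩
  · rintro ⟨h1, h2⟩
    exact ⟨h1, fun C _ ψ hψ => h2 C ψ ((isUnivHomeo_SpecMap_iff ψ).mp hψ)⟩

/-- a UH map out of an absolute weak normalization has a retraction. -/
theorem IsRingAWN.retract {φ : A →+* W} (hφ : HTop.IsRingAWN φ) {W₁ : Type u} [CommRing W₁]
    (ω : W →+* W₁) (hω : UH ω) : ∃ σ : W₁ →+* W, σ.comp ω = RingHom.id W := by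
  rw [isRingAWN_iff] at hφ
  obtain ⟨h1, h2⟩ := hφ
  obtain ⟨σ, hσ, _⟩ := h2 W₁ (ω.comp φ) (h1.comp hω)
  refine ⟨σ, ?_⟩
  obtain ⟨χ, _, hχ⟩ := h2 W φ h1
  have e1 : σ.comp ω = χ := hχ _ (by
    show (σ.comp ω).comp φ = φ
    rw [RingHom.comp_assoc]; exact hσ)
  have e2 : RingHom.id W = χ := hχ _ (by
    show (RingHom.id W).comp φ = φ
    simp)
  rw [e1, e2]

theorem IsRingAWN.injective_of_UH {φ : A →+* W} (hφ : HTop.IsRingAWN φ) {W₁ : Type u}
    [CommRing W₁] (ω : W →+* W₁) (hω : UH ω) : Function.Injective ω := by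
  obtain ⟨σ, hσ⟩ := IsRingAWN.retract hφ ω hω
  intro a b hab
  have := congrArg σ hab
  have e : ∀ w, σ (ω w) = w := fun w => RingHom.congr_fun hσ w
  rwa [e, e] at this

/-- if `d` lies in every prime then `W → W/(d)` is UH; with AWN-finality, `d = 0`. -/
theorem IsRingAWN.eq_zero_of_forall_prime {φ : A →+* W} (hφ : HTop.IsRingAWN φ) (d : W)
    (hd : ∀ P : Ideal W, P.IsPrime → d ∈ P) : d = 0 := by
  have hnil : d ∈ nilradical W := by
    rw [nilradical_eq_sInf, Ideal.mem_sInf]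
    intro P hP
    exact hd P hP
  have hUH : UH (Ideal.Quotient.mk (Ideal.span {d})) := by
    apply UH.of_surjective Ideal.Quotient.mk_surjective
    rw [Ideal.mk_ker, Ideal.span_le]
    intro x hx
    rw [Set.mem_singleton_iff] at hx
    rw [hx]; exact hnil
  have hinj := IsRingAWN.injective_of_UH hφ _ hUH
  apply hinj
  rw [map_zero]
  exact Ideal.Quotient.eq_zero_iff_mem.mpr (Ideal.subset_span rfl)

theorem isAWNRing_of_isRingAWN {φ : A →+* W} (hφ : HTop.IsRingAWN φ) : HTop.IsAWNRing W := by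
  constructor
  · intro x y hxy
    -- existence
    set S : Set W[X] := {X ^ 2 - C x, X ^ 3 - C y} with hS
    have hUH : UH (algebraMap W (W[X] ⧸ Ideal.span S)) :=
      (isUnivHomeo_SpecMap_iff _).mp (Groth.Agent.S7402.result W x y hxy).1
    obtain ⟨σ, hσ⟩ := IsRingAWN.retract hφ _ hUH
    have hσ' : ∀ w, σ (algebraMap W _ w) = w := fun w => RingHom.congr_fun hσ w
    set t : W[X] ⧸ Ideal.span S := Ideal.Quotient.mk _ X with ht
    have ht2 : t ^ 2 = algebraMap W _ x := by
      have : Ideal.Quotient.mk (Ideal.span S) (X ^ 2 - C x) = 0 :=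
        Ideal.Quotient.eq_zero_iff_mem.mpr (Ideal.subset_span (by simp [hS]))
      rw [map_sub, map_pow, sub_eq_zero] at this
      exact this
    have ht3 : t ^ 3 = algebraMap W _ y := by
      have : Ideal.Quotient.mk (Ideal.span S) (X ^ 3 - C y) = 0 :=
        Ideal.Quotient.eq_zero_iff_mem.mpr (Ideal.subset_span (by simp [hS]))
      rw [map_sub, map_pow, sub_eq_zero] at this
      exact this
    refine ⟨σ t, ⟨?_, ?_⟩, ?_⟩
    · rw [← map_pow, ht2, hσ']
    · rw [← map_pow, ht3, hσ']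
    · rintro a' ⟨ha2, ha3⟩
      have hx : x = σ t ^ 2 := by rw [← map_pow, ht2, hσ']
      have hy : y = σ t ^ 3 := by rw [← map_pow, ht3, hσ']
      set a := σ t
      rw [← sub_eq_zero]
      apply IsRingAWN.eq_zero_of_forall_prime hφ
      intro P hP
      rw [← Ideal.Quotient.eq_zero_iff_mem, map_sub, sub_eq_zero]
      haveI := hP
      set π := Ideal.Quotient.mk P
      have e2 : π a' ^ 2 = π a ^ 2 := by rw [← map_pow, ← map_pow, ← ha2, ← hx]
      have e3 : π a' ^ 3 = π a ^ 3 := by rw [← map_pow, ← map_pow, ← ha3, ← hy]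
      by_cases h0 : π a = 0
      · rw [h0] at e2 ⊢
        have : π a' ^ 2 = 0 := by rw [e2]; ring
        exact (pow_eq_zero_iff (by norm_num)).mp this
      · have h2 : π a ^ 2 ≠ 0 := pow_ne_zero 2 h0
        have f1 : π a' * π a ^ 2 = π a * π a ^ 2 := by
          have : π a' * π a ^ 2 = π a' ^ 3 := by rw [← e2]; ring
          rw [this, e3]; ring
        exact mul_right_cancel₀ h2 f1
  · intro p hp x y hxy
    set S : Set W[X] := {X ^ p - C x, C (p : W) * X - C y} with hS
    have hUH : UH (algebraMap W (W[X] ⧸ Ideal.span S)) :=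
      (isUnivHomeo_SpecMap_iff _).mp (Groth.Agent.S7403.result W p hp x y hxy)
    obtain ⟨σ, hσ⟩ := IsRingAWN.retract hφ _ hUH
    have hσ' : ∀ w, σ (algebraMap W _ w) = w := fun w => RingHom.congr_fun hσ w
    set t : W[X] ⧸ Ideal.span S := Ideal.Quotient.mk _ X with ht
    have ht2 : t ^ p = algebraMap W _ x := by
      have : Ideal.Quotient.mk (Ideal.span S) (X ^ p - C x) = 0 :=
        Ideal.Quotient.eq_zero_iff_mem.mpr (Ideal.subset_span (by simp [hS]))
      rw [map_sub, map_pow, sub_eq_zero] at this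
      exact this
    have ht3 : (p : W[X] ⧸ Ideal.span S) * t = algebraMap W _ y := by
      have : Ideal.Quotient.mk (Ideal.span S) (C (p : W) * X - C y) = 0 :=
        Ideal.Quotient.eq_zero_iff_mem.mpr (Ideal.subset_span (by simp [hS]))
      rw [map_sub, map_mul, sub_eq_zero] at this
      have e1 : algebraMap W (W[X] ⧸ Ideal.span S) y = Ideal.Quotient.mk (Ideal.span S) (C y) := rfl
      have e2 : Ideal.Quotient.mk (Ideal.span S) (C (p : W)) = (p : W[X] ⧸ Ideal.span S) := by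
        have : (C (p : W) : W[X]) = (p : W[X]) := map_natCast C p
        rw [this, map_natCast]
      rw [e1, ← this, e2]
    have hx : x = σ t ^ p := by rw [← map_pow, ht2, hσ']
    have hy : y = (p : W) * σ t := by
      have : σ ((p : W[X] ⧸ Ideal.span S) * t) = (p : W) * σ t := by
        rw [map_mul, map_natCast]
      rw [← this, ht3, hσ']
    refine ⟨σ t, ⟨hx, hy⟩, ?_⟩
    rintro a' ⟨ha2, ha3⟩
    set a := σ t
    rw [← sub_eq_zero]
    apply IsRingAWN.eq_zero_of_forall_prime hφ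
    intro P hP
    rw [← Ideal.Quotient.eq_zero_iff_mem, map_sub, sub_eq_zero]
    haveI := hP
    set π := Ideal.Quotient.mk P
    have e2 : π a' ^ p = π a ^ p := by rw [← map_pow, ← map_pow, ← ha2, ← hx]
    have e3 : (p : W ⧸ P) * π a' = (p : W ⧸ P) * π a := by
      have h1 : π ((p : W) * a') = π ((p : W) * a) := by rw [← ha3, ← hy]
      rw [map_mul, map_mul, map_natCast] at h1
      exact h1
    by_cases hpK : (p : W ⧸ P) = 0
    · haveI : Fact p.Prime := ⟨hp⟩
      haveI : CharP (W ⧸ P) p := by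
        rw [CharP.charP_iff_prime_eq_zero hp]; exact hpK
      apply frobenius_inj (W ⧸ P) p
      rw [frobenius_def, frobenius_def, e2]
    · exact mul_left_cancel₀ hpK e3

theorem isAWNRing_of_ringEquiv {B W : Type u} [CommRing B] [CommRing W] (e : B ≃+* W)
    (h : HTop.IsAWNRing W) : HTop.IsAWNRing B := by
  constructor
  · intro x y hxy
    have hxy' : e x ^ 3 = e y ^ 2 := by rw [← map_pow, ← map_pow, hxy]
    obtain ⟨a, ⟨ha1, ha2⟩, ha3⟩ := h.1 (e x) (e y) hxy'
    refine ⟨e.symm a, ⟨?_, ?_⟩, ?_⟩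
    · apply e.injective; rw [map_pow, e.apply_symm_apply]; exact ha1
    · apply e.injective; rw [map_pow, e.apply_symm_apply]; exact ha2
    · rintro a' ⟨h1, h2⟩
      have := ha3 (e a') ⟨by rw [← map_pow, ← h1], by rw [← map_pow, ← h2]⟩
      rw [← this, e.symm_apply_apply]
  · intro p hp x y hxy
    have hxy' : (p : W) ^ p * e x = e y ^ p := by
      rw [← map_pow, ← hxy, map_mul, map_pow, map_natCast]
    obtain ⟨a, ⟨ha1, ha2⟩, ha3⟩ := h.2 p hp (e x) (e y) hxy'
    refine ⟨e.symm a, ⟨?_, ?_⟩, ?_⟩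
    · apply e.injective; rw [map_pow, e.apply_symm_apply]; exact ha1
    · apply e.injective; rw [map_mul, map_natCast, e.apply_symm_apply]; exact ha2
    · rintro a' ⟨h1, h2⟩
      have := ha3 (e a') ⟨by rw [← map_pow, ← h1], by rw [h2, map_mul, map_natCast]⟩
      rw [← this, e.symm_apply_apply]

theorem isReduced_of_isSeminormalRing {B : Type u} [CommRing B] (h : HTop.IsSeminormalRing B) :
    IsReduced B := by
  rw [isReduced_iff_pow_one_lt 2 (by norm_num)]
  intro b hb
  obtain ⟨a, _, ha⟩ := h 0 0 (by ring)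
  have h1 : b = a := ha b ⟨hb.symm, by
    have : b ^ 3 = b ^ 2 * b := by ring
    rw [this, hb, zero_mul]⟩
  have h2 : (0 : B) = a := ha 0 ⟨by ring, by ring⟩
  rw [h1, ← h2]

/-- a UH extension `χ : B → W` of an AWN ring `B` into a seminormal... (`W` AWN) is bijective. -/
theorem bijective_of_UH_of_isAWNRing {B W : Type u} [CommRing B] [CommRing W] (χ : B →+* W)
    (hχ : UH χ) (hB : HTop.IsAWNRing B) (hW : HTop.IsAWNRing W) : Function.Bijective χ := by
  haveI := isReduced_of_isSeminormalRing hB.1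
  have hinj : Function.Injective χ := by
    rw [RingHom.injective_iff_ker_eq_bot, eq_bot_iff]
    intro b hb
    have := hχ.ker_le hb
    rw [nilradical_eq_zero] at this
    exact this
  refine ⟨hinj, ?_⟩
  by_contra hns
  algebraize [χ]
  have hχ' : UH (algebraMap B W) := hχ
  rcases exists_sq_cube_or_prime_of_UH hχ' hns with
    ⟨w, hw, ⟨x, hx⟩, ⟨y, hy⟩⟩ | ⟨p, w, hp, hw, ⟨y, hy⟩, ⟨x, hx⟩⟩
  · have hxy : x ^ 3 = y ^ 2 := by
      apply hinj
      show algebraMap B W (x ^ 3) = algebraMap B W (y ^ 2)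
      rw [map_pow, map_pow, hx, hy]; ring
    obtain ⟨b, ⟨hb1, hb2⟩, _⟩ := hB.1 x y hxy
    obtain ⟨a, _, ha⟩ := hW.1 (w ^ 2) (w ^ 3) (by ring)
    have h1 : w = a := ha w ⟨rfl, rfl⟩
    have h2 : algebraMap B W b = a := ha _ ⟨by rw [← map_pow, ← hb1, hx], by
      rw [← map_pow, ← hb2, hy]⟩
    exact hw ⟨b, by rw [h2, h1]⟩
  · have hxy : (p : B) ^ p * x = y ^ p := by
      apply hinj
      show algebraMap B W ((p : B) ^ p * x) = algebraMap B W (y ^ p)
      rw [map_mul, map_pow, map_pow, map_natCast, hx, hy]; ring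
    obtain ⟨b, ⟨hb1, hb2⟩, _⟩ := hB.2 p hp x y hxy
    obtain ⟨a, _, ha⟩ := hW.2 p hp (w ^ p) ((p : W) * w) (by ring)
    have h1 : w = a := ha w ⟨rfl, rfl⟩
    have h2 : algebraMap B W b = a := ha _ ⟨by rw [← map_pow, ← hb1, hx], by
      rw [← hy, hb2, map_mul, map_natCast]⟩
    exact hw ⟨b, by rw [h2, h1]⟩

end Groth.Agent.Lib.Helper11.UHRing
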