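import Mathlib
import Groth.Prelude.Def_HTop2

/-!
# Rings with unique roots (seminormal / absolutely weakly normal), localization (helper11)

`HasRoots A m n k` : whenever `k^m x^n = y^m` there is exactly one `a` with `x = a^m`, `y = k a^n`.
Seminormal = `HasRoots A 2 3 1`; the `p`-condition of AWN = `HasRoots A p 1 p`.
-/

set_option autoImplicit false
universe u

namespace Groth.Agent.Lib.Helper11.Roots

/-- unique `(m,n,k)`-roots. -/
def HasRoots (A : Type u) [CommRing A] (m n k : ℕ) : Prop :=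
  ∀ x y : A, (k : A) ^ m * x ^ n = y ^ m → ∃! a : A, x = a ^ m ∧ y = (k : A) * a ^ n

theorem isSeminormalRing_iff (A : Type u) [CommRing A] :
    HTop.IsSeminormalRing A ↔ HasRoots A 2 3 1 := by
  unfold HTop.IsSeminormalRing HasRoots
  simp only [Nat.cast_one, one_pow, one_mul]

theorem isAWNRing_iff (A : Type u) [CommRing A] :
    HTop.IsAWNRing A ↔ HasRoots A 2 3 1 ∧ ∀ p : ℕ, p.Prime → HasRoots A p 1 p := by
  unfold HTop.IsAWNRing
  rw [isSeminormalRing_iff]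
  unfold HasRoots
  simp only [pow_one]

/-- uniqueness form. -/
theorem HasRoots.unique {A : Type u} [CommRing A] {m n k : ℕ} (h : HasRoots A m n k)
    (a b : A) (h1 : a ^ m = b ^ m) (h2 : (k : A) * a ^ n = (k : A) * b ^ n) : a = b := by
  obtain ⟨c, _, hc⟩ := h (a ^ m) ((k : A) * a ^ n) (by ring)
  rw [hc a ⟨rfl, rfl⟩, hc b ⟨h1, h2⟩]

theorem HasRoots.of_ringEquiv {A B : Type u} [CommRing A] [CommRing B] (e : A ≃+* B) {m n k : ℕ}
    (h : HasRoots A m n k) : HasRoots B m n k := by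
  intro x y hxy
  have hxy' : (k : A) ^ m * e.symm x ^ n = e.symm y ^ m := by
    apply e.injective
    simp only [map_mul, map_pow, map_natCast, e.apply_symm_apply]
    exact hxy
  obtain ⟨a, ⟨ha1, ha2⟩, ha3⟩ := h _ _ hxy'
  refine ⟨e a, ⟨?_, ?_⟩, ?_⟩
  · rw [← map_pow, ← ha1, e.apply_symm_apply]
  · rw [← map_pow, ← map_natCast e, ← map_mul, ← ha2, e.apply_symm_apply]
  · rintro b ⟨hb1, hb2⟩
    have := ha3 (e.symm b) ⟨by rw [hb1, map_pow], by rw [hb2, map_mul, map_pow, map_natCast]⟩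
    rw [← this, e.apply_symm_apply]

theorem exists_denom {A S : Type u} [CommRing A] [CommRing S] [Algebra A S]
    (M : Submonoid A) [IsLocalization M S] (w : S) :
    ∃ c u : A, u ∈ M ∧ w * algebraMap A S u = algebraMap A S c := by
  obtain ⟨⟨c, u⟩, hw⟩ := IsLocalization.mk'_surjective M w
  exact ⟨c, u.1, u.2, by rw [← hw]; exact IsLocalization.mk'_spec S c u⟩

theorem exists_mul_eq {A S : Type u} [CommRing A] [CommRing S] [Algebra A S]
    (M : Submonoid A) [IsLocalization M S] {a b : A} (h : algebraMap A S a = algebraMap A S b) :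
    ∃ v : A, v ∈ M ∧ v * a = v * b := by
  obtain ⟨v, hv⟩ := (IsLocalization.eq_iff_exists M S).mp h
  exact ⟨v.1, v.2, hv⟩

theorem exists_denom₂ {A S : Type u} [CommRing A] [CommRing S] [Algebra A S]
    (M : Submonoid A) [IsLocalization M S] (x y : S) :
    ∃ u a b : A, u ∈ M ∧ x * algebraMap A S u = algebraMap A S a ∧
      y * algebraMap A S u = algebraMap A S b := by
  obtain ⟨a₀, u₁, hu₁, hx⟩ := exists_denom M x
  obtain ⟨b₀, u₂, hu₂, hy⟩ := exists_denom M y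
  refine ⟨u₁ * u₂, a₀ * u₂, b₀ * u₁, M.mul_mem hu₁ hu₂, ?_, ?_⟩
  · rw [map_mul, map_mul, ← mul_assoc, hx]
  · rw [map_mul, map_mul, mul_comm (algebraMap A S u₁), ← mul_assoc, hy]

/-- localization preserves unique roots. -/
theorem HasRoots.localization {A S : Type u} [CommRing A] [CommRing S] [Algebra A S]
    (M : Submonoid A) [IsLocalization M S] {m n k : ℕ} (hm : 0 < m) (hn : 0 < n)
    (h : HasRoots A m n k) : HasRoots S m n k := by
  obtain ⟨m', rfl⟩ := Nat.exists_eq_add_one_of_ne_zero hm.ne'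
  obtain ⟨n', rfl⟩ := Nat.exists_eq_add_one_of_ne_zero hn.ne'
  set φ := algebraMap A S with hφ
  have hunit : ∀ t : A, t ∈ M → IsUnit (φ t) := fun t ht => IsLocalization.map_units S ⟨t, ht⟩
  -- uniqueness first
  have huniq : ∀ w₁ w₂ : S, w₁ ^ (m' + 1) = w₂ ^ (m' + 1) →
      (k : S) * w₁ ^ (n' + 1) = (k : S) * w₂ ^ (n' + 1) → w₁ = w₂ := by
    intro w₁ w₂ e1 e2
    obtain ⟨u, c₁, c₂, hu, hw₁', hw₂'⟩ := exists_denom₂ M w₁ w₂
    have f1 : φ (c₁ ^ (m' + 1)) = φ (c₂ ^ (m' + 1)) := by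
      rw [map_pow, map_pow, ← hw₁', ← hw₂', mul_pow, mul_pow, e1]
    have f2 : φ ((k : A) * c₁ ^ (n' + 1)) = φ ((k : A) * c₂ ^ (n' + 1)) := by
      rw [map_mul, map_mul, map_pow, map_pow, ← hw₁', ← hw₂', mul_pow, mul_pow, map_natCast,
        ← mul_assoc, ← mul_assoc, e2]
    obtain ⟨v₁, hv₁M, hv₁⟩ := exists_mul_eq M f1
    obtain ⟨v₂, hv₂M, hv₂⟩ := exists_mul_eq M f2
    have g1 : (v₁ * v₂ * c₁) ^ (m' + 1) = (v₁ * v₂ * c₂) ^ (m' + 1) := by
      linear_combination (v₂ * (v₁ * v₂) ^ m') * hv₁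
    have g2 : (k : A) * (v₁ * v₂ * c₁) ^ (n' + 1) =
        (k : A) * (v₁ * v₂ * c₂) ^ (n' + 1) := by
      linear_combination (v₁ * (v₁ * v₂) ^ n') * hv₂
    have g3 := h.unique _ _ g1 g2
    have hvM : v₁ * v₂ ∈ M := M.mul_mem hv₁M hv₂M
    have hvu : IsUnit (φ (v₁ * v₂) * φ u) := (hunit _ hvM).mul (hunit _ hu)
    apply hvu.mul_left_injective
    show w₁ * (φ (v₁ * v₂) * φ u) = w₂ * (φ (v₁ * v₂) * φ u)
    have e3 : w₁ * (φ (v₁ * v₂) * φ u) = φ (v₁ * v₂ * c₁) := by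
      rw [map_mul φ (v₁ * v₂) c₁, ← hw₁']; ring
    have e4 : w₂ * (φ (v₁ * v₂) * φ u) = φ (v₁ * v₂ * c₂) := by
      rw [map_mul φ (v₁ * v₂) c₂, ← hw₂']; ring
    rw [e3, e4, g3]
  intro x y hxy
  obtain ⟨u, a₀, b₀, hu, hx', hy'⟩ := exists_denom₂ M x y
  -- X₀ ↦ u^m x, Y₀ ↦ u^n y
  have hX₀ : φ (u ^ m' * a₀) = φ u ^ (m' + 1) * x := by
    rw [map_mul, map_pow, ← hx']; ring
  have hY₀ : φ (u ^ n' * b₀) = φ u ^ (n' + 1) * y := by
    rw [map_mul, map_pow, ← hy']; ring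
  have f1 : φ ((k : A) ^ (m' + 1) * (u ^ m' * a₀) ^ (n' + 1)) =
      φ ((u ^ n' * b₀) ^ (m' + 1)) := by
    rw [map_mul, map_pow, map_pow, map_pow, hX₀, hY₀, map_natCast, mul_pow, mul_pow, ← hxy]
    ring
  obtain ⟨v, hvM, hv⟩ := exists_mul_eq M f1
  have hXY : (k : A) ^ (m' + 1) * (v ^ (m' + 1) * (u ^ m' * a₀)) ^ (n' + 1) =
      (v ^ (n' + 1) * (u ^ n' * b₀)) ^ (m' + 1) := by
    have e : (m' + 1) * (n' + 1) = (m' * n' + m' + n') + 1 := by ring
    have e1 : (v ^ (m' + 1)) ^ (n' + 1) = v ^ (m' * n' + m' + n') * v := by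
      rw [← pow_mul, e, pow_succ]
    have e2 : (v ^ (n' + 1)) ^ (m' + 1) = v ^ (m' * n' + m' + n') * v := by
      rw [← pow_mul, mul_comm (n' + 1), e, pow_succ]
    rw [mul_pow, mul_pow _ _ (m' + 1), e1, e2]
    linear_combination (v ^ (m' * n' + m' + n')) * hv
  obtain ⟨c, ⟨hc1, hc2⟩, _⟩ := h _ _ hXY
  set T : S := φ v * φ u with hT
  have hTu : IsUnit T := (hunit _ hvM).mul (hunit _ hu)
  have hXS : φ (v ^ (m' + 1) * (u ^ m' * a₀)) = T ^ (m' + 1) * x := by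
    rw [map_mul, hX₀, map_pow, hT, mul_pow]; ring
  have hYS : φ (v ^ (n' + 1) * (u ^ n' * b₀)) = T ^ (n' + 1) * y := by
    rw [map_mul, hY₀, map_pow, hT, mul_pow]; ring
  obtain ⟨Ti, hTi⟩ := hTu.exists_right_inv
  have hTi' : ∀ j : ℕ, T ^ j * Ti ^ j = 1 := fun j => by rw [← mul_pow, hTi, one_pow]
  have hzx : x = (φ c * Ti) ^ (m' + 1) := by
    rw [mul_pow, ← map_pow, ← hc1, hXS]
    linear_combination (-x) * hTi' (m' + 1)
  have hzy : y = (k : S) * (φ c * Ti) ^ (n' + 1) := by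
    have : φ ((k : A) * c ^ (n' + 1)) = T ^ (n' + 1) * y := by rw [← hc2, hYS]
    rw [map_mul, map_natCast, map_pow] at this
    rw [mul_pow, ← mul_assoc, this]
    linear_combination (-y) * hTi' (n' + 1)
  refine ⟨φ c * Ti, ⟨hzx, hzy⟩, ?_⟩
  rintro z' ⟨hz'1, hz'2⟩
  exact huniq z' _ (by rw [← hz'1, hzx]) (by rw [← hz'2, hzy])

end Groth.Agent.Lib.Helper11.Roots
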