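import Mathlib
import Groth.Prelude.Def_HTop2
import Groth.Agent.Lib.Helper11.Roots

/-!
# Unique roots are local on a scheme (helper11)
-/

set_option autoImplicit false
universe u

open CategoryTheory AlgebraicGeometry TopologicalSpace Opposite

namespace Groth.Agent.Lib.Helper11.Roots

section Sheaf

variable {X : TopCat.{u}} (F : TopCat.Sheaf CommRingCat.{u} X) {m n k : ℕ}

/-- uniqueness of roots is local. -/
theorem unique_of_basis
    (hB : ∀ (V : Opens X) (p : X), p ∈ V →
      ∃ W : Opens X, p ∈ W ∧ W ≤ V ∧ HasRoots (F.1.obj (op W)) m n k)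
    (V : Opens X) (a b : F.1.obj (op V)) (h1 : a ^ m = b ^ m)
    (h2 : (k : F.1.obj (op V)) * a ^ n = (k : F.1.obj (op V)) * b ^ n) : a = b := by
  choose W hpW hWV hW using hB
  refine F.eq_of_locally_eq' (fun p : V => W V p.1 p.2) V (fun p => homOfLE (hWV V p.1 p.2)) ?_
    a b ?_
  · intro p hp
    exact Opens.mem_iSup.mpr ⟨⟨p, hp⟩, hpW V p hp⟩
  · intro p
    apply (hW V p.1 p.2).unique
    · rw [← map_pow, ← map_pow, h1]
    · have := congrArg (F.1.map (homOfLE (hWV V p.1 p.2)).op) h2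
      rwa [map_mul, map_mul, map_pow, map_pow, map_natCast] at this

/-- unique roots are local. -/
theorem hasRoots_of_basis
    (hB : ∀ (V : Opens X) (p : X), p ∈ V →
      ∃ W : Opens X, p ∈ W ∧ W ≤ V ∧ HasRoots (F.1.obj (op W)) m n k)
    (V : Opens X) : HasRoots (F.1.obj (op V)) m n k := by
  have huniq := unique_of_basis F hB
  choose W hpW hWV hW using hB
  intro x y hxy
  let U : V → Opens X := fun p => W V p.1 p.2
  let ρ : ∀ p : V, F.1.obj (op V) ⟶ F.1.obj (op (U p)) :=
    fun p => F.1.map (homOfLE (hWV V p.1 p.2)).op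
  have hρ : ∀ p : V, (k : F.1.obj (op (U p))) ^ m * (ρ p x) ^ n = (ρ p y) ^ m := by
    intro p
    have := congrArg (ρ p) hxy
    rwa [map_mul, map_pow, map_pow, map_pow, map_natCast] at this
  choose a ha ha' using fun p : V => hW V p.1 p.2 _ _ (hρ p)
  have hcompat : TopCat.Presheaf.IsCompatible F.1 U a := by
    intro p q
    apply huniq
    · rw [← map_pow, ← map_pow, ← (ha p).1, ← (ha q).1]
      simp only [ρ, ← ConcreteCategory.comp_apply, ← F.1.map_comp]
      rfl
    · have e1 : ∀ (r : V) (i : U p ⊓ U q ⟶ U r),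
          (k : F.1.obj (op (U p ⊓ U q))) * (F.1.map i.op (a r)) ^ n =
            F.1.map i.op (ρ r y) := by
        intro r i
        rw [(ha r).2, map_mul, map_pow, map_natCast]
      rw [e1 p, e1 q]
      simp only [ρ, ← ConcreteCategory.comp_apply, ← F.1.map_comp]
      rfl
  obtain ⟨s, hs, -⟩ := F.existsUnique_gluing' U V (fun p => homOfLE (hWV V p.1 p.2))
    (fun p hp => Opens.mem_iSup.mpr ⟨⟨p, hp⟩, hpW V p hp⟩) a hcompat
  have hcover : V ≤ iSup U := fun p hp => Opens.mem_iSup.mpr ⟨⟨p, hp⟩, hpW V p hp⟩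
  have hsx : x = s ^ m := by
    refine F.eq_of_locally_eq' U V (fun p => homOfLE (hWV V p.1 p.2)) hcover _ _ ?_
    intro p
    rw [map_pow, hs p]
    exact (ha p).1
  have hsy : y = (k : F.1.obj (op V)) * s ^ n := by
    refine F.eq_of_locally_eq' U V (fun p => homOfLE (hWV V p.1 p.2)) hcover _ _ ?_
    intro p
    rw [map_mul, map_pow, map_natCast, hs p]
    exact (ha p).2
  refine ⟨s, ⟨hsx, hsy⟩, ?_⟩
  rintro s' ⟨hs'1, hs'2⟩
  exact huniq V s' s (by rw [← hs'1, ← hsx]) (by rw [← hs'2, ← hsy])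

end Sheaf

/-- unique roots are local on a scheme. -/
theorem hasRoots_of_local (X : Scheme.{u}) {m n k : ℕ} (hm : 0 < m) (hn : 0 < n)
    (h : ∀ x : X, ∃ U : X.affineOpens, x ∈ (U : X.Opens) ∧ HasRoots Γ(X, U) m n k)
    (V : X.Opens) : HasRoots Γ(X, V) m n k := by
  refine hasRoots_of_basis X.sheaf ?_ V
  intro V p hp
  obtain ⟨U, hpU, hU⟩ := h p
  obtain ⟨f, hfV, hpf⟩ := U.2.exists_basicOpen_le ⟨p, hp⟩ hpU
  refine ⟨X.basicOpen f, hpf, hfV, ?_⟩
  show HasRoots Γ(X, X.basicOpen f) m n k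
  haveI := U.2.isLocalization_basicOpen f
  exact hU.localization (Submonoid.powers f) hm hn

theorem hasRoots_of_span_cat (R : CommRingCat.{u}) (s : Finset R)
    (hs : Ideal.span (s : Set R) = ⊤) {m n k : ℕ} (hm : 0 < m) (hn : 0 < n)
    (h : ∀ f ∈ s, HasRoots (Localization.Away f) m n k) : HasRoots R m n k := by
  have key : HasRoots Γ(Spec R, ⊤) m n k := by
    refine hasRoots_of_local (Spec R) hm hn ?_ ⊤
    intro x
    have hx : ∃ f ∈ s, f ∉ x.asIdeal := by
      by_contra hcon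
      push Not at hcon
      have : Ideal.span (s : Set R) ≤ x.asIdeal := Ideal.span_le.mpr fun f hf => hcon f hf
      rw [hs] at this
      exact x.isPrime.ne_top (top_le_iff.mp this)
    obtain ⟨f, hfs, hfx⟩ := hx
    refine ⟨⟨PrimeSpectrum.basicOpen f, IsAffineOpen.Spec_basicOpen f⟩, hfx, ?_⟩
    show HasRoots Γ(Spec R, PrimeSpectrum.basicOpen f) m n k
    exact (h f hfs).of_ringEquiv
      (IsLocalization.algEquiv (Submonoid.powers f) (Localization.Away f)
        Γ(Spec R, PrimeSpectrum.basicOpen f)).toRingEquiv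
  exact key.of_ringEquiv (Scheme.ΓSpecIso R).commRingCatIsoToRingEquiv

/-- unique roots can be checked on a finite cover by basic opens. -/
theorem hasRoots_of_span {A : Type u} [CommRing A] (s : Finset A)
    (hs : Ideal.span (s : Set A) = ⊤) {m n k : ℕ} (hm : 0 < m) (hn : 0 < n)
    (h : ∀ f ∈ s, HasRoots (Localization.Away f) m n k) : HasRoots A m n k :=
  hasRoots_of_span_cat (CommRingCat.of A) s hs hm hn h

end Groth.Agent.Lib.Helper11.Roots
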