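import Mathlib
import Groth.Prelude.Def_HTop2
import Groth.Agent.Lib.Helper11.AWNRing
import Groth.Agent.S7422
import Groth.Agent.S7423
import Groth.Agent.S7419

/-!
# More on absolutely weakly normal rings (helper11)

* `awnSub A Ω` : the largest UH subalgebra; it is an absolute weak normalization when `Ω` is a
  product of algebraically closed fields and `ker (A → Ω)` is nil.
* base change of `UH` (tensor / localization).
* `isRingAWN_of_UH_of_isAWNRing`, retractions, bijectivity into reduced rings.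
-/

set_option autoImplicit false
universe u

open CategoryTheory AlgebraicGeometry TensorProduct

namespace Groth.Agent.Lib.Helper11.UHRing

section awnSub

variable {A : Type u} [CommRing A]

/-- the largest UH subalgebra. -/
def awnSub (A Ω : Type u) [CommRing A] [CommRing Ω] [Algebra A Ω] : Subalgebra A Ω :=
  sSup {C' : Subalgebra A Ω | UH (algebraMap A C')}

theorem UH_awnSub {Ω : Type u} [CommRing Ω] [Algebra A Ω]
    (hker : RingHom.ker (algebraMap A Ω) ≤ nilradical A) : UH (algebraMap A (awnSub A Ω)) :=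
  UH.of_sSup _ (fun _ hC' => hC') hker

theorem le_awnSub {Ω : Type u} [CommRing Ω] [Algebra A Ω] (C' : Subalgebra A Ω)
    (h : UH (algebraMap A C')) : C' ≤ awnSub A Ω := le_sSup h

/-- lifting a point with values in an algebraically closed field along a UH ring map. -/
theorem exists_lift_algClosed {C K : Type u} [CommRing C] [Field K] [IsAlgClosed K]
    (ψ : A →+* C) (hψ : UH ψ) (e : A →+* K) : ∃ g : C →+* K, g.comp ψ = e := by
  set p : Ideal A := RingHom.ker e with hp
  haveI : p.IsPrime := RingHom.ker_isPrime e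
  obtain ⟨q, hq⟩ := hψ.bijective_comap.2 ⟨p, inferInstance⟩
  algebraize [ψ]
  haveI : q.asIdeal.LiesOver p := ⟨by
    have := congrArg PrimeSpectrum.asIdeal hq
    exact this.symm⟩
  haveI : Algebra.IsIntegral A C := ⟨hψ.integral⟩
  let e' : A ⧸ p →+* K := Ideal.Quotient.lift p e (fun a ha => ha)
  have he' : Function.Injective e' := by
    rw [RingHom.injective_iff_ker_eq_bot, eq_bot_iff]
    intro x hx
    obtain ⟨a, rfl⟩ := Ideal.Quotient.mk_surjective x
    have : e a = 0 := hx
    exact (Ideal.Quotient.eq_zero_iff_mem.mpr this)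
  letI : Algebra (A ⧸ p) K := e'.toAlgebra
  haveI : FaithfulSMul (A ⧸ p) K := by
    rw [faithfulSMul_iff_algebraMap_injective]
    exact he'
  let l : (C ⧸ q.asIdeal) →ₐ[A ⧸ p] K := IsAlgClosed.lift
  refine ⟨l.toRingHom.comp (Ideal.Quotient.mk q.asIdeal), ?_⟩
  ext a
  show l (Ideal.Quotient.mk q.asIdeal (algebraMap A C a)) = e a
  have h1 : Ideal.Quotient.mk q.asIdeal (algebraMap A C a) =
      algebraMap (A ⧸ p) (C ⧸ q.asIdeal) (Ideal.Quotient.mk p a) := by
    rw [Ideal.Quotient.algebraMap_mk_of_liesOver]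
  rw [h1, l.commutes]
  rfl

/-- generalised existence of the absolute weak normalization inside a product of algebraically
closed fields. -/
theorem isRingAWN_awnSub {ι : Type u} (K : ι → Type u) [∀ i, Field (K i)]
    [∀ i, IsAlgClosed (K i)] [Algebra A (∀ i, K i)]
    (hker : RingHom.ker (algebraMap A (∀ i, K i)) ≤ nilradical A) :
    HTop.IsRingAWN (algebraMap A (awnSub A (∀ i, K i))) := by
  set B' := awnSub A (∀ i, K i) with hB'def
  have hB' : UH (algebraMap A B') := UH_awnSub hker
  refine ⟨(isUnivHomeo_SpecMap_iff _).mpr hB', ?_⟩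
  intro C _ ψ hψ
  rw [isUnivHomeo_SpecMap_iff] at hψ
  have huniq : ∀ χ₁ χ₂ : C →+* B', χ₁.comp ψ = algebraMap A B' → χ₂.comp ψ = algebraMap A B' →
      χ₁ = χ₂ := by
    intro χ₁ χ₂ h1 h2
    refine RingHom.ext fun c => ?_
    apply Subtype.ext
    funext i
    have := hψ.inj _ (((Pi.evalRingHom _ i).comp B'.val.toRingHom).comp χ₁)
      (((Pi.evalRingHom _ i).comp B'.val.toRingHom).comp χ₂) (by
        ext a
        have e1 := RingHom.congr_fun h1 a
        have e2 := RingHom.congr_fun h2 a
        simp only [RingHom.comp_apply] at e1 e2 ⊢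
        rw [e1, e2])
    exact RingHom.congr_fun this c
  choose g hg using fun i =>
    exists_lift_algClosed ψ hψ ((Pi.evalRingHom _ i).comp (algebraMap A (∀ i, K i)))
  algebraize [ψ]
  let G : C →ₐ[A] (∀ i, K i) :=
    { RingHom.pi g with
      commutes' := by
        intro a
        funext i
        exact RingHom.congr_fun (hg i) a }
  have hGle : G.range ≤ B' := le_awnSub _ (UH.of_range G hψ hker)
  let χ : C →ₐ[A] B' := G.codRestrict B' (fun c => hGle ⟨c, rfl⟩)
  refine ⟨χ.toRingHom, ?_, ?_⟩
  · exact RingHom.ext fun a => χ.commutes a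
  · intro χ' hχ'
    refine huniq χ' χ.toRingHom hχ' ?_
    exact RingHom.ext fun a => χ.commutes a

end awnSub

section BaseChange

instance isUnivHomeo_isStableUnderBaseChange :
    (FlatMor.IsUnivHomeo.{u}).IsStableUnderBaseChange := by
  unfold FlatMor.IsUnivHomeo; infer_instance

/-- base change of ring-level universal homeomorphisms (tensor form). -/
theorem UH.tensor {A A' B : Type u} [CommRing A] [CommRing A'] [CommRing B] [Algebra A A']
    [Algebra A B] (h : UH (algebraMap A B)) : UH (algebraMap A' (A' ⊗[A] B)) := by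
  have hpo := CommRingCat.isPushout_tensorProduct A A' B
  have hpb := isPullback_SpecMap_of_isPushout _ _ _ _ hpo
  have h1 := (isUnivHomeo_SpecMap_iff _).mpr h
  have h2 := MorphismProperty.of_isPullback (P := FlatMor.IsUnivHomeo) hpb.flip h1
  exact (isUnivHomeo_SpecMap_iff _).mp h2

/-- base change of ring-level universal homeomorphisms (localization form). -/
theorem UH.localization {A Af B Bf : Type u} [CommRing A] [CommRing Af] [CommRing B] [CommRing Bf]
    [Algebra A Af] [Algebra B Bf] (α : A →+* B) (αf : Af →+* Bf)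
    (H : αf.comp (algebraMap A Af) = (algebraMap B Bf).comp α)
    (M : Submonoid A) [IsLocalization M Af] [IsLocalization (M.map α) Bf]
    (h : UH α) : UH αf := by
  have hpo := CommRingCat.isPushout_of_isLocalization α αf H M
  have hpb := isPullback_SpecMap_of_isPushout _ _ _ _ hpo
  have h1 := (isUnivHomeo_SpecMap_iff _).mpr h
  have h2 := MorphismProperty.of_isPullback (P := FlatMor.IsUnivHomeo) hpb h1
  exact (isUnivHomeo_SpecMap_iff _).mp h2

end BaseChange

section More

variable {A B W : Type u} [CommRing A] [CommRing B] [CommRing W]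

/-- a UH map into an AWN ring is an absolute weak normalization. -/
theorem isRingAWN_of_UH_of_isAWNRing {φ : A →+* W} (h : UH φ) (hW : HTop.IsAWNRing W) :
    HTop.IsRingAWN φ := by
  obtain ⟨W₀, _, φ₀, hφ₀⟩ := Groth.Agent.S7422.result A
  have hφ₀' := (isRingAWN_iff φ₀).mp hφ₀
  obtain ⟨χ, hχ, -⟩ := hφ₀'.2 W φ h
  have hbij : Function.Bijective χ :=
    (Groth.Agent.S7423.result φ₀ hφ₀ φ ((isUnivHomeo_SpecMap_iff _).mpr h) χ hχ).mpr hW
  let e : W ≃+* W₀ := RingEquiv.ofBijective χ hbij
  have heφ : ∀ a, e (φ a) = φ₀ a := fun a => RingHom.congr_fun hχ a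
  rw [isRingAWN_iff]
  refine ⟨h, ?_⟩
  intro C _ ψ hψ
  obtain ⟨χ₀, hχ₀, hχ₀u⟩ := hφ₀'.2 C ψ hψ
  refine ⟨e.symm.toRingHom.comp χ₀, ?_, ?_⟩
  · ext a
    have := RingHom.congr_fun hχ₀ a
    simp only [RingHom.comp_apply] at this ⊢
    show e.symm (χ₀ (ψ a)) = φ a
    rw [this, ← heφ, e.symm_apply_apply]
  · intro χ'' hχ''
    have h1 : e.toRingHom.comp χ'' = χ₀ := by
      apply hχ₀u
      ext a
      have := RingHom.congr_fun hχ'' a
      simp only [RingHom.comp_apply] at this ⊢
      show e (χ'' (ψ a)) = φ₀ a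
      rw [this, heφ]
    ext c
    have := RingHom.congr_fun h1 c
    show χ'' c = e.symm (χ₀ c)
    rw [← this]
    exact (e.symm_apply_apply _).symm

/-- an AWN ring is its own absolute weak normalization. -/
theorem isRingAWN_id (hA : HTop.IsAWNRing A) : HTop.IsRingAWN (RingHom.id A) :=
  isRingAWN_of_UH_of_isAWNRing (UH.of_bijective Function.bijective_id) hA

/-- UH maps out of an AWN ring have unique retractions. -/
theorem existsUnique_retraction (hA : HTop.IsAWNRing A) (φ : A →+* B) (h : UH φ) :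
    ∃! r : B →+* A, r.comp φ = RingHom.id A :=
  ((isRingAWN_iff _).mp (isRingAWN_id hA)).2 B φ h

theorem eq_of_sq_cube_eq [IsReduced W] (a b : W) (h2 : a ^ 2 = b ^ 2) (h3 : a ^ 3 = b ^ 3) :
    a = b := by
  have h : (a - b) ^ 3 = 0 := by linear_combination 4 * h3 - 3 * (a + b) * h2
  exact sub_eq_zero.mp (IsNilpotent.eq_zero ⟨3, h⟩)

theorem eq_of_pow_eq_of_mul_eq [IsReduced W] (p : ℕ) (hp : p.Prime) (a b : W)
    (hpow : a ^ p = b ^ p) (hmul : (p : W) * a = p * b) : a = b := by
  obtain ⟨r, hr⟩ := exists_add_pow_prime_eq hp b (a - b)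
  have h : (a - b) ^ p = 0 := by
    have e : b + (a - b) = a := by ring
    rw [e] at hr
    linear_combination hpow - hr - (b * r) * hmul
  exact sub_eq_zero.mp (IsNilpotent.eq_zero ⟨p, h⟩)

/-- a UH extension `χ : B → W` of an AWN ring `B` into a reduced ring is bijective. -/
theorem bijective_of_UH_of_isReduced (χ : B →+* W) (hχ : UH χ) (hB : HTop.IsAWNRing B)
    [IsReduced W] : Function.Bijective χ := by
  haveI := isReduced_of_isSeminormalRing hB.1
  have hinj : Function.Injective χ := by
    rw [RingHom.injective_iff_ker_eq_bot, eq_bot_iff]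
    intro b hb
    have := hχ.ker_le hb
    rw [nilradical_eq_zero] at this
    exact this
  refine ⟨hinj, ?_⟩
  by_contra hns
  algebraize [χ]
  have hχ' : UH (algebraMap B W) := hχ
  rcases exists_sq_cube_or_prime_of_UH hχ' hns with
    ⟨w, hw, ⟨x, hx⟩, ⟨y, hy⟩⟩ | ⟨p, w, hp, hw, ⟨y, hy⟩, ⟨x, hx⟩⟩
  · have hxy : x ^ 3 = y ^ 2 := by
      apply hinj
      show algebraMap B W (x ^ 3) = algebraMap B W (y ^ 2)
      rw [map_pow, map_pow, hx, hy]; ring
    obtain ⟨b, ⟨hb1, hb2⟩, _⟩ := hB.1 x y hxy
    have h2 : algebraMap B W b = w := eq_of_sq_cube_eq _ _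
      (by rw [← map_pow, ← hb1, hx]) (by rw [← map_pow, ← hb2, hy])
    exact hw ⟨b, h2⟩
  · have hxy : (p : B) ^ p * x = y ^ p := by
      apply hinj
      show algebraMap B W ((p : B) ^ p * x) = algebraMap B W (y ^ p)
      rw [map_mul, map_pow, map_pow, map_natCast, hx, hy]; ring
    obtain ⟨b, ⟨hb1, hb2⟩, _⟩ := hB.2 p hp x y hxy
    have h2 : algebraMap B W b = w := eq_of_pow_eq_of_mul_eq p hp _ _
      (by rw [← map_pow, ← hb1, hx]) (by rw [← hy, hb2, map_mul, map_natCast])
    exact hw ⟨b, h2⟩

end More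

section Restriction

/-- restriction maps: an algebra map `π : Ω → Ω'` over `A → A'` carries `awnSub A Ω` into
`awnSub A' Ω'`. -/
theorem map_mem_awnSub {A A' Ω Ω' : Type u} [CommRing A] [CommRing A'] [CommRing Ω] [CommRing Ω']
    [Algebra A A'] [Algebra A Ω] [Algebra A' Ω'] [Algebra A Ω'] [IsScalarTower A A' Ω']
    (π : Ω →ₐ[A] Ω') (hker : RingHom.ker (algebraMap A Ω) ≤ nilradical A)
    (hker' : RingHom.ker (algebraMap A' Ω') ≤ nilradical A') (b : Ω) (hb : b ∈ awnSub A Ω) :
    π b ∈ awnSub A' Ω' := by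
  have hUH : UH (algebraMap A (awnSub A Ω)) := UH_awnSub hker
  have hT : UH (algebraMap A' (A' ⊗[A] (awnSub A Ω))) := UH.tensor hUH
  let G : A' ⊗[A] (awnSub A Ω) →ₐ[A'] Ω' :=
    Algebra.TensorProduct.lift (Algebra.ofId A' Ω') (π.comp (awnSub A Ω).val)
      (fun _ _ => Commute.all _ _)
  have hG : G.range ≤ awnSub A' Ω' := le_awnSub _ (UH.of_range G hT hker')
  apply hG
  refine ⟨(1 : A') ⊗ₜ[A] (⟨b, hb⟩ : awnSub A Ω), ?_⟩
  show G ((1 : A') ⊗ₜ[A] (⟨b, hb⟩ : awnSub A Ω)) = π b
  rw [Algebra.TensorProduct.lift_tmul, map_one, one_mul]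
  rfl

end Restriction

section Localization

/-- the absolute weak normalization commutes with localization away from an element. -/
theorem isLocalization_away_of_isRingAWN {A Af B B' : Type u} [CommRing A] [CommRing Af]
    [CommRing B] [CommRing B'] [Algebra A Af] (f : A) [IsLocalization.Away f Af]
    (α : A →+* B) (hα : HTop.IsRingAWN α) (α' : Af →+* B') (hα' : HTop.IsRingAWN α')
    (ρ : B →+* B') (hρ : ρ.comp α = α'.comp (algebraMap A Af)) :
    letI := ρ.toAlgebra
    IsLocalization.Away (α f) B' := by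
  letI := ρ.toAlgebra
  have hαUH : UH α := ((isRingAWN_iff α).mp hα).1
  let Bf := Localization.Away (α f)
  have hmap : (Submonoid.powers f).map α = Submonoid.powers (α f) := Submonoid.map_powers α f
  haveI : IsLocalization ((Submonoid.powers f).map α) Bf := by rw [hmap]; infer_instance
  let αf : Af →+* Bf := IsLocalization.map Bf α (M := Submonoid.powers f)
    (T := (Submonoid.powers f).map α) (fun x hx => Submonoid.mem_map_of_mem α hx)
  have hαf : αf.comp (algebraMap A Af) = (algebraMap B Bf).comp α := IsLocalization.map_comp _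
  have hαfUH : UH αf := UH.localization α αf hαf (Submonoid.powers f) hαUH
  have hBf : HTop.IsAWNRing Bf :=
    Groth.Agent.S7419.result.1 B (α f) (isAWNRing_of_isRingAWN hα)
  have hunit : IsUnit (ρ (α f)) := by
    have : ρ (α f) = α' (algebraMap A Af f) := RingHom.congr_fun hρ f
    rw [this]
    exact (IsLocalization.Away.algebraMap_isUnit f).map α'
  let ρf : Bf →+* B' := IsLocalization.Away.lift (α f) hunit
  have hρf : ρf.comp (algebraMap B Bf) = ρ := IsLocalization.Away.lift_comp _ hunit
  have hρfα : ρf.comp αf = α' := by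
    apply IsLocalization.ringHom_ext (Submonoid.powers f)
    rw [RingHom.comp_assoc, hαf, ← RingHom.comp_assoc, hρf, hρ]
  have hbij : Function.Bijective ρf :=
    (Groth.Agent.S7423.result α' hα' αf ((isUnivHomeo_SpecMap_iff _).mpr hαfUH) ρf hρfα).mpr hBf
  let e : Bf ≃ₐ[B] B' :=
    { RingEquiv.ofBijective ρf hbij with
      commutes' := fun b => RingHom.congr_fun hρf b }
  exact IsLocalization.isLocalization_of_algEquiv (Submonoid.powers (α f)) e

end Localization

end Groth.Agent.Lib.Helper11.UHRing
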