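import Mathlib
import Groth.Prelude.Def_HTop2
import Groth.Agent.Lib.Helper11.AWNRing2
import Groth.Agent.Lib.Helper11.RootsSheaf
import Groth.Agent.S7420
import Groth.Agent.S7421

/-!
# Absolutely weakly normal schemes: lifting against universal homeomorphisms (helper11)
-/

set_option autoImplicit false
universe u

open CategoryTheory CategoryTheory.Limits AlgebraicGeometry MorphismProperty

namespace Groth.Agent.Lib.Helper11.AWNScheme

open Groth.Agent.Lib.Helper11.UHRing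

theorem isAffineHom_of_isUnivHomeo {X Y : Scheme.{u}} (f : X ⟶ Y) (hf : FlatMor.IsUnivHomeo f) :
    IsAffineHom f := by
  rw [isUnivHomeo_iff] at hf
  obtain ⟨h1, h2, h3⟩ := hf
  have hce : Topology.IsClosedEmbedding f :=
    Topology.IsClosedEmbedding.of_continuous_injective_isClosedMap f.continuous
      f.injective f.isClosedMap
  exact isAffineHom_of_isInducing f hce.isInducing hce.isClosed_range

theorem isUnivHomeo_id (X : Scheme.{u}) : FlatMor.IsUnivHomeo (𝟙 X) := by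
  rw [isUnivHomeo_iff]
  exact ⟨inferInstance, inferInstance, inferInstance⟩

/-- two lifts of a morphism from a reduced scheme along a universal homeomorphism coincide. -/
theorem eq_of_comp_eq {P Y X : Scheme.{u}} [IsReduced P] (π : Y ⟶ X)
    (hπ : FlatMor.IsUnivHomeo π) (a b : P ⟶ Y) (h : a ≫ π = b ≫ π) : a = b := by
  haveI := isAffineHom_of_isUnivHomeo π hπ
  have hπ' := (isUnivHomeo_iff π).mp hπ
  haveI : UniversallyInjective π := hπ'.2.1
  have key : ∀ (K : Type u) [Field K],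
      Function.Injective (fun g : Spec (.of K) ⟶ Y ↦ g ≫ π) :=
    ((tfae_universallyInjective π).out 0 1).mp ‹_›
  refine ext_of_fromSpecResidueField_eq a b π Set.univ dense_univ (fun x _ => ?_) h
  apply key (P.residueField x)
  show (P.fromSpecResidueField x ≫ a) ≫ π = (P.fromSpecResidueField x ≫ b) ≫ π
  rw [Category.assoc, Category.assoc, h]

/-- sections over an affine AWN scheme. -/
theorem exists_section_of_isAffine {X Y : Scheme.{u}} [IsAffine X]
    (hX : HTop.IsAWNRing Γ(X, ⊤)) (π : Y ⟶ X) (hπ : FlatMor.IsUnivHomeo π) :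
    ∃ s : X ⟶ Y, s ≫ π = 𝟙 X := by
  haveI := isAffineHom_of_isUnivHomeo π hπ
  haveI : IsAffine Y := isAffine_of_isAffineHom π
  have hg' : FlatMor.IsUnivHomeo (Spec.map π.appTop) :=
    (MorphismProperty.arrow_mk_iso_iff FlatMor.IsUnivHomeo (arrowIsoSpecΓOfIsAffine π)).mp hπ
  have hψ : UH π.appTop.hom := (isUnivHomeo_SpecMap_iff _).mp hg'
  obtain ⟨r, hr, -⟩ := existsUnique_retraction hX π.appTop.hom hψ
  refine ⟨X.isoSpec.hom ≫ Spec.map (CommRingCat.ofHom r) ≫ Y.isoSpec.inv, ?_⟩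
  have h1 : π.appTop ≫ CommRingCat.ofHom r = 𝟙 _ := by
    ext a
    exact RingHom.congr_fun hr a
  rw [Category.assoc, Category.assoc, ← Scheme.isoSpec_inv_naturality, ← Spec.map_comp_assoc, h1,
    Spec.map_id, Category.id_comp, Iso.hom_inv_id]

theorem isSeminormal_of_isAWN {X : Scheme.{u}} (hX : HTop.IsAWN X) : HTop.IsSeminormal X := by
  intro x
  obtain ⟨U, hxU, hU⟩ := hX x
  exact ⟨U, hxU, hU.1⟩

theorem isReduced_of_isAWN {X : Scheme.{u}} (hX : HTop.IsAWN X) : IsReduced X :=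
  Groth.Agent.S7421.result.2 X (isSeminormal_of_isAWN hX)

/-- AWN schemes are local objects for universal homeomorphisms. -/
theorem existsUnique_lift {X' Y X : Scheme.{u}} (hX' : HTop.IsAWN X') (π : Y ⟶ X)
    (hπ : FlatMor.IsUnivHomeo π) (ν : X' ⟶ X) : ∃! h : X' ⟶ Y, h ≫ π = ν := by
  haveI := isReduced_of_isAWN hX'
  have hall := (Groth.Agent.S7420.result X').2.mp hX'
  let 𝒰 := Scheme.AffineZariskiSite.directedCover X'
  have hloc : ∀ U : X'.AffineZariskiSite, ∃ a : (U.1 : Scheme.{u}) ⟶ Y, a ≫ π = U.1.ι ≫ ν := by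
    intro U
    haveI : IsAffine (U.1 : Scheme.{u}) := U.2
    have hAWN : HTop.IsAWNRing Γ((U.1 : Scheme.{u}), ⊤) :=
      isAWNRing_of_ringEquiv (Scheme.Opens.topIso U.1).commRingCatIsoToRingEquiv (hall ⟨U.1, U.2⟩)
    have hsnd : FlatMor.IsUnivHomeo (pullback.snd π (U.1.ι ≫ ν)) :=
      MorphismProperty.pullback_snd _ _ hπ
    obtain ⟨σ, hσ⟩ := exists_section_of_isAffine hAWN _ hsnd
    refine ⟨σ ≫ pullback.fst π (U.1.ι ≫ ν), ?_⟩
    rw [Category.assoc, pullback.condition, ← Category.assoc, hσ, Category.id_comp]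
  choose a ha using hloc
  have hcompat : ∀ U V : X'.AffineZariskiSite,
      pullback.fst (𝒰.f U) (𝒰.f V) ≫ a U = pullback.snd (𝒰.f U) (𝒰.f V) ≫ a V := by
    intro U V
    haveI : IsReduced (pullback (𝒰.f U) (𝒰.f V)) :=
      isReduced_of_isOpenImmersion (pullback.fst (𝒰.f U) (𝒰.f V) ≫ 𝒰.f U)
    apply eq_of_comp_eq π hπ
    rw [Category.assoc, Category.assoc, ha U, ha V]
    exact pullback.condition_assoc _
  refine ⟨𝒰.glueMorphisms a hcompat, ?_, ?_⟩
  · apply 𝒰.hom_ext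
    intro U
    rw [Scheme.Cover.ι_glueMorphisms_assoc]
    exact ha U
  · intro h' hh'
    apply eq_of_comp_eq π hπ
    rw [hh']
    apply 𝒰.hom_ext
    intro U
    rw [Scheme.Cover.ι_glueMorphisms_assoc]
    exact (ha U).symm

/-- a universal homeomorphism from an AWN scheme is an absolute weak normalization. -/
theorem isAWNormalization_of_isAWN {X' X : Scheme.{u}} (ν : X' ⟶ X)
    (hν : FlatMor.IsUnivHomeo ν) (hX' : HTop.IsAWN X') : HTop.IsAWNormalization ν :=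
  ⟨hν, fun _ π hπ => existsUnique_lift hX' π hπ ν⟩

/-- a universal homeomorphism from a reduced scheme onto an AWN scheme is an isomorphism. -/
theorem isIso_of_isUnivHomeo_of_isReduced {Y X : Scheme.{u}} (hX : HTop.IsAWN X) (π : Y ⟶ X)
    (hπ : FlatMor.IsUnivHomeo π) [IsReduced Y] : IsIso π := by
  obtain ⟨s, hs, -⟩ := existsUnique_lift hX π hπ (𝟙 X)
  refine ⟨s, ?_, hs⟩
  apply eq_of_comp_eq π hπ
  rw [Category.assoc, hs, Category.comp_id, Category.id_comp]

/-- `IsAWN` is invariant under isomorphism. -/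
theorem isAWN_of_iso {X Y : Scheme.{u}} (e : X ≅ Y) (hY : HTop.IsAWN Y) : HTop.IsAWN X := by
  intro x
  obtain ⟨V, hyV, hV⟩ := hY (e.hom x)
  refine ⟨⟨e.hom ⁻¹ᵁ V.1, V.2.preimage_of_isIso e.hom⟩, hyV, ?_⟩
  exact isAWNRing_of_ringEquiv (asIso (e.hom.app V.1)).commRingCatIsoToRingEquiv.symm hV

/-- uniqueness of absolute weak normalizations. -/
theorem isIso_of_isAWNormalization {X₁ X₂ X : Scheme.{u}} (ν₁ : X₁ ⟶ X) (ν₂ : X₂ ⟶ X)
    (h₁ : HTop.IsAWNormalization ν₁) (h₂ : HTop.IsAWNormalization ν₂) (h : X₁ ⟶ X₂)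
    (hh : h ≫ ν₂ = ν₁) : IsIso h := by
  obtain ⟨g, hg, -⟩ := h₂.2 X₁ ν₁ h₁.1
  obtain ⟨w₁, _, hu₁⟩ := h₁.2 X₁ ν₁ h₁.1
  obtain ⟨w₂, _, hu₂⟩ := h₂.2 X₂ ν₂ h₂.1
  refine ⟨g, ?_, ?_⟩
  · rw [hu₁ (h ≫ g) (by show (h ≫ g) ≫ ν₁ = ν₁; rw [Category.assoc, hg, hh]),
      hu₁ (𝟙 _) (Category.id_comp _)]
  · rw [hu₂ (g ≫ h) (by show (g ≫ h) ≫ ν₂ = ν₂; rw [Category.assoc, hh, hg]),
      hu₂ (𝟙 _) (Category.id_comp _)]

end Groth.Agent.Lib.Helper11.AWNScheme
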