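import Mathlib
import Groth.Prelude.Def_HTop2
import Groth.Agent.Lib.Helper11.AWNRing2
import Groth.Agent.Lib.Helper11.AWNScheme

/-!
# Construction of the absolute weak normalization of a scheme (helper11)
-/

set_option autoImplicit false
universe u

open CategoryTheory CategoryTheory.Limits AlgebraicGeometry MorphismProperty Opposite

namespace Groth.Agent.Lib.Helper11.AWNGlue

open Groth.Agent.Lib.Helper11.UHRing Groth.Agent.Lib.Helper11.AWNScheme

noncomputable section

variable (X : Scheme.{u})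

/-- algebraic closure of the residue field. -/
abbrev Kbar (x : X) : Type u := AlgebraicClosure (X.residueField x)

/-- the big product over the points of `U`. -/
abbrev Om (U : X.Opens) : Type u := ∀ x : U, Kbar X x.1

/-- evaluation of sections at all geometric points. -/
def evOm (U : X.Opens) : Γ(X, U) →+* Om X U :=
  Pi.ringHom fun x =>
    (algebraMap (X.residueField x.1) (Kbar X x.1)).comp (X.evaluation U x.1 x.2).hom

theorem evOm_apply (U : X.Opens) (s : Γ(X, U)) (x : U) :
    evOm X U s x = algebraMap (X.residueField x.1) (Kbar X x.1) (X.evaluation U x.1 x.2 s) := rfl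

instance algOm (U : X.Opens) : Algebra Γ(X, U) (Om X U) := (evOm X U).toAlgebra

theorem algebraMap_Om (U : X.Opens) : algebraMap Γ(X, U) (Om X U) = evOm X U := rfl

/-- restriction of the big products. -/
def resOm {U V : X.Opens} (h : V ≤ U) : Om X U →+* Om X V :=
  Pi.ringHom fun x => Pi.evalRingHom (fun x : U => Kbar X x.1) ⟨x.1, h x.2⟩

theorem resOm_apply {U V : X.Opens} (h : V ≤ U) (b : Om X U) (x : V) :
    resOm X h b x = b ⟨x.1, h x.2⟩ := rfl

theorem resOm_evOm {U V : X.Opens} (h : V ≤ U) (s : Γ(X, U)) :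
    resOm X h (evOm X U s) = evOm X V (X.presheaf.map (homOfLE h).op s) := by
  funext x
  rw [resOm_apply, evOm_apply, evOm_apply]
  congr 1
  show (X.presheaf.germ U x.1 (h x.2) ≫ X.residue x.1) s =
    (X.presheaf.germ V x.1 x.2 ≫ X.residue x.1) (X.presheaf.map (homOfLE h).op s)
  rw [← X.presheaf.germ_res (homOfLE h) x.1 x.2]
  rfl

theorem ker_evOm_le (U : X.Opens) (hU : IsAffineOpen U) :
    RingHom.ker (algebraMap Γ(X, U) (Om X U)) ≤ nilradical Γ(X, U) := by
  intro s hs
  show IsNilpotent s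
  rw [Scheme.isNilpotent_iff_basicOpen_eq_bot_of_isCompact hU.isCompact,
    Scheme.basicOpen_eq_bot_iff_forall_evaluation_eq_zero]
  intro x
  have h1 : evOm X U s x = 0 := congrFun (show evOm X U s = 0 from hs) x
  rw [evOm_apply] at h1
  exact (map_eq_zero_iff _ (algebraMap (X.residueField x.1) (Kbar X x.1)).injective).mp h1

/-- the ring `Γ(X,U)^awn` as a subalgebra of the big product. -/
def awnS (U : X.Opens) : Subalgebra Γ(X, U) (Om X U) := awnSub Γ(X, U) (Om X U)

theorem isRingAWN_awnS (U : X.Opens) (hU : IsAffineOpen U) :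
    HTop.IsRingAWN (algebraMap Γ(X, U) (awnS X U)) :=
  isRingAWN_awnSub (fun x : U => Kbar X x.1) (ker_evOm_le X U hU)

theorem resOm_mem {U V : X.Opens} (hU : IsAffineOpen U) (hV : IsAffineOpen V) (h : V ≤ U)
    (b : Om X U) (hb : b ∈ awnS X U) : resOm X h b ∈ awnS X V := by
  letI : Algebra Γ(X, U) Γ(X, V) := (X.presheaf.map (homOfLE h).op).hom.toAlgebra
  letI : Algebra Γ(X, U) (Om X V) :=
    ((evOm X V).comp (X.presheaf.map (homOfLE h).op).hom).toAlgebra
  haveI : IsScalarTower Γ(X, U) Γ(X, V) (Om X V) := .of_algebraMap_eq' rfl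
  let π : Om X U →ₐ[Γ(X, U)] Om X V :=
    { resOm X h with
      commutes' := fun s => resOm_evOm X h s }
  exact map_mem_awnSub π (ker_evOm_le X U hU) (ker_evOm_le X V hV) b hb

open Scheme.AffineZariskiSite

/-- the presheaf `U ↦ Γ(X,U)^awn` on the affine Zariski site. -/
def awnFunctor : X.AffineZariskiSiteᵒᵖ ⥤ CommRingCat.{u} where
  obj U := CommRingCat.of (awnS X U.unop.1)
  map {U V} i := CommRingCat.ofHom
    ((resOm X (toOpens_mono i.unop.le)).restrict (awnS X U.unop.1) (awnS X V.unop.1)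
      (fun b hb => resOm_mem X U.unop.2 V.unop.2 (toOpens_mono i.unop.le) b hb))
  map_id U := by
    ext b
    rfl
  map_comp i j := by
    ext b
    rfl

/-- the structure map `𝒪_X ⟶ 𝒪_X^awn`. -/
def awnNatTrans : (toOpensFunctor X).op ⋙ X.presheaf ⟶ awnFunctor X where
  app U := CommRingCat.ofHom (algebraMap Γ(X, U.unop.1) (awnS X U.unop.1))
  naturality {U V} i := by
    ext s
    apply Subtype.ext
    exact (resOm_evOm X (toOpens_mono i.unop.le) s).symm

theorem coequifibered_awnNatTrans : (awnNatTrans X).Coequifibered := by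
  refine coequifibered_iff_forall_isLocalizationAway.mpr fun U r => ?_
  haveI : IsLocalization.Away r Γ(X, X.basicOpen r) := U.2.isLocalization_basicOpen r
  refine isLocalization_away_of_isRingAWN (Af := Γ(X, X.basicOpen r)) r
    (algebraMap Γ(X, U.1) (awnS X U.1)) (isRingAWN_awnS X U.1 U.2)
    (algebraMap Γ(X, X.basicOpen r) (awnS X (X.basicOpen r)))
    (isRingAWN_awnS X _ (U.2.basicOpen r))
    ((awnFunctor X).map (homOfLE (U.basicOpen_le r)).op).hom ?_
  refine RingHom.ext fun s => Subtype.ext ?_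
  exact resOm_evOm X (X.basicOpen_le r) s

/-- the gluing data. -/
def awnGlueData := relativeGluingData (coequifibered_awnNatTrans X)

/-- the absolute weak normalization of `X`. -/
def awn : Scheme.{u} := (awnGlueData X).glued

/-- the structure morphism `X^awn ⟶ X`. -/
def awnHom : awn X ⟶ X := (awnGlueData X).toBase

theorem isUnivHomeo_of_openCover {Z Y : Scheme.{u}} (f : Z ⟶ Y) (𝒰 : Y.OpenCover)
    (h : ∀ i, FlatMor.IsUnivHomeo (𝒰.pullbackHom f i)) : FlatMor.IsUnivHomeo f := by
  rw [isUnivHomeo_iff]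
  refine ⟨?_, ?_, ?_⟩
  · exact IsZariskiLocalAtTarget.of_openCover (P := @UniversallyClosed) 𝒰
      fun i => ((isUnivHomeo_iff _).mp (h i)).1
  · exact IsZariskiLocalAtTarget.of_openCover (P := @UniversallyInjective) 𝒰
      fun i => ((isUnivHomeo_iff _).mp (h i)).2.1
  · exact IsZariskiLocalAtTarget.of_openCover (P := @Surjective) 𝒰
      fun i => ((isUnivHomeo_iff _).mp (h i)).2.2

theorem isUnivHomeo_awnHom : FlatMor.IsUnivHomeo (awnHom X) := by
  refine isUnivHomeo_of_openCover (awnHom X) (directedCover X) fun U => ?_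
  have hpb := ((awnGlueData X).isPullback_natTrans_ι_toBase U).flip
  have h1 : FlatMor.IsUnivHomeo ((awnGlueData X).natTrans.app U) := by
    have h2 : FlatMor.IsUnivHomeo (Spec.map ((awnNatTrans X).app (op U))) :=
      (isRingAWN_awnS X U.1 U.2).1
    exact (MorphismProperty.cancel_right_of_respectsIso FlatMor.IsUnivHomeo _
      ((restrictIsoSpec X).inv.app U)).mpr h2
  have h3 : hpb.isoPullback.hom ≫ (directedCover X).pullbackHom (awnHom X) U =
      (awnGlueData X).natTrans.app U := hpb.isoPullback_hom_snd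
  rw [← h3] at h1
  exact (MorphismProperty.cancel_left_of_respectsIso FlatMor.IsUnivHomeo _ _).mp h1

theorem isAWN_awn : HTop.IsAWN (awn X) := by
  intro x'
  obtain ⟨U, y, hy⟩ := (awnGlueData X).cover.exists_eq x'
  let f := (awnGlueData X).cover.f U
  haveI : IsOpenImmersion f := inferInstance
  haveI : IsAffine ((awnGlueData X).cover.X U) := by
    show IsAffine (Spec ((awnFunctor X).obj (op U)))
    infer_instance
  refine ⟨⟨f ''ᵁ ⊤, (isAffineOpen_top _).image_of_isOpenImmersion f⟩, ⟨y, trivial, hy⟩, ?_⟩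
  have hW : HTop.IsAWNRing (awnS X U.1) := isAWNRing_of_isRingAWN (isRingAWN_awnS X U.1 U.2)
  exact isAWNRing_of_ringEquiv
    ((f.appIso ⊤) ≪≫ Scheme.ΓSpecIso _).commRingCatIsoToRingEquiv hW

/-- existence: a universal homeomorphism onto `X` from an AWN scheme. -/
theorem exists_awn : ∃ (X' : Scheme.{u}) (ν : X' ⟶ X), FlatMor.IsUnivHomeo ν ∧ HTop.IsAWN X' :=
  ⟨awn X, awnHom X, isUnivHomeo_awnHom X, isAWN_awn X⟩

theorem exists_isAWNormalization :
    ∃ (X' : Scheme.{u}) (ν : X' ⟶ X), HTop.IsAWNormalization ν ∧ HTop.IsAWN X' := by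
  obtain ⟨X', ν, hν, hX'⟩ := exists_awn X
  exact ⟨X', ν, isAWNormalization_of_isAWN ν hν hX', hX'⟩

/-- the source of any absolute weak normalization is AWN. -/
theorem isAWN_of_isAWNormalization {X' : Scheme.{u}} (ν : X' ⟶ X)
    (hν : HTop.IsAWNormalization ν) : HTop.IsAWN X' := by
  obtain ⟨X₀, ν₀, hν₀, hX₀⟩ := exists_isAWNormalization X
  obtain ⟨h, hh, -⟩ := hν₀.2 X' ν hν.1
  -- `h : X₀ ⟶ X'`
  obtain ⟨g, hg, -⟩ := hν.2 X₀ ν₀ hν₀.1
  haveI := isIso_of_isAWNormalization ν ν₀ hν hν₀ g hg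
  exact isAWN_of_iso (asIso g) hX₀

end

end Groth.Agent.Lib.Helper11.AWNGlue
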