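import Mathlib

/-!
# Absolutely flat (von Neumann regular) rings (helper11)
-/

set_option autoImplicit false
universe u v

namespace Groth.Agent.Lib.Helper11

open TensorProduct

/-- von Neumann regular rings are reduced with all primes maximal. -/
theorem isReduced_and_maximal_of_vnr {A : Type u} [CommRing A] (h : ∀ a : A, ∃ b : A, a = a * a * b) :
    IsReduced A ∧ ∀ p : Ideal A, p.IsPrime → p.IsMaximal := by
  constructor
  · refine ⟨fun x hx => ?_⟩
    obtain ⟨n, hn⟩ := hx
    obtain ⟨b, hb⟩ := h x
    have key : ∀ k : ℕ, x = x ^ (k + 1) * b ^ k := by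
      intro k
      induction k with
      | zero => simp
      | succ k ih =>
        calc x = x ^ (k + 1) * b ^ k := ih
          _ = x ^ k * x * b ^ k := by rw [pow_succ]
          _ = x ^ k * (x * x * b) * b ^ k := by rw [← hb]
          _ = x ^ (k + 1 + 1) * b ^ (k + 1) := by ring
    rw [key n, pow_succ, hn, zero_mul, zero_mul]
  · intro p hp
    rw [Ideal.isMaximal_iff]
    refine ⟨fun h1 => hp.ne_top ((Ideal.eq_top_iff_one p).2 h1), ?_⟩
    intro J x hpJ hxp hxJ
    obtain ⟨b, hb⟩ := h x
    have h0 : x * (1 - x * b) = 0 := by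
      have : x * (1 - x * b) = x - x * x * b := by ring
      rw [this, ← hb, sub_self]
    have h1 : 1 - x * b ∈ p := by
      rcases hp.mem_or_mem (h0 ▸ p.zero_mem : x * (1 - x * b) ∈ p) with h | h
      · exact absurd h hxp
      · exact h
    have h2 : x * b ∈ J := J.mul_mem_right b hxJ
    have := J.add_mem (hpJ h1) h2
    rwa [sub_add_cancel] at this

/-- reduced + dimension zero implies local rings are fields -/
theorem isField_localization_of_reduced_of_maximal {A : Type u} [CommRing A] [IsReduced A]
    (h : ∀ p : Ideal A, p.IsPrime → p.IsMaximal) (p : Ideal A) [p.IsPrime] :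
    IsField (Localization.AtPrime p) := by
  haveI : Ring.KrullDimLE 0 A := Ring.KrullDimLE.mk₀ h
  have hp : p ∈ minimalPrimes A := Ideal.mem_minimalPrimes_of_krullDimLE_zero p
  haveI : Ring.KrullDimLE 0 (Localization.AtPrime p) :=
    Ring.KrullDimLE.of_isLocalization p hp (Localization.AtPrime p)
  exact Ring.KrullDimLE.isField_of_isReduced

/-- if all local rings are fields, every module is flat -/
theorem flat_of_isField_localization {A : Type u} [CommRing A]
    (h : ∀ (p : Ideal A) [p.IsPrime], IsField (Localization.AtPrime p)) (M : Type v) [AddCommGroup M]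
    [Module A M] : Module.Flat A M := by
  apply Module.flat_of_localized_maximal
  intro P hP
  have hF := h P
  letI := hF.toField
  haveI : Module.Flat (Localization.AtPrime P) (LocalizedModule P.primeCompl M) := inferInstance
  exact Module.Flat.trans A (Localization.AtPrime P) (LocalizedModule P.primeCompl M)

/-- if `A/(a)` is flat then `a ∈ (a²)` -/
theorem exists_eq_mul_self_mul_of_flat {A : Type u} [CommRing A] (a : A)
    [Module.Flat A (A ⧸ Ideal.span {a})] : ∃ b : A, a = a * a * b := by
  set J : Ideal A := Ideal.span {a} with hJ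
  have haJ : a ∈ J := Ideal.mem_span_singleton_self a
  have hinj : Function.Injective ((Submodule.subtype J).rTensor (A ⧸ J)) :=
    Module.Flat.rTensor_preserves_injective_linearMap _ (Submodule.subtype_injective J)
  let z : J ⊗[A] (A ⧸ J) := (⟨a, haJ⟩ : J) ⊗ₜ[A] (Ideal.Quotient.mk J 1)
  have hz : z = 0 := by
    apply hinj
    rw [map_zero]
    show ((⟨a, haJ⟩ : J) : A) ⊗ₜ[A] (Ideal.Quotient.mk J 1) = 0
    show a ⊗ₜ[A] (Ideal.Quotient.mk J 1) = 0
    have : a = a • (1 : A) := by simp
    rw [this, TensorProduct.smul_tmul]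
    have h0 : a • (Ideal.Quotient.mk J 1) = 0 := by
      have h00 : a • (Ideal.Quotient.mk J 1) = Ideal.Quotient.mk J (a * 1) := rfl
      rw [h00, mul_one, Ideal.Quotient.eq_zero_iff_mem]
      exact haJ
    rw [h0, TensorProduct.tmul_zero]
  have hz' := congrArg (TensorProduct.tensorQuotEquivQuotSMul (↥J) J) hz
  rw [map_zero, TensorProduct.tensorQuotEquivQuotSMul_tmul_mk, one_smul,
    Submodule.Quotient.mk_eq_zero] at hz'
  have hmem : a ∈ (J • (⊤ : Submodule A J)).map (Submodule.subtype J) :=
    ⟨⟨a, haJ⟩, hz', rfl⟩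
  rw [Submodule.map_smul'', Submodule.map_top, Submodule.range_subtype, smul_eq_mul,
    Ideal.span_singleton_mul_span_singleton, Ideal.mem_span_singleton] at hmem
  obtain ⟨b, hb⟩ := hmem
  exact ⟨b, hb⟩

end Groth.Agent.Lib.Helper11
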