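import Mathlib
import Groth.Prelude.Def_AlgGrp
import Groth.Agent.Lib.Helper11.ActA

/-!
# Actions of group schemes over a field: field valued points (helper11)
-/

set_option autoImplicit false
universe u

open CategoryTheory CategoryTheory.Limits MonoidalCategory CartesianMonoidalCategory MonObj GrpObj
  AlgebraicGeometry
open Groth.Agent.Lib.Helper11.GrpA Groth.Agent.Lib.Helper11.GrpB Groth.Agent.Lib.Helper11.GrpC
  Groth.Agent.Lib.Helper11.GrpD Groth.Agent.Lib.Helper11.GrpG Groth.Agent.Lib.Helper11.ActA
open scoped Obj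

namespace Groth.Agent.Lib.Helper11.ActB

section Top

theorem preimage_mem_irreducibleComponents {A B : Type*} [TopologicalSpace A] [TopologicalSpace B]
    {p : A → B} (hc : Continuous p) (hs : Function.Surjective p) {C : Set B}
    (hC : C ∈ irreducibleComponents B) (hirr : IsIrreducible (p ⁻¹' C)) :
    p ⁻¹' C ∈ irreducibleComponents A := by
  refine ⟨hirr, fun D hD hle => ?_⟩
  have hsub : C ⊆ closure (p '' D) := by
    intro z hz
    obtain ⟨w, rfl⟩ := hs z
    exact subset_closure ⟨w, hle hz, rfl⟩
  have hE : IsIrreducible (closure (p '' D)) := (hD.image p hc.continuousOn).closure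
  have h2 := hC.2 hE hsub
  intro w hw
  exact h2 (subset_closure ⟨w, hw, rfl⟩)

/-- existence of a maximal point -/
theorem exists_isMaxPt (A : Type*) [TopologicalSpace A] [QuasiSober A] [Nonempty A] :
    ∃ ζ : A, IsMaxPt ζ := by
  obtain ⟨x⟩ := ‹Nonempty A›
  obtain ⟨ξ, hξ⟩ := QuasiSober.sober (isIrreducible_irreducibleComponent (x := x))
    isClosed_irreducibleComponent
  refine ⟨ξ, ?_⟩
  show closure {ξ} ∈ irreducibleComponents A
  rw [hξ.def]
  exact irreducibleComponent_mem_irreducibleComponents x

end Top

variable {k : Type u} [Field k]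

/-- `T` is the spectrum of a field -/
def IsFieldPt (T : Over (Spec (CommRingCat.of k))) : Prop :=
  ∃ (K : Type u) (_ : Field K) (t : Spec (CommRingCat.of K) ⟶ Spec (CommRingCat.of k)),
    T = Over.mk t

/-- `T` is the spectrum of an algebraically closed field -/
def IsAlgClosedPt (T : Over (Spec (CommRingCat.of k))) : Prop :=
  ∃ (K : Type u) (_ : Field K) (_ : IsAlgClosed K)
    (t : Spec (CommRingCat.of K) ⟶ Spec (CommRingCat.of k)), T = Over.mk t

theorem IsAlgClosedPt.isFieldPt {T : Over (Spec (CommRingCat.of k))} (h : IsAlgClosedPt T) :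
    IsFieldPt T := by
  obtain ⟨K, i, _, t, rfl⟩ := h
  exact ⟨K, i, t, rfl⟩

theorem isFieldPt_Tx (A : Over (Spec (CommRingCat.of k))) (x : A.left) : IsFieldPt (Tx A x) :=
  ⟨A.left.residueField x, inferInstance, A.left.fromSpecResidueField x ≫ A.hom, rfl⟩

theorem IsFieldPt.nonempty {T : Over (Spec (CommRingCat.of k))} (h : IsFieldPt T) :
    Nonempty ↥T.left := by
  obtain ⟨K, _, t, rfl⟩ := h
  exact inferInstanceAs (Nonempty (PrimeSpectrum K))

theorem IsFieldPt.subsingleton {T : Over (Spec (CommRingCat.of k))} (h : IsFieldPt T) :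
    Subsingleton ↥T.left := by
  obtain ⟨K, _, t, rfl⟩ := h
  exact inferInstanceAs (Subsingleton (PrimeSpectrum K))

theorem IsFieldPt.irreducibleSpace {T : Over (Spec (CommRingCat.of k))} (h : IsFieldPt T) :
    IrreducibleSpace ↥T.left := by
  obtain ⟨K, _, t, rfl⟩ := h
  exact inferInstanceAs (IrreducibleSpace (PrimeSpectrum K))

theorem isPullback_whiskerLeft_left {T T' : Over (Spec (CommRingCat.of k))} (f : T' ⟶ T)
    (Y : Over (Spec (CommRingCat.of k))) :
    IsPullback (Y ◁ f).left (snd Y T').left (snd Y T).left f.left :=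
  (isPullback_whiskerLeft T f Y).map (Over.forget _)

theorem flat_whiskerLeft {T T' : Over (Spec (CommRingCat.of k))} (hT : IsFieldPt T) (f : T' ⟶ T)
    (Y : Over (Spec (CommRingCat.of k))) : Flat (Y ◁ f).left := by
  obtain ⟨K, _, t, rfl⟩ := hT
  have h : Flat (show T'.left ⟶ Spec (CommRingCat.of K) from f.left) := inferInstance
  exact MorphismProperty.of_isPullback (P := @Flat) (isPullback_whiskerLeft_left f Y).flip h

theorem surjective_whiskerLeft {T T' : Over (Spec (CommRingCat.of k))} (hT : IsFieldPt T)
    (hT' : IsFieldPt T') (f : T' ⟶ T) (Y : Over (Spec (CommRingCat.of k))) :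
    Surjective (Y ◁ f).left := by
  haveI := hT.subsingleton
  haveI := hT'.nonempty
  have h : Surjective f.left := ⟨fun y => ⟨Classical.arbitrary _, Subsingleton.elim _ _⟩⟩
  exact MorphismProperty.of_isPullback (P := @Surjective) (isPullback_whiskerLeft_left f Y).flip h

theorem universallyOpen_whiskerLeft {T T' : Over (Spec (CommRingCat.of k))} (hT : IsFieldPt T)
    (f : T' ⟶ T) (Y : Over (Spec (CommRingCat.of k))) : UniversallyOpen (Y ◁ f).left := by
  obtain ⟨K, _, t, rfl⟩ := hT
  have h : UniversallyOpen (show T'.left ⟶ Spec (CommRingCat.of K) from f.left) := inferInstance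
  exact MorphismProperty.of_isPullback (P := @UniversallyOpen)
    (isPullback_whiskerLeft_left f Y).flip h

theorem isIrreducible_preimage_whiskerLeft {T T' : Over (Spec (CommRingCat.of k))}
    (hT : IsAlgClosedPt T) (hT' : IsFieldPt T') (f : T' ⟶ T)
    (Y : Over (Spec (CommRingCat.of k))) {Z : Set ↥(Y ⊗ T).left} (hZ : IsIrreducible Z) :
    IsIrreducible ((Y ◁ f).left ⁻¹' Z) := by
  haveI := universallyOpen_whiskerLeft hT.isFieldPt f Y
  haveI := hT'.irreducibleSpace
  obtain ⟨K, _, _, t, rfl⟩ := hT
  have h : GeometricallyIrreducible (show T'.left ⟶ Spec (CommRingCat.of K) from f.left) :=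
    FBaseLib.geometricallyIrreducible_of_irreducibleSpace _
  haveI : GeometricallyIrreducible (Y ◁ f).left :=
    MorphismProperty.of_isPullback (P := @GeometricallyIrreducible)
      (isPullback_whiskerLeft_left f Y).flip h
  exact Scheme.Hom.isIrreducible_preimage (Y ◁ f).left (Scheme.Hom.isOpenMap _) hZ

/-- lifting field valued points along a surjective morphism, after a field extension -/
theorem exists_lift_of_surjective {A B T : Over (Spec (CommRingCat.of k))} (φ : A ⟶ B)
    (hφ : Surjective φ.left) (b : T ⟶ B) [Nonempty ↥T.left] :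
    ∃ (T' : Over (Spec (CommRingCat.of k))) (_ : IsFieldPt T') (f : T' ⟶ T) (a' : T' ⟶ A),
      a' ≫ φ = f ≫ b := by
  haveI : Surjective (pullback.fst b.left φ.left) :=
    MorphismProperty.pullback_fst (P := @Surjective) _ _ hφ
  obtain ⟨w, -⟩ := (pullback.fst b.left φ.left).surjective (Classical.arbitrary _)
  have hcomm : ((pullback b.left φ.left).fromSpecResidueField w ≫ pullback.snd b.left φ.left) ≫
      A.hom = (pullback b.left φ.left).fromSpecResidueField w ≫ pullback.fst b.left φ.left ≫
        T.hom := by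
    rw [← Over.w φ, ← Over.w b, Category.assoc, pullback.condition_assoc]
  refine ⟨Over.mk ((pullback b.left φ.left).fromSpecResidueField w ≫
      pullback.fst b.left φ.left ≫ T.hom),
    ⟨(pullback b.left φ.left).residueField w, inferInstance, _, rfl⟩,
    Over.homMk ((pullback b.left φ.left).fromSpecResidueField w ≫ pullback.fst b.left φ.left)
      (by simp),
    Over.homMk ((pullback b.left φ.left).fromSpecResidueField w ≫ pullback.snd b.left φ.left)
      hcomm, ?_⟩
  ext
  simp [pullback.condition]

variable {G X : Over (Spec (CommRingCat.of k))} [GrpObj G] (a : AlgGrp.Action G X)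

theorem surjective_orb (hΦ : Surjective (lift a.act (snd G X)).left)
    (T : Over (Spec (CommRingCat.of k))) (x : T ⟶ X) : Surjective (orb a T x).left :=
  MorphismProperty.of_isPullback (P := @Surjective)
    ((isPullback_orb a T x).map (Over.forget _)).flip hΦ

theorem isPullback_whisker_orb_left {T T' : Over (Spec (CommRingCat.of k))} (f : T' ⟶ T)
    (x : T ⟶ X) :
    IsPullback (orb a T' (f ≫ x)).left (G ◁ f).left (X ◁ f).left (orb a T x).left :=
  (isPullback_whisker_orb a T f x).map (Over.forget _)

end Groth.Agent.Lib.Helper11.ActB
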