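import Mathlib
import Groth.Prelude.Def_AlgGrp
import Groth.Agent.Lib.Helper11.ActB

/-!
# Homogeneous spaces over a field: every point lies in a unique irreducible component (helper11)
-/

set_option autoImplicit false
universe u

open CategoryTheory CategoryTheory.Limits MonoidalCategory CartesianMonoidalCategory MonObj GrpObj
  AlgebraicGeometry
open Groth.Agent.Lib.Helper11.GrpA Groth.Agent.Lib.Helper11.GrpB Groth.Agent.Lib.Helper11.GrpC
  Groth.Agent.Lib.Helper11.GrpD Groth.Agent.Lib.Helper11.GrpG Groth.Agent.Lib.Helper11.ActA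
  Groth.Agent.Lib.Helper11.ActB
open scoped Obj

namespace Groth.Agent.Lib.Helper11.ActC

variable {k : Type u} [Field k]

/-- a point lying over a maximal point of the base change to an algebraically closed field lies in a
unique irreducible component -/
theorem uniqueComp_of_map_isMaxPt {T T' : Over (Spec (CommRingCat.of k))} (hT : IsAlgClosedPt T)
    (hT' : IsFieldPt T') (f : T' ⟶ T) (Y : Over (Spec (CommRingCat.of k)))
    (ζ' : ↥(Y ⊗ T').left) (h : IsMaxPt ((Y ◁ f).left ζ')) : UniqueComp ζ' := by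
  have hC : closure {(Y ◁ f).left ζ'} ∈ irreducibleComponents ↥(Y ⊗ T).left := h
  have hirr : IsIrreducible ((Y ◁ f).left ⁻¹' closure {(Y ◁ f).left ζ'}) :=
    isIrreducible_preimage_whiskerLeft hT hT' f Y hC.1
  have hcl : IsClosed ((Y ◁ f).left ⁻¹' closure {(Y ◁ f).left ζ'}) :=
    isClosed_closure.preimage (Y ◁ f).left.continuous
  have key : ∀ D ∈ irreducibleComponents ↥(Y ⊗ T').left, ζ' ∈ D →
      D = (Y ◁ f).left ⁻¹' closure {(Y ◁ f).left ζ'} := by
    intro D hD hζD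
    obtain ⟨d, hd⟩ := QuasiSober.sober hD.1 (isClosed_of_mem_irreducibleComponents _ hD)
    have h1 : d ⤳ ζ' := hd.specializes hζD
    have h2 : (Y ◁ f).left d ⤳ (Y ◁ f).left ζ' := h1.map (Y ◁ f).left.continuous
    have h3 : closure {(Y ◁ f).left ζ'} ⊆ closure {(Y ◁ f).left d} :=
      specializes_iff_closure_subset.mp h2
    have h4 : closure {(Y ◁ f).left d} ⊆ closure {(Y ◁ f).left ζ'} :=
      hC.2 isIrreducible_singleton.closure h3
    have h5 : d ∈ (Y ◁ f).left ⁻¹' closure {(Y ◁ f).left ζ'} :=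
      h4 (subset_closure rfl)
    have h6 : D ⊆ (Y ◁ f).left ⁻¹' closure {(Y ◁ f).left ζ'} := by
      rw [← hd.def]
      exact hcl.closure_subset_iff.mpr (Set.singleton_subset_iff.mpr h5)
    exact Set.Subset.antisymm h6 (hD.2 hirr h6)
  intro D₁ hD₁ D₂ hD₂ h1 h2
  exact (key D₁ hD₁ h1).trans (key D₂ hD₂ h2).symm

variable {G X : Over (Spec (CommRingCat.of k))} [GrpObj G] (a : AlgGrp.Action G X)

include a in
/-- every point of `X ⊗ T` lies in a unique irreducible component -/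
theorem uniqueComp_tensor_of_action (hΦ : Surjective (lift a.act (snd G X)).left)
    {T : Over (Spec (CommRingCat.of k))} (hT : IsFieldPt T) (y : ↥(X ⊗ T).left) :
    UniqueComp y := by
  -- step 1: an algebraically closed point over `y`
  obtain ⟨T₀, hT₀, c₀, hc₀⟩ : ∃ (T₀ : Over (Spec (CommRingCat.of k))) (_ : IsAlgClosedPt T₀)
      (c₀ : T₀ ⟶ X ⊗ T), ∀ s : ↥T₀.left, c₀.left s = y := by
    let Ω := AlgebraicClosure ((X ⊗ T).left.residueField y)
    let j : Spec (CommRingCat.of Ω) ⟶ (X ⊗ T).left :=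
      Spec.map (CommRingCat.ofHom (algebraMap ((X ⊗ T).left.residueField y) Ω)) ≫
        (X ⊗ T).left.fromSpecResidueField y
    refine ⟨Over.mk (j ≫ (X ⊗ T).hom), ⟨Ω, inferInstance, inferInstance, _, rfl⟩,
      Over.homMk j rfl, ?_⟩
    intro s
    show j s = y
    rw [Scheme.Hom.comp_apply]
    exact Scheme.fromSpecResidueField_apply y _
  haveI := hT₀.isFieldPt.nonempty
  haveI := hT₀.isFieldPt.subsingleton
  let s₀ : ↥T₀.left := Classical.arbitrary _
  obtain ⟨x₀, hx₀⟩ : ∃ x₀ : T₀ ⟶ X, x₀ = c₀ ≫ fst X T := ⟨_, rfl⟩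
  obtain ⟨f₀, hf₀⟩ : ∃ f₀ : T₀ ⟶ T, f₀ = c₀ ≫ snd X T := ⟨_, rfl⟩
  have hyt : (X ◁ f₀).left ((xpt T₀ x₀).left s₀) = y := by
    have h : xpt T₀ x₀ ≫ (X ◁ f₀) = c₀ := by
      rw [xpt, lift_whiskerLeft, Category.id_comp, hx₀, hf₀, lift_comp_fst_snd]
    exact (left_apply_congr h s₀).trans (hc₀ s₀)
  haveI : Flat (X ◁ f₀).left := flat_whiskerLeft hT f₀ X
  rw [← hyt]
  refine uniqueComp_of_generalizing (X ◁ f₀).left.continuous (Flat.generalizingMap _) ?_
  -- step 2: a maximal point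
  haveI : Nonempty ↥(X ⊗ T₀).left := ⟨(xpt T₀ x₀).left s₀⟩
  obtain ⟨ζ, hζ⟩ := exists_isMaxPt ↥(X ⊗ T₀).left
  -- step 3: transitivity
  obtain ⟨T₁, hT₁, c, hc⟩ : ∃ (T₁ : Over (Spec (CommRingCat.of k))) (_ : IsFieldPt T₁)
      (c : T₁ ⟶ X ⊗ T₀), ∀ s : ↥T₁.left, c.left s = ζ :=
    ⟨Tx (X ⊗ T₀) ζ, isFieldPt_Tx _ _, cx (X ⊗ T₀) ζ, cx_left_apply _ _⟩
  haveI := hT₁.nonempty
  obtain ⟨T', hT', f', w, hw⟩ := exists_lift_of_surjective (lift a.act (snd G X)) hΦ
    (lift ((c ≫ snd X T₀) ≫ x₀) (c ≫ fst X T₀))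
  haveI := hT'.nonempty
  let s' : ↥T'.left := Classical.arbitrary _
  have hw1 : actT a (w ≫ fst G X) (w ≫ snd G X) = f' ≫ (c ≫ snd X T₀) ≫ x₀ := by
    have h := congrArg (fun m => m ≫ fst X X) hw
    simp only [Category.assoc, lift_fst] at h
    rw [actT, lift_comp_fst_snd]
    exact h
  have hw2 : w ≫ snd G X = f' ≫ c ≫ fst X T₀ := by
    have h := congrArg (fun m => m ≫ snd X X) hw
    simp only [Category.assoc, lift_snd] at h
    exact h
  -- step 4
  obtain ⟨f, hf⟩ : ∃ f : T' ⟶ T₀, f = f' ≫ c ≫ snd X T₀ := ⟨_, rfl⟩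
  let lamh : ↥(X ⊗ T').left ≃ₜ ↥(X ⊗ T').left :=
    Scheme.homeoOfIso ((Over.forget _).mapIso (lamX a T' (w ≫ fst G X)))
  have hlam : lamh ((xpt T' (w ≫ snd G X)).left s') = (xpt T' (f ≫ x₀)).left s' := by
    have h := xpt_lamX a T' (w ≫ fst G X) (w ≫ snd G X)
    rw [hw1] at h
    have h' : xpt T' (w ≫ snd G X) ≫ (lamX a T' (w ≫ fst G X)).hom = xpt T' (f ≫ x₀) := by
      rw [h, hf]
      simp only [Category.assoc]
    exact left_apply_congr h' s'
  have hpx : (X ◁ f).left ((xpt T' (f ≫ x₀)).left s') = (xpt T₀ x₀).left s₀ := by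
    have h := left_apply_congr (xpt_whiskerLeft T₀ f x₀) s'
    refine h.trans ?_
    show (xpt T₀ x₀).left (f.left s') = (xpt T₀ x₀).left s₀
    rw [Subsingleton.elim (f.left s') s₀]
  have hpζ : (X ◁ f).left ((xpt T' (w ≫ snd G X)).left s') = ζ := by
    have h : xpt T' (w ≫ snd G X) ≫ (X ◁ f) = f' ≫ c := by
      rw [xpt, lift_whiskerLeft, Category.id_comp, hw2, hf, ← comp_lift, lift_comp_fst_snd]
    exact (left_apply_congr h s').trans (hc _)
  -- step 5
  have hU1 : UniqueComp ((xpt T' (w ≫ snd G X)).left s') :=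
    uniqueComp_of_map_isMaxPt hT₀ hT' f X _ (by rw [hpζ]; exact hζ)
  have hU2 : UniqueComp ((xpt T' (f ≫ x₀)).left s') := hlam ▸ uniqueComp_homeo lamh hU1
  haveI : Flat (X ◁ f).left := flat_whiskerLeft hT₀.isFieldPt f X
  rw [← hpx]
  exact uniqueComp_of_generalizing (X ◁ f).left.continuous (Flat.generalizingMap _) hU2

include a in
/-- every point of a homogeneous space lies in a unique irreducible component -/
theorem uniqueComp_of_action (hΦ : Surjective (lift a.act (snd G X)).left) (x : X.left) :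
    UniqueComp x := by
  haveI : Nonempty ↥(Tx X x).left := inferInstance
  let s : ↥(Tx X x).left := Classical.arbitrary _
  have h1 : (fst X (Tx X x)).left ((xpt (Tx X x) (cx X x)).left s) = x :=
    (left_apply_congr (xpt_fst (Tx X x) (cx X x)) s).trans (cx_left_apply X x s)
  haveI : Flat (fst X (Tx X x)).left := flat_fst_of_field X.hom (Tx X x).hom
  rw [← h1]
  exact uniqueComp_of_generalizing (fst X (Tx X x)).left.continuous (Flat.generalizingMap _)
    (uniqueComp_tensor_of_action a hΦ (isFieldPt_Tx X x) _)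

end Groth.Agent.Lib.Helper11.ActC
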