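import Mathlib
import Groth.Prelude.Def_AlgGrp
import Groth.Agent.Lib.Helper11.ActC

/-!
# Homogeneous spaces over a field: components through rational points are geometrically irreducible
(helper11)
-/

set_option autoImplicit false
universe u

open CategoryTheory CategoryTheory.Limits MonoidalCategory CartesianMonoidalCategory MonObj GrpObj
  AlgebraicGeometry
open Groth.Agent.Lib.Helper11.GrpA Groth.Agent.Lib.Helper11.GrpB Groth.Agent.Lib.Helper11.GrpC
  Groth.Agent.Lib.Helper11.GrpD Groth.Agent.Lib.Helper11.GrpG Groth.Agent.Lib.Helper11.ActA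
  Groth.Agent.Lib.Helper11.ActB Groth.Agent.Lib.Helper11.ActC
  Groth.Agent.Lib.Helper11.BcLevels
open scoped Obj

namespace Groth.Agent.Lib.Helper11.ActD

variable {k : Type u} [Field k]
variable {G X : Over (Spec (CommRingCat.of k))} [GrpObj G] (a : AlgGrp.Action G X)

theorem rational_left_hom (x : 𝟙_ (Over (Spec (CommRingCat.of k))) ⟶ X) :
    x.left ≫ X.hom = 𝟙 (Spec (CommRingCat.of k)) := by
  have := Over.w x
  simpa using this

include a in
theorem isIrreducible_preimage_component_algClosure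
    (hΦ : Surjective (lift a.act (snd G X)).left)
    (x : 𝟙_ (Over (Spec (CommRingCat.of k))) ⟶ X) (pt : ↥(Spec (CommRingCat.of k)))
    (C : Set ↥X.left) (hC : C ∈ irreducibleComponents ↥X.left) (hx : x.left pt ∈ C) :
    IsIrreducible ((FBase.bcπ X.hom (AlgebraicClosure k)) ⁻¹' C) := by
  obtain ⟨h1, h2⟩ := GalOrbit.orbit_components X.hom (AlgebraicClosure k) C hC
  let s := Spec.map (CommRingCat.ofHom (algebraMap k (AlgebraicClosure k)))
  have hU : ∀ y : ↥(FBase.bc X.hom (AlgebraicClosure k)), UniqueComp y :=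
    fun y => uniqueComp_tensor_of_action a hΦ (T := Over.mk s)
      ⟨AlgebraicClosure k, inferInstance, s, rfl⟩ y
  haveI : Surjective (FBase.bcπ X.hom (AlgebraicClosure k)) := surjective_fst_of_field X.hom s
  obtain ⟨e', he'⟩ := (FBase.bcπ X.hom (AlgebraicClosure k)).surjective (x.left pt)
  have huniq : ∀ z : ↥(FBase.bc X.hom (AlgebraicClosure k)),
      (FBase.bcπ X.hom (AlgebraicClosure k)) z = x.left pt → z = e' := fun z hz =>
    eq_of_fst_eq_rational X.hom s x.left (rational_left_hom x) pt z e' hz he'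
  have he'Z : e' ∈ (FBase.bcπ X.hom (AlgebraicClosure k)) ⁻¹' C := by
    show (FBase.bcπ X.hom (AlgebraicClosure k)) e' ∈ C
    rw [he']; exact hx
  rw [h1] at he'Z
  obtain ⟨T₀, ⟨hT₀, hT₀Z⟩, he'T₀⟩ := he'Z
  have hall : ∀ T' : Set ↥(FBase.bc X.hom (AlgebraicClosure k)),
      T' ∈ irreducibleComponents ↥(FBase.bc X.hom (AlgebraicClosure k)) →
      (FBase.bcπ X.hom (AlgebraicClosure k)) '' T' ⊆ C → T' = T₀ := by
    intro T' hT' hT'Z
    obtain ⟨σ, hσ⟩ := h2 T₀ T' hT₀ hT' hT₀Z hT'Z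
    have hm : (bcHom X.hom (σ : AlgebraicClosure k →ₐ[k] AlgebraicClosure k)) e' ∈ T' :=
      hσ ▸ ⟨e', he'T₀, rfl⟩
    have hfix : (bcHom X.hom (σ : AlgebraicClosure k →ₐ[k] AlgebraicClosure k)) e' = e' :=
      huniq _ (by rw [bcHom_π_apply]; exact he')
    rw [hfix] at hm
    exact hU e' T' hT' T₀ hT₀ hm he'T₀
  have hEq : (FBase.bcπ X.hom (AlgebraicClosure k)) ⁻¹' C = T₀ := by
    rw [h1]
    apply Set.Subset.antisymm
    · rintro y ⟨T', ⟨hT', hT'Z⟩, hy⟩
      rw [← hall T' hT' hT'Z]; exact hy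
    · intro y hy
      exact ⟨T₀, ⟨hT₀, hT₀Z⟩, hy⟩
  rw [hEq]
  exact hT₀.1

include a in
theorem isIrreducible_preimage_component
    (hΦ : Surjective (lift a.act (snd G X)).left)
    (x : 𝟙_ (Over (Spec (CommRingCat.of k))) ⟶ X) (pt : ↥(Spec (CommRingCat.of k)))
    (C : Set ↥X.left) (hC : C ∈ irreducibleComponents ↥X.left) (hx : x.left pt ∈ C)
    (K : Type u) [Field K] [Algebra k K] :
    IsIrreducible ((FBase.bcπ X.hom K) ⁻¹' C) :=
  GalOrbit.isIrreducible_preimage_of_isSepClosed X.hom C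
    (isClosed_of_mem_irreducibleComponents _ hC) (AlgebraicClosure k)
    (isIrreducible_preimage_component_algClosure a hΦ x pt C hC hx) K

include a in
theorem isIrreducible_preimage_component'
    (hΦ : Surjective (lift a.act (snd G X)).left)
    (x : 𝟙_ (Over (Spec (CommRingCat.of k))) ⟶ X) (pt : ↥(Spec (CommRingCat.of k)))
    (C : Set ↥X.left) (hC : C ∈ irreducibleComponents ↥X.left) (hx : x.left pt ∈ C)
    {T : Over (Spec (CommRingCat.of k))} (hT : IsFieldPt T) :
    IsIrreducible ((fst X T).left ⁻¹' C) := by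
  obtain ⟨K, _, t, rfl⟩ := hT
  obtain ⟨φ, rfl⟩ := Spec.map_surjective t
  letI := φ.hom.toAlgebra
  exact isIrreducible_preimage_component a hΦ x pt C hC hx K

end Groth.Agent.Lib.Helper11.ActD
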