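import Mathlib
import Groth.Prelude.Def_AlgGrp
import Groth.Agent.Lib.Helper11.ActD

/-!
# Homogeneous spaces over a field: orbits of the unit component are dense in components (helper11)
-/

set_option autoImplicit false
universe u

open CategoryTheory CategoryTheory.Limits MonoidalCategory CartesianMonoidalCategory MonObj GrpObj
  AlgebraicGeometry
open Groth.Agent.Lib.Helper11.GrpA Groth.Agent.Lib.Helper11.GrpB Groth.Agent.Lib.Helper11.GrpC
  Groth.Agent.Lib.Helper11.GrpD Groth.Agent.Lib.Helper11.GrpG Groth.Agent.Lib.Helper11.ActA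
  Groth.Agent.Lib.Helper11.ActB Groth.Agent.Lib.Helper11.ActC
open scoped Obj

namespace Groth.Agent.Lib.Helper11.ActE

variable {k : Type u} [Field k]

section Grp

variable (G : Over (Spec (CommRingCat.of k))) [GrpObj G] (pt : ↥(Spec (CommRingCat.of k)))
  (Z : Set ↥G.left) (hZ : Z ∈ irreducibleComponents ↥G.left) (he : η[G].left pt ∈ Z)

include hZ he in
theorem preimage_unit_component_mem' {T : Over (Spec (CommRingCat.of k))} (hT : IsFieldPt T) :
    (fst G T).left ⁻¹' Z ∈ irreducibleComponents ↥(G ⊗ T).left := by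
  obtain ⟨K, _, t, rfl⟩ := hT
  exact preimage_unit_component_mem G pt Z hZ he K t

theorem uniqueComp_tensor' {T : Over (Spec (CommRingCat.of k))} (hT : IsFieldPt T)
    (y : ↥(G ⊗ T).left) : UniqueComp y := by
  obtain ⟨K, _, t, rfl⟩ := hT
  exact uniqueComp_tensor G K t y

end Grp

variable {G X : Over (Spec (CommRingCat.of k))} [GrpObj G] (a : AlgGrp.Action G X)
  (pt : ↥(Spec (CommRingCat.of k)))
  (Z : Set ↥G.left) (hZ : Z ∈ irreducibleComponents ↥G.left) (he : η[G].left pt ∈ Z)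

include hZ he in
/-- density over an algebraically closed point -/
theorem closure_orb_mem_of_isAlgClosedPt (hΦ : Surjective (lift a.act (snd G X)).left)
    {T : Over (Spec (CommRingCat.of k))} (hT : IsAlgClosedPt T) (y : T ⟶ X) :
    closure ((orb a T y).left '' ((fst G T).left ⁻¹' Z)) ∈
      irreducibleComponents ↥(X ⊗ T).left := by
  have hZT := preimage_unit_component_mem' G pt Z hZ he hT.isFieldPt
  have hFirr : IsIrreducible (closure ((orb a T y).left '' ((fst G T).left ⁻¹' Z))) :=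
    (hZT.1.image _ (orb a T y).left.continuous.continuousOn).closure
  obtain ⟨C, hC, hFC⟩ := exists_mem_irreducibleComponents_subset_of_isIrreducible _ hFirr
  obtain ⟨ξ, hξ⟩ := QuasiSober.sober hC.1 (isClosed_of_mem_irreducibleComponents _ hC)
  haveI := surjective_orb a hΦ T y
  obtain ⟨δ, hδ⟩ := (orb a T y).left.surjective ξ
  -- the point `δ` as a field valued point
  obtain ⟨T', hT', c, hc⟩ : ∃ (T' : Over (Spec (CommRingCat.of k))) (_ : IsFieldPt T')
      (c : T' ⟶ G ⊗ T), ∀ s : ↥T'.left, c.left s = δ :=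
    ⟨Tx (G ⊗ T) δ, isFieldPt_Tx _ _, cx (G ⊗ T) δ, cx_left_apply _ _⟩
  haveI := hT'.nonempty
  let s' : ↥T'.left := Classical.arbitrary _
  obtain ⟨g, hg⟩ : ∃ g : T' ⟶ G, g = c ≫ fst G T := ⟨_, rfl⟩
  obtain ⟨f, hf⟩ : ∃ f : T' ⟶ T, f = c ≫ snd G T := ⟨_, rfl⟩
  have hsq := isPullback_whisker_orb_left a f y
  have hZ' := preimage_unit_component_mem' G pt Z hZ he hT'
  have hqZ : ∀ w : ↥(G ⊗ T').left, (fst G T).left ((G ◁ f).left w) = (fst G T').left w :=
    fun w => left_apply_congr (whiskerLeft_fst G f) w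
  let lamh : ↥(G ⊗ T').left ≃ₜ ↥(G ⊗ T').left :=
    Scheme.homeoOfIso ((Over.forget _).mapIso (lamIso T' g).symm)
  let lamXh : ↥(X ⊗ T').left ≃ₜ ↥(X ⊗ T').left :=
    Scheme.homeoOfIso ((Over.forget _).mapIso (lamX a T' g))
  have hlo : ∀ w : ↥(G ⊗ T').left,
      (orb a T' (f ≫ y)).left (lamh w) = lamXh ((orb a T' (f ≫ y)).left w) :=
    fun w => left_apply_congr (lam_orb a T' (f ≫ y) g) w
  have hsqc : ∀ w : ↥(G ⊗ T').left,
      (X ◁ f).left ((orb a T' (f ≫ y)).left w) = (orb a T y).left ((G ◁ f).left w) :=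
    fun w => (left_apply_congr (whisker_orb a T f y) w).symm
  -- the rational point `g̃`
  have hqg : (G ◁ f).left ((tpt T' g).left s') = δ := by
    have h : tpt T' g ≫ (G ◁ f) = c := by
      rw [tpt, lift_whiskerLeft, Category.id_comp, hg, hf, lift_comp_fst_snd]
    exact (left_apply_congr h s').trans (hc _)
  have heZ' : (tpt T' (1 : T' ⟶ G)).left s' ∈ (fst G T').left ⁻¹' Z := by
    show (fst G T').left ((tpt T' (1 : T' ⟶ G)).left s') ∈ Z
    rw [show (fst G T').left ((tpt T' (1 : T' ⟶ G)).left s') = η[G].left pt from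
      (left_apply_congr (tpt_fst T' (1 : T' ⟶ G)) s').trans (one_left_apply G pt T' s')]
    exact he
  have hlamE : lamh ((tpt T' (1 : T' ⟶ G)).left s') = (tpt T' g).left s' := by
    have h1 : tpt T' g ≫ (lamIso T' g).hom = tpt T' (1 : T' ⟶ G) := by
      rw [tpt_lam, inv_mul_cancel]
    have h2 : tpt T' (1 : T' ⟶ G) ≫ (lamIso T' g).inv = tpt T' g := by
      rw [← h1, Category.assoc, Iso.hom_inv_id, Category.comp_id]
    exact left_apply_congr h2 s'
  -- claim 2
  have hDirr : IsIrreducible ((G ◁ f).left ⁻¹' closure {δ}) :=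
    isIrreducible_preimage_whiskerLeft hT hT' f G isIrreducible_singleton.closure
  have hclaim2 : (G ◁ f).left ⁻¹' closure {δ} ⊆ lamh '' ((fst G T').left ⁻¹' Z) := by
    obtain ⟨D'', hD'', hsub⟩ := exists_mem_irreducibleComponents_subset_of_isIrreducible _ hDirr
    have h1 : (tpt T' g).left s' ∈ D'' := hsub (by
      show (G ◁ f).left ((tpt T' g).left s') ∈ closure {δ}
      rw [hqg]; exact subset_closure rfl)
    have h2 : lamh '' ((fst G T').left ⁻¹' Z) ∈ irreducibleComponents ↥(G ⊗ T').left :=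
      image_mem_irreducibleComponents_homeo lamh hZ'
    have h3 : (tpt T' g).left s' ∈ lamh '' ((fst G T').left ⁻¹' Z) := ⟨_, heZ', hlamE⟩
    have := uniqueComp_tensor' G hT' ((tpt T' g).left s') D'' hD'' _ h2 h1 h3
    rw [← this]; exact hsub
  -- the component `C'`
  have hC'irr : IsIrreducible ((X ◁ f).left ⁻¹' C) :=
    isIrreducible_preimage_whiskerLeft hT hT' f X hC.1
  haveI := surjective_whiskerLeft hT.isFieldPt hT' f X
  have hC' : (X ◁ f).left ⁻¹' C ∈ irreducibleComponents ↥(X ⊗ T').left :=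
    preimage_mem_irreducibleComponents (X ◁ f).left.continuous (X ◁ f).left.surjective hC hC'irr
  haveI := universallyOpen_whiskerLeft hT.isFieldPt f X
  have hpopen : IsOpenMap (X ◁ f).left := (X ◁ f).left.isOpenMap
  have hF'cl : IsClosed (lamXh ''
      ((X ◁ f).left ⁻¹' closure ((orb a T y).left '' ((fst G T).left ⁻¹' Z)))) :=
    lamXh.isClosedMap _ (isClosed_closure.preimage (X ◁ f).left.continuous)
  have hkey : (X ◁ f).left ⁻¹' C ⊆ lamXh ''
      ((X ◁ f).left ⁻¹' closure ((orb a T y).left '' ((fst G T).left ⁻¹' Z))) := by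
    rw [← hξ.def]
    refine (hpopen.preimage_closure_subset_closure_preimage).trans ?_
    refine hF'cl.closure_subset_iff.mpr ?_
    intro x' hx'
    have hx'' : (X ◁ f).left x' = ξ := hx'
    obtain ⟨w', hw1, hw2⟩ := Scheme.exists_preimage_of_isPullback hsq x' δ (hx''.trans hδ.symm)
    have hw3 : w' ∈ (G ◁ f).left ⁻¹' closure {δ} := by
      show (G ◁ f).left w' ∈ closure {δ}
      rw [hw2]; exact subset_closure rfl
    obtain ⟨z', hz', hzw⟩ := hclaim2 hw3
    refine ⟨(orb a T' (f ≫ y)).left z', ?_, ?_⟩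
    · show (X ◁ f).left ((orb a T' (f ≫ y)).left z') ∈ closure _
      rw [hsqc]
      refine subset_closure ⟨(G ◁ f).left z', ?_, rfl⟩
      show (fst G T).left ((G ◁ f).left z') ∈ Z
      rw [hqZ]; exact hz'
    · rw [← hlo, hzw]; exact hw1
  have hF'C' : (X ◁ f).left ⁻¹' closure ((orb a T y).left '' ((fst G T).left ⁻¹' Z)) ⊆
      (X ◁ f).left ⁻¹' C := Set.preimage_mono hFC
  have hlamC' : lamXh '' ((X ◁ f).left ⁻¹' C) ⊆ (X ◁ f).left ⁻¹' C :=
    hC'.2 (hC'irr.image lamXh lamXh.continuous.continuousOn)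
      (hkey.trans (Set.image_mono hF'C'))
  have hCF : C ⊆ closure ((orb a T y).left '' ((fst G T).left ⁻¹' Z)) := by
    intro x hx
    obtain ⟨x', rfl⟩ := (X ◁ f).left.surjective x
    obtain ⟨u, hu, hux⟩ := hkey (hlamC' ⟨x', hx, rfl⟩)
    have : u = x' := lamXh.injective hux
    rw [← this]; exact hu
  rw [Set.Subset.antisymm hFC hCF]
  exact hC

include hZ he in
/-- orbits of the unit component are dense in irreducible components -/
theorem closure_orb_mem (hΦ : Surjective (lift a.act (snd G X)).left)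
    {T : Over (Spec (CommRingCat.of k))} (hT : IsFieldPt T) (y : T ⟶ X) :
    closure ((orb a T y).left '' ((fst G T).left ⁻¹' Z)) ∈
      irreducibleComponents ↥(X ⊗ T).left := by
  obtain ⟨T₀, hT₀, f₀⟩ : ∃ (T₀ : Over (Spec (CommRingCat.of k))) (_ : IsAlgClosedPt T₀),
      Nonempty (T₀ ⟶ T) := by
    obtain ⟨K, _, t, rfl⟩ := hT
    exact ⟨Over.mk (Spec.map (CommRingCat.ofHom (algebraMap K (AlgebraicClosure K))) ≫ t),
      ⟨AlgebraicClosure K, inferInstance, inferInstance, _, rfl⟩,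
      ⟨Over.homMk (Spec.map (CommRingCat.ofHom (algebraMap K (AlgebraicClosure K)))) rfl⟩⟩
  obtain ⟨f₀⟩ := f₀
  have hA₀ := closure_orb_mem_of_isAlgClosedPt a pt Z hZ he hΦ hT₀ (f₀ ≫ y)
  haveI := surjective_whiskerLeft hT hT₀.isFieldPt f₀ G
  haveI : Flat (X ◁ f₀).left := flat_whiskerLeft hT f₀ X
  have hqZ : ∀ w : ↥(G ⊗ T₀).left, (fst G T).left ((G ◁ f₀).left w) = (fst G T₀).left w :=
    fun w => left_apply_congr (whiskerLeft_fst G f₀) w
  have hsqc : ∀ w : ↥(G ⊗ T₀).left,
      (X ◁ f₀).left ((orb a T₀ (f₀ ≫ y)).left w) = (orb a T y).left ((G ◁ f₀).left w) :=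
    fun w => (left_apply_congr (whisker_orb a T f₀ y) w).symm
  have himg : (orb a T y).left '' ((fst G T).left ⁻¹' Z) =
      (X ◁ f₀).left '' ((orb a T₀ (f₀ ≫ y)).left '' ((fst G T₀).left ⁻¹' Z)) := by
    ext x
    constructor
    · rintro ⟨z, hz, rfl⟩
      obtain ⟨z₀, rfl⟩ := (G ◁ f₀).left.surjective z
      refine ⟨_, ⟨z₀, ?_, rfl⟩, hsqc z₀⟩
      show (fst G T₀).left z₀ ∈ Z
      rw [← hqZ]; exact hz
    · rintro ⟨_, ⟨z₀, hz₀, rfl⟩, rfl⟩
      refine ⟨(G ◁ f₀).left z₀, ?_, (hsqc z₀).symm⟩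
      show (fst G T).left ((G ◁ f₀).left z₀) ∈ Z
      rw [hqZ]; exact hz₀
  obtain ⟨α₀, hα₀⟩ := QuasiSober.sober hA₀.1 (isClosed_of_mem_irreducibleComponents _ hA₀)
  have hmax : IsMaxPt α₀ := by
    show closure {α₀} ∈ irreducibleComponents _
    rw [hα₀.def]; exact hA₀
  have hmax' : IsMaxPt ((X ◁ f₀).left α₀) :=
    isMaxPt_map_of_generalizing (X ◁ f₀).left.continuous (Flat.generalizingMap _) hmax
  have hEq : closure {(X ◁ f₀).left α₀} =
      closure ((orb a T y).left '' ((fst G T).left ⁻¹' Z)) := by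
    rw [himg, ← closure_image_closure (X ◁ f₀).left.continuous
      (s := (orb a T₀ (f₀ ≫ y)).left '' ((fst G T₀).left ⁻¹' Z)), ← hα₀.def,
      closure_image_closure (X ◁ f₀).left.continuous, Set.image_singleton]
  rw [← hEq]
  exact hmax'

include hZ he in
/-- the image of the generic point of the unit component under an orbit map is a maximal point -/
theorem isMaxPt_orb_generic (hΦ : Surjective (lift a.act (snd G X)).left)
    {T : Over (Spec (CommRingCat.of k))} (hT : IsFieldPt T) (y : T ⟶ X)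
    (gam : ↥(G ⊗ T).left) (hγ : IsGenericPoint gam ((fst G T).left ⁻¹' Z)) :
    IsMaxPt ((orb a T y).left gam) := by
  show closure {(orb a T y).left gam} ∈ irreducibleComponents _
  have := closure_orb_mem a pt Z hZ he hΦ hT y
  rw [← hγ.def, closure_image_closure (orb a T y).left.continuous, Set.image_singleton] at this
  exact this

end Groth.Agent.Lib.Helper11.ActE
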