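import Mathlib
import Groth.Prelude.Def_AlgGrp
import Groth.Agent.Lib.Helper11.ActE

/-!
# Homogeneous spaces over a field: translates of opens by the unit component (helper11)
-/

set_option autoImplicit false
universe u

open CategoryTheory CategoryTheory.Limits MonoidalCategory CartesianMonoidalCategory MonObj GrpObj
  AlgebraicGeometry
open Groth.Agent.Lib.Helper11.GrpA Groth.Agent.Lib.Helper11.GrpB Groth.Agent.Lib.Helper11.GrpC
  Groth.Agent.Lib.Helper11.GrpD Groth.Agent.Lib.Helper11.GrpE Groth.Agent.Lib.Helper11.GrpG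
  Groth.Agent.Lib.Helper11.ActA
  Groth.Agent.Lib.Helper11.ActB Groth.Agent.Lib.Helper11.ActC Groth.Agent.Lib.Helper11.ActE
open scoped Obj

namespace Groth.Agent.Lib.Helper11.ActF

section Spec

theorem exists_comap_specializes {R S : Type*} [CommRing R] [CommRing S] (φ : R →+* S)
    (x : PrimeSpectrum R) (hx : x ∈ closure (Set.range (PrimeSpectrum.comap φ))) :
    ∃ q : PrimeSpectrum S, PrimeSpectrum.comap φ q ⤳ x := by
  rw [PrimeSpectrum.closure_range_comap] at hx
  have hle : (⊥ : Ideal S).comap φ ≤ x.asIdeal := by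
    intro r hr
    exact hx (by rwa [RingHom.ker_eq_comap_bot])
  obtain ⟨Q, -, hQ, hQle⟩ := Ideal.exists_ideal_comap_le_prime x.asIdeal (⊥ : Ideal S) hle
  exact ⟨⟨Q, hQ⟩, (PrimeSpectrum.le_iff_specializes ⟨Q.comap φ, inferInstance⟩ x).mp hQle⟩

theorem exists_specializes_of_mem_closure_range {A : Scheme.{u}} [CompactSpace A]
    {R : CommRingCat.{u}} (f : A ⟶ Spec R) (x : ↥(Spec R))
    (hx : x ∈ closure (Set.range f)) : ∃ a : A, f a ⤳ x := by
  obtain ⟨R', g, hg⟩ := compactSpace_iff_exists.mp ‹CompactSpace A›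
  obtain ⟨φ, hφ⟩ := Spec.map_surjective (g ≫ f)
  have hr : Set.range (PrimeSpectrum.comap φ.hom) = Set.range f := by
    ext z
    constructor
    · rintro ⟨q, rfl⟩
      refine ⟨g q, ?_⟩
      have : (g ≫ f) q = (Spec.map φ) q := by rw [hφ]
      rw [Scheme.Hom.comp_apply] at this
      exact this
    · rintro ⟨a, rfl⟩
      obtain ⟨q, rfl⟩ := hg a
      refine ⟨q, ?_⟩
      have : (g ≫ f) q = (Spec.map φ) q := by rw [hφ]
      rw [Scheme.Hom.comp_apply] at this
      exact this.symm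
  obtain ⟨q, hq⟩ := exists_comap_specializes φ.hom x (by rw [hr]; exact hx)
  refine ⟨g q, ?_⟩
  have : (g ≫ f) q = (Spec.map φ) q := by rw [hφ]
  rw [Scheme.Hom.comp_apply] at this
  rw [this]
  exact hq

theorem exists_specializes_of_mem_closure {Y : Scheme.{u}} (W : Y.Opens) (hW : IsAffineOpen W)
    (U : Y.Opens) (hUc : IsCompact ((U : Set Y) ∩ W)) (x : Y) (hxW : x ∈ W)
    (hx : x ∈ closure (U : Set Y)) : ∃ u ∈ U, u ⤳ x := by
  have hjr : Set.range hW.fromSpec = W := hW.range_fromSpec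
  obtain ⟨x₀, rfl⟩ : x ∈ Set.range hW.fromSpec := hjr ▸ hxW
  have hcpt : IsCompact ((hW.fromSpec ⁻¹ᵁ U : (Spec Γ(Y, W)).Opens) : Set ↥(Spec Γ(Y, W))) := by
    have h1 : ((hW.fromSpec ⁻¹ᵁ U : (Spec Γ(Y, W)).Opens) : Set ↥(Spec Γ(Y, W))) =
        hW.fromSpec ⁻¹' ((U : Set Y) ∩ W) := by
      ext z
      constructor
      · intro hz
        exact ⟨hz, hjr ▸ Set.mem_range_self z⟩
      · intro hz
        exact hz.1
    rw [h1]
    exact hW.fromSpec.isOpenEmbedding.isInducing.isCompact_preimage'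
      hUc (by rw [hjr]; exact Set.inter_subset_right)
  haveI : CompactSpace ↥((hW.fromSpec ⁻¹ᵁ U : (Spec Γ(Y, W)).Opens) : Scheme) :=
    isCompact_iff_compactSpace.mp hcpt
  have hx₀ : x₀ ∈ closure (Set.range (hW.fromSpec ⁻¹ᵁ U).ι) := by
    rw [Scheme.Opens.range_ι]
    exact hW.fromSpec.isOpenEmbedding.isOpenMap.preimage_closure_subset_closure_preimage hx
  obtain ⟨a', ha'⟩ := exists_specializes_of_mem_closure_range (hW.fromSpec ⁻¹ᵁ U).ι x₀ hx₀
  exact ⟨hW.fromSpec ((hW.fromSpec ⁻¹ᵁ U).ι a'), a'.2, ha'.map hW.fromSpec.continuous⟩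

end Spec

variable {k : Type u} [Field k]
variable {G X : Over (Spec (CommRingCat.of k))} [GrpObj G] (a : AlgGrp.Action G X)
  (pt : ↥(Spec (CommRingCat.of k)))
  (Z : Set ↥G.left) (hZ : Z ∈ irreducibleComponents ↥G.left) (he : η[G].left pt ∈ Z)

include hZ he in
/-- irreducible components are stable under the unit component -/
theorem exists_component_of_mem_act (ζ : ↥(G ⊗ X).left) (h1 : (fst G X).left ζ ∈ Z) :
    ∃ C ∈ irreducibleComponents ↥X.left, (snd G X).left ζ ∈ C ∧ a.act.left ζ ∈ C := by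
  obtain ⟨T, hT, c, hc⟩ : ∃ (T : Over (Spec (CommRingCat.of k))) (_ : IsFieldPt T)
      (c : T ⟶ G ⊗ X), ∀ s : ↥T.left, c.left s = ζ :=
    ⟨Tx (G ⊗ X) ζ, isFieldPt_Tx _ _, cx (G ⊗ X) ζ, cx_left_apply _ _⟩
  haveI := hT.nonempty
  let s₀ : ↥T.left := Classical.arbitrary _
  have hZTirr : IsIrreducible ((fst G T).left ⁻¹' Z) :=
    (preimage_unit_component_mem' G pt Z hZ he hT).1
  have hact : actT a (c ≫ fst G X) (c ≫ snd G X) = c ≫ a.act := by
    rw [actT, lift_comp_fst_snd]
  have hpa : (fst G T).left ((tpt T (c ≫ fst G X)).left s₀) ∈ Z := by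
    rw [show (fst G T).left ((tpt T (c ≫ fst G X)).left s₀) = (fst G X).left (c.left s₀) from
      left_apply_congr (tpt_fst T (c ≫ fst G X)) s₀, hc]
    exact h1
  have hpe : (fst G T).left ((tpt T (1 : T ⟶ G)).left s₀) ∈ Z := by
    rw [show (fst G T).left ((tpt T (1 : T ⟶ G)).left s₀) = η[G].left pt from
      (left_apply_congr (tpt_fst T (1 : T ⟶ G)) s₀).trans (one_left_apply G pt T s₀)]
    exact he
  have hfa : (orb a T (c ≫ snd G X) ≫ fst X T).left ((tpt T (c ≫ fst G X)).left s₀) =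
      a.act.left ζ := by
    have h : tpt T (c ≫ fst G X) ≫ orb a T (c ≫ snd G X) ≫ fst X T = c ≫ a.act := by
      rw [← Category.assoc, tpt_orb, xpt_fst, hact]
    refine (left_apply_congr h s₀).trans ?_
    show a.act.left (c.left s₀) = _
    rw [hc]
  have hfe : (orb a T (c ≫ snd G X) ≫ fst X T).left ((tpt T (1 : T ⟶ G)).left s₀) =
      (snd G X).left ζ := by
    have h : tpt T (1 : T ⟶ G) ≫ orb a T (c ≫ snd G X) ≫ fst X T = c ≫ snd G X := by
      rw [← Category.assoc, tpt_orb, xpt_fst, one_actT]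
    refine (left_apply_congr h s₀).trans ?_
    show (snd G X).left (c.left s₀) = _
    rw [hc]
  have hI : IsIrreducible ((orb a T (c ≫ snd G X) ≫ fst X T).left '' ((fst G T).left ⁻¹' Z)) :=
    hZTirr.image _ (orb a T (c ≫ snd G X) ≫ fst X T).left.continuous.continuousOn
  obtain ⟨C, hC, hIC⟩ := exists_mem_irreducibleComponents_subset_of_isIrreducible _ hI
  exact ⟨C, hC, hIC ⟨_, hpe, hfe⟩, hIC ⟨_, hpa, hfa⟩⟩

include hZ he in
/-- a component whose generic point lies in `U` is contained in `Z · U` -/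
theorem mem_act_of_mem_component (hΦ : Surjective (lift a.act (snd G X)).left)
    (U : X.left.Opens) (ξ : X.left) (hξU : ξ ∈ U) (hξ : closure {ξ} ∈ irreducibleComponents ↥X.left)
    (y : X.left) (hy : y ∈ closure {ξ}) :
    ∃ ζ : ↥(G ⊗ X).left, (fst G X).left ζ ∈ Z ∧ (snd G X).left ζ ∈ U ∧ a.act.left ζ = y := by
  obtain ⟨T, hT, c, hc⟩ : ∃ (T : Over (Spec (CommRingCat.of k))) (_ : IsFieldPt T)
      (c : T ⟶ X), ∀ s : ↥T.left, c.left s = y :=
    ⟨Tx X y, isFieldPt_Tx _ _, cx X y, cx_left_apply _ _⟩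
  haveI := hT.nonempty
  let s₀ : ↥T.left := Classical.arbitrary _
  have hZT := preimage_unit_component_mem' G pt Z hZ he hT
  obtain ⟨gam, hgam⟩ := QuasiSober.sober hZT.1 (isClosed_of_mem_irreducibleComponents _ hZT)
  have hmax := isMaxPt_orb_generic a pt Z hZ he hΦ hT c gam hgam
  haveI : Flat (fst X T).left := flat_fst_of_field X.hom T.hom
  have hmax' : IsMaxPt ((fst X T).left ((orb a T c).left gam)) :=
    isMaxPt_map_of_generalizing (fst X T).left.continuous (Flat.generalizingMap _) hmax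
  have hpe : (tpt T (1 : T ⟶ G)).left s₀ ∈ (fst G T).left ⁻¹' Z := by
    show (fst G T).left ((tpt T (1 : T ⟶ G)).left s₀) ∈ Z
    rw [show (fst G T).left ((tpt T (1 : T ⟶ G)).left s₀) = η[G].left pt from
      (left_apply_congr (tpt_fst T (1 : T ⟶ G)) s₀).trans (one_left_apply G pt T s₀)]
    exact he
  have hfe : (orb a T c ≫ fst X T).left ((tpt T (1 : T ⟶ G)).left s₀) = y := by
    have h : tpt T (1 : T ⟶ G) ≫ orb a T c ≫ fst X T = c := by
      rw [← Category.assoc, tpt_orb, xpt_fst, one_actT]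
    exact (left_apply_congr h s₀).trans (hc _)
  have hspec : (orb a T c ≫ fst X T).left gam ⤳ y := by
    rw [← hfe]
    exact (hgam.specializes hpe).map (orb a T c ≫ fst X T).left.continuous
  have hyC : y ∈ closure {(fst X T).left ((orb a T c).left gam)} :=
    specializes_iff_mem_closure.mp hspec
  have hEq : closure {(fst X T).left ((orb a T c).left gam)} = closure {ξ} :=
    uniqueComp_of_action a hΦ y _ hmax' _ hξ hyC hy
  have hξmem : ξ ∈ closure {(fst X T).left ((orb a T c).left gam)} := by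
    rw [hEq]; exact subset_closure rfl
  have hωU : (fst X T).left ((orb a T c).left gam) ∈ U :=
    (specializes_iff_mem_closure.mpr hξmem).mem_open U.isOpen hξU
  have hgamZ : (fst G T).left gam ∈ Z := hgam.mem
  refine ⟨(thetaX a T c).left gam, ?_, ?_, ?_⟩
  · have h := left_apply_congr (thetaX_fst a T c) gam
    show (fst G X).left ((thetaX a T c).left gam) ∈ Z
    rw [show (fst G X).left ((thetaX a T c).left gam) = ι[G].left ((fst G T).left gam) from h]
    exact inv_mem_unit_component G pt Z hZ he hgamZ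
  · have h := left_apply_congr (thetaX_snd a T c) gam
    show (snd G X).left ((thetaX a T c).left gam) ∈ U
    rw [show (snd G X).left ((thetaX a T c).left gam) =
      (fst X T).left ((orb a T c).left gam) from h]
    exact hωU
  · have h := left_apply_congr (thetaX_act a T c) gam
    show a.act.left ((thetaX a T c).left gam) = y
    rw [show a.act.left ((thetaX a T c).left gam) = c.left ((snd G T).left gam) from h]
    exact hc _

/-- `Z · U` is open -/
theorem isOpen_act (hZc : IsClosed Z) (U : X.left.Opens) :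
    IsOpen (a.act.left '' ((fst G X).left ⁻¹' Z ∩ (snd G X).left ⁻¹' (U : Set ↥X.left))) := by
  obtain ⟨Zs, i, _, hr⟩ := exists_closedSubscheme Z hZc
  let j : pullback (i ≫ G.hom) X.hom ⟶ pullback G.hom X.hom :=
    pullback.map _ _ _ _ i (𝟙 _) (𝟙 _) (by simp) (by simp)
  have hj : Set.range j = (fst G X).left ⁻¹' Z := by
    have h := Scheme.Pullback.range_map (i ≫ G.hom) X.hom G.hom X.hom i (𝟙 _) (𝟙 _)
      (by simp) (by simp)
    rw [hr] at h
    refine h.trans ?_
    have : Set.range (𝟙 X.left : X.left ⟶ X.left) = Set.univ := by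
      ext x; simp
    rw [this, Set.preimage_univ, Set.inter_univ]
    rfl
  have hj2 : j ≫ (snd G X).left = pullback.snd (i ≫ G.hom) X.hom :=
    (pullback.lift_snd _ _ _).trans (Category.comp_id _)
  haveI : UniversallyOpen (i ≫ G.hom) := inferInstance
  have hopen : IsOpenMap (pullback.snd (i ≫ G.hom) X.hom) :=
    (pullback.snd (i ≫ G.hom) X.hom).isOpenMap
  let shh : ↥(G ⊗ X).left ≃ₜ ↥(G ⊗ X).left :=
    Scheme.homeoOfIso ((Over.forget _).mapIso (shearX a))
  have hO : IsOpen (shh.symm ⁻¹' ((snd G X).left ⁻¹' (U : Set ↥X.left))) :=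
    (U.isOpen.preimage (snd G X).left.continuous).preimage shh.symm.continuous
  have hfst : ∀ ζ : ↥(G ⊗ X).left, (fst G X).left (shh ζ) = (fst G X).left ζ := fun ζ =>
    left_apply_congr (shearX_hom_fst a) ζ
  have hsnd : ∀ ζ : ↥(G ⊗ X).left, (snd G X).left (shh ζ) = a.act.left ζ := fun ζ =>
    left_apply_congr (shearX_hom_snd a) ζ
  have hjs : ∀ w, (snd G X).left (j w) = pullback.snd (i ≫ G.hom) X.hom w := fun w =>
    congrArg (fun f : pullback (i ≫ G.hom) X.hom ⟶ X.left => f w) hj2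
  have hW : a.act.left '' ((fst G X).left ⁻¹' Z ∩ (snd G X).left ⁻¹' (U : Set ↥X.left)) =
      (pullback.snd (i ≫ G.hom) X.hom) ''
        (j ⁻¹' (shh.symm ⁻¹' ((snd G X).left ⁻¹' (U : Set ↥X.left)))) := by
    ext x
    constructor
    · rintro ⟨ζ, ⟨hζ1, hζ2⟩, rfl⟩
      have hm : shh ζ ∈ Set.range j := by
        rw [hj]
        show (fst G X).left (shh ζ) ∈ Z
        rw [hfst]; exact hζ1
      obtain ⟨w, hw⟩ := hm
      refine ⟨w, ?_, ?_⟩
      · show (snd G X).left (shh.symm (j w)) ∈ U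
        rw [hw, shh.symm_apply_apply]; exact hζ2
      · rw [← hjs, hw, hsnd]
    · rintro ⟨w, hw, rfl⟩
      refine ⟨shh.symm (j w), ⟨?_, hw⟩, ?_⟩
      · have h1 := hfst (shh.symm (j w))
        rw [shh.apply_symm_apply] at h1
        show (fst G X).left (shh.symm (j w)) ∈ Z
        rw [← h1]
        have : j w ∈ Set.range j := ⟨w, rfl⟩
        rw [hj] at this
        exact this
      · have h2 := hsnd (shh.symm (j w))
        rw [shh.apply_symm_apply] at h2
        rw [← h2, hjs]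
  rw [hW]
  exact hopen _ (hO.preimage j.continuous)

include hZ he in
/-- `Z · U` is quasi-compact for `U` affine -/
theorem isCompact_act (U : X.left.Opens) (hU : IsAffineOpen U) :
    IsCompact (a.act.left '' ((fst G X).left ⁻¹' Z ∩ (snd G X).left ⁻¹' (U : Set ↥X.left))) := by
  have hZcl := isClosed_of_mem_irreducibleComponents _ hZ
  have hZc := isCompact_unit_component G pt Z hZ he
  have hV : ∀ z : G.left, ∃ V : G.left.Opens, IsAffineOpen V ∧ z ∈ V := by
    intro z
    obtain ⟨V, h1, h2, -⟩ := exists_isAffineOpen_mem_and_subset (x := z) (U := ⊤) trivial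
    exact ⟨V, h1, h2⟩
  choose V hV1 hV2 using hV
  obtain ⟨t, -, hcover⟩ := hZc.elim_nhds_subcover (fun z => (V z : Set ↥G.left))
    (fun z _ => (V z).isOpen.mem_nhds (hV2 z))
  have hB : IsCompact (⋃ z ∈ t,
      (((fst G X).left ⁻¹ᵁ (V z) ⊓ (snd G X).left ⁻¹ᵁ U : (G ⊗ X).left.Opens) :
        Set ↥(G ⊗ X).left)) :=
    t.isCompact_biUnion fun z _ => (isAffineOpen_prod (V z) U (hV1 z) hU).isCompact
  have hA : (fst G X).left ⁻¹' Z ∩ (snd G X).left ⁻¹' (U : Set ↥X.left) =
      (⋃ z ∈ t,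
      (((fst G X).left ⁻¹ᵁ (V z) ⊓ (snd G X).left ⁻¹ᵁ U : (G ⊗ X).left.Opens) :
        Set ↥(G ⊗ X).left)) ∩ (fst G X).left ⁻¹' Z := by
    ext ζ
    constructor
    · rintro ⟨h1, h2⟩
      refine ⟨?_, h1⟩
      obtain ⟨z, hz, hζz⟩ := Set.mem_iUnion₂.mp (hcover h1)
      exact Set.mem_iUnion₂.mpr ⟨z, hz, ⟨hζz, h2⟩⟩
    · rintro ⟨h1, h2⟩
      refine ⟨h2, ?_⟩
      obtain ⟨z, hz, h3⟩ := Set.mem_iUnion₂.mp h1
      exact h3.2
  rw [hA]
  exact (hB.inter_right (hZcl.preimage (fst G X).left.continuous)).image a.act.left.continuous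

end Groth.Agent.Lib.Helper11.ActF
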