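import Mathlib
import Groth.Prelude.Def_AlgGrp
import Groth.Agent.Lib.Helper11.ActF

/-!
# Homogeneous spaces over a field: connected components of quasi-separated homogeneous spaces
(helper11)
-/

set_option autoImplicit false
universe u

open CategoryTheory CategoryTheory.Limits MonoidalCategory CartesianMonoidalCategory MonObj GrpObj
  AlgebraicGeometry
open Groth.Agent.Lib.Helper11.GrpA Groth.Agent.Lib.Helper11.GrpB Groth.Agent.Lib.Helper11.GrpC
  Groth.Agent.Lib.Helper11.GrpD Groth.Agent.Lib.Helper11.GrpE Groth.Agent.Lib.Helper11.GrpG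
  Groth.Agent.Lib.Helper11.ActA
  Groth.Agent.Lib.Helper11.ActB Groth.Agent.Lib.Helper11.ActC Groth.Agent.Lib.Helper11.ActD
  Groth.Agent.Lib.Helper11.ActE Groth.Agent.Lib.Helper11.ActF
open scoped Obj

namespace Groth.Agent.Lib.Helper11.ActG

variable {k : Type u} [Field k]

/-- a field valued point of a fibre product over two given points -/
theorem exists_common_point {A B D : Over (Spec (CommRingCat.of k))} (φ : A ⟶ D) (ψ : B ⟶ D)
    (p : A.left) (q : B.left) (h : φ.left p = ψ.left q) :
    ∃ (T' : Over (Spec (CommRingCat.of k))) (_ : IsFieldPt T') (u₁ : T' ⟶ A) (u₂ : T' ⟶ B),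
      u₁ ≫ φ = u₂ ≫ ψ ∧ (∀ s : ↥T'.left, u₁.left s = p) ∧ (∀ s : ↥T'.left, u₂.left s = q) := by
  obtain ⟨w, hw1, hw2⟩ := Scheme.Pullback.exists_preimage_pullback (f := φ.left) (g := ψ.left) p q h
  have hcomm : ((pullback φ.left ψ.left).fromSpecResidueField w ≫ pullback.snd φ.left ψ.left) ≫
      B.hom = (pullback φ.left ψ.left).fromSpecResidueField w ≫ pullback.fst φ.left ψ.left ≫
        A.hom := by
    rw [← Over.w φ, ← Over.w ψ, Category.assoc, pullback.condition_assoc]
  refine ⟨Over.mk ((pullback φ.left ψ.left).fromSpecResidueField w ≫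
      pullback.fst φ.left ψ.left ≫ A.hom),
    ⟨(pullback φ.left ψ.left).residueField w, inferInstance, _, rfl⟩,
    Over.homMk ((pullback φ.left ψ.left).fromSpecResidueField w ≫ pullback.fst φ.left ψ.left)
      (by simp),
    Over.homMk ((pullback φ.left ψ.left).fromSpecResidueField w ≫ pullback.snd φ.left ψ.left)
      hcomm, ?_, ?_, ?_⟩
  · ext
    simp [pullback.condition]
  · intro s
    show ((pullback φ.left ψ.left).fromSpecResidueField w ≫ pullback.fst φ.left ψ.left) s = p
    rw [Scheme.Hom.comp_apply, Scheme.fromSpecResidueField_apply]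
    exact hw1
  · intro s
    show ((pullback φ.left ψ.left).fromSpecResidueField w ≫ pullback.snd φ.left ψ.left) s = q
    rw [Scheme.Hom.comp_apply, Scheme.fromSpecResidueField_apply]
    exact hw2

variable {G X : Over (Spec (CommRingCat.of k))} [GrpObj G] (a : AlgGrp.Action G X)

theorem unit_orbitMap (x : 𝟙_ (Over (Spec (CommRingCat.of k))) ⟶ X) :
    η[G] ≫ a.orbitMap x = x := by
  have h := actT_toUnit a (𝟙_ (Over (Spec (CommRingCat.of k)))) x η[G]
  rw [← h]
  have h1 : η[G] = (1 : 𝟙_ (Over (Spec (CommRingCat.of k))) ⟶ G) := by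
    rw [Hom.one_def, toUnit_unit, Category.id_comp]
  rw [h1, one_actT, toUnit_unit, Category.id_comp]

include a in
/-- connected components of a quasi-separated homogeneous space are its irreducible components -/
theorem connectedComponent_eq_irreducibleComponent
    (hΦ : Surjective (lift a.act (snd G X)).left) [QuasiSeparatedSpace ↥X.left] (x : X.left) :
    connectedComponent x = irreducibleComponent x := by
  apply Set.Subset.antisymm
  · intro y hy
    by_contra hyC
    have hC := irreducibleComponent_mem_irreducibleComponents x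
    have hCy := irreducibleComponent_mem_irreducibleComponents y
    have hdisj : ∀ w ∈ irreducibleComponent x, w ∉ irreducibleComponent y := fun w hw hw' =>
      hyC ((uniqueComp_of_action a hΦ w _ hC _ hCy hw hw') ▸ mem_irreducibleComponent)
    obtain ⟨ξ, hξ⟩ := QuasiSober.sober (isIrreducible_irreducibleComponent (x := x))
      isClosed_irreducibleComponent
    have hξC : ξ ∈ irreducibleComponent x := hξ.mem
    obtain ⟨U, hU, hξU, hUsub⟩ := exists_isAffineOpen_mem_and_subset (x := ξ)
      (U := ⟨(irreducibleComponent y)ᶜ, isClosed_irreducibleComponent.isOpen_compl⟩)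
      (hdisj ξ hξC)
    let pt : ↥(Spec (CommRingCat.of k)) := Classical.arbitrary _
    have hZ := irreducibleComponent_mem_irreducibleComponents (η[G].left pt)
    have he : η[G].left pt ∈ irreducibleComponent (η[G].left pt) := mem_irreducibleComponent
    have hSopen := isOpen_act a (irreducibleComponent (η[G].left pt))
      isClosed_irreducibleComponent U
    have hSc := isCompact_act a pt _ hZ he U hU
    have ha : ∀ s ∈ a.act.left '' ((fst G X).left ⁻¹' irreducibleComponent (η[G].left pt) ∩
        (snd G X).left ⁻¹' (U : Set ↥X.left)),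
        ∃ ξ' ∈ U, closure {ξ'} ∈ irreducibleComponents ↥X.left ∧ s ∈ closure {ξ'} := by
      rintro _ ⟨ζ, ⟨h1, h2⟩, rfl⟩
      obtain ⟨C, hC', h3, h4⟩ := exists_component_of_mem_act a pt _ hZ he ζ h1
      obtain ⟨ξ', hξ'⟩ := QuasiSober.sober hC'.1 (isClosed_of_mem_irreducibleComponents _ hC')
      exact ⟨ξ', (hξ'.specializes h3).mem_open U.isOpen h2, by rw [hξ'.def]; exact hC',
        by rw [hξ'.def]; exact h4⟩
    have hb : ∀ ξ' ∈ U, closure {ξ'} ∈ irreducibleComponents ↥X.left →
        closure {ξ'} ⊆ a.act.left '' ((fst G X).left ⁻¹' irreducibleComponent (η[G].left pt) ∩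
        (snd G X).left ⁻¹' (U : Set ↥X.left)) := by
      intro ξ' hξ'U hξ' y' hy'
      obtain ⟨ζ, h1, h2, h3⟩ := mem_act_of_mem_component a pt _ hZ he hΦ U ξ' hξ'U hξ' y' hy'
      exact ⟨ζ, ⟨h1, h2⟩, h3⟩
    have hstab : StableUnderSpecialization
        (a.act.left '' ((fst G X).left ⁻¹' irreducibleComponent (η[G].left pt) ∩
        (snd G X).left ⁻¹' (U : Set ↥X.left))) := by
      intro s s' hss' hs
      obtain ⟨ξ', hξ'U, hξ', hsξ'⟩ := ha s hs
      exact hb ξ' hξ'U hξ' (hss'.mem_closed isClosed_closure hsξ')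
    have hSclosed : IsClosed
        (a.act.left '' ((fst G X).left ⁻¹' irreducibleComponent (η[G].left pt) ∩
        (snd G X).left ⁻¹' (U : Set ↥X.left))) :=
      isClosed_of_isCompact_of_stableUnderSpecialization ⟨_, hSopen⟩ hSc hstab
    have hξcomp : closure {ξ} ∈ irreducibleComponents ↥X.left := by rw [hξ.def]; exact hC
    have hxS : x ∈ a.act.left '' ((fst G X).left ⁻¹' irreducibleComponent (η[G].left pt) ∩
        (snd G X).left ⁻¹' (U : Set ↥X.left)) :=
      hb ξ hξU hξcomp (by rw [hξ.def]; exact mem_irreducibleComponent)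
    have hsub := (IsClopen.connectedComponent_subset ⟨hSclosed, hSopen⟩ hxS) hy
    obtain ⟨ξ', hξ'U, hξ', hyξ'⟩ := ha y hsub
    have hEq : closure {ξ'} = irreducibleComponent y :=
      uniqueComp_of_action a hΦ y _ hξ' _ hCy hyξ' mem_irreducibleComponent
    have : ξ' ∈ irreducibleComponent y := hEq ▸ subset_closure rfl
    exact hUsub hξ'U this
  · exact isIrreducible_irreducibleComponent.isConnected.subset_connectedComponent
      mem_irreducibleComponent

variable (pt : ↥(Spec (CommRingCat.of k)))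
  (Z : Set ↥G.left) (hZ : Z ∈ irreducibleComponents ↥G.left) (he : η[G].left pt ∈ Z)

include hZ he in
/-- the unit component acts transitively on the component of a rational point -/
theorem mem_orbitMap_image (hΦ : Surjective (lift a.act (snd G X)).left)
    (x : 𝟙_ (Over (Spec (CommRingCat.of k))) ⟶ X) (y : X.left)
    (hy : y ∈ irreducibleComponent (x.left pt)) :
    ∃ w ∈ Z, (a.orbitMap x).left w = y := by
  have hC := irreducibleComponent_mem_irreducibleComponents (x.left pt)
  obtain ⟨T, hT, c, hc⟩ : ∃ (T : Over (Spec (CommRingCat.of k))) (_ : IsFieldPt T)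
      (c : T ⟶ X), ∀ s : ↥T.left, c.left s = y :=
    ⟨Tx X y, isFieldPt_Tx _ _, cx X y, cx_left_apply _ _⟩
  haveI := hT.nonempty
  let s₀ : ↥T.left := Classical.arbitrary _
  have hZT := preimage_unit_component_mem' G pt Z hZ he hT
  obtain ⟨gam, hgam⟩ := QuasiSober.sober hZT.1 (isClosed_of_mem_irreducibleComponents _ hZT)
  have hpe : (tpt T (1 : T ⟶ G)).left s₀ ∈ (fst G T).left ⁻¹' Z := by
    show (fst G T).left ((tpt T (1 : T ⟶ G)).left s₀) ∈ Z
    rw [show (fst G T).left ((tpt T (1 : T ⟶ G)).left s₀) = η[G].left pt from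
      (left_apply_congr (tpt_fst T (1 : T ⟶ G)) s₀).trans (one_left_apply G pt T s₀)]
    exact he
  -- both orbit maps send `gam` into the preimage of the component
  have hin : ∀ (z : T ⟶ X), z.left s₀ ∈ irreducibleComponent (x.left pt) →
      (orb a T z).left gam ∈ (fst X T).left ⁻¹' irreducibleComponent (x.left pt) := by
    intro z hz
    have hfe : (orb a T z ≫ fst X T).left ((tpt T (1 : T ⟶ G)).left s₀) = z.left s₀ := by
      have h : tpt T (1 : T ⟶ G) ≫ orb a T z ≫ fst X T = z := by
        rw [← Category.assoc, tpt_orb, xpt_fst, one_actT]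
      exact left_apply_congr h s₀
    have hI : IsIrreducible ((orb a T z ≫ fst X T).left '' ((fst G T).left ⁻¹' Z)) :=
      hZT.1.image _ (orb a T z ≫ fst X T).left.continuous.continuousOn
    obtain ⟨C', hC', hIC'⟩ := exists_mem_irreducibleComponents_subset_of_isIrreducible _ hI
    have h1 : z.left s₀ ∈ C' := hIC' ⟨_, hpe, hfe⟩
    have h2 : C' = irreducibleComponent (x.left pt) :=
      uniqueComp_of_action a hΦ (z.left s₀) _ hC' _ hC h1 hz
    show (fst X T).left ((orb a T z).left gam) ∈ irreducibleComponent (x.left pt)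
    rw [← h2]
    exact hIC' ⟨gam, hgam.mem, rfl⟩
  have hCT : IsIrreducible ((fst X T).left ⁻¹' irreducibleComponent (x.left pt)) :=
    isIrreducible_preimage_component' a hΦ x pt _ hC mem_irreducibleComponent hT
  have hCTcl : IsClosed ((fst X T).left ⁻¹' irreducibleComponent (x.left pt)) :=
    isClosed_irreducibleComponent.preimage (fst X T).left.continuous
  have hgen : ∀ (z : T ⟶ X), z.left s₀ ∈ irreducibleComponent (x.left pt) →
      IsGenericPoint ((orb a T z).left gam)
        ((fst X T).left ⁻¹' irreducibleComponent (x.left pt)) := by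
    intro z hz
    have hmax := isMaxPt_orb_generic a pt Z hZ he hΦ hT z gam hgam
    have h1 : closure {(orb a T z).left gam} ⊆
        (fst X T).left ⁻¹' irreducibleComponent (x.left pt) :=
      hCTcl.closure_subset_iff.mpr (Set.singleton_subset_iff.mpr (hin z hz))
    exact Set.Subset.antisymm h1 (hmax.2 hCT h1)
  have hx₀ : (toUnit T ≫ x).left s₀ ∈ irreducibleComponent (x.left pt) := by
    show x.left ((toUnit T).left s₀) ∈ _
    rw [@Subsingleton.elim ↥(Spec (CommRingCat.of k)) _ ((toUnit T).left s₀) pt]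
    exact mem_irreducibleComponent
  have hcy : c.left s₀ ∈ irreducibleComponent (x.left pt) := by rw [hc]; exact hy
  have hβ : (orb a T (toUnit T ≫ x)).left gam = (orb a T c).left gam :=
    (hgen _ hx₀).eq (hgen _ hcy)
  obtain ⟨T', hT', u₁, u₂, hu, hu1, hu2⟩ :=
    exists_common_point (orb a T (toUnit T ≫ x)) (orb a T c) gam gam hβ
  haveI := hT'.nonempty
  let s' : ↥T'.left := Classical.arbitrary _
  have hf : u₁ ≫ snd G T = u₂ ≫ snd G T := by
    have h := congrArg (fun m => m ≫ snd X T) hu
    simpa only [Category.assoc, orb_snd] using h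
  have hact : (u₁ ≫ fst G T) ≫ a.orbitMap x =
      actT a (u₂ ≫ fst G T) ((u₂ ≫ snd G T) ≫ c) := by
    have h := congrArg (fun m => m ≫ fst X T) hu
    simp only [Category.assoc, orb_fst, comp_actT] at h
    have e1 : u₁ ≫ snd G T ≫ toUnit T ≫ x = toUnit T' ≫ x := by
      rw [← Category.assoc, ← Category.assoc]
      congr 1
      exact toUnit_unique _ _
    rw [e1] at h
    rw [← actT_toUnit a T' x (u₁ ≫ fst G T), h, Category.assoc]
  have hfinal : ((u₂ ≫ fst G T)⁻¹ * (u₁ ≫ fst G T)) ≫ a.orbitMap x = (u₂ ≫ snd G T) ≫ c := by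
    rw [← actT_toUnit a T' x, mul_actT, actT_toUnit, hact, inv_actT_actT]
  have hz1 : (u₁ ≫ fst G T).left s' ∈ Z := by
    show (fst G T).left (u₁.left s') ∈ Z
    rw [hu1]; exact hgam.mem
  have hz2 : (u₂ ≫ fst G T).left s' ∈ Z := by
    show (fst G T).left (u₂.left s') ∈ Z
    rw [hu2]; exact hgam.mem
  refine ⟨((u₂ ≫ fst G T)⁻¹ * (u₁ ≫ fst G T)).left s', ?_, ?_⟩
  · have hmul : ((u₂ ≫ fst G T)⁻¹ * (u₁ ≫ fst G T)) =
        lift (u₂ ≫ fst G T)⁻¹ (u₁ ≫ fst G T) ≫ μ[G] := Hom.mul_def _ _
    rw [hmul]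
    show μ[G].left ((lift (u₂ ≫ fst G T)⁻¹ (u₁ ≫ fst G T)).left s') ∈ Z
    have h1 : (fst G G).left ((lift (u₂ ≫ fst G T)⁻¹ (u₁ ≫ fst G T)).left s') ∈ Z := by
      have h := left_apply_congr (lift_fst (u₂ ≫ fst G T)⁻¹ (u₁ ≫ fst G T)) s'
      rw [show (fst G G).left ((lift (u₂ ≫ fst G T)⁻¹ (u₁ ≫ fst G T)).left s') =
        ((u₂ ≫ fst G T)⁻¹).left s' from h, Hom.inv_def]
      exact inv_mem_unit_component G pt Z hZ he hz2
    have h2 : (snd G G).left ((lift (u₂ ≫ fst G T)⁻¹ (u₁ ≫ fst G T)).left s') ∈ Z := by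
      have h := left_apply_congr (lift_snd (u₂ ≫ fst G T)⁻¹ (u₁ ≫ fst G T)) s'
      rw [show (snd G G).left ((lift (u₂ ≫ fst G T)⁻¹ (u₁ ≫ fst G T)).left s') =
        (u₁ ≫ fst G T).left s' from h]
      exact hz1
    obtain ⟨C'', hC'', h3, h4⟩ := exists_component_of_mem_mul G pt Z hZ he _ h1
    have : C'' = Z := uniqueComp_of_field G _ C'' hC'' Z hZ h3 h2
    rw [← this]; exact h4
  · have h := left_apply_congr hfinal s'
    refine h.trans ?_
    show c.left ((u₂ ≫ snd G T).left s') = y
    exact hc _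

end Groth.Agent.Lib.Helper11.ActG
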