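import Mathlib
import Groth.Prelude.Def_AlgGrp
import Groth.Agent.Lib.Helper11.ActG

/-!
# Homogeneous spaces over a field: surjective orbit maps (helper11)
-/

set_option autoImplicit false
universe u

open CategoryTheory CategoryTheory.Limits MonoidalCategory CartesianMonoidalCategory MonObj GrpObj
  AlgebraicGeometry
open Groth.Agent.Lib.Helper11.GrpA Groth.Agent.Lib.Helper11.GrpB Groth.Agent.Lib.Helper11.GrpC
  Groth.Agent.Lib.Helper11.GrpD Groth.Agent.Lib.Helper11.GrpE Groth.Agent.Lib.Helper11.GrpG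
  Groth.Agent.Lib.Helper11.ActA
  Groth.Agent.Lib.Helper11.ActB Groth.Agent.Lib.Helper11.ActC Groth.Agent.Lib.Helper11.ActD
  Groth.Agent.Lib.Helper11.ActE Groth.Agent.Lib.Helper11.ActF Groth.Agent.Lib.Helper11.ActG
open scoped Obj

namespace Groth.Agent.Lib.Helper11.ActH

variable {k : Type u} [Field k]

section Grp

variable (G : Over (Spec (CommRingCat.of k))) [GrpObj G] (pt : ↥(Spec (CommRingCat.of k)))
  (Z : Set ↥G.left) (hZ : Z ∈ irreducibleComponents ↥G.left) (he : η[G].left pt ∈ Z)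

include hZ he in
/-- products of points of the unit component lie in the unit component -/
theorem mul_mem_unit_component {T : Over (Spec (CommRingCat.of k))} (p q : T ⟶ G) (s : ↥T.left)
    (hp : p.left s ∈ Z) (hq : q.left s ∈ Z) : (p * q).left s ∈ Z := by
  have hmul : p * q = lift p q ≫ μ[G] := Hom.mul_def _ _
  rw [hmul]
  show μ[G].left ((lift p q).left s) ∈ Z
  have h1 : (fst G G).left ((lift p q).left s) ∈ Z := by
    rw [show (fst G G).left ((lift p q).left s) = p.left s from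
      left_apply_congr (lift_fst p q) s]
    exact hp
  have h2 : (snd G G).left ((lift p q).left s) ∈ Z := by
    rw [show (snd G G).left ((lift p q).left s) = q.left s from
      left_apply_congr (lift_snd p q) s]
    exact hq
  obtain ⟨C'', hC'', h3, h4⟩ := exists_component_of_mem_mul G pt Z hZ he _ h1
  have : C'' = Z := uniqueComp_of_field G _ C'' hC'' Z hZ h3 h2
  rw [← this]; exact h4

end Grp

variable {G X : Over (Spec (CommRingCat.of k))} [GrpObj G] (a : AlgGrp.Action G X)

include a in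
/-- if an orbit map of a rational point is surjective then the space is homogeneous -/
theorem surjective_graph_of_surjective_orbitMap
    (x₀ : 𝟙_ (Over (Spec (CommRingCat.of k))) ⟶ X) (hsurj : Surjective (a.orbitMap x₀).left) :
    Surjective (lift a.act (snd G X)).left := by
  refine ⟨fun z => ?_⟩
  obtain ⟨T, hT, c, hc⟩ : ∃ (T : Over (Spec (CommRingCat.of k))) (_ : IsFieldPt T)
      (c : T ⟶ X ⊗ X), ∀ s : ↥T.left, c.left s = z :=
    ⟨Tx (X ⊗ X) z, isFieldPt_Tx _ _, cx (X ⊗ X) z, cx_left_apply _ _⟩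
  haveI := hT.nonempty
  obtain ⟨T₁, hT₁, f₁, g₁, hg₁⟩ := exists_lift_of_surjective (a.orbitMap x₀) hsurj (c ≫ snd X X)
  haveI := hT₁.nonempty
  obtain ⟨T₂, hT₂, f₂, g₂, hg₂⟩ := exists_lift_of_surjective (a.orbitMap x₀) hsurj
    (f₁ ≫ c ≫ fst X X)
  haveI := hT₂.nonempty
  let s₂ : ↥T₂.left := Classical.arbitrary _
  have h1 : actT a (f₂ ≫ g₁) (toUnit T₂ ≫ x₀) = f₂ ≫ f₁ ≫ c ≫ snd X X := by
    rw [actT_toUnit, Category.assoc, hg₁]
  have h2 : actT a g₂ (toUnit T₂ ≫ x₀) = f₂ ≫ f₁ ≫ c ≫ fst X X := by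
    rw [actT_toUnit, hg₂]
  have h3 : actT a (g₂ * (f₂ ≫ g₁)⁻¹) (f₂ ≫ f₁ ≫ c ≫ snd X X) = f₂ ≫ f₁ ≫ c ≫ fst X X := by
    rw [← h1, mul_actT, inv_actT_actT, h2]
  have h4 : lift (g₂ * (f₂ ≫ g₁)⁻¹) (f₂ ≫ f₁ ≫ c ≫ snd X X) ≫ lift a.act (snd G X) =
      (f₂ ≫ f₁) ≫ c := by
    rw [comp_lift, lift_snd]
    have : lift (g₂ * (f₂ ≫ g₁)⁻¹) (f₂ ≫ f₁ ≫ c ≫ snd X X) ≫ a.act =
        actT a (g₂ * (f₂ ≫ g₁)⁻¹) (f₂ ≫ f₁ ≫ c ≫ snd X X) := rfl
    rw [this, h3]
    apply CartesianMonoidalCategory.hom_ext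
    · rw [lift_fst]; simp only [Category.assoc]
    · rw [lift_snd]; simp only [Category.assoc]
  refine ⟨(lift (g₂ * (f₂ ≫ g₁)⁻¹) (f₂ ≫ f₁ ≫ c ≫ snd X X)).left s₂, ?_⟩
  exact (left_apply_congr h4 s₂).trans (hc _)

include a in
/-- a group scheme acting transitively with connected stabilizer on a connected quasi-separated
scheme is connected (indeed irreducible) -/
theorem connectedSpace_of_connected_stabilizer [QuasiSeparatedSpace ↥X.left]
    [ConnectedSpace ↥X.left]
    (x₀ : 𝟙_ (Over (Spec (CommRingCat.of k))) ⟶ X) (hsurj : Surjective (a.orbitMap x₀).left)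
    (H : Over (Spec (CommRingCat.of k))) [GrpObj H] (i : H ⟶ G) [IsMonHom i]
    (hH : ∀ (T : Over (Spec (CommRingCat.of k))) (g : T ⟶ G),
      g ≫ a.orbitMap x₀ = toUnit T ≫ x₀ → ∃ h : T ⟶ H, h ≫ i = g)
    [ConnectedSpace ↥H.left] : ConnectedSpace ↥G.left := by
  have hΦ := surjective_graph_of_surjective_orbitMap a x₀ hsurj
  let pt : ↥(Spec (CommRingCat.of k)) := Classical.arbitrary _
  have hZ := irreducibleComponent_mem_irreducibleComponents (η[G].left pt)
  have he : η[G].left pt ∈ irreducibleComponent (η[G].left pt) := mem_irreducibleComponent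
  have hcc := connectedComponent_unit_eq G pt _ hZ he
  -- the image of `H` lies in the unit component
  have hHZ : ∀ w : ↥H.left, i.left w ∈ irreducibleComponent (η[G].left pt) := by
    intro w
    rw [← hcc]
    have hpre : _root_.IsPreconnected (Set.range i.left) := isPreconnected_range i.left.continuous
    have hmem : η[G].left pt ∈ Set.range i.left :=
      ⟨η[H].left pt, left_apply_congr (IsMonHom.one_hom i) pt⟩
    exact hpre.subset_connectedComponent hmem ⟨w, rfl⟩
  have hall : ∀ g : ↥G.left, g ∈ irreducibleComponent (η[G].left pt) := by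
    intro g
    have hy : (a.orbitMap x₀).left g ∈ irreducibleComponent (x₀.left pt) := by
      rw [← connectedComponent_eq_irreducibleComponent a hΦ (x₀.left pt),
        PreconnectedSpace.connectedComponent_eq_univ]
      trivial
    obtain ⟨w, hwZ, hw⟩ := mem_orbitMap_image a pt _ hZ he hΦ x₀ _ hy
    obtain ⟨T', hT', u₁, u₂, hu, hu1, hu2⟩ :=
      exists_common_point (a.orbitMap x₀) (a.orbitMap x₀) g w hw.symm
    haveI := hT'.nonempty
    let s' : ↥T'.left := Classical.arbitrary _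
    have hfix : (u₂⁻¹ * u₁) ≫ a.orbitMap x₀ = toUnit T' ≫ x₀ := by
      rw [← actT_toUnit, mul_actT, actT_toUnit, hu, ← actT_toUnit, inv_actT_actT]
    obtain ⟨h, hh⟩ := hH T' _ hfix
    have h5 : (u₂⁻¹ * u₁).left s' ∈ irreducibleComponent (η[G].left pt) := by
      rw [← hh]
      exact hHZ _
    have h6 : u₁ = u₂ * (u₂⁻¹ * u₁) := by rw [mul_inv_cancel_left]
    have h7 : u₁.left s' ∈ irreducibleComponent (η[G].left pt) := by
      rw [h6]
      exact mul_mem_unit_component G pt _ hZ he u₂ (u₂⁻¹ * u₁) s' (by rw [hu2]; exact hwZ) h5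
    rw [← hu1 s']; exact h7
  have huniv : irreducibleComponent (η[G].left pt) = Set.univ := Set.eq_univ_of_forall hall
  have hconn : _root_.IsConnected (Set.univ : Set ↥G.left) := by
    rw [← huniv]; exact isIrreducible_irreducibleComponent.isConnected
  exact connectedSpace_iff_univ.mpr hconn

end Groth.Agent.Lib.Helper11.ActH
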