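import Mathlib
import Groth.Prelude.Def_AlgGrp
import Groth.Agent.Lib.Helper11.ActG

/-!
# Orbits of group scheme actions: stable subsets, closed orbits (helper11)
-/

set_option autoImplicit false
universe u

open CategoryTheory CategoryTheory.Limits MonoidalCategory CartesianMonoidalCategory MonObj GrpObj
  AlgebraicGeometry Topology
open Groth.Agent.Lib.Helper11.GrpA Groth.Agent.Lib.Helper11.ActA Groth.Agent.Lib.Helper11.ActB
  Groth.Agent.Lib.Helper11.ActF Groth.Agent.Lib.Helper11.ActG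

namespace Groth.Agent.Lib.Helper11.OrbA

section Top

theorem eq_of_specializes_isMaxPt {A : Type*} [TopologicalSpace A] [T0Space A] {ζ y : A}
    (hζ : IsMaxPt ζ) (h : y ⤳ ζ) : y = ζ := by
  have h1 : closure ({ζ} : Set A) ⊆ closure {y} := specializes_iff_closure_subset.mp h
  have h2 : closure ({y} : Set A) ⊆ closure {ζ} := hζ.2 isIrreducible_singleton.closure h1
  exact (h.antisymm (specializes_iff_closure_subset.mpr h2)).eq

theorem exists_maxPt_in {Y : Type*} [TopologicalSpace Y] [QuasiSober Y] [T0Space Y] {Z : Set Y}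
    (hZ : IsClosed Z) (hne : Z.Nonempty) : ∃ ξ ∈ Z, ∀ y ∈ Z, y ⤳ ξ → y = ξ := by
  haveI : Nonempty ↥Z := hne.to_subtype
  haveI : QuasiSober ↥Z := Topology.IsClosedEmbedding.quasiSober hZ.isClosedEmbedding_subtypeVal
  obtain ⟨ζ, hζ⟩ := exists_isMaxPt ↥Z
  refine ⟨ζ.1, ζ.2, fun y hy h => ?_⟩
  have h' : (⟨y, hy⟩ : ↥Z) ⤳ ζ := Topology.IsInducing.subtypeVal.specializes_iff.mp h
  exact congrArg Subtype.val (eq_of_specializes_isMaxPt hζ h')

end Top

section Sch

theorem exists_specializes_of_mem_closure_range_qc {A Y : Scheme.{u}} (f : A ⟶ Y) [QuasiCompact f]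
    (y : Y) (hy : y ∈ closure (Set.range f)) : ∃ a : A, f a ⤳ y := by
  obtain ⟨W, hW, hyW, -⟩ := TopologicalSpace.Opens.isBasis_iff_nbhd.mp Y.isBasis_affineOpens
    (show y ∈ (⊤ : Y.Opens) from trivial)
  replace hW : IsAffineOpen W := hW
  have hjr : Set.range hW.fromSpec = W := hW.range_fromSpec
  obtain ⟨y₀, rfl⟩ : y ∈ Set.range hW.fromSpec := hjr ▸ hyW
  have hy₀ : y₀ ∈ closure (Set.range (pullback.snd f hW.fromSpec)) := by
    rw [Scheme.Pullback.range_snd]
    exact hW.fromSpec.isOpenEmbedding.isOpenMap.preimage_closure_subset_closure_preimage hy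
  obtain ⟨p, hp⟩ := exists_specializes_of_mem_closure_range (pullback.snd f hW.fromSpec) y₀ hy₀
  refine ⟨pullback.fst f hW.fromSpec p, ?_⟩
  have : f (pullback.fst f hW.fromSpec p) = hW.fromSpec (pullback.snd f hW.fromSpec p) := by
    rw [← Scheme.Hom.comp_apply, ← Scheme.Hom.comp_apply, pullback.condition]
  rw [this]
  exact hp.map hW.fromSpec.continuous

theorem exists_specializes_of_isConstructible {Y : Scheme.{u}} {E : Set Y}
    (hE : IsConstructible E) (y : Y) (hy : y ∈ closure E) : ∃ e ∈ E, e ⤳ y := by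
  obtain ⟨W, hW, hyW, -⟩ := TopologicalSpace.Opens.isBasis_iff_nbhd.mp Y.isBasis_affineOpens
    (show y ∈ (⊤ : Y.Opens) from trivial)
  replace hW : IsAffineOpen W := hW
  have hjr : Set.range hW.fromSpec = W := hW.range_fromSpec
  obtain ⟨y₀, rfl⟩ : y ∈ Set.range hW.fromSpec := hjr ▸ hyW
  have hE' : IsConstructible (hW.fromSpec ⁻¹' E) := hW.fromSpec.isConstructible_preimage hE
  obtain ⟨S, _, φ, hφ⟩ := PrimeSpectrum.exists_range_eq_of_isConstructible (R := Γ(Y, W)) hE'
  have hy₀ : y₀ ∈ closure (Set.range (PrimeSpectrum.comap φ)) := by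
    rw [hφ]
    exact hW.fromSpec.isOpenEmbedding.isOpenMap.preimage_closure_subset_closure_preimage hy
  obtain ⟨q, hq⟩ := exists_comap_specializes φ y₀ hy₀
  have hmem : PrimeSpectrum.comap φ q ∈ hW.fromSpec ⁻¹' E := hφ ▸ Set.mem_range_self q
  exact ⟨hW.fromSpec (PrimeSpectrum.comap φ q), hmem, hq.map hW.fromSpec.continuous⟩

theorem isConstructible_of_isClosed {Y : Type*} [TopologicalSpace Y] [TopologicalSpace.NoetherianSpace Y]
    {Z : Set Y} (hZ : IsClosed Z) : IsConstructible Z := by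
  have h : IsRetrocompact Zᶜ := fun V _ _ => TopologicalSpace.NoetherianSpace.isCompact _
  exact (h.isConstructible hZ.isOpen_compl).of_compl

end Sch

section Act

variable {S : Scheme.{u}} {G X : Over S} [GrpObj G]

/-- a subset stable under the action -/
def Stab (a : AlgGrp.Action G X) (Z : Set ↥X.left) : Prop :=
  ∀ p : ↥(G ⊗ X).left, (snd G X).left p ∈ Z → a.act.left p ∈ Z

/-- `(g, x) ↦ (g⁻¹, g x)` -/
noncomputable def tau (a : AlgGrp.Action G X) : G ⊗ X ⟶ G ⊗ X := lift (fst G X)⁻¹ a.act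

theorem tau_snd (a : AlgGrp.Action G X) : tau a ≫ snd G X = a.act := lift_snd _ _

theorem tau_act (a : AlgGrp.Action G X) : tau a ≫ a.act = snd G X := by
  calc tau a ≫ a.act = actT a (fst G X)⁻¹ (actT a (fst G X) (snd G X)) := by
        unfold tau actT; rw [lift_fst_snd, Category.id_comp]
    _ = snd G X := inv_actT_actT a _ _

variable {a : AlgGrp.Action G X}

theorem Stab.snd_mem {Z : Set ↥X.left} (h : Stab a Z) (p : ↥(G ⊗ X).left)
    (hp : a.act.left p ∈ Z) : (snd G X).left p ∈ Z := by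
  have h1 : (snd G X).left ((tau a).left p) = a.act.left p := by
    rw [← Scheme.Hom.comp_apply, ← Over.comp_left, tau_snd]
  have h2 : a.act.left ((tau a).left p) = (snd G X).left p := by
    rw [← Scheme.Hom.comp_apply, ← Over.comp_left, tau_act]
  rw [← h2]
  exact h _ (by rw [h1]; exact hp)

theorem Stab.compl {Z : Set ↥X.left} (h : Stab a Z) : Stab a Zᶜ :=
  fun p hp hq => hp (h.snd_mem p hq)

theorem Stab.inter {Z Z' : Set ↥X.left} (h : Stab a Z) (h' : Stab a Z') : Stab a (Z ∩ Z') :=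
  fun p hp => ⟨h p hp.1, h' p hp.2⟩

theorem Stab.diff {Z Z' : Set ↥X.left} (h : Stab a Z) (h' : Stab a Z') : Stab a (Z \ Z') :=
  h.inter h'.compl

theorem Stab.closure {Z : Set ↥X.left} (hopen : IsOpenMap (snd G X).left) (h : Stab a Z) :
    Stab a (_root_.closure Z) := by
  intro p hp
  have h1 : (snd G X).left ⁻¹' _root_.closure Z ⊆ _root_.closure ((snd G X).left ⁻¹' Z) :=
    hopen.preimage_closure_subset_closure_preimage
  have h2 : _root_.closure ((snd G X).left ⁻¹' Z) ⊆ a.act.left ⁻¹' _root_.closure Z := by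
    refine (IsClosed.closure_subset_iff (isClosed_closure.preimage a.act.left.continuous)).mpr ?_
    intro q hq
    exact subset_closure (h q hq)
  exact h2 (h1 hp)

variable (a)

theorem whisker_orbitMap_act (x : 𝟙_ (Over S) ⟶ X) :
    (G ◁ a.orbitMap x) ≫ a.act = μ[G] ≫ a.orbitMap x := by
  have h3 : (G ◁ a.orbitMap x) = lift (fst G G) (snd G G ≫ a.orbitMap x) := by
    refine CartesianMonoidalCategory.hom_ext _ _ ?_ ?_
    · rw [whiskerLeft_fst, lift_fst]
    · rw [whiskerLeft_snd, lift_snd]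
  have hμ : (μ[G] : G ⊗ G ⟶ G) = fst G G * snd G G := by
    rw [Hom.mul_def, lift_fst_snd, Category.id_comp]
  rw [h3, hμ, ← actT_toUnit a (G ⊗ G) x (fst G G * snd G G), mul_actT, actT_toUnit]
  rfl

theorem stab_range_orbitMap (x : 𝟙_ (Over S) ⟶ X) :
    Stab a (Set.range (a.orbitMap x).left) := by
  rintro p ⟨g, hg⟩
  have hsq : IsPullback (G ◁ a.orbitMap x).left (snd G G).left (snd G X).left
      (a.orbitMap x).left := (isPullback_whiskerLeft X (a.orbitMap x) G).map (Over.forget _)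
  obtain ⟨q, hq1, hq2⟩ := Scheme.exists_preimage_of_isPullback hsq p g hg.symm
  refine ⟨μ[G].left q, ?_⟩
  rw [← hq1, ← Scheme.Hom.comp_apply, ← Scheme.Hom.comp_apply, ← Over.comp_left, ← Over.comp_left,
    whisker_orbitMap_act]

theorem range_orbitMap_subset {Z : Set ↥X.left} (hZ : Stab a Z) (x : 𝟙_ (Over S) ⟶ X)
    (hx : ∀ s, x.left s ∈ Z) : Set.range (a.orbitMap x).left ⊆ Z := by
  rintro _ ⟨g, rfl⟩
  have h1 : (a.orbitMap x).left g = a.act.left ((lift (𝟙 G) (toUnit G ≫ x)).left g) := by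
    rw [← Scheme.Hom.comp_apply, ← Over.comp_left]; rfl
  rw [h1]
  apply hZ
  rw [← Scheme.Hom.comp_apply, ← Over.comp_left, lift_snd, Over.comp_left, Scheme.Hom.comp_apply]
  exact hx _

end Act

section Field

variable (k : Type u) [Field k]

theorem isOpenMap_snd_of_field (G X : Over (Spec (CommRingCat.of k))) :
    IsOpenMap (snd G X).left := by
  have h : UniversallyOpen (show G.left ⟶ Spec (CommRingCat.of k) from G.hom) := inferInstance
  have h2 : UniversallyOpen (snd G X).left := by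
    have : (snd G X).left = pullback.snd G.hom X.hom := rfl
    rw [this]
    exact MorphismProperty.pullback_snd (P := @UniversallyOpen) _ _ h
  exact (snd G X).left.isOpenMap

/-- closed orbit lemma: over an algebraically closed field, an action of a group scheme of finite
type on a nonempty scheme of finite type has a closed orbit of a rational point -/
theorem exists_isClosed_orbit [IsAlgClosed k]
    (G X : Over (Spec (CommRingCat.of k))) [GrpObj G] [LocallyOfFiniteType G.hom]
    [QuasiCompact G.hom] [LocallyOfFiniteType X.hom] [QuasiCompact X.hom] [Nonempty ↥X.left]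
    (a : AlgGrp.Action G X) :
    ∃ x : 𝟙_ (Over (Spec (CommRingCat.of k))) ⟶ X,
      IsClosed (Set.range (a.orbitMap x).left) := by
  classical
  obtain ⟨fX, hfX⟩ : ∃ fX : X.left ⟶ Spec (CommRingCat.of k), fX = X.hom := ⟨_, rfl⟩
  haveI : LocallyOfFiniteType fX := hfX ▸ inferInstance
  haveI : QuasiCompact fX := hfX ▸ inferInstance
  obtain ⟨fG, hfG⟩ : ∃ fG : G.left ⟶ Spec (CommRingCat.of k), fG = G.hom := ⟨_, rfl⟩
  haveI : QuasiCompact fG := hfG ▸ inferInstance
  haveI : IsLocallyNoetherian X.left := LocallyOfFiniteType.isLocallyNoetherian fX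
  haveI : CompactSpace ↥X.left := QuasiCompact.compactSpace_of_compactSpace fX
  haveI : IsNoetherian X.left := {}
  haveI : TopologicalSpace.NoetherianSpace ↥X.left := inferInstance
  haveI : JacobsonSpace ↥X.left := LocallyOfFiniteType.jacobsonSpace fX
  haveI : CompactSpace ↥G.left := QuasiCompact.compactSpace_of_compactSpace fG
  have hopen : IsOpenMap (snd G X).left := isOpenMap_snd_of_field k G X
  -- a minimal nonempty closed stable subset
  let 𝒮 : Set (TopologicalSpace.Closeds ↥X.left) :=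
    {Z | (Z : Set ↥X.left).Nonempty ∧ Stab a (Z : Set ↥X.left)}
  have h𝒮 : 𝒮.Nonempty := ⟨⊤, Set.univ_nonempty, fun _ _ => trivial⟩
  obtain ⟨Z, hZ𝒮, hZmin⟩ := WellFounded.has_min
    (wellFounded_lt (α := TopologicalSpace.Closeds ↥X.left)) 𝒮 h𝒮
  have hmin : ∀ W : Set ↥X.left, IsClosed W → W.Nonempty → Stab a W → W ⊆ Z → W = Z := by
    intro W hWc hWne hWs hWZ
    by_contra hne
    have hle : (⟨W, hWc⟩ : TopologicalSpace.Closeds ↥X.left) ≤ Z := hWZ
    have hlt : (⟨W, hWc⟩ : TopologicalSpace.Closeds ↥X.left) < Z :=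
      lt_of_le_of_ne hle (fun h => hne (congrArg (fun C : TopologicalSpace.Closeds ↥X.left =>
        (C : Set ↥X.left)) h))
    exact hZmin ⟨W, hWc⟩ ⟨hWne, hWs⟩ hlt
  -- a closed point of `Z`
  obtain ⟨z, hzZ, hzc⟩ := nonempty_inter_closedPoints hZ𝒮.1 Z.isClosed.isLocallyClosed
  replace hzc : IsClosed ({z} : Set ↥X.left) := hzc
  have hx₀ : pointOfClosedPoint fX z hzc ≫ X.hom = 𝟙 _ := by
    rw [← hfX]; exact pointOfClosedPoint_comp fX z hzc
  let x : 𝟙_ (Over (Spec (CommRingCat.of k))) ⟶ X :=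
    Over.homMk (pointOfClosedPoint fX z hzc) (by simpa using hx₀)
  have hxz : ∀ s, x.left s = z := fun s => pointOfClosedPoint_apply fX z hzc s
  obtain ⟨ψ, hψ⟩ : ∃ ψ : G.left ⟶ X.left, ψ = (a.orbitMap x).left := ⟨_, rfl⟩
  have hOZ : Set.range ψ ⊆ Z := by
    rw [hψ]
    exact range_orbitMap_subset a hZ𝒮.2 x (fun s => (hxz s).symm ▸ hzZ)
  have hOne : (Set.range ψ).Nonempty :=
    ⟨_, ⟨η[G].left (Classical.arbitrary ↥(Spec (CommRingCat.of k))), rfl⟩⟩
  have hOstab : Stab a (Set.range ψ) := hψ ▸ stab_range_orbitMap a x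
  have hcl : closure (Set.range ψ) = Z :=
    hmin _ isClosed_closure hOne.closure (hOstab.closure hopen)
      (Z.isClosed.closure_subset_iff.mpr hOZ)
  haveI : QuasiCompact ψ := inferInstance
  haveI : LocallyOfFiniteType ψ := by
    have h1 : ψ ≫ fX = fG := by rw [hψ, hfX, hfG]; exact Over.w (a.orbitMap x)
    haveI : LocallyOfFiniteType fG := hfG ▸ inferInstance
    haveI : LocallyOfFiniteType (ψ ≫ fX) := h1 ▸ inferInstance
    exact locallyOfFiniteType_of_comp ψ fX
  haveI : LocallyOfFinitePresentation ψ := inferInstance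
  have hOc : IsConstructible (Set.range ψ) := by
    rw [← Set.image_univ]; exact ψ.isConstructible_image IsConstructible.univ
  have hZc : IsConstructible (Z : Set ↥X.left) := isConstructible_of_isClosed Z.isClosed
  have hE : (Z : Set ↥X.left) \ Set.range ψ = ∅ := by
    by_contra hne
    have hEne : ((Z : Set ↥X.left) \ Set.range ψ).Nonempty := Set.nonempty_iff_ne_empty.mpr hne
    have hEs : Stab a ((Z : Set ↥X.left) \ Set.range ψ) := hZ𝒮.2.diff hOstab
    have hEcl : closure ((Z : Set ↥X.left) \ Set.range ψ) = Z :=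
      hmin _ isClosed_closure hEne.closure (hEs.closure hopen)
        (Z.isClosed.closure_subset_iff.mpr Set.diff_subset)
    obtain ⟨ξ, hξZ, hξmax⟩ := exists_maxPt_in Z.isClosed hZ𝒮.1
    have hξO : ξ ∈ Set.range ψ := by
      obtain ⟨g, hg⟩ := exists_specializes_of_mem_closure_range_qc ψ ξ (by rw [hcl]; exact hξZ)
      exact ⟨g, hξmax _ (hOZ ⟨g, rfl⟩) hg⟩
    obtain ⟨e, heE, he⟩ := exists_specializes_of_isConstructible (hZc.sdiff hOc) ξ
      (by rw [hEcl]; exact hξZ)
    have hee : e = ξ := hξmax e heE.1 he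
    exact heE.2 (hee ▸ hξO)
  refine ⟨x, ?_⟩
  have hfin : Set.range ψ = Z := Set.Subset.antisymm hOZ (Set.diff_eq_empty.mp hE)
  rw [← hψ, hfin]
  exact Z.isClosed

end Field

end Groth.Agent.Lib.Helper11.OrbA
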