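import Mathlib
import Groth.Agent.Lib.Helper11.OrbA
import Groth.Agent.Lib.Helper11.ActF
import Groth.Agent.Lib.Helper11.GrpA

/-!
# IM1: images of quasi-compact morphisms of finite presentation; tools for scheme-theoretic images
of homomorphisms.
-/

set_option autoImplicit false
universe u
open CategoryTheory Limits AlgebraicGeometry Topology

namespace Groth.Agent.Lib.Helper11.IM1

open Groth.Agent.Lib.Helper11

theorem exists_specializes_of_isLocallyConstructible {Y : Scheme.{u}} {E : Set Y}
    (hE : IsLocallyConstructible E) (y : Y) (hy : y ∈ closure E) : ∃ e ∈ E, e ⤳ y := by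
  obtain ⟨W, hW, hyW, -⟩ := TopologicalSpace.Opens.isBasis_iff_nbhd.mp Y.isBasis_affineOpens
    (show y ∈ (⊤ : Y.Opens) from trivial)
  replace hW : IsAffineOpen W := hW
  have hjr : Set.range hW.fromSpec = W := hW.range_fromSpec
  obtain ⟨y₀, rfl⟩ : y ∈ Set.range hW.fromSpec := hjr ▸ hyW
  have hE' : IsConstructible (hW.fromSpec ⁻¹' E) :=
    (hE.preimage_of_isOpenEmbedding hW.fromSpec.isOpenEmbedding).isConstructible
  obtain ⟨S, _, φ, hφ⟩ := PrimeSpectrum.exists_range_eq_of_isConstructible (R := Γ(Y, W)) hE'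
  have hy₀ : y₀ ∈ closure (Set.range (PrimeSpectrum.comap φ)) := by
    rw [hφ]
    exact hW.fromSpec.isOpenEmbedding.isOpenMap.preimage_closure_subset_closure_preimage hy
  obtain ⟨q, hq⟩ := ActF.exists_comap_specializes φ y₀ hy₀
  have hmem : PrimeSpectrum.comap φ q ∈ hW.fromSpec ⁻¹' E := hφ ▸ Set.mem_range_self q
  exact ⟨hW.fromSpec (PrimeSpectrum.comap φ q), hmem, hq.map hW.fromSpec.continuous⟩

/-- Every point is a specialisation of a maximal point. -/
theorem exists_isMaxPt_specializes {A : Type*} [TopologicalSpace A] [QuasiSober A] (y : A) :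
    ∃ ξ : A, GrpA.IsMaxPt ξ ∧ ξ ⤳ y := by
  obtain ⟨ξ, hξ⟩ := QuasiSober.sober (isIrreducible_irreducibleComponent (x := y))
    isClosed_irreducibleComponent
  refine ⟨ξ, ?_, ?_⟩
  · show closure {ξ} ∈ irreducibleComponents A
    rw [hξ.def]
    exact irreducibleComponent_mem_irreducibleComponents y
  · rw [specializes_iff_mem_closure, hξ.def]
    exact mem_irreducibleComponent

/-- A dominant quasi-compact morphism locally of finite presentation has a dense open subset of
the target in its image. -/
theorem exists_dense_open_subset_range {A Y : Scheme.{u}} (g : A ⟶ Y) [QuasiCompact g]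
    [LocallyOfFinitePresentation g] [IsDominant g] :
    ∃ U : Y.Opens, Dense (U : Set Y) ∧ (U : Set Y) ⊆ Set.range g := by
  have hS : IsLocallyConstructible (Set.range g) := by
    rw [← Set.image_univ]
    exact g.isLocallyConstructible_image IsLocallyConstructible.univ
  have hSc : IsLocallyConstructible (Set.range g)ᶜ := by
    intro x
    obtain ⟨U, hU, hUo, hc⟩ := hS x
    exact ⟨U, hU, hUo, by rw [Set.preimage_compl]; exact hc.compl⟩
  have hmax : ∀ ξ : Y, GrpA.IsMaxPt ξ → ξ ∉ closure (Set.range g)ᶜ := by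
    intro ξ hξ hcl
    have h1 : ξ ∈ closure (Set.range g) := by
      rw [g.denseRange.closure_eq]; trivial
    obtain ⟨a, ha⟩ := OrbA.exists_specializes_of_mem_closure_range_qc g ξ h1
    have e1 := OrbA.eq_of_specializes_isMaxPt hξ ha
    obtain ⟨e, he, hes⟩ := exists_specializes_of_isLocallyConstructible hSc ξ hcl
    have e2 := OrbA.eq_of_specializes_isMaxPt hξ hes
    exact he (e2 ▸ e1 ▸ Set.mem_range_self a)
  refine ⟨⟨(closure (Set.range g)ᶜ)ᶜ, isClosed_closure.isOpen_compl⟩, ?_, ?_⟩
  · rw [dense_iff_inter_open]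
    rintro W hW ⟨y, hy⟩
    obtain ⟨ξ, hξ, hξy⟩ := exists_isMaxPt_specializes y
    exact ⟨ξ, hξy.mem_open hW hy, hmax ξ hξ⟩
  · intro x hx
    by_contra h
    exact hx (subset_closure h)

/-- A closed immersion through which a scheme-theoretically dominant morphism factors is an
isomorphism. -/
theorem isIso_of_dominant_factor {P Z W : Scheme.{u}} (π : P ⟶ Z) [IsClosedImmersion π]
    (m : W ⟶ Z) [IsSchemeTheoreticallyDominant m] (m' : W ⟶ P) (h : m' ≫ π = m) : IsIso π := by
  rw [IsClosedImmersion.isIso_iff_ker_eq_bot, ← le_bot_iff, ← m.ker_eq_bot, ← h]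
  exact Scheme.Hom.le_ker_comp _ _

end Groth.Agent.Lib.Helper11.IM1
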