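import Mathlib
import Groth.Agent.Lib.Helper11.IM1

/-!
# PF2: compact sets of maximal points in quasi-separated schemes lie in finite disjoint unions of
opens inside affine opens; closed subsets of affine opens inside an open lie in a basic open
(helper11).
-/

set_option autoImplicit false
universe u
open CategoryTheory AlgebraicGeometry Topology TopologicalSpace

namespace Groth.Agent.Lib.Helper11.PF2

open Groth.Agent.Lib.Helper11

/-- maximal points: no proper generizations -/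
def MaxP {X : Type*} [TopologicalSpace X] (t : X) : Prop := ∀ a : X, a ⤳ t → a = t

theorem not_mem_closure_of_maxP {Y : Scheme.{u}} [QuasiSeparatedSpace Y] (Q : Set Y)
    (hQo : IsOpen Q) (hQc : IsCompact Q) (t : Y) (ht : MaxP t) (htQ : t ∉ Q) :
    t ∉ closure Q := by
  intro hcl
  have hR : IsRetrocompact Q := fun U hUc hUo => hQc.inter_of_isOpen hUc hQo hUo
  obtain ⟨e, he, hes⟩ :=
    IM1.exists_specializes_of_isLocallyConstructible (hR.isLocallyConstructible hQo) t hcl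
  exact htQ (ht e hes ▸ he)

theorem exists_disjoint_opens {Y : Scheme.{u}} [QuasiSeparatedSpace Y] (T : Set Y)
    (hT : IsCompact T) (hmax : ∀ t ∈ T, MaxP t) :
    ∃ (m : ℕ) (V N : Fin m → Y.Opens), (∀ i, IsAffineOpen (V i)) ∧ (∀ i, N i ≤ V i) ∧
      (∀ i j, i ≠ j → Disjoint (N i : Set Y) (N j : Set Y)) ∧ T ⊆ ⋃ i, (N i : Set Y) := by
  classical
  have hcover : T ⊆ ⋃ U : Y.affineOpens, ((U : Y.Opens) : Set Y) := by
    intro t _
    obtain ⟨W, hW, htW, -⟩ := Opens.isBasis_iff_nbhd.mp Y.isBasis_affineOpens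
      (show t ∈ (⊤ : Y.Opens) from trivial)
    exact Set.mem_iUnion.mpr ⟨⟨W, hW⟩, htW⟩
  obtain ⟨s, hs⟩ := hT.elim_finite_subcover (fun U : Y.affineOpens => ((U : Y.Opens) : Set Y))
    (fun U => U.1.isOpen) hcover
  let m := s.card
  let e : Fin m ≃ s := s.equivFin.symm
  let V : Fin m → Y.Opens := fun i => ((e i : s) : Y.affineOpens).1
  have hV : ∀ i, IsAffineOpen (V i) := fun i => ((e i : s) : Y.affineOpens).2
  let Q : Fin m → Set Y := fun i => ⋃ l : Fin m, ⋃ _ : l < i, (V l : Set Y)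
  have hQo : ∀ i, IsOpen (Q i) := fun i =>
    isOpen_iUnion fun l => isOpen_iUnion fun _ => (V l).isOpen
  have hQc : ∀ i, IsCompact (Q i) := fun i =>
    (Set.toFinite {l : Fin m | l < i}).isCompact_biUnion fun l _ => (hV l).isCompact
  let N : Fin m → Y.Opens := fun i =>
    ⟨(V i : Set Y) ∩ (closure (Q i))ᶜ, (V i).isOpen.inter isClosed_closure.isOpen_compl⟩
  have hdisj : ∀ i j, i < j → Disjoint (N i : Set Y) (N j : Set Y) := by
    intro i j hij
    rw [Set.disjoint_iff]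
    rintro x ⟨⟨hxi, -⟩, ⟨-, hxj⟩⟩
    apply hxj
    apply subset_closure
    exact Set.mem_iUnion₂.mpr ⟨i, hij, hxi⟩
  refine ⟨m, V, N, hV, fun i => fun x hx => hx.1, ?_, ?_⟩
  · intro i j hij
    rcases lt_or_gt_of_ne hij with h | h
    · exact hdisj i j h
    · exact (hdisj j i h).symm
  · intro t ht
    obtain ⟨U, hU⟩ := Set.mem_iUnion.mp (hs ht)
    obtain ⟨hUs, htU⟩ := Set.mem_iUnion.mp hU
    have hex : ∃ n : ℕ, ∃ h : n < m, t ∈ V ⟨n, h⟩ := by
      refine ⟨(e.symm ⟨U, hUs⟩ : Fin m).1, (e.symm ⟨U, hUs⟩ : Fin m).2, ?_⟩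
      show t ∈ ((e (e.symm ⟨U, hUs⟩) : s) : Y.affineOpens).1
      rw [Equiv.apply_symm_apply]
      exact htU
    obtain ⟨hn, htn⟩ := Nat.find_spec hex
    let i₀ : Fin m := ⟨Nat.find hex, hn⟩
    have hmin : t ∉ Q i₀ := by
      intro hq
      obtain ⟨l, hl, htl⟩ := Set.mem_iUnion₂.mp hq
      exact Nat.find_min hex (show l.1 < Nat.find hex from hl) ⟨l.2, htl⟩
    have h2 := not_mem_closure_of_maxP (Q i₀) (hQo i₀) (hQc i₀) t (hmax t ht) hmin
    exact Set.mem_iUnion.mpr ⟨i₀, htn, h2⟩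

theorem exists_basicOpen {Y : Scheme.{u}} (V : Y.Opens) (hV : IsAffineOpen V) (F : Set Y)
    (hF : IsClosed F) (N : Y.Opens) (hFN : F ⊆ N) (hNV : N ≤ V) :
    ∃ h : Γ(Y, V), F ⊆ Y.basicOpen h ∧ Y.basicOpen h ≤ N := by
  let φ := hV.fromSpec
  have hrange : Set.range φ = V := hV.range_fromSpec
  have hF' : IsClosed (φ ⁻¹' F) := hF.preimage φ.continuous
  have hN' : IsClosed (φ ⁻¹' (N : Set Y)ᶜ) := (N.isOpen.isClosed_compl).preimage φ.continuous
  obtain ⟨I, hI⟩ := (PrimeSpectrum.isClosed_iff_zeroLocus_ideal _).mp hF'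
  obtain ⟨J, hJ⟩ := (PrimeSpectrum.isClosed_iff_zeroLocus_ideal _).mp hN'
  have hIJ : I ⊔ J = ⊤ := by
    rw [← PrimeSpectrum.zeroLocus_empty_iff_eq_top, PrimeSpectrum.zeroLocus_sup, ← hI, ← hJ]
    rw [Set.eq_empty_iff_forall_notMem]
    rintro y ⟨hy1, hy2⟩
    exact hy2 (hFN hy1)
  obtain ⟨a, ha, h, hh, hah⟩ := Submodule.mem_sup.mp (hIJ ▸ Submodule.mem_top : (1 : Γ(Y, V)) ∈ I ⊔ J)
  refine ⟨h, ?_, ?_⟩
  · intro x hx
    have hxV : x ∈ Set.range φ := by rw [hrange]; exact hNV (hFN hx)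
    obtain ⟨y, rfl⟩ := hxV
    have hy : y ∈ PrimeSpectrum.zeroLocus (I : Set Γ(Y, V)) := by rw [← hI]; exact hx
    have hay : a ∈ y.asIdeal := hy ha
    have hhy : h ∉ y.asIdeal := by
      intro hhy
      have : (1 : Γ(Y, V)) ∈ y.asIdeal := hah ▸ y.asIdeal.add_mem hay hhy
      exact y.isPrime.ne_top (y.asIdeal.eq_top_iff_one.mpr this)
    rw [← hV.fromSpec_image_basicOpen]
    exact ⟨y, hhy, rfl⟩
  · intro x hx
    rw [← hV.fromSpec_image_basicOpen] at hx
    obtain ⟨y, hy, rfl⟩ := hx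
    by_contra hxN
    have hy2 : y ∈ PrimeSpectrum.zeroLocus (J : Set Γ(Y, V)) := by rw [← hJ]; exact hxN
    exact hy (hy2 hh)

end Groth.Agent.Lib.Helper11.PF2
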