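import Mathlib
import Groth.Agent.Lib.Helper11.PF2
import Groth.Agent.Lib.Helper11.GrpD
import Groth.Agent.Lib.Helper11.ActB
import Groth.Agent.Lib.Helper11.OrbA

/-!
# PF3: a morphism from a "profinite" affine scheme (universally closed over the base field, all
points rational) to a Jacobson group scheme with rational closed points has image in an affine
open (helper11).
-/

set_option autoImplicit false
universe u
open CategoryTheory MonoidalCategory CartesianMonoidalCategory MonObj AlgebraicGeometry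

namespace Groth.Agent.Lib.Helper11.PF3

open Groth.Agent.Lib.Helper11

theorem exists_of_isPullback {P X Y Z : Scheme.{u}} {fst' : P ⟶ X} {snd' : P ⟶ Y} {f : X ⟶ Z}
    {g : Y ⟶ Z} (h : IsPullback fst' snd' f g) (x : X) (y : Y) (hxy : f x = g y) :
    ∃ z : P, fst' z = x ∧ snd' z = y := by
  obtain ⟨z₀, h1, h2⟩ := Scheme.Pullback.exists_preimage_pullback (f := f) (g := g) x y hxy
  refine ⟨h.isoPullback.inv z₀, ?_, ?_⟩
  · rw [← Scheme.Hom.comp_apply, IsPullback.isoPullback_inv_fst, h1]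
  · rw [← Scheme.Hom.comp_apply, IsPullback.isoPullback_inv_snd, h2]

theorem maxP_of_iso {X : Scheme.{u}} (ρ ρ' : X ⟶ X) (h1 : ρ ≫ ρ' = 𝟙 X) (h2 : ρ' ≫ ρ = 𝟙 X)
    (ξ : X) (hξ : PF2.MaxP ξ) : PF2.MaxP (ρ ξ) := by
  intro a ha
  have h3 : ρ' a ⤳ ρ' (ρ ξ) := ha.map ρ'.continuous
  have h4 : ρ' (ρ ξ) = ξ := by rw [← Scheme.Hom.comp_apply, h1]; rfl
  rw [h4] at h3
  have h5 := hξ _ h3
  have h6 : ρ (ρ' a) = a := by rw [← Scheme.Hom.comp_apply, h2]; rfl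
  rw [← h6, h5]

variable {k : Type u} [Field k]

local notation "𝕊" => Spec (CommRingCat.of k)

section defs

/-- `Φ(s, x) = x⁻¹ f(s)` -/
noncomputable def Phi (G P : Over 𝕊) [GrpObj G] (fo : P ⟶ G) : P ⊗ G ⟶ G := (snd P G)⁻¹ * (fst P G ≫ fo)

/-- the section `x ↦ (σ, x)` -/
noncomputable def jj (G P : Over 𝕊) [GrpObj G] (σ : 𝟙_ (Over 𝕊) ⟶ P) : G ⟶ P ⊗ G := lift (toUnit G ≫ σ) (𝟙 G)

/-- `x ↦ x⁻¹ f(σ)` -/
noncomputable def rho (G P : Over 𝕊) [GrpObj G] (fo : P ⟶ G) (σ : 𝟙_ (Over 𝕊) ⟶ P) : G ⟶ G := (𝟙 G)⁻¹ * (toUnit G ≫ σ ≫ fo)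

/-- the inverse of `rho` -/
noncomputable def rho' (G P : Over 𝕊) [GrpObj G] (fo : P ⟶ G) (σ : 𝟙_ (Over 𝕊) ⟶ P) : G ⟶ G := (toUnit G ≫ σ ≫ fo) * (𝟙 G)⁻¹

theorem jj_fst (G P : Over 𝕊) [GrpObj G] (σ : 𝟙_ (Over 𝕊) ⟶ P) : jj G P σ ≫ fst P G = toUnit G ≫ σ := lift_fst _ _

theorem jj_snd (G P : Over 𝕊) [GrpObj G] (σ : 𝟙_ (Over 𝕊) ⟶ P) : jj G P σ ≫ snd P G = 𝟙 G := lift_snd _ _

theorem jj_Phi (G P : Over 𝕊) [GrpObj G] (fo : P ⟶ G) (σ : 𝟙_ (Over 𝕊) ⟶ P) : jj G P σ ≫ Phi G P fo = rho G P fo σ := by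
  show jj G P σ ≫ ((snd P G)⁻¹ * (fst P G ≫ fo)) = (𝟙 G)⁻¹ * (toUnit G ≫ σ ≫ fo)
  rw [MonObj.comp_mul, GrpObj.comp_inv, jj_snd, ← Category.assoc, jj_fst, Category.assoc]

theorem rho_rho' (G P : Over 𝕊) [GrpObj G] (fo : P ⟶ G) (σ : 𝟙_ (Over 𝕊) ⟶ P) : rho G P fo σ ≫ rho' G P fo σ = 𝟙 G := by
  have e1 : rho G P fo σ ≫ toUnit G = toUnit G := toUnit_unique _ _
  show rho G P fo σ ≫ ((toUnit G ≫ σ ≫ fo) * (𝟙 G)⁻¹) = 𝟙 G
  rw [MonObj.comp_mul, GrpObj.comp_inv, Category.comp_id, ← Category.assoc, e1]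
  show (toUnit G ≫ σ ≫ fo) * ((𝟙 G)⁻¹ * (toUnit G ≫ σ ≫ fo))⁻¹ = 𝟙 G
  group

theorem rho'_rho (G P : Over 𝕊) [GrpObj G] (fo : P ⟶ G) (σ : 𝟙_ (Over 𝕊) ⟶ P) : rho' G P fo σ ≫ rho G P fo σ = 𝟙 G := by
  have e1 : rho' G P fo σ ≫ toUnit G = toUnit G := toUnit_unique _ _
  show rho' G P fo σ ≫ ((𝟙 G)⁻¹ * (toUnit G ≫ σ ≫ fo)) = 𝟙 G
  rw [MonObj.comp_mul, GrpObj.comp_inv, Category.comp_id, ← Category.assoc, e1]
  show ((toUnit G ≫ σ ≫ fo) * (𝟙 G)⁻¹)⁻¹ * (toUnit G ≫ σ ≫ fo) = 𝟙 G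
  group

theorem isPullback_jj (G P : Over 𝕊) [GrpObj G] (σ : 𝟙_ (Over 𝕊) ⟶ P) :
    IsPullback (jj G P σ).left G.hom (fst P G).left σ.left := by
  have t : IsPullback (snd P G).left (fst P G).left G.hom P.hom :=
    (IsPullback.of_hasPullback P.hom G.hom).flip
  have e1 : (jj G P σ).left ≫ (snd P G).left = 𝟙 _ := by
    rw [← Over.comp_left, jj_snd]; rfl
  have e2 : σ.left ≫ P.hom = 𝟙 _ := Over.w σ
  have s : IsPullback ((jj G P σ).left ≫ (snd P G).left) G.hom G.hom (σ.left ≫ P.hom) := by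
    rw [e1, e2]
    exact IsPullback.of_id_fst
  have p : (jj G P σ).left ≫ (fst P G).left = G.hom ≫ σ.left := by
    rw [← Over.comp_left, jj_fst, Over.comp_left]
    congr 1
  exact IsPullback.of_right s p t

theorem eq_jj (G P : Over 𝕊) [GrpObj G] (σ : 𝟙_ (Over 𝕊) ⟶ P) (w : ↥(P ⊗ G).left) (pt : ↥(𝟙_ (Over 𝕊)).left)
    (hw : (fst P G).left w = σ.left pt) : w = (jj G P σ).left ((snd P G).left w) := by
  obtain ⟨z, hz, -⟩ := exists_of_isPullback (isPullback_jj G P σ) w pt hw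
  have : (snd P G).left w = z := by
    rw [← hz, ← Scheme.Hom.comp_apply, ← Over.comp_left, jj_snd]; rfl
  rw [this, hz]

end defs

theorem isCompact_fibre (G P : Over 𝕊) [IsAffineHom P.hom] (ξ : G.left) :
    IsCompact ((snd P G).left ⁻¹' {ξ}) := by
  let pr₂ := (snd P G).left
  haveI : IsAffineHom pr₂ := by
    show IsAffineHom (Limits.pullback.snd P.hom G.hom)
    exact MorphismProperty.pullback_snd (P := @IsAffineHom) _ _ inferInstance
  let rf := G.left.fromSpecResidueField ξ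
  haveI : IsAffine (Limits.pullback pr₂ rf) := isAffine_of_isAffineHom (Limits.pullback.snd pr₂ rf)
  have h1 : pr₂ ⁻¹' {ξ} = Set.range (Limits.pullback.fst pr₂ rf) := by
    rw [Scheme.Pullback.range_fst, Scheme.range_fromSpecResidueField]
  show IsCompact (pr₂ ⁻¹' {ξ})
  rw [h1]
  exact isCompact_range (Limits.pullback.fst pr₂ rf).continuous

theorem main (G : Over 𝕊) [GrpObj G] [JacobsonSpace G.left]
    (hrat : ∀ g : G.left, IsClosed ({g} : Set G.left) →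
      ∃ x : 𝟙_ (Over 𝕊) ⟶ G, ∀ t, x.left t = g)
    (P : Over 𝕊) [IsAffineHom P.hom] [UniversallyClosed P.hom]
    (hsec : ∀ s : P.left, ∃ σ : 𝟙_ (Over 𝕊) ⟶ P, ∀ t, σ.left t = s)
    (fo : P ⟶ G) : ∃ U : G.left.Opens, IsAffineOpen U ∧ Set.range fo.left ⊆ (U : Set G.left) := by
  classical
  haveI hsep : IsSeparated G.hom := GrpD.isSeparated_hom G
  haveI : QuasiSeparatedSpace ↥G.left := GrpD.quasiSeparatedSpace_left G
  -- a base point
  let pt₀ : ↥(𝟙_ (Over 𝕊)).left := (Classical.arbitrary ↥(Spec (CommRingCat.of k)))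
  haveI : Nonempty ↥G.left := ⟨(η[G] : 𝟙_ (Over 𝕊) ⟶ G).left pt₀⟩
  obtain ⟨ξ, hξ0⟩ := ActB.exists_isMaxPt ↥G.left
  have hξ : PF2.MaxP ξ := fun a ha => OrbA.eq_of_specializes_isMaxPt hξ0 ha
  let pr₂ := (snd P G).left
  let Φ := (Phi G P fo).left
  haveI : UniversallyClosed pr₂ := by
    show UniversallyClosed (Limits.pullback.snd P.hom G.hom); infer_instance
  have hcl : IsClosedMap pr₂ := pr₂.isClosedMap
  let Fib : Set ↥(P ⊗ G).left := pr₂ ⁻¹' {ξ}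
  have hFib : IsCompact Fib := isCompact_fibre G P ξ
  let T : Set ↥G.left := Φ '' Fib
  have hT : IsCompact T := hFib.image Φ.continuous
  -- description of the fibre
  have hfib : ∀ w : ↥(P ⊗ G).left, ∃ σ : 𝟙_ (Over 𝕊) ⟶ P,
      w = (jj G P σ).left (pr₂ w) := by
    intro w
    obtain ⟨σ, hσ⟩ := hsec ((fst P G).left w)
    exact ⟨σ, eq_jj G P σ w pt₀ (hσ pt₀).symm⟩
  have hΦjj : ∀ (σ : 𝟙_ (Over 𝕊) ⟶ P) (z : ↥G.left),
      Φ ((jj G P σ).left z) = (rho G P fo σ).left z := by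
    intro σ z
    show (Phi G P fo).left ((jj G P σ).left z) = _
    rw [← Scheme.Hom.comp_apply, ← Over.comp_left, jj_Phi]
  have hmax : ∀ t ∈ T, PF2.MaxP t := by
    rintro _ ⟨w, hw, rfl⟩
    obtain ⟨σ, hσ⟩ := hfib w
    have hwξ : pr₂ w = ξ := hw
    rw [hσ, hwξ, hΦjj]
    refine maxP_of_iso (rho G P fo σ).left (rho' G P fo σ).left ?_ ?_ ξ hξ
    · rw [← Over.comp_left, rho_rho']; rfl
    · rw [← Over.comp_left, rho'_rho]; rfl
  obtain ⟨m, V, N, hV, hNV, hdisj, hTN⟩ := PF2.exists_disjoint_opens T hT hmax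
  let NN : Set ↥G.left := ⋃ i, (N i : Set ↥G.left)
  have hNNo : IsOpen NN := isOpen_iUnion fun i => (N i).isOpen
  let B : Set ↥G.left := pr₂ '' (Φ ⁻¹' NNᶜ)
  have hB : IsClosed B := hcl _ (hNNo.isClosed_compl.preimage Φ.continuous)
  have hξB : ξ ∉ B := by
    rintro ⟨w, hw, hwξ⟩
    exact hw (hTN ⟨w, hwξ, rfl⟩)
  obtain ⟨g, hgO, hgcl⟩ := nonempty_inter_closedPoints (X := ↥G.left) (Z := Bᶜ) ⟨ξ, hξB⟩
    hB.isOpen_compl.isLocallyClosed
  obtain ⟨x, hx⟩ := hrat g hgcl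
  -- translation by x⁻¹
  let L' : G ⟶ G := (toUnit G ≫ x⁻¹) * 𝟙 G
  let L : G ⟶ G := (toUnit G ≫ x) * 𝟙 G
  have hLL' : L ≫ L' = 𝟙 G := by
    have e1 : L ≫ toUnit G = toUnit G := toUnit_unique _ _
    show L ≫ ((toUnit G ≫ x⁻¹) * 𝟙 G) = 𝟙 G
    rw [MonObj.comp_mul, Category.comp_id, ← Category.assoc, e1]
    show (toUnit G ≫ x⁻¹) * ((toUnit G ≫ x) * 𝟙 G) = 𝟙 G
    rw [GrpObj.comp_inv]
    group
  have hL'L : L' ≫ L = 𝟙 G := by
    have e1 : L' ≫ toUnit G = toUnit G := toUnit_unique _ _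
    show L' ≫ ((toUnit G ≫ x) * 𝟙 G) = 𝟙 G
    rw [MonObj.comp_mul, Category.comp_id, ← Category.assoc, e1]
    show (toUnit G ≫ x) * ((toUnit G ≫ x⁻¹) * 𝟙 G) = 𝟙 G
    rw [GrpObj.comp_inv]
    group
  haveI : IsIso L'.left := ⟨L.left, by rw [← Over.comp_left, hL'L]; rfl,
    by rw [← Over.comp_left, hLL']; rfl⟩
  let f' : P ⟶ G := fo ≫ L'
  -- f' lands in NN
  have hf'NN : ∀ s : ↥P.left, f'.left s ∈ NN := by
    intro s
    obtain ⟨σ, hσ⟩ := hsec s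
    have h1 : Φ ((jj G P σ).left g) ∈ NN := by
      by_contra hcon
      apply hgO
      refine ⟨(jj G P σ).left g, hcon, ?_⟩
      show (snd P G).left ((jj G P σ).left g) = g
      rw [← Scheme.Hom.comp_apply, ← Over.comp_left, jj_snd]; rfl
    rw [hΦjj] at h1
    have h2 : σ ≫ f' = x ≫ rho G P fo σ := by
      have e0 : ∀ u : 𝟙_ (Over 𝕊) ⟶ G, u ≫ toUnit G = 𝟙 _ := fun u => toUnit_unique _ _
      have l1 : σ ≫ f' = x⁻¹ * (σ ≫ fo) := by
        show σ ≫ fo ≫ ((toUnit G ≫ x⁻¹) * 𝟙 G) = _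
        rw [← Category.assoc, MonObj.comp_mul, Category.comp_id, ← Category.assoc, e0,
          Category.id_comp]
      have l2 : x ≫ rho G P fo σ = x⁻¹ * (σ ≫ fo) := by
        show x ≫ ((𝟙 G)⁻¹ * (toUnit G ≫ σ ≫ fo)) = _
        rw [MonObj.comp_mul, GrpObj.comp_inv, Category.comp_id, ← Category.assoc, e0,
          Category.id_comp]
      rw [l1, l2]
    have h3 : f'.left s = (rho G P fo σ).left g := by
      rw [← hσ pt₀, ← hx pt₀, ← Scheme.Hom.comp_apply, ← Scheme.Hom.comp_apply,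
        ← Over.comp_left, ← Over.comp_left, h2]
    rw [h3]
    exact h1
  -- f' is a closed map
  haveI : UniversallyClosed (f'.left ≫ G.hom) := by rw [Over.w f']; infer_instance
  haveI : UniversallyClosed f'.left := UniversallyClosed.of_comp_of_isSeparated f'.left G.hom
  have hrcl : IsClosed (Set.range f'.left) := by
    rw [← Set.image_univ]
    exact f'.left.isClosedMap _ isClosed_univ
  -- the pieces
  let F : Fin m → Set ↥G.left := fun i => Set.range f'.left ∩ (N i : Set ↥G.left)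
  have hFeq : ∀ i, F i = Set.range f'.left ∩
      (⋃ j : Fin m, ⋃ _ : j ≠ i, (N j : Set ↥G.left))ᶜ := by
    intro i
    ext y
    constructor
    · rintro ⟨hy1, hy2⟩
      refine ⟨hy1, fun hy3 => ?_⟩
      obtain ⟨j, hj, hyj⟩ := Set.mem_iUnion₂.mp hy3
      exact Set.disjoint_iff.mp (hdisj j i hj) ⟨hyj, hy2⟩
    · rintro ⟨⟨s, rfl⟩, hy2⟩
      refine ⟨⟨s, rfl⟩, ?_⟩
      obtain ⟨j, hj⟩ := Set.mem_iUnion.mp (hf'NN s)
      by_cases hji : j = i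
      · exact hji ▸ hj
      · exact absurd (Set.mem_iUnion₂.mpr ⟨j, hji, hj⟩) hy2
  have hFcl : ∀ i, IsClosed (F i) := by
    intro i
    rw [hFeq]
    refine hrcl.inter (IsOpen.isClosed_compl ?_)
    exact isOpen_iUnion fun j => isOpen_iUnion fun _ => (N j).isOpen
  have hex : ∀ i, ∃ h : Γ(G.left, V i), F i ⊆ G.left.basicOpen h ∧ G.left.basicOpen h ≤ N i :=
    fun i => PF2.exists_basicOpen (V i) (hV i) (F i) (hFcl i) (N i) Set.inter_subset_right (hNV i)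
  choose h hh1 hh2 using hex
  let D : Fin m → G.left.Opens := fun i => G.left.basicOpen (h i)
  have hDaff : ∀ i, IsAffineOpen (D i) := fun i => (hV i).basicOpen (h i)
  have hDdisj : Pairwise (Function.onFun Disjoint D) := by
    intro i j hij
    show Disjoint (D i) (D j)
    rw [← TopologicalSpace.Opens.coe_disjoint]
    exact (hdisj i j hij).mono (hh2 i) (hh2 j)
  have hU' : IsAffineOpen (iSup D) := IsAffineOpen.iSup_of_disjoint hDaff hDdisj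
  refine ⟨L'.left ⁻¹ᵁ iSup D, hU'.preimage_of_isIso L'.left, ?_⟩
  rintro _ ⟨s, rfl⟩
  show L'.left (fo.left s) ∈ iSup D
  have e1 : L'.left (fo.left s) = f'.left s := by
    rw [← Scheme.Hom.comp_apply, ← Over.comp_left]
  rw [e1]
  obtain ⟨i, hi⟩ := Set.mem_iUnion.mp (hf'NN s)
  exact TopologicalSpace.Opens.mem_iSup.mpr ⟨i, hh1 i ⟨⟨s, rfl⟩, hi⟩⟩

end Groth.Agent.Lib.Helper11.PF3
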