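import Mathlib
import Groth.Agent.Lib.Helper11.PF3

/-!
# ArtB: schemes over a local artinian base (helper11)
-/

set_option autoImplicit false
universe u

open CategoryTheory CategoryTheory.Limits MonoidalCategory CartesianMonoidalCategory AlgebraicGeometry
  MorphismProperty Topology

namespace Groth.Agent.Lib.Helper11.ArtB

/-- universal openness can be tested after base change along a surjective closed immersion -/
theorem universallyOpen_of_closedImmersion {Y S S₀ : Scheme.{u}} (f : Y ⟶ S) (i : S₀ ⟶ S)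
    [IsClosedImmersion i] [Surjective i] [UniversallyOpen (pullback.snd f i)] :
    UniversallyOpen f := by
  refine ⟨universally_mk' _ _ fun {T} g _ => ?_⟩
  change IsOpenMap ⇑(pullback.fst g f)
  intro U hU
  obtain ⟨a, ha⟩ : ∃ a, a = pullback.fst g f := ⟨_, rfl⟩
  obtain ⟨b, hb⟩ : ∃ b, b = pullback.snd g f := ⟨_, rfl⟩
  have hP : IsPullback a b g f := by rw [ha, hb]; exact IsPullback.of_hasPullback _ _
  obtain ⟨r1, hr1⟩ : ∃ r1, r1 = pullback.fst (a ≫ g) i := ⟨_, rfl⟩
  obtain ⟨r2, hr2⟩ : ∃ r2, r2 = pullback.snd (a ≫ g) i := ⟨_, rfl⟩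
  have hR : IsPullback r1 r2 (a ≫ g) i := by rw [hr1, hr2]; exact IsPullback.of_hasPullback _ _
  obtain ⟨j, hj⟩ : ∃ j, j = pullback.fst g i := ⟨_, rfl⟩
  obtain ⟨j2, hj2⟩ : ∃ j2, j2 = pullback.snd g i := ⟨_, rfl⟩
  have hT₀ : IsPullback j j2 g i := by rw [hj, hj2]; exact IsPullback.of_hasPullback _ _
  have hY₀ : IsPullback (pullback.fst f i) (pullback.snd f i) f i := IsPullback.of_hasPullback _ _
  have hc1 : (r1 ≫ a) ≫ g = r2 ≫ i := by rw [Category.assoc]; exact hR.w
  obtain ⟨ρ, hρ1, hρ2⟩ : ∃ ρ : pullback (a ≫ g) i ⟶ pullback g i, ρ ≫ j = r1 ≫ a ∧ ρ ≫ j2 = r2 := by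
    refine ⟨pullback.lift (r1 ≫ a) r2 hc1, ?_, ?_⟩
    · rw [hj]; exact pullback.lift_fst _ _ _
    · rw [hj2]; exact pullback.lift_snd _ _ _
  have hsq1 : IsPullback ρ r1 j a := by
    refine IsPullback.of_right ?_ hρ1 hT₀.flip
    rw [hρ2]; exact hR.flip
  have hbig : IsPullback (r1 ≫ b) ρ f (j ≫ g) := hsq1.flip.paste_horiz hP.flip
  have hc2 : (r1 ≫ b) ≫ f = r2 ≫ i := by
    rw [Category.assoc, ← hP.w, ← Category.assoc]; exact hc1
  obtain ⟨σ, hσ1, hσ2⟩ : ∃ σ : pullback (a ≫ g) i ⟶ pullback f i,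
      σ ≫ pullback.fst f i = r1 ≫ b ∧ σ ≫ pullback.snd f i = r2 :=
    ⟨pullback.lift (r1 ≫ b) r2 hc2, pullback.lift_fst _ _ _, pullback.lift_snd _ _ _⟩
  have hsq2 : IsPullback σ ρ (pullback.snd f i) j2 := by
    refine IsPullback.of_right ?_ (hσ2.trans hρ2.symm) hY₀
    rw [hσ1, ← hT₀.w]; exact hbig
  haveI : UniversallyOpen ρ :=
    MorphismProperty.of_isPullback (P := @UniversallyOpen) hsq2 inferInstance
  have hρo : IsOpenMap ⇑ρ := ρ.isOpenMap
  haveI : Surjective r1 := by rw [hr1]; infer_instance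
  haveI : Surjective j := by rw [hj]; infer_instance
  haveI : IsClosedImmersion j := by rw [hj]; infer_instance
  have hjq : IsQuotientMap ⇑j :=
    j.isClosedEmbedding.isClosedMap.isQuotientMap j.continuous j.surjective
  rw [← ha, ← hjq.isOpen_preimage]
  have hset : ⇑j ⁻¹' (⇑a '' U) = ⇑ρ '' (⇑r1 ⁻¹' U) := by
    ext t₀
    constructor
    · rintro ⟨p, hpU, hp⟩
      obtain ⟨x, rfl⟩ := r1.surjective p
      refine ⟨x, hpU, ?_⟩
      apply j.isClosedEmbedding.injective
      rw [← hp, ← Scheme.Hom.comp_apply, hρ1, Scheme.Hom.comp_apply]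
    · rintro ⟨x, hx, rfl⟩
      refine ⟨r1 x, hx, ?_⟩
      rw [← Scheme.Hom.comp_apply, ← Scheme.Hom.comp_apply, hρ1]
  rw [hset]
  exact hρo _ (hU.preimage r1.continuous)

/-- every morphism to the spectrum of a local artinian ring is universally open -/
theorem universallyOpen_of_artinianLocal (A : Type u) [CommRing A] [IsArtinianRing A]
    [IsLocalRing A] {Y : Scheme.{u}} (f : Y ⟶ Spec (CommRingCat.of A)) : UniversallyOpen f := by
  let i : Spec (CommRingCat.of (IsLocalRing.ResidueField A)) ⟶ Spec (CommRingCat.of A) :=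
    Spec.map (CommRingCat.ofHom (IsLocalRing.residue A))
  haveI : IsClosedImmersion i :=
    IsClosedImmersion.spec_of_surjective _ IsLocalRing.residue_surjective
  haveI : Subsingleton ↥(Spec (CommRingCat.of A)) :=
    Ring.KrullDimLE.subsingleton_primeSpectrum A
  haveI : Nonempty ↥(Spec (CommRingCat.of (IsLocalRing.ResidueField A))) :=
    inferInstanceAs (Nonempty (PrimeSpectrum (IsLocalRing.ResidueField A)))
  haveI : Surjective i := ⟨fun y => ⟨Classical.arbitrary _, Subsingleton.elim _ _⟩⟩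
  haveI : Subsingleton ↥(Spec (CommRingCat.of (IsLocalRing.ResidueField A))) :=
    inferInstanceAs (Subsingleton (PrimeSpectrum (IsLocalRing.ResidueField A)))
  haveI : UniversallyOpen (pullback.snd f i) := inferInstance
  exact universallyOpen_of_closedImmersion f i

theorem subsingleton_spec_artinianLocal (A : Type u) [CommRing A] [IsArtinianRing A]
    [IsLocalRing A] : Subsingleton ↥(Spec (CommRingCat.of A)) :=
  Ring.KrullDimLE.subsingleton_primeSpectrum A

/-- dense range is preserved by base change along an open map -/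
theorem denseRange_of_isPullback {P Z X X' : Scheme.{u}} {a : P ⟶ Z} {b : P ⟶ X'} {p : Z ⟶ X}
    {f : X' ⟶ X} (h : IsPullback a b p f) (hp : IsOpenMap ⇑p) (hf : DenseRange ⇑f) :
    DenseRange ⇑a := by
  rw [DenseRange, dense_iff_inter_open]
  intro W hW hne
  have h1 : (⇑p '' W).Nonempty := hne.image _
  obtain ⟨_, ⟨w, hwW, rfl⟩, ⟨x', hx'⟩⟩ := hf.inter_open_nonempty _ (hp W hW) h1
  obtain ⟨q, hq1, -⟩ := PF3.exists_of_isPullback h w x' hx'.symm
  exact ⟨w, hwW, q, hq1⟩

section Over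

variable {S : Scheme.{u}}

theorem isPullback_whiskerRight {A B : Over S} (f : A ⟶ B) (Y : Over S) :
    IsPullback (f ▷ Y).left (pullback.fst A.hom Y.hom) (pullback.fst B.hom Y.hom) f.left := by
  have hr : IsPullback (pullback.snd B.hom Y.hom) (pullback.fst B.hom Y.hom) Y.hom B.hom :=
    (IsPullback.of_hasPullback B.hom Y.hom).flip
  have ho : IsPullback ((f ▷ Y).left ≫ pullback.snd B.hom Y.hom) (pullback.fst A.hom Y.hom)
      Y.hom (f.left ≫ B.hom) := by
    rw [Over.whiskerRight_left_snd, Over.w f]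
    exact (IsPullback.of_hasPullback A.hom Y.hom).flip
  exact IsPullback.of_right ho (Over.whiskerRight_left_fst f) hr

theorem isPullback_whiskerLeft {A B : Over S} (f : A ⟶ B) (Y : Over S) :
    IsPullback (Y ◁ f).left (pullback.snd Y.hom A.hom) (pullback.snd Y.hom B.hom) f.left := by
  have hr : IsPullback (pullback.fst Y.hom B.hom) (pullback.snd Y.hom B.hom) Y.hom B.hom :=
    IsPullback.of_hasPullback Y.hom B.hom
  have ho : IsPullback ((Y ◁ f).left ≫ pullback.fst Y.hom B.hom) (pullback.snd Y.hom A.hom)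
      Y.hom (f.left ≫ B.hom) := by
    rw [Over.whiskerLeft_left_fst, Over.w f]
    exact IsPullback.of_hasPullback Y.hom A.hom
  exact IsPullback.of_right ho (Over.whiskerLeft_left_snd f) hr

end Over

end Groth.Agent.Lib.Helper11.ArtB
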