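import Mathlib
import Groth.Agent.Lib.Helper11.GrpE
import Groth.Prelude.Def_SGA3x
import Groth.Prelude.Def_Red

/-!
# Neutral components of the fibres of a group scheme over a general base (helper11)
-/

set_option autoImplicit false
universe u

open CategoryTheory CategoryTheory.Limits MonoidalCategory CartesianMonoidalCategory MonObj GrpObj
  AlgebraicGeometry

namespace Groth.Agent.Lib.Helper11.NC1

theorem apply_congr {X Y : Scheme.{u}} {f g : X ⟶ Y} (h : f = g) (z : X) : f z = g z := by rw [h]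

/-- image of a connected component under an embedding -/
theorem image_connectedComponent_of_isEmbedding {A B : Type*} [TopologicalSpace A]
    [TopologicalSpace B] {j : A → B} (hj : Topology.IsEmbedding j) (a : A) :
    j '' connectedComponent a = connectedComponentIn (Set.range j) (j a) := by
  apply Set.Subset.antisymm
  · apply IsPreconnected.subset_connectedComponentIn
    · exact isPreconnected_connectedComponent.image _ hj.continuous.continuousOn
    · exact ⟨a, mem_connectedComponent, rfl⟩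
    · rintro _ ⟨b, -, rfl⟩; exact ⟨b, rfl⟩
  · intro y hy
    have hsub : connectedComponentIn (Set.range j) (j a) ⊆ Set.range j :=
      connectedComponentIn_subset _ _
    obtain ⟨b, rfl⟩ := hsub hy
    refine ⟨b, ?_, rfl⟩
    have hpre : IsPreconnected (j ⁻¹' connectedComponentIn (Set.range j) (j a)) := by
      rw [← hj.isInducing.isPreconnected_image, Set.image_preimage_eq_inter_range,
        Set.inter_eq_left.mpr hsub]
      exact isPreconnected_connectedComponentIn
    exact hpre.subset_connectedComponent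
      (show a ∈ j ⁻¹' _ from mem_connectedComponentIn ⟨a, rfl⟩) hy

variable {S : Scheme.{u}}

section bc

variable {S' : Scheme.{u}} (t : S' ⟶ S) (G : Over S) [GrpObj G]

/-- the projection from the base change -/
noncomputable abbrev prj (X : Over S) : ((Over.pullback t).obj X).left ⟶ X.left :=
  pullback.fst X.hom t

lemma map_left_prj {X Y : Over S} (h : X ⟶ Y) :
    ((Over.pullback t).map h).left ≫ prj t Y = prj t X ≫ h.left := by
  show pullback.lift _ _ _ ≫ _ = _
  exact pullback.lift_fst _ _ _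

lemma prj_hom (X : Over S) : prj t X ≫ X.hom = ((Over.pullback t).obj X).hom ≫ t :=
  pullback.condition

/-- the comparison of the squares -/
noncomputable def m2 : (Red.bc t G ⊗ Red.bc t G).left ⟶ (G ⊗ G).left :=
  (Functor.LaxMonoidal.μ (Over.pullback t) G G).left ≫ prj t (G ⊗ G)

omit [GrpObj G] in
lemma m2_fst : m2 t G ≫ (fst G G).left = (fst (Red.bc t G) (Red.bc t G)).left ≫ prj t G := by
  unfold m2
  rw [Category.assoc, ← map_left_prj, ← Category.assoc, ← Over.comp_left,
    Functor.Monoidal.μ_fst]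

omit [GrpObj G] in
lemma m2_snd : m2 t G ≫ (snd G G).left = (snd (Red.bc t G) (Red.bc t G)).left ≫ prj t G := by
  unfold m2
  rw [Category.assoc, ← map_left_prj, ← Category.assoc, ← Over.comp_left,
    Functor.Monoidal.μ_snd]

lemma m2_mul : m2 t G ≫ μ[G].left = μ[Red.bc t G].left ≫ prj t G := by
  unfold m2
  rw [Category.assoc, ← map_left_prj, ← Category.assoc, ← Over.comp_left]
  rfl

/-- the comparison of the units -/
noncomputable def u1 : (𝟙_ (Over S')).left ⟶ (𝟙_ (Over S)).left :=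
  (Functor.LaxMonoidal.ε (Over.pullback t)).left ≫ prj t (𝟙_ (Over S))

lemma u1_unit : u1 t ≫ η[G].left = η[Red.bc t G].left ≫ prj t G := by
  unfold u1
  rw [Category.assoc, ← map_left_prj, ← Category.assoc, ← Over.comp_left]
  rfl

lemma u1_hom : u1 t ≫ (𝟙_ (Over S)).hom = (𝟙_ (Over S')).hom ≫ t := by
  unfold u1
  rw [Category.assoc, prj_hom, ← Category.assoc, Over.w]

lemma unit_hom_injective (a b : ↥(𝟙_ (Over S)).left)
    (h : (𝟙_ (Over S)).hom a = (𝟙_ (Over S)).hom b) : a = b := by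
  change (𝟙 S : S ⟶ S) a = (𝟙 S : S ⟶ S) b at h
  simpa using h

lemma prj_unit (p' : ↥(𝟙_ (Over S')).left) (p : ↥(𝟙_ (Over S)).left)
    (hp : (𝟙_ (Over S)).hom p = t ((𝟙_ (Over S')).hom p')) :
    prj t G (η[Red.bc t G].left p') = η[G].left p := by
  have h1 := apply_congr (u1_unit t G) p'
  simp only [Scheme.Hom.comp_apply] at h1
  rw [← h1]
  congr 1
  apply unit_hom_injective
  have h2 := apply_congr (u1_hom t) p'
  simp only [Scheme.Hom.comp_apply] at h2
  rw [h2, hp]

lemma hom_unit (p : ↥(𝟙_ (Over S)).left) : G.hom (η[G].left p) = (𝟙_ (Over S)).hom p := by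
  have := apply_congr (Over.w η[G]) p
  simpa only [Scheme.Hom.comp_apply] using this

end bc

section KL

variable (G : Over S) [GrpObj G]

theorem isAffineOpen_prod {A B : Over S} (V : S.Opens) (hV : IsAffineOpen V) (U : A.left.Opens)
    (W : B.left.Opens) (hU : IsAffineOpen U) (hW : IsAffineOpen W) (hUV : U ≤ A.hom ⁻¹ᵁ V)
    (hWV : W ≤ B.hom ⁻¹ᵁ V) :
    IsAffineOpen ((fst A B).left ⁻¹ᵁ U ⊓ (snd A B).left ⁻¹ᵁ W) := by
  haveI : IsAffine V.toScheme := hV
  haveI : IsAffine U.toScheme := hU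
  haveI : IsAffine W.toScheme := hW
  have H := Scheme.Hom.isPullback_resLE (IsPullback.of_hasPullback A.hom B.hom)
    (US := V) (UT := W) (UX := U) hWV hUV rfl
  exact .of_isIso H.isoPullback.hom

/-- Key lemma: a point of the neutral component of a fibre is a product of two points of any
neighbourhood of the unit point. -/
theorem KL (p : ↥(𝟙_ (Over S)).left) (x : G.left)
    (hx : x ∈ connectedComponentIn (G.hom.base ⁻¹' {(𝟙_ (Over S)).hom.base p})
      (η[G].left.base p))
    (U : G.left.Opens) (hU : η[G].left.base p ∈ U) :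
    ∃ ζ : ↥(G ⊗ G).left, (fst G G).left ζ ∈ U ∧ (snd G G).left ζ ∈ U ∧ μ[G].left ζ = x := by
  change x ∈ connectedComponentIn (⇑G.hom ⁻¹' {(𝟙_ (Over S)).hom p}) (η[G].left p) at hx
  change η[G].left p ∈ U at hU
  obtain ⟨s, hs⟩ : ∃ s : S, s = (𝟙_ (Over S)).hom p := ⟨_, rfl⟩
  rw [← hs] at hx
  let t : Spec (CommRingCat.of (S.residueField s)) ⟶ S := S.fromSpecResidueField s
  let pt : ↥(Spec (CommRingCat.of (S.residueField s))) :=
    IsLocalRing.closedPoint (S.residueField s)
  let j : (Red.bc t G).left ⟶ G.left := prj t G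
  have hjemb : Topology.IsEmbedding ⇑j := (G.hom.fiberι s).isEmbedding
  have hjrange : Set.range ⇑j = ⇑G.hom ⁻¹' {s} := G.hom.range_fiberι s
  have hp : (𝟙_ (Over S)).hom p =
      t ((𝟙_ (Over (Spec (CommRingCat.of (S.residueField s))))).hom pt) := by
    rw [← hs]
    exact (Scheme.fromSpecResidueField_apply s _).symm
  have hju : j (η[Red.bc t G].left pt) = η[G].left p := prj_unit t G pt p hp
  have himg : ⇑j '' connectedComponent (η[Red.bc t G].left pt) =
      connectedComponentIn (⇑G.hom ⁻¹' {s}) (η[G].left p) := by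
    rw [image_connectedComponent_of_isEmbedding hjemb, hjrange, hju]
  rw [← himg] at hx
  obtain ⟨g, hg, rfl⟩ := hx
  have hZ := irreducibleComponent_mem_irreducibleComponents (η[Red.bc t G].left pt)
  have hcc := GrpE.connectedComponent_unit_eq (Red.bc t G) pt _ hZ mem_irreducibleComponent
  rw [hcc] at hg
  obtain ⟨ζ, h1, h2, h3⟩ := GrpD.exists_mul_eq_of_mem_unit_component (Red.bc t G) pt _ hZ
    mem_irreducibleComponent (j ⁻¹ᵁ U) (by show j _ ∈ U; rw [hju]; exact hU) g hg
  refine ⟨m2 t G ζ, ?_, ?_, ?_⟩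
  · have := apply_congr (m2_fst t G) ζ
    simp only [Scheme.Hom.comp_apply] at this
    rw [this]; exact h1
  · have := apply_congr (m2_snd t G) ζ
    simp only [Scheme.Hom.comp_apply] at this
    rw [this]; exact h2
  · have := apply_congr (m2_mul t G) ζ
    simp only [Scheme.Hom.comp_apply] at this
    rw [this, h3]

/-- the unit section on points -/
noncomputable def e : S → G.left := fun s => η[G].left (show ↥(𝟙_ (Over S)).left from s)

lemma e_continuous : Continuous (e G) := η[G].left.continuous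

lemma hom_e (s : S) : G.hom (e G s) = s := hom_unit G s

lemma hom_mul (ζ : ↥(G ⊗ G).left) : G.hom (μ[G].left ζ) = G.hom ((fst G G).left ζ) := by
  have a := apply_congr (Over.w μ[G]) ζ
  have b := apply_congr (Over.w (fst G G)) ζ
  simp only [Scheme.Hom.comp_apply] at a b
  rw [a, b]

theorem quasiCompact_of_connected
    (hconn : ∀ s : S, _root_.IsConnected (G.hom.base ⁻¹' {s})) : QuasiCompact G.hom := by
  rw [quasiCompact_iff_forall_isAffineOpen]
  intro V hV
  have H : ∀ s : S, ∃ W : G.left.Opens,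
      s ∈ V → (IsAffineOpen W ∧ e G s ∈ W ∧ W ≤ G.hom ⁻¹ᵁ V) := by
    intro s
    by_cases hs : s ∈ V
    · obtain ⟨W, h1, h2, h3⟩ := exists_isAffineOpen_mem_and_subset (x := e G s)
        (U := G.hom ⁻¹ᵁ V) (by show G.hom (e G s) ∈ V; rw [hom_e]; exact hs)
      exact ⟨W, fun _ => ⟨h1, h2, fun a ha => h3 ha⟩⟩
    · exact ⟨⊥, fun h => absurd h hs⟩
  choose W hW using H
  obtain ⟨T, hTV, hTcov⟩ := hV.isCompact.elim_nhds_subcover
    (fun s => e G ⁻¹' (W s : Set G.left))
    (fun s hs => ((W s).isOpen.preimage (e_continuous G)).mem_nhds (hW s hs).2.1)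
  have hWc : ∀ i ∈ T, IsCompact (((fst G G).left ⁻¹ᵁ W i ⊓ (snd G G).left ⁻¹ᵁ W i :
      (G ⊗ G).left.Opens) : Set ↥(G ⊗ G).left) := fun i hi =>
    (isAffineOpen_prod V hV (W i) (W i) (hW i (hTV i hi)).1 (hW i (hTV i hi)).1
      (hW i (hTV i hi)).2.2 (hW i (hTV i hi)).2.2).isCompact
  have heq : ((G.hom ⁻¹ᵁ V : G.left.Opens) : Set G.left) =
      ⋃ i ∈ T, ⇑μ[G].left '' (((fst G G).left ⁻¹ᵁ W i ⊓ (snd G G).left ⁻¹ᵁ W i :
        (G ⊗ G).left.Opens) : Set ↥(G ⊗ G).left) := by
    apply Set.Subset.antisymm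
    · intro x hx
      have hxV : G.hom x ∈ V := hx
      obtain ⟨i, hiT, hi⟩ : ∃ i ∈ T, e G (G.hom x) ∈ W i := by
        simpa using hTcov hxV
      have hmem : x ∈ connectedComponentIn
          (G.hom.base ⁻¹' {(𝟙_ (Over S)).hom.base (show ↥(𝟙_ (Over S)).left from G.hom x)})
          (η[G].left.base (show ↥(𝟙_ (Over S)).left from G.hom x)) := by
        change x ∈ connectedComponentIn (G.hom.base ⁻¹' {G.hom x}) (e G (G.hom x))
        rw [(hconn (G.hom x)).isPreconnected.connectedComponentIn (hom_e G _)]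
        rfl
      obtain ⟨ζ, h1, h2, h3⟩ := KL G _ x hmem (W i) hi
      exact Set.mem_biUnion hiT ⟨ζ, ⟨h1, h2⟩, h3⟩
    · intro x hx
      simp only [Set.mem_iUnion] at hx
      obtain ⟨i, hiT, ζ, ⟨h1, -⟩, rfl⟩ := hx
      show G.hom (μ[G].left ζ) ∈ V
      rw [hom_mul]
      exact (hW i (hTV i hiT)).2.2 h1
  rw [heq]
  exact T.isCompact_biUnion (fun i hi => (hWc i hi).image μ[G].left.continuous)

theorem exists_compact_open [CompactSpace S] :
    ∃ U : G.left.Opens, IsCompact (U : Set G.left) ∧ SGA3x.neutralSet G ⊆ U := by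
  have H : ∀ s : S, ∃ (V : S.Opens) (W : G.left.Opens),
      IsAffineOpen V ∧ IsAffineOpen W ∧ e G s ∈ W ∧ W ≤ G.hom ⁻¹ᵁ V := by
    intro s
    obtain ⟨V, hV, hsV, -⟩ := exists_isAffineOpen_mem_and_subset (x := s) (U := ⊤) trivial
    obtain ⟨W, h1, h2, h3⟩ := exists_isAffineOpen_mem_and_subset (x := e G s)
      (U := G.hom ⁻¹ᵁ V) (by show G.hom (e G s) ∈ V; rw [hom_e]; exact hsV)
    exact ⟨V, W, hV, h1, h2, fun a ha => h3 ha⟩
  choose V W hV hW heW hWV using H
  obtain ⟨T, -, hTcov⟩ := isCompact_univ.elim_nhds_subcover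
    (fun s => e G ⁻¹' (W s : Set G.left))
    (fun s _ => ((W s).isOpen.preimage (e_continuous G)).mem_nhds (heW s))
  obtain ⟨K, hKdef⟩ : ∃ K : Set G.left, K = ⋃ i ∈ T, ⇑μ[G].left ''
      (((fst G G).left ⁻¹ᵁ W i ⊓ (snd G G).left ⁻¹ᵁ W i :
        (G ⊗ G).left.Opens) : Set ↥(G ⊗ G).left) := ⟨_, rfl⟩
  have hK : IsCompact K := by
    rw [hKdef]
    exact T.isCompact_biUnion (fun i _ =>
      ((isAffineOpen_prod (V i) (hV i) (W i) (W i) (hW i) (hW i) (hWV i) (hWV i)).isCompact).image
        μ[G].left.continuous)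
  have hsub : SGA3x.neutralSet G ⊆ K := by
    intro x hx
    obtain ⟨p, hp⟩ := Set.mem_iUnion.mp hx
    obtain ⟨i, hiT, hi⟩ : ∃ i ∈ T, e G p ∈ W i := by
      simpa using hTcov (Set.mem_univ (show S from p))
    obtain ⟨ζ, h1, h2, h3⟩ := KL G p x hp (W i) hi
    rw [hKdef]
    exact Set.mem_biUnion hiT ⟨ζ, ⟨h1, h2⟩, h3⟩
  have H2 : ∀ x : G.left, ∃ W' : G.left.Opens, IsAffineOpen W' ∧ x ∈ W' := fun x => by
    obtain ⟨W', h1, h2, -⟩ := exists_isAffineOpen_mem_and_subset (x := x) (U := ⊤) trivial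
    exact ⟨W', h1, h2⟩
  choose W' hW' hxW' using H2
  obtain ⟨T', -, hT'cov⟩ := hK.elim_nhds_subcover (fun x => (W' x : Set G.left))
    (fun x _ => (W' x).isOpen.mem_nhds (hxW' x))
  refine ⟨⨆ i ∈ T', W' i, ?_, ?_⟩
  · have : ((⨆ i ∈ T', W' i : G.left.Opens) : Set G.left) = ⋃ i ∈ T', (W' i : Set G.left) := by
      simp
    rw [this]
    exact T'.isCompact_biUnion (fun i _ => (hW' i).isCompact)
  · intro x hx
    have := hT'cov (hsub hx)
    simpa using this

end KL

end Groth.Agent.Lib.Helper11.NC1
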