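import Mathlib
import Groth.Agent.Lib.Helper11.ArtB
import Groth.Agent.Lib.Helper11.GrpE
import Groth.Agent.Lib.Helper11.GrpG
import Groth.Agent.Lib.Helper11.NC1
import Groth.Agent.Lib.Helper15.NoethTop

/-!
# ArtC: group schemes over a local artinian base (helper11)
-/

set_option autoImplicit false
universe u

open CategoryTheory CategoryTheory.Limits MonoidalCategory CartesianMonoidalCategory MonObj GrpObj
  AlgebraicGeometry Topology
open Groth.Agent.Lib.Helper11.GrpA Groth.Agent.Lib.Helper11.GrpG

namespace Groth.Agent.Lib.Helper11.ArtC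

theorem left_apply_congr' {S : Scheme.{u}} {X Y : Over S} {f g : X ⟶ Y} (h : f = g) (z : X.left) :
    f.left z = g.left z := by rw [h]

theorem locallyConnectedSpace_of_isLocallyNoetherian (X : Scheme.{u}) [IsLocallyNoetherian X] :
    LocallyConnectedSpace X := by
  apply Groth.Agent.Lib.Helper15.NT.locallyConnectedSpace_of_locallyNoetherian
  intro x
  obtain ⟨U, hU, hxU, -⟩ := exists_isAffineOpen_mem_and_subset (x := x) (U := ⊤) trivial
  haveI : IsNoetherianRing Γ(X, U) := IsLocallyNoetherian.component_noetherian ⟨U, hU⟩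
  have h1 : TopologicalSpace.NoetherianSpace {w : X // w ∈ U} := noetherianSpace_of_isAffineOpen U hU
  exact ⟨(U : Set X), U.isOpen.mem_nhds hxU, h1⟩

section Field

variable {k : Type u} [Field k] (G : Over (Spec (CommRingCat.of k))) [GrpObj G]
  (pt : ↥(Spec (CommRingCat.of k)))

theorem isCompact_unit_component_field :
    IsCompact (connectedComponent (η[G].left pt)) := by
  have hZ := irreducibleComponent_mem_irreducibleComponents (η[G].left pt)
  have he := mem_irreducibleComponent (x := η[G].left pt)
  rw [GrpE.connectedComponent_unit_eq G pt _ hZ he]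
  exact GrpD.isCompact_unit_component G pt _ hZ he

theorem mul_mem_unit_field (ζ : ↥(G ⊗ G).left)
    (h1 : (fst G G).left ζ ∈ connectedComponent (η[G].left pt))
    (h2 : (snd G G).left ζ ∈ connectedComponent (η[G].left pt)) :
    μ[G].left ζ ∈ connectedComponent (η[G].left pt) := by
  have hZ := irreducibleComponent_mem_irreducibleComponents (η[G].left pt)
  have he := mem_irreducibleComponent (x := η[G].left pt)
  rw [GrpE.connectedComponent_unit_eq G pt _ hZ he] at h1 h2 ⊢
  obtain ⟨C, hC, hsC, hmC⟩ := GrpE.exists_component_of_mem_mul G pt _ hZ he ζ h1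
  have := GrpB.uniqueComp_of_field G ((snd G G).left ζ) C hC _ hZ hsC h2
  rw [← this]; exact hmC

end Field

section Art

variable (A : Type u) [CommRing A] [IsArtinianRing A] [IsLocalRing A]

/-- the closed point -/
noncomputable abbrev iA :
    Spec (CommRingCat.of (IsLocalRing.ResidueField A)) ⟶ Spec (CommRingCat.of A) :=
  Spec.map (CommRingCat.ofHom (IsLocalRing.residue A))

instance : IsClosedImmersion (iA A) :=
  IsClosedImmersion.spec_of_surjective _ IsLocalRing.residue_surjective

instance : Surjective (iA A) := by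
  haveI : Subsingleton ↥(Spec (CommRingCat.of A)) := ArtB.subsingleton_spec_artinianLocal A
  haveI : Nonempty ↥(Spec (CommRingCat.of (IsLocalRing.ResidueField A))) :=
    inferInstanceAs (Nonempty (PrimeSpectrum (IsLocalRing.ResidueField A)))
  exact ⟨fun y => ⟨Classical.arbitrary _, Subsingleton.elim _ _⟩⟩

variable {A}

theorem prj_isEmbedding (Y : Over (Spec (CommRingCat.of A))) :
    IsEmbedding ⇑(NC1.prj (iA A) Y) :=
  (pullback.fst Y.hom (iA A)).isClosedEmbedding.isEmbedding

theorem prj_surjective (Y : Over (Spec (CommRingCat.of A))) :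
    Function.Surjective ⇑(NC1.prj (iA A) Y) :=
  (pullback.fst Y.hom (iA A)).surjective

variable (G : Over (Spec (CommRingCat.of A))) [GrpObj G]

theorem image_unit_component (pt : ↥(𝟙_ (Over (Spec (CommRingCat.of A)))).left)
    (pk : ↥(𝟙_ (Over (Spec (CommRingCat.of (IsLocalRing.ResidueField A))))).left) :
    ⇑(NC1.prj (iA A) G) '' connectedComponent (η[Red.bc (iA A) G].left pk) =
      connectedComponent (η[G].left pt) := by
  haveI : Subsingleton ↥(Spec (CommRingCat.of A)) := ArtB.subsingleton_spec_artinianLocal A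
  have h1 : NC1.prj (iA A) G (η[Red.bc (iA A) G].left pk) = η[G].left pt :=
    NC1.prj_unit (iA A) G pk pt (Subsingleton.elim (α := ↥(Spec (CommRingCat.of A))) _ _)
  rw [NC1.image_connectedComponent_of_isEmbedding (prj_isEmbedding G),
    (prj_surjective G).range_eq, connectedComponentIn_univ, h1]

theorem isCompact_unit_component (pt : ↥(𝟙_ (Over (Spec (CommRingCat.of A)))).left) :
    IsCompact (connectedComponent (η[G].left pt)) := by
  have pk : ↥(𝟙_ (Over (Spec (CommRingCat.of (IsLocalRing.ResidueField A))))).left :=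
    (IsLocalRing.closedPoint (IsLocalRing.ResidueField A) :
      PrimeSpectrum (IsLocalRing.ResidueField A))
  rw [← image_unit_component G pt pk]
  exact (isCompact_unit_component_field _ pk).image (NC1.prj (iA A) G).continuous

theorem m2_surjective : Function.Surjective ⇑(NC1.m2 (iA A) G) := by
  haveI : IsIso (Functor.LaxMonoidal.μ (Over.pullback (iA A)) G G).left :=
    inferInstanceAs (IsIso ((Over.forget _).map (Functor.LaxMonoidal.μ (Over.pullback (iA A)) G G)))
  intro z
  obtain ⟨y, hy⟩ := (pullback.fst (G ⊗ G).hom (iA A)).surjective z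
  obtain ⟨x, hx⟩ := (Functor.LaxMonoidal.μ (Over.pullback (iA A)) G G).left.surjective y
  refine ⟨x, ?_⟩
  unfold NC1.m2
  rw [Scheme.Hom.comp_apply, hx]
  exact hy

theorem mul_mem_unit (pt : ↥(𝟙_ (Over (Spec (CommRingCat.of A)))).left) (ζ : ↥(G ⊗ G).left)
    (h1 : (fst G G).left ζ ∈ connectedComponent (η[G].left pt))
    (h2 : (snd G G).left ζ ∈ connectedComponent (η[G].left pt)) :
    μ[G].left ζ ∈ connectedComponent (η[G].left pt) := by
  have pk : ↥(𝟙_ (Over (Spec (CommRingCat.of (IsLocalRing.ResidueField A))))).left :=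
    (IsLocalRing.closedPoint (IsLocalRing.ResidueField A) :
      PrimeSpectrum (IsLocalRing.ResidueField A))
  obtain ⟨ζk, rfl⟩ := m2_surjective G ζ
  have e1 := NC1.apply_congr (NC1.m2_fst (iA A) G) ζk
  have e2 := NC1.apply_congr (NC1.m2_snd (iA A) G) ζk
  have e3 := NC1.apply_congr (NC1.m2_mul (iA A) G) ζk
  simp only [Scheme.Hom.comp_apply] at e1 e2 e3
  rw [e1, ← image_unit_component G pt pk] at h1
  rw [e2, ← image_unit_component G pt pk] at h2
  rw [e3, ← image_unit_component G pt pk]
  obtain ⟨y1, hy1, hy1'⟩ := h1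
  obtain ⟨y2, hy2, hy2'⟩ := h2
  rw [(prj_isEmbedding G).injective hy1'] at hy1
  rw [(prj_isEmbedding G).injective hy2'] at hy2
  exact ⟨_, mul_mem_unit_field (Red.bc (iA A) G) pk ζk hy1 hy2, rfl⟩

end Art

section General

variable {S : Scheme.{u}} (G : Over S) [GrpObj G]

theorem inv_mem_unit (pt : ↥(𝟙_ (Over S)).left) {z : G.left}
    (hz : z ∈ connectedComponent (η[G].left pt)) :
    ι[G].left z ∈ connectedComponent (η[G].left pt) := by
  have h1 : _root_.IsPreconnected (⇑ι[G].left '' connectedComponent (η[G].left pt)) :=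
    isPreconnected_connectedComponent.image _ ι[G].left.continuous.continuousOn
  have h2 : η[G].left pt ∈ ⇑ι[G].left '' connectedComponent (η[G].left pt) := by
    refine ⟨η[G].left pt, mem_connectedComponent, ?_⟩
    have := left_apply_congr' (GrpObj.one_inv (G := G)) pt
    rw [Over.comp_left, Scheme.Hom.comp_apply] at this
    exact this
  exact h1.subset_connectedComponent h2 ⟨z, hz, rfl⟩

end General

section Main

variable {A : Type u} [CommRing A] [IsArtinianRing A] [IsLocalRing A]
variable (G : Over (Spec (CommRingCat.of A))) [GrpObj G] [LocallyOfFiniteType G.hom]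

theorem isOpen_connectedComponent_lft (g : G.left) : IsOpen (connectedComponent g) := by
  haveI : IsLocallyNoetherian G.left := LocallyOfFiniteType.isLocallyNoetherian G.hom
  haveI := locallyConnectedSpace_of_isLocallyNoetherian G.left
  exact isOpen_connectedComponent

theorem isCompact_connectedComponent (g : G.left) : IsCompact (connectedComponent g) := by
  haveI hss : Subsingleton ↥(Spec (CommRingCat.of A)) := ArtB.subsingleton_spec_artinianLocal A
  haveI : JacobsonSpace ↥(Spec (CommRingCat.of A)) :=
    inferInstanceAs (JacobsonSpace (PrimeSpectrum A))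
  haveI : JacobsonSpace ↥G.left := LocallyOfFiniteType.jacobsonSpace G.hom
  obtain ⟨g', hg'C, hg'cl⟩ := nonempty_inter_closedPoints (X := ↥G.left)
    (Z := connectedComponent g) connectedComponent_nonempty
    (isOpen_connectedComponent_lft G g).isLocallyClosed
  rw [connectedComponent_eq hg'C]
  have hcl : IsClosed ({g'} : Set G.left) := hg'cl
  obtain ⟨T, hT⟩ : ∃ T : Over (Spec (CommRingCat.of A)),
      T = Over.mk (G.left.fromSpecResidueField g' ≫ G.hom) := ⟨_, rfl⟩
  obtain ⟨c, hc⟩ : ∃ c : T ⟶ G, ∀ s : ↥T.left, c.left s = g' := by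
    subst hT
    exact ⟨Over.homMk (G.left.fromSpecResidueField g') rfl,
      fun s => Scheme.fromSpecResidueField_apply g' s⟩
  haveI : LocallyOfFiniteType (G.left.fromSpecResidueField g') :=
    isClosed_singleton_iff_locallyOfFiniteType.mp hcl
  haveI : LocallyOfFiniteType T.hom := by
    subst hT
    exact inferInstanceAs (LocallyOfFiniteType (G.left.fromSpecResidueField g' ≫ G.hom))
  haveI : Subsingleton ↥T.left := by
    subst hT; exact inferInstanceAs (Subsingleton (PrimeSpectrum (G.left.residueField g')))
  haveI : Nonempty ↥T.left := by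
    subst hT; exact inferInstanceAs (Nonempty (PrimeSpectrum (G.left.residueField g')))
  haveI : IsReduced T.left := by
    subst hT; exact inferInstanceAs (IsReduced (Spec (G.left.residueField g')))
  haveI : IsFinite T.hom := isFinite_iff_locallyOfFiniteType_of_jacobsonSpace.mpr inferInstance
  haveI : UniversallyOpen T.hom := ArtB.universallyOpen_of_artinianLocal A T.hom
  have hfo : IsOpenMap ⇑(fst G T).left := (pullback.fst G.hom T.hom).isOpenMap
  have hfc : IsClosedMap ⇑(fst G T).left := (pullback.fst G.hom T.hom).isClosedMap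
  obtain ⟨s⟩ := ‹Nonempty ↥T.left›
  obtain ⟨pt, hpt⟩ : ∃ pt : ↥(𝟙_ (Over (Spec (CommRingCat.of A)))).left, pt = (toUnit T).left s :=
    ⟨_, rfl⟩
  have hCo : IsOpen (connectedComponent (η[G].left pt)) := isOpen_connectedComponent_lft G _
  have hCc : IsClosed (connectedComponent (η[G].left pt)) := isClosed_connectedComponent
  have hCk : IsCompact (connectedComponent (η[G].left pt)) := isCompact_unit_component G pt
  haveI : IsIso (lamIso T c).inv.left :=
    inferInstanceAs (IsIso ((Over.forget _).map (lamIso T c).inv))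
  have hΛo : IsOpenMap ⇑(lamIso T c).inv.left := (lamIso T c).inv.left.isOpenEmbedding.isOpenMap
  have hΛc : IsClosedMap ⇑(lamIso T c).inv.left :=
    (lamIso T c).inv.left.isClosedEmbedding.isClosedMap
  obtain ⟨D, hD⟩ : ∃ D : Set G.left, D = ⇑(fst G T).left '' (⇑(lamIso T c).inv.left ''
      (⇑(fst G T).left ⁻¹' connectedComponent (η[G].left pt))) := ⟨_, rfl⟩
  have hDo : IsOpen D := by
    rw [hD]; exact hfo _ (hΛo _ (hCo.preimage (fst G T).left.continuous))
  have hDc : IsClosed D := by
    rw [hD]; exact hfc _ (hΛc _ (hCc.preimage (fst G T).left.continuous))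
  have hDk : IsCompact D := by
    rw [hD]
    have h1 : IsCompact (⇑(fst G T).left ⁻¹' connectedComponent (η[G].left pt)) :=
      QuasiCompact.isCompact_preimage (f := pullback.fst G.hom T.hom) _ hCo hCk
    exact (h1.image (lamIso T c).inv.left.continuous).image (fst G T).left.continuous
  have hgD : g' ∈ D := by
    rw [hD]
    refine ⟨(lamIso T c).inv.left ((lift (toUnit T ≫ η[G]) (𝟙 T)).left s), ⟨_, ?_, rfl⟩, ?_⟩
    · have e1 : lift (toUnit T ≫ η[G]) (𝟙 T) ≫ fst G T = toUnit T ≫ η[G] := lift_fst _ _
      have h4 := left_apply_congr' e1 s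
      rw [Over.comp_left, Scheme.Hom.comp_apply, Over.comp_left, Scheme.Hom.comp_apply] at h4
      show (fst G T).left _ ∈ connectedComponent (η[G].left pt)
      rw [h4, ← hpt]
      exact mem_connectedComponent
    · have hL : (lamIso T c).inv ≫ fst G T = (snd G T ≫ c) * fst G T := by
        unfold lamIso
        exact lift_fst _ _
      have e2 : lift (toUnit T ≫ η[G]) (𝟙 T) ≫ (lamIso T c).inv ≫ fst G T = c := by
        rw [hL, MonObj.comp_mul, ← Category.assoc, lift_snd, Category.id_comp, lift_fst,
          ← Hom.one_def, _root_.mul_one]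
      have h4 := left_apply_congr' e2 s
      rw [Over.comp_left, Scheme.Hom.comp_apply, Over.comp_left, Scheme.Hom.comp_apply, hc] at h4
      exact h4
  have hDclopen : IsClopen D := ⟨hDc, hDo⟩
  have hsub : connectedComponent g' ⊆ D := hDclopen.connectedComponent_subset hgD
  exact hDk.of_isClosed_subset isClosed_connectedComponent hsub

end Main

end Groth.Agent.Lib.Helper11.ArtC
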