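import Mathlib
import Groth.Prelude.Def_Grpd
import Groth.Agent.Lib.Helper11.GrpdLib
import Groth.Agent.Lib.Helper11.GrpC

/-!
# Groupoid schemes on the spectrum of a field (helper11)
-/

set_option autoImplicit false
universe u

open CategoryTheory CategoryTheory.Limits AlgebraicGeometry
open Groth.Agent.Lib.Helper11.GrpdLib Groth.Agent.Lib.Helper11.GrpA
  Groth.Agent.Lib.Helper11.GrpB

namespace Groth.Agent.Lib.Helper11.GrpdF

variable {S : Scheme.{u}} (G : Grpd.GroupoidScheme S)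

section Flat

variable {k : Type u} [Field k] (eU : G.U ≅ Spec (CommRingCat.of k))

include eU in
theorem flat_fieldPt {A : Scheme.{u}} (v : A ⟶ G.U) : Flat v := by
  have h : Flat (v ≫ eU.hom) := inferInstance
  have e : v = (v ≫ eU.hom) ≫ eU.inv := by simp
  rw [e]
  infer_instance

include eU in
theorem universallyOpen_fieldPt {A : Scheme.{u}} (v : A ⟶ G.U) : UniversallyOpen v := by
  have h : UniversallyOpen (v ≫ eU.hom) := inferInstance
  have e : v = (v ≫ eU.hom) ≫ eU.inv := by simp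
  rw [e]
  infer_instance

end Flat

section OneSided

variable {K : Type u} [Field K]

/-- right translation by `ρ` on arrows with source in `v₂` -/
noncomputable def transMap (ρ : Spec (CommRingCat.of K) ⟶ G.R)
    (v₁ v₂ : Spec (CommRingCat.of K) ⟶ G.U) (h₁ : ρ ≫ G.s = v₁) (h₂ : ρ ≫ G.t = v₂) :
    pullback G.s v₂ ⟶ pullback G.s v₁ :=
  pullback.lift (comp G (pullback.fst G.s v₂) (pullback.snd G.s v₂ ≫ ρ)
      (by rw [pullback.condition, Category.assoc, h₂])) (pullback.snd G.s v₂)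
    (by rw [comp_s, Category.assoc, h₁])

variable {G}

theorem transMap_fst (ρ : Spec (CommRingCat.of K) ⟶ G.R)
    (v₁ v₂ : Spec (CommRingCat.of K) ⟶ G.U) (h₁ : ρ ≫ G.s = v₁) (h₂ : ρ ≫ G.t = v₂) :
    transMap G ρ v₁ v₂ h₁ h₂ ≫ pullback.fst G.s v₁ =
      comp G (pullback.fst G.s v₂) (pullback.snd G.s v₂ ≫ ρ)
        (by rw [pullback.condition, Category.assoc, h₂]) := pullback.lift_fst _ _ _

theorem transMap_snd (ρ : Spec (CommRingCat.of K) ⟶ G.R)
    (v₁ v₂ : Spec (CommRingCat.of K) ⟶ G.U) (h₁ : ρ ≫ G.s = v₁) (h₂ : ρ ≫ G.t = v₂) :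
    transMap G ρ v₁ v₂ h₁ h₂ ≫ pullback.snd G.s v₁ = pullback.snd G.s v₂ :=
  pullback.lift_snd _ _ _

theorem transMap_comp_inv (ρ : Spec (CommRingCat.of K) ⟶ G.R)
    (v₁ v₂ : Spec (CommRingCat.of K) ⟶ G.U) (h₁ : ρ ≫ G.s = v₁) (h₂ : ρ ≫ G.t = v₂)
    (h₁' : (ρ ≫ G.i) ≫ G.s = v₂) (h₂' : (ρ ≫ G.i) ≫ G.t = v₁) :
    transMap G ρ v₁ v₂ h₁ h₂ ≫ transMap G (ρ ≫ G.i) v₂ v₁ h₁' h₂' = 𝟙 _ := by
  apply pullback.hom_ext
  · rw [Category.assoc, transMap_fst, Category.id_comp]
    have hA : (transMap G ρ v₁ v₂ h₁ h₂ ≫ pullback.fst G.s v₁) ≫ G.s =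
        (transMap G ρ v₁ v₂ h₁ h₂ ≫ pullback.snd G.s v₁ ≫ ρ ≫ G.i) ≫ G.t := by
      rw [Category.assoc, pullback.condition]
      simp only [Category.assoc]
      rw [G.i_t, h₁]
    rw [precomp_comp _ _ _ _ hA]
    have hB : pullback.fst G.s v₂ ≫ G.s = (pullback.snd G.s v₂ ≫ ρ) ≫ G.t := by
      rw [pullback.condition, Category.assoc, h₂]
    have hC : comp G (pullback.fst G.s v₂) (pullback.snd G.s v₂ ≫ ρ) hB ≫ G.s =
        ((pullback.snd G.s v₂ ≫ ρ) ≫ G.i) ≫ G.t := by
      rw [comp_s, Category.assoc, Category.assoc, Category.assoc, G.i_t]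
    rw [comp_congr (transMap_fst ρ v₁ v₂ h₁ h₂)
      (show transMap G ρ v₁ v₂ h₁ h₂ ≫ pullback.snd G.s v₁ ≫ ρ ≫ G.i =
        (pullback.snd G.s v₂ ≫ ρ) ≫ G.i by
          rw [← Category.assoc, transMap_snd, Category.assoc]) hA hC]
    exact comp_comp_inv _ _ hB hC
  · rw [Category.assoc, transMap_snd, transMap_snd, Category.id_comp]

theorem transMap_congr {ρ ρ' : Spec (CommRingCat.of K) ⟶ G.R} (hρ : ρ = ρ')
    (v₁ v₂ : Spec (CommRingCat.of K) ⟶ G.U) (h₁ : ρ ≫ G.s = v₁) (h₂ : ρ ≫ G.t = v₂)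
    (h₁' : ρ' ≫ G.s = v₁) (h₂' : ρ' ≫ G.t = v₂) :
    transMap G ρ v₁ v₂ h₁ h₂ = transMap G ρ' v₁ v₂ h₁' h₂' := by
  subst hρ; rfl

/-- right translation as an isomorphism -/
noncomputable def transIso (ρ : Spec (CommRingCat.of K) ⟶ G.R) :
    pullback G.s (ρ ≫ G.t) ≅ pullback G.s (ρ ≫ G.s) where
  hom := transMap G ρ (ρ ≫ G.s) (ρ ≫ G.t) rfl rfl
  inv := transMap G (ρ ≫ G.i) (ρ ≫ G.t) (ρ ≫ G.s) (by rw [Category.assoc, G.i_s])
    (by rw [Category.assoc, G.i_t])
  hom_inv_id := transMap_comp_inv ρ _ _ rfl rfl _ _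
  inv_hom_id := by
    have h := transMap_comp_inv (ρ ≫ G.i) (ρ ≫ G.t) (ρ ≫ G.s) (by rw [Category.assoc, G.i_s])
      (by rw [Category.assoc, G.i_t]) (by rw [inv_inv]) (by rw [inv_inv])
    rw [← h]
    congr 1
    exact transMap_congr (inv_inv ρ).symm _ _ _ _ _ _

variable (G)

/-- the unit point of `pullback G.s v` -/
noncomputable def eS (v : Spec (CommRingCat.of K) ⟶ G.U) :
    Spec (CommRingCat.of K) ⟶ pullback G.s v :=
  pullback.lift (v ≫ G.e) (𝟙 _) (by rw [Category.assoc, G.e_s, Category.comp_id, Category.id_comp])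

/-- the point `ρ` of `pullback G.s (ρ ≫ G.s)` -/
noncomputable def ptS (ρ : Spec (CommRingCat.of K) ⟶ G.R) :
    Spec (CommRingCat.of K) ⟶ pullback G.s (ρ ≫ G.s) :=
  pullback.lift ρ (𝟙 _) (by rw [Category.id_comp])

variable {G}

theorem eS_transIso (ρ : Spec (CommRingCat.of K) ⟶ G.R) :
    eS G (ρ ≫ G.t) ≫ (transIso ρ).hom = ptS G ρ := by
  apply pullback.hom_ext
  · change (eS G (ρ ≫ G.t) ≫ transMap G ρ (ρ ≫ G.s) (ρ ≫ G.t) rfl rfl) ≫ _ = _
    rw [Category.assoc, transMap_fst]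
    have hA : (eS G (ρ ≫ G.t) ≫ pullback.fst G.s (ρ ≫ G.t)) ≫ G.s =
        (eS G (ρ ≫ G.t) ≫ pullback.snd G.s (ρ ≫ G.t) ≫ ρ) ≫ G.t := by
      unfold eS
      rw [pullback.lift_fst, pullback.lift_snd_assoc, Category.assoc, G.e_s, Category.comp_id,
        Category.id_comp]
    rw [precomp_comp _ _ _ _ hA]
    unfold ptS
    rw [pullback.lift_fst]
    refine (e_comp _ _ ?_ hA).trans ?_
    · unfold eS
      rw [pullback.lift_fst, pullback.lift_snd_assoc, Category.id_comp, Category.assoc]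
    · unfold eS
      rw [pullback.lift_snd_assoc, Category.id_comp]
  · change (eS G (ρ ≫ G.t) ≫ transMap G ρ (ρ ≫ G.s) (ρ ≫ G.t) rfl rfl) ≫ _ = _
    rw [Category.assoc, transMap_snd]
    unfold eS ptS
    rw [pullback.lift_snd, pullback.lift_snd]

end OneSided


section TwoSided

variable {K : Type u} [Field K] (v : Spec (CommRingCat.of K) ⟶ G.U)

/-- arrows with source and target in `v` -/
noncomputable abbrev Rst : Scheme.{u} := pullback (pullback.fst G.s v ≫ G.t) v

noncomputable def aR : Rst G v ⟶ G.R :=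
  pullback.fst (pullback.fst G.s v ≫ G.t) v ≫ pullback.fst G.s v

noncomputable def sR : Rst G v ⟶ Spec (CommRingCat.of K) :=
  pullback.fst (pullback.fst G.s v ≫ G.t) v ≫ pullback.snd G.s v

noncomputable def tR : Rst G v ⟶ Spec (CommRingCat.of K) :=
  pullback.snd (pullback.fst G.s v ≫ G.t) v

noncomputable def qR : Rst G v ⟶ pullback G.s v :=
  pullback.fst (pullback.fst G.s v ≫ G.t) v

@[reassoc]
theorem aR_s : aR G v ≫ G.s = sR G v ≫ v := by
  unfold aR sR
  rw [Category.assoc, Category.assoc, pullback.condition]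

@[reassoc]
theorem aR_t : aR G v ≫ G.t = tR G v ≫ v := by
  unfold aR tR
  rw [Category.assoc]
  exact pullback.condition

theorem Rst_ext {T : Scheme.{u}} (f g : T ⟶ Rst G v) (h₁ : f ≫ aR G v = g ≫ aR G v)
    (h₂ : f ≫ sR G v = g ≫ sR G v) (h₃ : f ≫ tR G v = g ≫ tR G v) : f = g := by
  refine pullback.hom_ext (pullback.hom_ext ?_ ?_) h₃
  · simpa only [aR, Category.assoc] using h₁
  · simpa only [sR, Category.assoc] using h₂

/-- a point of `Rst` -/
noncomputable def mkR {T : Scheme.{u}} (α : T ⟶ G.R) (x y : T ⟶ Spec (CommRingCat.of K))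
    (hs : α ≫ G.s = x ≫ v) (ht : α ≫ G.t = y ≫ v) : T ⟶ Rst G v :=
  pullback.lift (pullback.lift α x hs) y (by rw [← Category.assoc, pullback.lift_fst, ht])

@[reassoc]
theorem mkR_aR {T : Scheme.{u}} (α : T ⟶ G.R) (x y : T ⟶ Spec (CommRingCat.of K))
    (hs : α ≫ G.s = x ≫ v) (ht : α ≫ G.t = y ≫ v) : mkR G v α x y hs ht ≫ aR G v = α := by
  unfold mkR aR
  rw [pullback.lift_fst_assoc, pullback.lift_fst]

@[reassoc]
theorem mkR_sR {T : Scheme.{u}} (α : T ⟶ G.R) (x y : T ⟶ Spec (CommRingCat.of K))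
    (hs : α ≫ G.s = x ≫ v) (ht : α ≫ G.t = y ≫ v) : mkR G v α x y hs ht ≫ sR G v = x := by
  unfold mkR sR
  rw [pullback.lift_fst_assoc, pullback.lift_snd]

@[reassoc]
theorem mkR_tR {T : Scheme.{u}} (α : T ⟶ G.R) (x y : T ⟶ Spec (CommRingCat.of K))
    (hs : α ≫ G.s = x ≫ v) (ht : α ≫ G.t = y ≫ v) : mkR G v α x y hs ht ≫ tR G v = y := by
  unfold mkR tR
  rw [pullback.lift_snd]

theorem hcompR : (pullback.fst (sR G v) (tR G v) ≫ aR G v) ≫ G.s =
    (pullback.snd (sR G v) (tR G v) ≫ aR G v) ≫ G.t := by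
  rw [Category.assoc, Category.assoc, aR_s, aR_t, ← Category.assoc, ← Category.assoc,
    pullback.condition]

/-- composition on `Rst` -/
noncomputable def cR : pullback (sR G v) (tR G v) ⟶ Rst G v :=
  mkR G v (comp G (pullback.fst (sR G v) (tR G v) ≫ aR G v)
      (pullback.snd (sR G v) (tR G v) ≫ aR G v) (hcompR G v))
    (pullback.snd (sR G v) (tR G v) ≫ sR G v) (pullback.fst (sR G v) (tR G v) ≫ tR G v)
    (by rw [comp_s, Category.assoc, aR_s, Category.assoc])
    (by rw [comp_t, Category.assoc, aR_t, Category.assoc])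

/-- the unit of `Rst` -/
noncomputable def eR : Spec (CommRingCat.of K) ⟶ Rst G v :=
  mkR G v (v ≫ G.e) (𝟙 _) (𝟙 _)
    (by rw [Category.assoc, G.e_s, Category.comp_id, Category.id_comp])
    (by rw [Category.assoc, G.e_t, Category.comp_id, Category.id_comp])

@[reassoc]
theorem eR_aR : eR G v ≫ aR G v = v ≫ G.e := mkR_aR ..
@[reassoc]
theorem eR_sR : eR G v ≫ sR G v = 𝟙 _ := mkR_sR ..
@[reassoc]
theorem eR_tR : eR G v ≫ tR G v = 𝟙 _ := mkR_tR ..

theorem eR_qR : eR G v ≫ qR G v = eS G v := by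
  unfold eR mkR qR eS
  rw [pullback.lift_fst]

noncomputable def unitR' : Rst G v ⟶ pullback (sR G v) (tR G v) :=
  pullback.lift (𝟙 _) (sR G v ≫ eR G v)
    (by rw [Category.id_comp, Category.assoc, eR_tR, Category.comp_id])

noncomputable def unitL' : Rst G v ⟶ pullback (sR G v) (tR G v) :=
  pullback.lift (tR G v ≫ eR G v) (𝟙 _)
    (by rw [Category.id_comp, Category.assoc, eR_sR, Category.comp_id])

@[reassoc]
theorem unitR'_fst : unitR' G v ≫ pullback.fst (sR G v) (tR G v) = 𝟙 _ := pullback.lift_fst _ _ _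
@[reassoc]
theorem unitR'_snd : unitR' G v ≫ pullback.snd (sR G v) (tR G v) = sR G v ≫ eR G v :=
  pullback.lift_snd _ _ _
@[reassoc]
theorem unitL'_fst : unitL' G v ≫ pullback.fst (sR G v) (tR G v) = tR G v ≫ eR G v :=
  pullback.lift_fst _ _ _
@[reassoc]
theorem unitL'_snd : unitL' G v ≫ pullback.snd (sR G v) (tR G v) = 𝟙 _ := pullback.lift_snd _ _ _

theorem unitR'_cR : unitR' G v ≫ cR G v = 𝟙 _ := by
  apply Rst_ext
  · unfold cR
    rw [Category.assoc, mkR_aR, Category.id_comp]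
    have hA : (unitR' G v ≫ pullback.fst (sR G v) (tR G v) ≫ aR G v) ≫ G.s =
        (unitR' G v ≫ pullback.snd (sR G v) (tR G v) ≫ aR G v) ≫ G.t := by
      have h := hcompR G v
      simp only [Category.assoc] at h ⊢
      rw [h]
    rw [precomp_comp _ _ _ _ hA]
    refine (comp_e _ _ ?_ hA).trans ?_
    · simp only [Category.assoc, unitR'_snd_assoc, unitR'_fst_assoc, eR_aR, aR_s_assoc]
    · rw [unitR'_fst_assoc]
  · unfold cR
    rw [Category.assoc, mkR_sR, Category.id_comp, unitR'_snd_assoc, eR_sR, Category.comp_id]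
  · unfold cR
    rw [Category.assoc, mkR_tR, Category.id_comp, unitR'_fst_assoc]

theorem unitL'_cR : unitL' G v ≫ cR G v = 𝟙 _ := by
  apply Rst_ext
  · unfold cR
    rw [Category.assoc, mkR_aR, Category.id_comp]
    have hA : (unitL' G v ≫ pullback.fst (sR G v) (tR G v) ≫ aR G v) ≫ G.s =
        (unitL' G v ≫ pullback.snd (sR G v) (tR G v) ≫ aR G v) ≫ G.t := by
      have h := hcompR G v
      simp only [Category.assoc] at h ⊢
      rw [h]
    rw [precomp_comp _ _ _ _ hA]
    refine (e_comp _ _ ?_ hA).trans ?_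
    · simp only [Category.assoc, unitL'_snd_assoc, unitL'_fst_assoc, eR_aR, aR_t_assoc]
    · rw [unitL'_snd_assoc]
  · unfold cR
    rw [Category.assoc, mkR_sR, Category.id_comp, unitL'_snd_assoc]
  · unfold cR
    rw [Category.assoc, mkR_tR, Category.id_comp, unitL'_fst_assoc, eR_tR, Category.comp_id]

/-- over an algebraically closed field, the unit point of `Rst` lies in a unique irreducible
component -/
theorem uniqueComp_eR [IsAlgClosed K] (pt : ↥(Spec (CommRingCat.of K))) :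
    UniqueComp ((eR G v) pt) := by
  intro Z₁ hZ₁ Z₂ hZ₂ h1 h2
  obtain ⟨Y₁, i₁, _, hr₁⟩ :=
    exists_closedSubscheme Z₁ (isClosed_of_mem_irreducibleComponents _ hZ₁)
  obtain ⟨Y₂, i₂, _, hr₂⟩ :=
    exists_closedSubscheme Z₂ (isClosed_of_mem_irreducibleComponents _ hZ₂)
  haveI : IrreducibleSpace Y₁ := irreducibleSpace_of_range i₁ (hr₁ ▸ hZ₁.1)
  haveI : IrreducibleSpace Y₂ := irreducibleSpace_of_range i₂ (hr₂ ▸ hZ₂.1)
  haveI : GeometricallyIrreducible (i₂ ≫ tR G v) :=
    FBaseLib.geometricallyIrreducible_of_irreducibleSpace (i₂ ≫ tR G v)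
  haveI : UniversallyOpen (i₂ ≫ tR G v) := inferInstance
  haveI : IrreducibleSpace ↥(pullback (i₁ ≫ sR G v) (i₂ ≫ tR G v)) := inferInstance
  let j : pullback (i₁ ≫ sR G v) (i₂ ≫ tR G v) ⟶ pullback (sR G v) (tR G v) :=
    pullback.map _ _ _ _ i₁ i₂ (𝟙 _) (by simp) (by simp)
  have hj : Set.range j = (pullback.fst (sR G v) (tR G v)) ⁻¹' Z₁ ∩
      (pullback.snd (sR G v) (tR G v)) ⁻¹' Z₂ := by
    rw [← hr₁, ← hr₂]
    exact Scheme.Pullback.range_map ..
  have hirr : IsIrreducible (Set.range (j ≫ cR G v)) := by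
    rw [← Set.image_univ]
    exact (IrreducibleSpace.isIrreducible_univ _).image _
      (j ≫ cR G v).continuous.continuousOn
  have hE := hirr.closure
  have hsub₁ : Z₁ ⊆ closure (Set.range (j ≫ cR G v)) := by
    intro z hz
    apply subset_closure
    have hζ : (unitR' G v) z ∈ Set.range j := by
      rw [hj]
      refine ⟨?_, ?_⟩
      · show (pullback.fst (sR G v) (tR G v)) ((unitR' G v) z) ∈ Z₁
        rw [← Scheme.Hom.comp_apply, unitR'_fst]
        exact hz
      · show (pullback.snd (sR G v) (tR G v)) ((unitR' G v) z) ∈ Z₂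
        rw [← Scheme.Hom.comp_apply, unitR'_snd, Scheme.Hom.comp_apply,
          Subsingleton.elim ((sR G v) z) pt]
        exact h2
    obtain ⟨w, hw⟩ := hζ
    refine ⟨w, ?_⟩
    rw [Scheme.Hom.comp_apply, hw, ← Scheme.Hom.comp_apply, unitR'_cR]
    rfl
  have hsub₂ : Z₂ ⊆ closure (Set.range (j ≫ cR G v)) := by
    intro z hz
    apply subset_closure
    have hζ : (unitL' G v) z ∈ Set.range j := by
      rw [hj]
      refine ⟨?_, ?_⟩
      · show (pullback.fst (sR G v) (tR G v)) ((unitL' G v) z) ∈ Z₁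
        rw [← Scheme.Hom.comp_apply, unitL'_fst, Scheme.Hom.comp_apply,
          Subsingleton.elim ((tR G v) z) pt]
        exact h1
      · show (pullback.snd (sR G v) (tR G v)) ((unitL' G v) z) ∈ Z₂
        rw [← Scheme.Hom.comp_apply, unitL'_snd]
        exact hz
    obtain ⟨w, hw⟩ := hζ
    refine ⟨w, ?_⟩
    rw [Scheme.Hom.comp_apply, hw, ← Scheme.Hom.comp_apply, unitL'_cR]
    rfl
  exact (Set.Subset.antisymm hsub₁ (hZ₁.2 hE hsub₁)).trans
    (Set.Subset.antisymm hsub₂ (hZ₂.2 hE hsub₂)).symm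

end TwoSided

section Points

variable {k : Type u} [Field k] (eU : G.U ≅ Spec (CommRingCat.of k))

include eU in
theorem uniqueComp_eS {K : Type u} [Field K] [IsAlgClosed K] (v : Spec (CommRingCat.of K) ⟶ G.U)
    (pt : ↥(Spec (CommRingCat.of K))) : UniqueComp ((eS G v) pt) := by
  haveI : Flat v := flat_fieldPt G eU v
  haveI hq : Flat (qR G v) := by
    unfold qR
    exact MorphismProperty.pullback_fst (P := @Flat) _ _ inferInstance
  have h := uniqueComp_of_generalizing (qR G v).continuous (Flat.generalizingMap _)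
    (uniqueComp_eR G v pt)
  have e : (qR G v) ((eR G v) pt) = (eS G v) pt := by
    rw [← Scheme.Hom.comp_apply, eR_qR]
  rwa [e] at h

include eU in
/-- every point of a groupoid scheme on a field lies in a unique irreducible component -/
theorem uniqueComp_point (r : G.R) : UniqueComp r := by
  let K := AlgebraicClosure (G.R.residueField r)
  let ρ : Spec (CommRingCat.of K) ⟶ G.R :=
    Spec.map (CommRingCat.ofHom (algebraMap (G.R.residueField r) K)) ≫
      G.R.fromSpecResidueField r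
  let pt : ↥(Spec (CommRingCat.of K)) := Classical.arbitrary _
  have hρ : ρ pt = r := by
    show (Spec.map (CommRingCat.ofHom (algebraMap (G.R.residueField r) K)) ≫
      G.R.fromSpecResidueField r) pt = r
    rw [Scheme.Hom.comp_apply]
    exact Scheme.fromSpecResidueField_apply _ _
  have h1 := uniqueComp_eS G eU (ρ ≫ G.t) pt
  let τh := Scheme.homeoOfIso (transIso ρ)
  have h2 : UniqueComp (τh ((eS G (ρ ≫ G.t)) pt)) := uniqueComp_homeo τh h1
  have h3 : τh ((eS G (ρ ≫ G.t)) pt) = (ptS G ρ) pt := by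
    show (transIso ρ).hom ((eS G (ρ ≫ G.t)) pt) = _
    rw [← Scheme.Hom.comp_apply, eS_transIso]
  rw [h3] at h2
  haveI : Flat (ρ ≫ G.s) := flat_fieldPt G eU _
  haveI hq : Flat (pullback.fst G.s (ρ ≫ G.s)) :=
    MorphismProperty.pullback_fst (P := @Flat) _ _ inferInstance
  have h4 := uniqueComp_of_generalizing (pullback.fst G.s (ρ ≫ G.s)).continuous
    (Flat.generalizingMap _) h2
  have h5 : (pullback.fst G.s (ρ ≫ G.s)) ((ptS G ρ) pt) = r := by
    rw [← Scheme.Hom.comp_apply]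
    unfold ptS
    rw [pullback.lift_fst]
    exact hρ
  rwa [h5] at h4

end Points


section Stalk

/-- a point in a unique irreducible component has a local ring with a unique minimal prime -/
theorem subsingleton_minimalPrimes_stalk {Y : Scheme.{u}} (y : Y) (hy : UniqueComp y) :
    (minimalPrimes (Y.presheaf.stalk y)).Subsingleton := by
  have hemb : Topology.IsEmbedding (Y.fromSpecStalk y) := (Y.fromSpecStalk y).isEmbedding
  have hrange : Set.range (Y.fromSpecStalk y) = {z | z ⤳ y} := Scheme.range_fromSpecStalk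
  have hmemy : ∀ q : PrimeSpectrum (Y.presheaf.stalk y), (Y.fromSpecStalk y) q ⤳ y := by
    intro q
    have : (Y.fromSpecStalk y) q ∈ Set.range (Y.fromSpecStalk y) := Set.mem_range_self q
    rw [hrange] at this
    exact this
  have hmax : ∀ q : PrimeSpectrum (Y.presheaf.stalk y),
      q.asIdeal ∈ minimalPrimes (Y.presheaf.stalk y) →
      ∀ z : Y, z ⤳ (Y.fromSpecStalk y) q → z = (Y.fromSpecStalk y) q := by
    intro q hq z hz
    have hzy : z ⤳ y := hz.trans (hmemy q)
    obtain ⟨q', rfl⟩ : z ∈ Set.range (Y.fromSpecStalk y) := by rw [hrange]; exact hzy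
    have h1 : q' ⤳ q := hemb.isInducing.specializes_iff.mp hz
    have hle : q'.asIdeal ≤ q.asIdeal := (PrimeSpectrum.le_iff_specializes q' q).mpr h1
    have hge : q.asIdeal ≤ q'.asIdeal := hq.2 ⟨q'.isPrime, bot_le⟩ hle
    congr 1
    exact PrimeSpectrum.ext (le_antisymm hle hge)
  have hcomp : ∀ q : PrimeSpectrum (Y.presheaf.stalk y),
      q.asIdeal ∈ minimalPrimes (Y.presheaf.stalk y) →
      closure {(Y.fromSpecStalk y) q} ∈ irreducibleComponents Y := by
    intro q hq
    refine ⟨isIrreducible_singleton.closure, fun T hT hle => ?_⟩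
    obtain ⟨ξ, hξ⟩ := QuasiSober.sober hT.closure isClosed_closure
    have h1 : ξ ⤳ (Y.fromSpecStalk y) q :=
      hξ.specializes (subset_closure (hle (subset_closure rfl)))
    have h2 := hmax q hq ξ h1
    intro t ht
    have h3 : t ∈ closure T := subset_closure ht
    rw [← hξ.def, h2] at h3
    exact h3
  intro p₁ hp₁ p₂ hp₂
  have e := hy _ (hcomp ⟨p₁, hp₁.1.1⟩ hp₁) _ (hcomp ⟨p₂, hp₂.1.1⟩ hp₂)
    (specializes_iff_mem_closure.mp (hmemy _)) (specializes_iff_mem_closure.mp (hmemy _))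
  have h4 : (Y.fromSpecStalk y) ⟨p₂, hp₂.1.1⟩ ⤳ (Y.fromSpecStalk y) ⟨p₁, hp₁.1.1⟩ := by
    rw [specializes_iff_mem_closure, ← e]
    exact subset_closure rfl
  have h5 := hmax ⟨p₁, hp₁.1.1⟩ hp₁ _ h4
  have h6 := hemb.injective h5
  exact (congrArg PrimeSpectrum.asIdeal h6).symm

end Stalk

section GeomIrr

open Groth.Agent.Lib.Helper11.BcLevels Groth.Agent.Lib.Helper11.GrpC

/-- abstract form: a component through a rational point is geometrically irreducible as soon as the
point above it in the base change to the algebraic closure lies in a unique component -/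
theorem isIrreducible_preimage_of_uniqueComp {k : Type u} [Field k] {Y : Scheme.{u}}
    (f : Y ⟶ Spec (CommRingCat.of k)) (x : Spec (CommRingCat.of k) ⟶ Y) (hx : x ≫ f = 𝟙 _)
    (pt : ↥(Spec (CommRingCat.of k))) (C : Set Y) (hC : C ∈ irreducibleComponents Y)
    (hxC : x pt ∈ C)
    (hU : ∀ e' : ↥(FBase.bc f (AlgebraicClosure k)),
      (FBase.bcπ f (AlgebraicClosure k)) e' = x pt → UniqueComp e') :
    IsIrreducible ((FBase.bcπ f (AlgebraicClosure k)) ⁻¹' C) := by
  obtain ⟨h1, h2⟩ := GalOrbit.orbit_components f (AlgebraicClosure k) C hC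
  let s := Spec.map (CommRingCat.ofHom (algebraMap k (AlgebraicClosure k)))
  haveI : Surjective (FBase.bcπ f (AlgebraicClosure k)) := surjective_fst_of_field f s
  obtain ⟨e', he'⟩ := (FBase.bcπ f (AlgebraicClosure k)).surjective (x pt)
  have huniq : ∀ z : ↥(FBase.bc f (AlgebraicClosure k)),
      (FBase.bcπ f (AlgebraicClosure k)) z = x pt → z = e' := fun z hz =>
    eq_of_fst_eq_rational f s x hx pt z e' hz he'
  have he'Z : e' ∈ (FBase.bcπ f (AlgebraicClosure k)) ⁻¹' C := by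
    show (FBase.bcπ f (AlgebraicClosure k)) e' ∈ C
    rw [he']; exact hxC
  rw [h1] at he'Z
  obtain ⟨T₀, ⟨hT₀, hT₀Z⟩, he'T₀⟩ := he'Z
  have hall : ∀ T' : Set ↥(FBase.bc f (AlgebraicClosure k)),
      T' ∈ irreducibleComponents ↥(FBase.bc f (AlgebraicClosure k)) →
      (FBase.bcπ f (AlgebraicClosure k)) '' T' ⊆ C → T' = T₀ := by
    intro T' hT' hT'Z
    obtain ⟨σ, hσ⟩ := h2 T₀ T' hT₀ hT' hT₀Z hT'Z
    have hm : (bcHom f (σ : AlgebraicClosure k →ₐ[k] AlgebraicClosure k)) e' ∈ T' :=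
      hσ ▸ ⟨e', he'T₀, rfl⟩
    have hfix : (bcHom f (σ : AlgebraicClosure k →ₐ[k] AlgebraicClosure k)) e' = e' :=
      huniq _ (by rw [bcHom_π_apply]; exact he')
    rw [hfix] at hm
    exact hU e' he' T' hT' T₀ hT₀ hm he'T₀
  have hEq : (FBase.bcπ f (AlgebraicClosure k)) ⁻¹' C = T₀ := by
    rw [h1]
    apply Set.Subset.antisymm
    · rintro y ⟨T', ⟨hT', hT'Z⟩, hy⟩
      rw [← hall T' hT' hT'Z]; exact hy
    · intro y hy
      exact ⟨T₀, ⟨hT₀, hT₀Z⟩, hy⟩
  rw [hEq]
  exact hT₀.1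

variable {k : Type u} [Field k] (eU : G.U ≅ Spec (CommRingCat.of k))

/-- comparison of the two forms of the one sided base change -/
noncomputable def bcIso {K : Type u} [Field K] (σ : Spec (CommRingCat.of K) ⟶ Spec (CommRingCat.of k)) :
    pullback (G.s ≫ eU.hom) σ ≅ pullback G.s (σ ≫ eU.inv) where
  hom := pullback.lift (pullback.fst _ _) (pullback.snd _ _) (by
    have h := pullback.condition (f := G.s ≫ eU.hom) (g := σ)
    rw [← reassoc_of% h]
    simp)
  inv := pullback.lift (pullback.fst _ _) (pullback.snd _ _) (by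
    have h := pullback.condition (f := G.s) (g := σ ≫ eU.inv)
    rw [reassoc_of% h]
    simp)
  hom_inv_id := by
    apply pullback.hom_ext
    · rw [Category.assoc, pullback.lift_fst, pullback.lift_fst, Category.id_comp]
    · rw [Category.assoc, pullback.lift_snd, pullback.lift_snd, Category.id_comp]
  inv_hom_id := by
    apply pullback.hom_ext
    · rw [Category.assoc, pullback.lift_fst, pullback.lift_fst, Category.id_comp]
    · rw [Category.assoc, pullback.lift_snd, pullback.lift_snd, Category.id_comp]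

theorem bcIso_hom_fst {K : Type u} [Field K]
    (σ : Spec (CommRingCat.of K) ⟶ Spec (CommRingCat.of k)) :
    (bcIso G eU σ).hom ≫ pullback.fst G.s (σ ≫ eU.inv) = pullback.fst (G.s ≫ eU.hom) σ :=
  pullback.lift_fst _ _ _

include eU in
theorem isIrreducible_preimage_unit_component_algClosure (pt : ↥(Spec (CommRingCat.of k)))
    (C : Set G.R) (hC : C ∈ irreducibleComponents G.R) (hxC : G.e (eU.inv pt) ∈ C) :
    IsIrreducible ((FBase.bcπ (G.s ≫ eU.hom) (AlgebraicClosure k)) ⁻¹' C) := by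
  have hx : (eU.inv ≫ G.e) ≫ G.s ≫ eU.hom = 𝟙 _ := by
    rw [Category.assoc, reassoc_of% G.e_s, Iso.inv_hom_id]
  refine isIrreducible_preimage_of_uniqueComp (G.s ≫ eU.hom) (eU.inv ≫ G.e) hx pt C hC
    (by rw [Scheme.Hom.comp_apply]; exact hxC) ?_
  intro e' he'
  let σ := Spec.map (CommRingCat.ofHom (algebraMap k (AlgebraicClosure k)))
  let ptK : ↥(Spec (CommRingCat.of (AlgebraicClosure k))) := Classical.arbitrary _
  have h1 := uniqueComp_eS G eU (σ ≫ eU.inv) ptK
  let θ := Scheme.homeoOfIso (bcIso G eU σ)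
  have h2 : UniqueComp (θ.symm ((eS G (σ ≫ eU.inv)) ptK)) := uniqueComp_homeo θ.symm h1
  have h3 : (pullback.fst (G.s ≫ eU.hom) σ) (θ.symm ((eS G (σ ≫ eU.inv)) ptK)) =
      (eU.inv ≫ G.e) pt := by
    have e1 : (pullback.fst (G.s ≫ eU.hom) σ) (θ.symm ((eS G (σ ≫ eU.inv)) ptK)) =
        (pullback.fst G.s (σ ≫ eU.inv)) (θ (θ.symm ((eS G (σ ≫ eU.inv)) ptK))) := by
      show _ = (pullback.fst G.s (σ ≫ eU.inv)) ((bcIso G eU σ).hom _)
      rw [← Scheme.Hom.comp_apply, bcIso_hom_fst]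
    rw [e1, θ.apply_symm_apply, ← Scheme.Hom.comp_apply]
    unfold eS
    rw [pullback.lift_fst, Category.assoc, Scheme.Hom.comp_apply,
      Subsingleton.elim (σ ptK) pt]
  have h4 : e' = θ.symm ((eS G (σ ≫ eU.inv)) ptK) :=
    eq_of_fst_eq_rational (G.s ≫ eU.hom) σ (eU.inv ≫ G.e) hx pt _ _ he' h3
  rw [h4]
  exact h2

include eU in
/-- the irreducible component through the unit is geometrically irreducible via `s` -/
theorem geometricallyIrreducible_unit_component_s (pt : ↥(Spec (CommRingCat.of k)))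
    {Z : Scheme.{u}} (ι : Z ⟶ G.R) [IsClosedImmersion ι]
    (hZ : Set.range ι ∈ irreducibleComponents G.R) (he : G.e (eU.inv pt) ∈ Set.range ι) :
    GeometricallyIrreducible (ι ≫ G.s ≫ eU.hom) := by
  haveI : IrreducibleSpace ↥(FBase.bc (ι ≫ G.s ≫ eU.hom) (AlgebraicClosure k)) :=
    GalDescent.irreducibleSpace_bc_comp (G.s ≫ eU.hom) ι (AlgebraicClosure k)
      (isIrreducible_preimage_unit_component_algClosure G eU pt _ hZ he)
  exact GalDescent.geometricallyIrreducible_of_isSepClosed (ι ≫ G.s ≫ eU.hom) (AlgebraicClosure k)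

theorem e_i : G.e ≫ G.i = G.e := by
  have h0 : G.e ≫ G.s = (G.e ≫ G.i) ≫ G.t := by rw [Category.assoc, G.i_t]
  have e1 : comp G G.e (G.e ≫ G.i) h0 = G.e := by
    have := G.comp_i G.e
    rw [reassoc_of% G.e_t] at this
    exact this
  have e2 : comp G G.e (G.e ≫ G.i) h0 = G.e ≫ G.i := by
    refine e_comp _ _ ?_ h0
    rw [Category.assoc, reassoc_of% G.i_t, reassoc_of% G.e_s]
  rw [← e2, e1]

include eU in
/-- the irreducible component through the unit is geometrically irreducible via `t` -/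
theorem geometricallyIrreducible_unit_component_t (pt : ↥(Spec (CommRingCat.of k)))
    {Z : Scheme.{u}} (ι : Z ⟶ G.R) [IsClosedImmersion ι]
    (hZ : Set.range ι ∈ irreducibleComponents G.R) (he : G.e (eU.inv pt) ∈ Set.range ι) :
    GeometricallyIrreducible (ι ≫ G.t ≫ eU.hom) := by
  haveI : IsIso G.i := isIso_i
  let ih := Scheme.homeoOfIso (asIso G.i)
  have hr : Set.range (ι ≫ G.i) = ih '' Set.range ι := by
    ext z
    constructor
    · rintro ⟨w, rfl⟩
      exact ⟨ι w, ⟨w, rfl⟩, (Scheme.Hom.comp_apply _ _ _).symm⟩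
    · rintro ⟨_, ⟨w, rfl⟩, rfl⟩
      exact ⟨w, Scheme.Hom.comp_apply _ _ _⟩
  have hZ' : Set.range (ι ≫ G.i) ∈ irreducibleComponents G.R := by
    rw [hr]; exact image_mem_irreducibleComponents_homeo ih hZ
  have he' : G.e (eU.inv pt) ∈ Set.range (ι ≫ G.i) := by
    rw [hr]
    refine ⟨G.e (eU.inv pt), he, ?_⟩
    show G.i (G.e (eU.inv pt)) = _
    rw [← Scheme.Hom.comp_apply, e_i]
  have := geometricallyIrreducible_unit_component_s G eU pt (ι ≫ G.i) hZ' he'
  rwa [Category.assoc, reassoc_of% G.i_s] at this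

end GeomIrr


section Separated

variable {k : Type u} [Field k] (eU : G.U ≅ Spec (CommRingCat.of k))

include eU in
theorem subsingleton_U : Subsingleton ↥G.U :=
  (Scheme.homeoOfIso eU).injective.subsingleton

/-- `(a, b) ↦ a ∘ b⁻¹` on pairs with the same source -/
noncomputable def delta : pullback G.s G.s ⟶ G.R :=
  comp G (pullback.fst G.s G.s) (pullback.snd G.s G.s ≫ G.i)
    (by rw [Category.assoc, G.i_t, pullback.condition])

theorem isPullback_diagonal : IsPullback (pullback.diagonal G.s) G.t (delta G) G.e := by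
  have hw : pullback.diagonal G.s ≫ delta G = G.t ≫ G.e := by
    unfold delta
    have hA : (pullback.diagonal G.s ≫ pullback.fst G.s G.s) ≫ G.s =
        (pullback.diagonal G.s ≫ pullback.snd G.s G.s ≫ G.i) ≫ G.t := by
      rw [pullback.diagonal_fst, pullback.diagonal_snd_assoc, G.i_t, Category.id_comp]
    rw [precomp_comp _ _ _ _ hA]
    have h0 : (𝟙 G.R) ≫ G.s = ((𝟙 G.R) ≫ G.i) ≫ G.t := by
      rw [Category.id_comp, Category.id_comp, G.i_t]
    have e1 : comp G (𝟙 G.R) ((𝟙 G.R) ≫ G.i) h0 = (𝟙 G.R) ≫ G.t ≫ G.e := G.comp_i (𝟙 G.R)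
    refine (comp_congr ?_ ?_ hA h0).trans (e1.trans (Category.id_comp _))
    · rw [pullback.diagonal_fst]
    · rw [pullback.diagonal_snd_assoc, Category.id_comp]
  have hl : ∀ {T : Scheme.{u}} (m : T ⟶ pullback G.s G.s) (w : T ⟶ G.U)
      (_ : m ≫ delta G = w ≫ G.e), m ≫ pullback.fst G.s G.s = m ≫ pullback.snd G.s G.s ∧
        (m ≫ pullback.fst G.s G.s) ≫ G.t = w := by
    intro T m w h
    have hab : (m ≫ pullback.fst G.s G.s) ≫ G.s = (m ≫ pullback.snd G.s G.s) ≫ G.s := by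
      rw [Category.assoc, Category.assoc, pullback.condition]
    have h1 : (m ≫ pullback.fst G.s G.s) ≫ G.s = ((m ≫ pullback.snd G.s G.s) ≫ G.i) ≫ G.t := by
      rw [Category.assoc _ G.i, G.i_t, hab]
    have hd : m ≫ delta G = comp G (m ≫ pullback.fst G.s G.s)
        ((m ≫ pullback.snd G.s G.s) ≫ G.i) h1 := by
      unfold delta
      rw [precomp_comp m _ _ _ (by
        rw [Category.assoc, Category.assoc, Category.assoc, G.i_t, pullback.condition])]
      exact comp_congr rfl (Category.assoc _ _ _).symm _ _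
    have h3 : comp G (m ≫ pullback.fst G.s G.s) ((m ≫ pullback.snd G.s G.s) ≫ G.i) h1 ≫ G.s =
        (m ≫ pullback.snd G.s G.s) ≫ G.t := by
      rw [comp_s, Category.assoc _ G.i, G.i_s]
    have hwt : w = (m ≫ pullback.snd G.s G.s) ≫ G.t := by
      have : (w ≫ G.e) ≫ G.s = w := by rw [Category.assoc, G.e_s, Category.comp_id]
      rw [← this, ← h, hd, h3]
    have e2 := comp_inv_comp_right (m ≫ pullback.fst G.s G.s) (m ≫ pullback.snd G.s G.s) hab h1 h3
    have e3 : comp G (m ≫ pullback.fst G.s G.s) ((m ≫ pullback.snd G.s G.s) ≫ G.i) h1 =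
        (m ≫ pullback.snd G.s G.s) ≫ G.t ≫ G.e := by
      rw [← hd, h, hwt, Category.assoc]
    have e4 := e_comp _ _ e3 h3
    have hfs : m ≫ pullback.fst G.s G.s = m ≫ pullback.snd G.s G.s := e2.symm.trans e4
    exact ⟨hfs, by rw [hfs, hwt]⟩
  refine IsPullback.mk ⟨hw⟩ ⟨PullbackCone.IsLimit.mk _
    (fun cone => cone.fst ≫ pullback.fst G.s G.s) ?_ ?_ ?_⟩
  · intro cone
    obtain ⟨h1, h2⟩ := hl cone.fst cone.snd cone.condition
    apply pullback.hom_ext
    · rw [Category.assoc, pullback.diagonal_fst, Category.comp_id]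
    · rw [Category.assoc, pullback.diagonal_snd, Category.comp_id, h1]
  · intro cone
    exact (hl cone.fst cone.snd cone.condition).2
  · intro cone m hm1 hm2
    rw [← hm1, Category.assoc, pullback.diagonal_fst, Category.comp_id]

include eU in
theorem isSeparated_s : IsSeparated G.s := by
  haveI := subsingleton_U G eU
  haveI : IsClosedImmersion G.e := isClosedImmersion_of_comp_eq_id G.s G.e G.e_s
  exact ⟨MorphismProperty.of_isPullback (P := @IsClosedImmersion) (isPullback_diagonal G).flip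
    inferInstance⟩

include eU in
theorem isSeparated_R : G.R.IsSeparated := by
  haveI := isSeparated_s G eU
  haveI : IsAffine G.U := .of_isIso eU.hom
  refine ⟨?_⟩
  rw [← terminal.comp_from G.s]
  infer_instance

end Separated

end Groth.Agent.Lib.Helper11.GrpdF
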