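import Mathlib
import Groth.Prelude.Def_Grpd
import Groth.Agent.Lib.Helper11.GrpdLib
import Groth.Agent.Lib.Helper11.GrpdF

/-!
# Morphisms of groupoid schemes on the spectrum of a field: closure of the image (helper11)
-/

set_option autoImplicit false
universe u

open CategoryTheory CategoryTheory.Limits AlgebraicGeometry
open Groth.Agent.Lib.Helper11.GrpdLib

namespace Groth.Agent.Lib.Helper11.GrpdG

section General

variable {S : Scheme.{u}} {G : Grpd.GroupoidScheme S}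

lemma eq_e_of_idem {T : Scheme.{u}} (ε : T ⟶ G.R) (h0 : ε ≫ G.s = ε ≫ G.t)
    (hidem : comp G ε ε h0 = ε) : ε = ε ≫ G.s ≫ G.e := by
  have h2 : (ε ≫ G.i) ≫ G.s = comp G ε ε h0 ≫ G.t := by
    rw [Category.assoc, G.i_s, comp_t]
  have e2 := inv_comp_comp ε ε h0 h2
  have h3 : (ε ≫ G.i) ≫ G.s = ε ≫ G.t := by rw [Category.assoc, G.i_s]
  have e3 : comp G (ε ≫ G.i) ε h3 = ε ≫ G.s ≫ G.e := G.i_comp ε
  have e4 : comp G (ε ≫ G.i) (comp G ε ε h0) h2 = comp G (ε ≫ G.i) ε h3 :=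
    comp_congr rfl hidem _ _
  exact e2.symm.trans (e4.trans e3)

lemma eq_inv_of_comp_eq {T : Scheme.{u}} (a b : T ⟶ G.R) (h : b ≫ G.s = a ≫ G.t)
    (hc : comp G b a h = a ≫ G.s ≫ G.e) : b = a ≫ G.i := by
  have h3 : comp G b a h ≫ G.s = (a ≫ G.i) ≫ G.t := by rw [comp_s, Category.assoc, G.i_t]
  have e1 := comp_comp_inv b a h h3
  have h4 : (a ≫ G.s ≫ G.e) ≫ G.s = (a ≫ G.i) ≫ G.t := by
    rw [Category.assoc, Category.assoc, G.e_s, Category.comp_id, Category.assoc, G.i_t]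
  have e2 : comp G (comp G b a h) (a ≫ G.i) h3 = comp G (a ≫ G.s ≫ G.e) (a ≫ G.i) h4 :=
    comp_congr hc rfl _ _
  have e3 : comp G (a ≫ G.s ≫ G.e) (a ≫ G.i) h4 = a ≫ G.i := by
    refine e_comp _ _ ?_ h4
    rw [Category.assoc, reassoc_of% G.i_t]
  exact e1.symm.trans (e2.trans e3)

/-- `(α, β) ↦ (α⁻¹, α ∘ β)` -/
noncomputable def kap (G : Grpd.GroupoidScheme S) : pullback G.s G.t ⟶ pullback G.s G.t :=
  pullback.lift (pullback.fst G.s G.t ≫ G.i) G.c (by rw [Category.assoc, G.i_s, c_t])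

lemma kap_fst : kap G ≫ pullback.fst G.s G.t = pullback.fst G.s G.t ≫ G.i :=
  pullback.lift_fst _ _ _

lemma kap_snd : kap G ≫ pullback.snd G.s G.t = G.c := pullback.lift_snd _ _ _

lemma kap_c : kap G ≫ G.c = pullback.snd G.s G.t := by
  have h : (kap G ≫ pullback.fst G.s G.t) ≫ G.s = (kap G ≫ pullback.snd G.s G.t) ≫ G.t := by
    rw [Category.assoc, Category.assoc, pullback.condition]
  rw [precomp_c (kap G) h]
  have h2 : (pullback.fst G.s G.t ≫ G.i) ≫ G.s =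
      comp G (pullback.fst G.s G.t) (pullback.snd G.s G.t) pullback.condition ≫ G.t := by
    rw [Category.assoc, G.i_s, comp_t]
  have e1 := inv_comp_comp (pullback.fst G.s G.t) (pullback.snd G.s G.t) pullback.condition h2
  exact (comp_congr kap_fst (kap_snd.trans c_eq) h h2).trans e1

end General

section OpenFibre

/-- The image under one projection of a fibre slice of an open subset of a fibre product is open,
when every morphism to the base is universally open. -/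
theorem isOpen_image_fibre {P X Y U : Scheme.{u}} {pr₁ : P ⟶ X} {pr₂ : P ⟶ Y} {f : X ⟶ U}
    {g : Y ⟶ U} (hP : IsPullback pr₁ pr₂ f g)
    (hU : ∀ {A : Scheme.{u}} (v : A ⟶ U), UniversallyOpen v)
    (N : Set P) (hN : IsOpen N) (y : Y) : IsOpen (pr₁ '' (N ∩ pr₂ ⁻¹' {y})) := by
  let ι := Y.fromSpecResidueField y
  let q := pullback.fst pr₂ ι
  let π := pullback.snd pr₂ ι
  have hleft : IsPullback q π pr₂ ι := IsPullback.of_hasPullback pr₂ ι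
  have hpaste : IsPullback (q ≫ pr₁) π f (ι ≫ g) := hleft.paste_horiz hP
  haveI : UniversallyOpen (ι ≫ g) := hU _
  haveI : UniversallyOpen (q ≫ pr₁) :=
    MorphismProperty.of_isPullback (P := @UniversallyOpen) hpaste.flip inferInstance
  have hopen : IsOpenMap (q ≫ pr₁) := (q ≫ pr₁).isOpenMap
  have hrange : Set.range q = pr₂ ⁻¹' {y} := by
    rw [Scheme.Pullback.range_fst, Scheme.range_fromSpecResidueField]
  have heq : pr₁ '' (N ∩ pr₂ ⁻¹' {y}) = (q ≫ pr₁) '' (q ⁻¹' N) := by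
    ext x
    constructor
    · rintro ⟨p, ⟨hpN, hpy⟩, rfl⟩
      have : p ∈ Set.range q := by rw [hrange]; exact hpy
      obtain ⟨z, rfl⟩ := this
      exact ⟨z, hpN, Scheme.Hom.comp_apply _ _ _⟩
    · rintro ⟨z, hz, rfl⟩
      refine ⟨q z, ⟨hz, ?_⟩, (Scheme.Hom.comp_apply _ _ _).symm⟩
      have : q z ∈ Set.range q := ⟨z, rfl⟩
      rw [hrange] at this; exact this
  rw [heq]
  exact hopen _ (hN.preimage q.continuous)

end OpenFibre

section Hom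

variable {S : Scheme.{u}} {G₁ G₂ : Grpd.GroupoidScheme S} (f : Grpd.GroupoidScheme.Hom G₁ G₂)

theorem hom_comp {T : Scheme.{u}} (α β : T ⟶ G₁.R) (h : α ≫ G₁.s = β ≫ G₁.t)
    (h' : (α ≫ f.fR) ≫ G₂.s = (β ≫ f.fR) ≫ G₂.t) :
    comp G₁ α β h ≫ f.fR = comp G₂ (α ≫ f.fR) (β ≫ f.fR) h' := f.comm_c α β h

theorem fR_e : G₁.e ≫ f.fR = f.fU ≫ G₂.e := by
  have hs : (G₁.e ≫ f.fR) ≫ G₂.s = f.fU := by
    rw [Category.assoc, f.comm_s, reassoc_of% G₁.e_s]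
  have ht : (G₁.e ≫ f.fR) ≫ G₂.t = f.fU := by
    rw [Category.assoc, f.comm_t, reassoc_of% G₁.e_t]
  have h0 : (G₁.e ≫ f.fR) ≫ G₂.s = (G₁.e ≫ f.fR) ≫ G₂.t := hs.trans ht.symm
  have h1 : G₁.e ≫ G₁.s = G₁.e ≫ G₁.t := by rw [G₁.e_s, G₁.e_t]
  have e1 : comp G₁ G₁.e G₁.e h1 = G₁.e := by
    refine comp_e (G := G₁) G₁.e G₁.e ?_ h1
    rw [reassoc_of% G₁.e_s]
  have hidem : comp G₂ (G₁.e ≫ f.fR) (G₁.e ≫ f.fR) h0 = G₁.e ≫ f.fR := by
    rw [← hom_comp f G₁.e G₁.e h1 h0, e1]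
  have key := eq_e_of_idem (G₁.e ≫ f.fR) h0 hidem
  exact key.trans (by rw [← Category.assoc, hs])

theorem fR_i : G₁.i ≫ f.fR = f.fR ≫ G₂.i := by
  have h : (G₁.i ≫ f.fR) ≫ G₂.s = f.fR ≫ G₂.t := by
    rw [Category.assoc, f.comm_s, reassoc_of% G₁.i_s, f.comm_t]
  refine eq_inv_of_comp_eq f.fR (G₁.i ≫ f.fR) h ?_
  have h1 : (𝟙 G₁.R ≫ G₁.i) ≫ G₁.s = 𝟙 G₁.R ≫ G₁.t := by rw [Category.assoc, G₁.i_s]
  have e1 : comp G₁ (𝟙 G₁.R ≫ G₁.i) (𝟙 G₁.R) h1 = 𝟙 G₁.R ≫ G₁.s ≫ G₁.e := G₁.i_comp (𝟙 G₁.R)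
  have h2 : ((𝟙 G₁.R ≫ G₁.i) ≫ f.fR) ≫ G₂.s = (𝟙 G₁.R ≫ f.fR) ≫ G₂.t := by
    rw [Category.id_comp, Category.id_comp]; exact h
  have e2 : comp G₁ (𝟙 G₁.R ≫ G₁.i) (𝟙 G₁.R) h1 ≫ f.fR =
      comp G₂ ((𝟙 G₁.R ≫ G₁.i) ≫ f.fR) (𝟙 G₁.R ≫ f.fR) h2 := f.comm_c _ _ h1
  have e3 : comp G₂ ((𝟙 G₁.R ≫ G₁.i) ≫ f.fR) (𝟙 G₁.R ≫ f.fR) h2 =
      comp G₂ (G₁.i ≫ f.fR) f.fR h :=
    comp_congr (by rw [Category.id_comp]) (Category.id_comp _) _ _
  rw [← e3, ← e2, e1]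
  simp only [Category.id_comp, Category.assoc]
  rw [fR_e, reassoc_of% f.comm_s]

theorem i_mem_range {r : G₂.R} (hr : r ∈ Set.range f.fR) : G₂.i r ∈ Set.range f.fR := by
  obtain ⟨x, rfl⟩ := hr
  refine ⟨G₁.i x, ?_⟩
  rw [← Scheme.Hom.comp_apply, fR_i, Scheme.Hom.comp_apply]

/-- the induced map on composable pairs -/
noncomputable def pmap : pullback G₁.s G₁.t ⟶ pullback G₂.s G₂.t :=
  pullback.map G₁.s G₁.t G₂.s G₂.t f.fR f.fR f.fU f.comm_s.symm f.comm_t.symm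

theorem pmap_c : pmap f ≫ G₂.c = G₁.c ≫ f.fR := by
  have h' : ((pullback.fst G₁.s G₁.t) ≫ f.fR) ≫ G₂.s =
      ((pullback.snd G₁.s G₁.t) ≫ f.fR) ≫ G₂.t := by
    rw [Category.assoc, Category.assoc, f.comm_s, f.comm_t, ← Category.assoc, ← Category.assoc,
      pullback.condition]
  have e1 := hom_comp f (pullback.fst G₁.s G₁.t) (pullback.snd G₁.s G₁.t) pullback.condition h'
  rw [← c_eq] at e1
  rw [e1]
  have h2 : (pmap f ≫ pullback.fst G₂.s G₂.t) ≫ G₂.s =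
      (pmap f ≫ pullback.snd G₂.s G₂.t) ≫ G₂.t := by
    rw [Category.assoc, Category.assoc, pullback.condition]
  rw [precomp_c (pmap f) h2]
  refine comp_congr ?_ ?_ _ _
  · exact pullback.lift_fst _ _ _
  · exact pullback.lift_snd _ _ _

theorem c_mem_range [Mono f.fU] (p : ↑(pullback G₂.s G₂.t))
    (h₁ : pullback.fst G₂.s G₂.t p ∈ Set.range f.fR)
    (h₂ : pullback.snd G₂.s G₂.t p ∈ Set.range f.fR) :
    G₂.c p ∈ Set.range f.fR := by
  have hp : p ∈ Set.range (pmap f) := by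
    unfold pmap
    rw [Scheme.Pullback.range_map]
    exact ⟨h₁, h₂⟩
  obtain ⟨p₁, rfl⟩ := hp
  refine ⟨G₁.c p₁, ?_⟩
  rw [← Scheme.Hom.comp_apply, ← pmap_c, Scheme.Hom.comp_apply]

variable {k : Type u} [Field k] (eU : G₂.U ≅ Spec (CommRingCat.of k))

include eU in
theorem c_mem_closure [Mono f.fU] (p : ↑(pullback G₂.s G₂.t))
    (h₁ : pullback.fst G₂.s G₂.t p ∈ closure (Set.range f.fR))
    (h₂ : pullback.snd G₂.s G₂.t p ∈ closure (Set.range f.fR)) :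
    G₂.c p ∈ closure (Set.range f.fR) := by
  have hU : ∀ {A : Scheme.{u}} (v : A ⟶ G₂.U), UniversallyOpen v :=
    fun v => GrpdF.universallyOpen_fieldPt G₂ eU v
  have hcl : p ∈ closure (pullback.fst G₂.s G₂.t ⁻¹' Set.range f.fR ∩
      pullback.snd G₂.s G₂.t ⁻¹' Set.range f.fR) := by
    rw [mem_closure_iff]
    intro N hN hpN
    have ho1 := isOpen_image_fibre (IsPullback.of_hasPullback G₂.s G₂.t) hU N hN
      (pullback.snd G₂.s G₂.t p)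
    have hm1 : pullback.fst G₂.s G₂.t p ∈ pullback.fst G₂.s G₂.t ''
        (N ∩ pullback.snd G₂.s G₂.t ⁻¹' {pullback.snd G₂.s G₂.t p}) :=
      ⟨p, ⟨hpN, rfl⟩, rfl⟩
    obtain ⟨_, ⟨p', ⟨hp'N, hp'y⟩, rfl⟩, hp'W⟩ := mem_closure_iff.mp h₁ _ ho1 hm1
    have ho2 := isOpen_image_fibre (IsPullback.of_hasPullback G₂.s G₂.t).flip hU N hN
      (pullback.fst G₂.s G₂.t p')
    have hm2 : pullback.snd G₂.s G₂.t p' ∈ pullback.snd G₂.s G₂.t ''
        (N ∩ pullback.fst G₂.s G₂.t ⁻¹' {pullback.fst G₂.s G₂.t p'}) :=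
      ⟨p', ⟨hp'N, rfl⟩, rfl⟩
    have h₂' : pullback.snd G₂.s G₂.t p' ∈ closure (Set.range f.fR) := by
      rw [show pullback.snd G₂.s G₂.t p' = pullback.snd G₂.s G₂.t p from hp'y]; exact h₂
    obtain ⟨_, ⟨p'', ⟨hp''N, hp''x⟩, rfl⟩, hp''W⟩ := mem_closure_iff.mp h₂' _ ho2 hm2
    refine ⟨p'', hp''N, ?_, hp''W⟩
    show pullback.fst G₂.s G₂.t p'' ∈ Set.range f.fR
    rw [show pullback.fst G₂.s G₂.t p'' = pullback.fst G₂.s G₂.t p' from hp''x]; exact hp'W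
  exact map_mem_closure G₂.c.continuous hcl (fun z hz => c_mem_range f z hz.1 hz.2)

include eU in
theorem isClosed_range_of_isLocallyClosed [IsIso f.fU]
    (hlc : IsLocallyClosed (Set.range f.fR)) : IsClosed (Set.range f.fR) := by
  have hU : ∀ {A : Scheme.{u}} (v : A ⟶ G₂.U), UniversallyOpen v :=
    fun v => GrpdF.universallyOpen_fieldPt G₂ eU v
  obtain ⟨O, Z', hO, hZ', hW⟩ := hlc
  have hsubO : Set.range f.fR ⊆ O := fun x hx => by rw [hW] at hx; exact hx.1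
  have hclZ : closure (Set.range f.fR) ⊆ Z' := by
    refine closure_minimal ?_ hZ'
    intro x hx
    rw [hW] at hx; exact hx.2
  have hOW : ∀ x, x ∈ O → x ∈ closure (Set.range f.fR) → x ∈ Set.range f.fR := by
    intro x hxO hxc
    rw [hW]; exact ⟨hxO, hclZ hxc⟩
  rw [← closure_subset_iff_isClosed]
  intro r hr
  let l₀ : G₂.R ⟶ pullback G₂.s G₂.t :=
    pullback.lift (𝟙 G₂.R) (𝟙 G₂.R ≫ G₂.s ≫ G₂.e)
      (by rw [Category.assoc, Category.assoc, G₂.e_t, Category.comp_id])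
  have hl₀c : l₀ ≫ G₂.c = 𝟙 G₂.R := G₂.comp_e (𝟙 G₂.R)
  have hl₀fst : l₀ ≫ pullback.fst G₂.s G₂.t = 𝟙 G₂.R := pullback.lift_fst _ _ _
  have hl₀snd : l₀ ≫ pullback.snd G₂.s G₂.t = G₂.s ≫ G₂.e :=
    (pullback.lift_snd _ _ _).trans (Category.id_comp _)
  have hp₀fst : pullback.fst G₂.s G₂.t (l₀ r) = r := by
    rw [← Scheme.Hom.comp_apply, hl₀fst]; rfl
  have hp₀c : G₂.c (l₀ r) = r := by
    rw [← Scheme.Hom.comp_apply, hl₀c]; rfl
  have hp₀snd : pullback.snd G₂.s G₂.t (l₀ r) ∈ Set.range f.fR := by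
    rw [← Scheme.Hom.comp_apply, hl₀snd, Scheme.Hom.comp_apply]
    obtain ⟨u, hu⟩ := (Scheme.homeoOfIso (asIso f.fU)).surjective (G₂.s r)
    have hu' : f.fU u = G₂.s r := hu
    refine ⟨G₁.e u, ?_⟩
    rw [← hu', ← Scheme.Hom.comp_apply, fR_e, Scheme.Hom.comp_apply]
  have hN' : IsOpen (pullback.snd G₂.s G₂.t ⁻¹' O) :=
    hO.preimage (pullback.snd G₂.s G₂.t).continuous
  have ho := isOpen_image_fibre (isPullback_c_fst (G := G₂)).flip hU _ hN' r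
  have hm : r ∈ pullback.fst G₂.s G₂.t '' (pullback.snd G₂.s G₂.t ⁻¹' O ∩ G₂.c ⁻¹' {r}) :=
    ⟨l₀ r, ⟨hsubO hp₀snd, hp₀c⟩, hp₀fst⟩
  obtain ⟨_, ⟨p, ⟨hpO, hpc⟩, rfl⟩, hpW⟩ := mem_closure_iff.mp hr _ ho hm
  have hpc' : G₂.c p = r := hpc
  have hsndZ : pullback.snd G₂.s G₂.t p ∈ closure (Set.range f.fR) := by
    have h1 : pullback.fst G₂.s G₂.t (kap G₂ p) ∈ closure (Set.range f.fR) := by
      rw [← Scheme.Hom.comp_apply, kap_fst, Scheme.Hom.comp_apply]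
      exact subset_closure (i_mem_range f hpW)
    have h2 : pullback.snd G₂.s G₂.t (kap G₂ p) ∈ closure (Set.range f.fR) := by
      rw [← Scheme.Hom.comp_apply, kap_snd, hpc']; exact hr
    have := c_mem_closure f eU (kap G₂ p) h1 h2
    rwa [← Scheme.Hom.comp_apply, kap_c] at this
  have hsndW : pullback.snd G₂.s G₂.t p ∈ Set.range f.fR := hOW _ hpO hsndZ
  have := c_mem_range f p hpW hsndW
  rwa [hpc'] at this

end Hom

end Groth.Agent.Lib.Helper11.GrpdG
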