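import Mathlib
import Groth.Prelude.Def_Grpd
import Groth.Agent.Lib.Helper11.GrpdLib

/-!
# Sub-groupoid schemes along a monomorphism, and the pair groupoid (helper11)
-/

set_option autoImplicit false
universe u

open CategoryTheory CategoryTheory.Limits AlgebraicGeometry
open Groth.Agent.Lib.Helper11.GrpdLib

namespace Groth.Agent.Lib.Helper11.GrpdH

section Sub

variable {S : Scheme.{u}} (G : Grpd.GroupoidScheme S) {Z : Scheme.{u}} (ι : Z ⟶ G.R)

/-- the map on composable pairs induced by `ι` -/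
noncomputable def ιι : pullback (ι ≫ G.s) (ι ≫ G.t) ⟶ pullback G.s G.t :=
  pullback.map (ι ≫ G.s) (ι ≫ G.t) G.s G.t ι ι (𝟙 G.U) (Category.comp_id _) (Category.comp_id _)

lemma ιι_fst : ιι G ι ≫ pullback.fst G.s G.t = pullback.fst (ι ≫ G.s) (ι ≫ G.t) ≫ ι :=
  pullback.lift_fst _ _ _

lemma ιι_snd : ιι G ι ≫ pullback.snd G.s G.t = pullback.snd (ι ≫ G.s) (ι ≫ G.t) ≫ ι :=
  pullback.lift_snd _ _ _

variable {G ι}
variable {c' : pullback (ι ≫ G.s) (ι ≫ G.t) ⟶ Z} (hc : c' ≫ ι = ιι G ι ≫ G.c)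

include hc in
lemma sub_comp {T : Scheme.{u}} (α β : T ⟶ Z) (h : α ≫ ι ≫ G.s = β ≫ ι ≫ G.t)
    (h' : (α ≫ ι) ≫ G.s = (β ≫ ι) ≫ G.t) :
    (pullback.lift α β h ≫ c') ≫ ι = comp G (α ≫ ι) (β ≫ ι) h' := by
  rw [Category.assoc, hc, ← Category.assoc]
  unfold comp
  congr 1
  apply pullback.hom_ext
  · rw [Category.assoc, ιι_fst, pullback.lift_fst_assoc, pullback.lift_fst]
  · rw [Category.assoc, ιι_snd, pullback.lift_snd_assoc, pullback.lift_snd]

variable (G ι)

/-- A groupoid structure on a subobject `ι : Z ⟶ R` through which identity, inverse and composition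
factor. -/
noncomputable def subGrpd [Mono ι] (e' : G.U ⟶ Z) (i' : Z ⟶ Z)
    (c' : pullback (ι ≫ G.s) (ι ≫ G.t) ⟶ Z)
    (he : e' ≫ ι = G.e) (hi : i' ≫ ι = ι ≫ G.i) (hc : c' ≫ ι = ιι G ι ≫ G.c) :
    Grpd.GroupoidScheme S where
  U := G.U
  R := Z
  pU := G.pU
  pR := ι ≫ G.pR
  s := ι ≫ G.s
  t := ι ≫ G.t
  e := e'
  i := i'
  c := c'
  s_over := by rw [Category.assoc, G.s_over]
  t_over := by rw [Category.assoc, G.t_over]
  comp_s := fun α β h => by
    have h' : (α ≫ ι) ≫ G.s = (β ≫ ι) ≫ G.t := by simpa only [Category.assoc] using h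
    rw [← Category.assoc, sub_comp hc α β h h', comp_s, Category.assoc]
  comp_t := fun α β h => by
    have h' : (α ≫ ι) ≫ G.s = (β ≫ ι) ≫ G.t := by simpa only [Category.assoc] using h
    rw [← Category.assoc, sub_comp hc α β h h', comp_t, Category.assoc]
  assoc := fun α β γ h₁ h₂ => by
    have h₁' : (α ≫ ι) ≫ G.s = (β ≫ ι) ≫ G.t := by simpa only [Category.assoc] using h₁
    have h₂' : (β ≫ ι) ≫ G.s = (γ ≫ ι) ≫ G.t := by simpa only [Category.assoc] using h₂
    rw [← cancel_mono ι]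
    have e1 : (pullback.lift α β h₁ ≫ c') ≫ ι = comp G (α ≫ ι) (β ≫ ι) h₁' :=
      sub_comp hc α β h₁ h₁'
    have e2 : (pullback.lift β γ h₂ ≫ c') ≫ ι = comp G (β ≫ ι) (γ ≫ ι) h₂' :=
      sub_comp hc β γ h₂ h₂'
    have h₃ : comp G (α ≫ ι) (β ≫ ι) h₁' ≫ G.s = (γ ≫ ι) ≫ G.t := by rw [comp_s]; exact h₂'
    have h₄ : (α ≫ ι) ≫ G.s = comp G (β ≫ ι) (γ ≫ ι) h₂' ≫ G.t := by rw [comp_t]; exact h₁'
    have h₃' : ((pullback.lift α β h₁ ≫ c') ≫ ι) ≫ G.s = (γ ≫ ι) ≫ G.t := by rw [e1]; exact h₃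
    have h₄' : (α ≫ ι) ≫ G.s = ((pullback.lift β γ h₂ ≫ c') ≫ ι) ≫ G.t := by rw [e2]; exact h₄
    calc _ = comp G ((pullback.lift α β h₁ ≫ c') ≫ ι) (γ ≫ ι) h₃' := sub_comp hc _ _ _ h₃'
      _ = comp G (comp G (α ≫ ι) (β ≫ ι) h₁') (γ ≫ ι) h₃ := comp_congr e1 rfl _ _
      _ = comp G (α ≫ ι) (comp G (β ≫ ι) (γ ≫ ι) h₂') h₄ := comp_assoc _ _ _ h₁' h₂' h₃ h₄
      _ = comp G (α ≫ ι) ((pullback.lift β γ h₂ ≫ c') ≫ ι) h₄' := (comp_congr rfl e2 _ _).symm
      _ = _ := (sub_comp hc _ _ _ h₄').symm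
  e_s := by rw [← Category.assoc, he, G.e_s]
  e_t := by rw [← Category.assoc, he, G.e_t]
  comp_e := fun α => by
    rw [← cancel_mono ι]
    have hβ : (α ≫ (ι ≫ G.s) ≫ e') ≫ ι = (α ≫ ι) ≫ G.s ≫ G.e := by
      simp only [Category.assoc, he]
    have h' : (α ≫ ι) ≫ G.s = ((α ≫ (ι ≫ G.s) ≫ e') ≫ ι) ≫ G.t := by
      rw [hβ]; simp only [Category.assoc, G.e_t, Category.comp_id]
    refine (sub_comp hc _ _ _ h').trans ?_
    exact comp_e _ _ hβ h'
  e_comp := fun α => by
    rw [← cancel_mono ι]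
    have hβ : (α ≫ (ι ≫ G.t) ≫ e') ≫ ι = (α ≫ ι) ≫ G.t ≫ G.e := by
      simp only [Category.assoc, he]
    have h' : ((α ≫ (ι ≫ G.t) ≫ e') ≫ ι) ≫ G.s = (α ≫ ι) ≫ G.t := by
      rw [hβ]; simp only [Category.assoc, G.e_s, Category.comp_id]
    refine (sub_comp hc _ _ _ h').trans ?_
    exact e_comp _ _ hβ h'
  i_s := by rw [← Category.assoc, hi, Category.assoc, G.i_s]
  i_t := by rw [← Category.assoc, hi, Category.assoc, G.i_t]
  comp_i := fun α => by
    rw [← cancel_mono ι]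
    have hβ : (α ≫ i') ≫ ι = (α ≫ ι) ≫ G.i := by simp only [Category.assoc, hi]
    have h0 : (α ≫ ι) ≫ G.s = ((α ≫ ι) ≫ G.i) ≫ G.t := by rw [Category.assoc _ G.i, G.i_t]
    have h' : (α ≫ ι) ≫ G.s = ((α ≫ i') ≫ ι) ≫ G.t := by rw [hβ]; exact h0
    refine (sub_comp hc _ _ _ h').trans ?_
    refine (comp_congr rfl hβ h' h0).trans ?_
    refine (G.comp_i (α ≫ ι)).trans ?_
    simp only [Category.assoc, he]
  i_comp := fun α => by
    rw [← cancel_mono ι]
    have hβ : (α ≫ i') ≫ ι = (α ≫ ι) ≫ G.i := by simp only [Category.assoc, hi]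
    have h0 : ((α ≫ ι) ≫ G.i) ≫ G.s = (α ≫ ι) ≫ G.t := by rw [Category.assoc _ G.i, G.i_s]
    have h' : ((α ≫ i') ≫ ι) ≫ G.s = (α ≫ ι) ≫ G.t := by rw [hβ]; exact h0
    refine (sub_comp hc _ _ _ h').trans ?_
    refine (comp_congr hβ rfl h' h0).trans ?_
    refine (G.i_comp (α ≫ ι)).trans ?_
    simp only [Category.assoc, he]

/-- the inclusion of the sub-groupoid -/
noncomputable def subHom [Mono ι] (e' : G.U ⟶ Z) (i' : Z ⟶ Z)
    (c' : pullback (ι ≫ G.s) (ι ≫ G.t) ⟶ Z)
    (he : e' ≫ ι = G.e) (hi : i' ≫ ι = ι ≫ G.i) (hc : c' ≫ ι = ιι G ι ≫ G.c) :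
    Grpd.GroupoidScheme.Hom (subGrpd G ι e' i' c' he hi hc) G where
  fU := 𝟙 G.U
  fR := ι
  fU_over := Category.id_comp _
  comm_s := (Category.comp_id _).symm
  comm_t := (Category.comp_id _).symm
  comm_c := fun α β h => sub_comp hc α β h _

end Sub

section Pair

variable {S : Scheme.{u}} (G : Grpd.GroupoidScheme S)

/-- `pr₀₂` on `(U ×_S U) ×_U (U ×_S U)` -/
noncomputable def pairC : pullback (pullback.snd G.pU G.pU) (pullback.fst G.pU G.pU) ⟶
    pullback G.pU G.pU :=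
  pullback.lift (pullback.fst _ _ ≫ pullback.fst G.pU G.pU)
    (pullback.snd _ _ ≫ pullback.snd G.pU G.pU) (by
      have h1 := pullback.condition (f := G.pU) (g := G.pU)
      have h2 := pullback.condition (f := pullback.snd G.pU G.pU) (g := pullback.fst G.pU G.pU)
      rw [Category.assoc, Category.assoc, h1, reassoc_of% h2, h1])

lemma pairC_fst : pairC G ≫ pullback.fst G.pU G.pU =
    pullback.fst _ _ ≫ pullback.fst G.pU G.pU := pullback.lift_fst _ _ _

lemma pairC_snd : pairC G ≫ pullback.snd G.pU G.pU =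
    pullback.snd _ _ ≫ pullback.snd G.pU G.pU := pullback.lift_snd _ _ _

lemma lift_pairC_fst {T : Scheme.{u}} (a b : T ⟶ pullback G.pU G.pU)
    (h : a ≫ pullback.snd G.pU G.pU = b ≫ pullback.fst G.pU G.pU) :
    (pullback.lift a b h ≫ pairC G) ≫ pullback.fst G.pU G.pU = a ≫ pullback.fst G.pU G.pU := by
  rw [Category.assoc, pairC_fst, ← Category.assoc, pullback.lift_fst]

lemma lift_pairC_snd {T : Scheme.{u}} (a b : T ⟶ pullback G.pU G.pU)
    (h : a ≫ pullback.snd G.pU G.pU = b ≫ pullback.fst G.pU G.pU) :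
    (pullback.lift a b h ≫ pairC G) ≫ pullback.snd G.pU G.pU = b ≫ pullback.snd G.pU G.pU := by
  rw [Category.assoc, pairC_snd, ← Category.assoc, pullback.lift_snd]

/-- the pair groupoid `U ×_S U ⇉ U` -/
noncomputable def pairGrpd : Grpd.GroupoidScheme S where
  U := G.U
  R := pullback G.pU G.pU
  pU := G.pU
  pR := pullback.fst G.pU G.pU ≫ G.pU
  s := pullback.snd G.pU G.pU
  t := pullback.fst G.pU G.pU
  e := pullback.lift (𝟙 G.U) (𝟙 G.U) rfl
  i := pullback.lift (pullback.snd G.pU G.pU) (pullback.fst G.pU G.pU) pullback.condition.symm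
  c := pairC G
  s_over := pullback.condition.symm
  t_over := rfl
  comp_s := fun α β h => lift_pairC_snd G α β h
  comp_t := fun α β h => lift_pairC_fst G α β h
  assoc := fun α β γ h₁ h₂ => by
    apply pullback.hom_ext
    · exact (lift_pairC_fst G _ γ _).trans
        ((lift_pairC_fst G α β h₁).trans (lift_pairC_fst G α _ _).symm)
    · exact (lift_pairC_snd G _ γ _).trans
        ((lift_pairC_snd G α _ _).trans (lift_pairC_snd G β γ h₂)).symm
  e_s := pullback.lift_snd _ _ _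
  e_t := pullback.lift_fst _ _ _
  comp_e := fun α => by
    apply pullback.hom_ext
    · exact lift_pairC_fst G α _ _
    · refine (lift_pairC_snd G α _ _).trans ?_
      rw [Category.assoc, Category.assoc, pullback.lift_snd, Category.comp_id]
  e_comp := fun α => by
    apply pullback.hom_ext
    · refine (lift_pairC_fst G _ α _).trans ?_
      rw [Category.assoc, Category.assoc, pullback.lift_fst, Category.comp_id]
    · exact lift_pairC_snd G _ α _
  i_s := pullback.lift_snd _ _ _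
  i_t := pullback.lift_fst _ _ _
  comp_i := fun α => by
    apply pullback.hom_ext
    · refine (lift_pairC_fst G α _ _).trans ?_
      rw [Category.assoc, Category.assoc, pullback.lift_fst, Category.comp_id]
    · refine (lift_pairC_snd G α _ _).trans ?_
      rw [Category.assoc, pullback.lift_snd, Category.assoc, Category.assoc, pullback.lift_snd,
        Category.comp_id]
  i_comp := fun α => by
    apply pullback.hom_ext
    · refine (lift_pairC_fst G _ α _).trans ?_
      rw [Category.assoc, pullback.lift_fst, Category.assoc, Category.assoc, pullback.lift_fst,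
        Category.comp_id]
    · refine (lift_pairC_snd G _ α _).trans ?_
      rw [Category.assoc, Category.assoc, pullback.lift_snd, Category.comp_id]

/-- `j = (t, s)` as a morphism of groupoid schemes to the pair groupoid -/
noncomputable def jHom : Grpd.GroupoidScheme.Hom G (pairGrpd G) where
  fU := 𝟙 G.U
  fR := G.j
  fU_over := Category.id_comp _
  comm_s := (pullback.lift_snd _ _ _).trans (Category.comp_id _).symm
  comm_t := (pullback.lift_fst _ _ _).trans (Category.comp_id _).symm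
  comm_c := fun α β h => by
    apply pullback.hom_ext
    · have h1 : G.j ≫ pullback.fst G.pU G.pU = G.t := pullback.lift_fst _ _ _
      have key : ((pullback.lift α β h ≫ G.c) ≫ G.j) ≫ pullback.fst G.pU G.pU =
          (α ≫ G.j) ≫ pullback.fst G.pU G.pU :=
        calc ((pullback.lift α β h ≫ G.c) ≫ G.j) ≫ pullback.fst G.pU G.pU
            = (pullback.lift α β h ≫ G.c) ≫ (G.j ≫ pullback.fst G.pU G.pU) :=
              Category.assoc _ _ _
          _ = (pullback.lift α β h ≫ G.c) ≫ G.t := by rw [h1]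
          _ = α ≫ G.t := G.comp_t α β h
          _ = α ≫ (G.j ≫ pullback.fst G.pU G.pU) := by rw [h1]
          _ = (α ≫ G.j) ≫ pullback.fst G.pU G.pU := (Category.assoc _ _ _).symm
      exact key.trans (lift_pairC_fst G (α ≫ G.j) (β ≫ G.j) _).symm
    · have h1 : G.j ≫ pullback.snd G.pU G.pU = G.s := pullback.lift_snd _ _ _
      have key : ((pullback.lift α β h ≫ G.c) ≫ G.j) ≫ pullback.snd G.pU G.pU =
          (β ≫ G.j) ≫ pullback.snd G.pU G.pU :=
        calc ((pullback.lift α β h ≫ G.c) ≫ G.j) ≫ pullback.snd G.pU G.pU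
            = (pullback.lift α β h ≫ G.c) ≫ (G.j ≫ pullback.snd G.pU G.pU) :=
              Category.assoc _ _ _
          _ = (pullback.lift α β h ≫ G.c) ≫ G.s := by rw [h1]
          _ = β ≫ G.s := G.comp_s α β h
          _ = β ≫ (G.j ≫ pullback.snd G.pU G.pU) := by rw [h1]
          _ = (β ≫ G.j) ≫ pullback.snd G.pU G.pU := (Category.assoc _ _ _).symm
      exact key.trans (lift_pairC_snd G (α ≫ G.j) (β ≫ G.j) _).symm

end Pair

end Groth.Agent.Lib.Helper11.GrpdH
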