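import Mathlib
import Groth.Prelude.Def_Grpd
import Groth.Prelude.Def_FDesc
import Groth.Agent.Lib.Helper11.GrpdLib
import Groth.Agent.Lib.Helper11.GrpdF
import Groth.Agent.Lib.Helper11.GrpdG
import Groth.Agent.Lib.Helper11.GrpdH
import Groth.Agent.Lib.Helper7.RedLib
import Groth.Agent.Lib.Helper6.GeomReducedProd
import Groth.Agent.Lib.Helper14.PerfectGeomRed

/-!
# The reduced closure of the image of a morphism of groupoid schemes over a perfect field (helper11)
-/

set_option autoImplicit false
universe u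

open CategoryTheory CategoryTheory.Limits AlgebraicGeometry TopologicalSpace
open Groth.Agent.Lib.Helper11.GrpdLib

namespace Groth.Agent.Lib.Helper11.GrpdI

section Reduced

/-- For a reduced source the kernel is the vanishing ideal of the closure of the image. -/
theorem ker_eq_vanishingIdeal_of_isReduced {X Y : Scheme.{u}} (f : X ⟶ Y) [IsReduced X] :
    f.ker = Scheme.IdealSheafData.vanishingIdeal (.closure (Set.range f)) := by
  rw [← Scheme.IdealSheafData.map_bot, ← Scheme.nilradical_eq_bot,
    ← Scheme.IdealSheafData.vanishingIdeal_top, Scheme.IdealSheafData.map_vanishingIdeal]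
  congr 2
  simp

/-- morphisms from reduced schemes landing in a closed set factor through its reduced structure -/
theorem exists_lift_of_isReduced {X T : Scheme.{u}} [IsReduced T] (C : Closeds X) (g : T ⟶ X)
    (hg : Set.range g ⊆ (C : Set X)) :
    ∃ g' : T ⟶ (Scheme.IdealSheafData.vanishingIdeal C).subscheme,
      g' ≫ (Scheme.IdealSheafData.vanishingIdeal C).subschemeι = g := by
  have H : (Scheme.IdealSheafData.vanishingIdeal C).subschemeι.ker ≤ g.ker := by
    rw [Scheme.IdealSheafData.ker_subschemeι, ker_eq_vanishingIdeal_of_isReduced]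
    apply Scheme.IdealSheafData.vanishingIdeal_antimono
    rw [Closeds.closure_le]
    exact hg
  exact ⟨IsClosedImmersion.lift _ g H, IsClosedImmersion.lift_fac _ g H⟩

/-- fibre products of reduced schemes over (a scheme isomorphic to) the spectrum of a perfect field
are reduced -/
theorem isReduced_pullback_of_perfectField {k : Type u} [Field k] [PerfectField k]
    {X Y U : Scheme.{u}} (eU : U ≅ Spec (CommRingCat.of k)) (f : X ⟶ U) (g : Y ⟶ U)
    [IsReduced X] [IsReduced Y] : IsReduced (pullback f g) := by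
  haveI hiso : IsIso (Spec.map (CommRingCat.ofHom (algebraMap k k))) :=
    (inferInstance : IsIso (Spec.map (𝟙 (CommRingCat.of k))))
  haveI : IsReduced (FBase.bc (f ≫ eU.hom) k) := by
    unfold FBase.bc
    exact isReduced_of_isOpenImmersion
      (pullback.fst (f ≫ eU.hom) (Spec.map (CommRingCat.ofHom (algebraMap k k))))
  haveI : GeometricallyReduced (f ≫ eU.hom) :=
    Groth.Agent.Lib.Helper14.PerfectGeomRed.geometricallyReduced_of_perfect (f ≫ eU.hom) k
  haveI := Groth.Agent.Lib.Helper6.GeomReducedProd.isReduced_pullback (f ≫ eU.hom) (g ≫ eU.hom)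
  have hP : IsPullback (pullback.fst f g) (pullback.snd f g) (f ≫ eU.hom) (g ≫ eU.hom) :=
    IsPullback.of_isLimit (pullbackIsPullbackOfCompMono f g eU.hom)
  exact isReduced_of_isOpenImmersion hP.isoPullback.hom

end Reduced

section ReducedClosure

variable {S : Scheme.{u}} {G₁ G₂ : Grpd.GroupoidScheme S} (f : Grpd.GroupoidScheme.Hom G₁ G₂)
  [IsIso f.fU]
variable {k : Type u} [Field k] [PerfectField k] (eU : G₂.U ≅ Spec (CommRingCat.of k))

include eU in
theorem exists_groupoid_on_closure :
    ∃ (G' : Grpd.GroupoidScheme S) (ψ : Grpd.GroupoidScheme.Hom G' G₂), IsIso ψ.fU ∧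
      IsClosedImmersion ψ.fR ∧ IsReduced G'.R ∧
      Set.range ⇑ψ.fR = closure (Set.range ⇑f.fR) := by
  let C : Closeds G₂.R := ⟨closure (Set.range f.fR), isClosed_closure⟩
  let I := Scheme.IdealSheafData.vanishingIdeal C
  let ι : I.subscheme ⟶ G₂.R := I.subschemeι
  haveI hZred : IsReduced I.subscheme :=
    Groth.Agent.Lib.Helper7.isReduced_vanishingIdeal_subscheme C
  have hrange : Set.range ι = closure (Set.range f.fR) := by
    rw [Scheme.IdealSheafData.range_subschemeι, Scheme.IdealSheafData.coe_support_vanishingIdeal]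
    rfl
  have hιmem : ∀ z, ι z ∈ closure (Set.range f.fR) := fun z => hrange ▸ Set.mem_range_self z
  haveI : IsReduced G₂.U := by
    haveI : IsReduced (Spec (CommRingCat.of k)) := inferInstance
    exact isReduced_of_isOpenImmersion eU.hom
  -- identity
  obtain ⟨e', he⟩ := exists_lift_of_isReduced C G₂.e (by
    rintro _ ⟨u, rfl⟩
    show G₂.e u ∈ closure (Set.range f.fR)
    obtain ⟨u', hu'⟩ := (Scheme.homeoOfIso (asIso f.fU)).surjective u
    have hu'' : f.fU u' = u := hu'
    apply subset_closure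
    refine ⟨G₁.e u', ?_⟩
    rw [← hu'', ← Scheme.Hom.comp_apply, GrpdG.fR_e, Scheme.Hom.comp_apply])
  -- inverse
  obtain ⟨i', hi⟩ := exists_lift_of_isReduced C (ι ≫ G₂.i) (by
    rintro _ ⟨z, rfl⟩
    show (ι ≫ G₂.i) z ∈ closure (Set.range f.fR)
    rw [Scheme.Hom.comp_apply]
    exact map_mem_closure G₂.i.continuous (hιmem z) (fun x hx => GrpdG.i_mem_range f hx))
  -- composition
  haveI : IsReduced (pullback (ι ≫ G₂.s) (ι ≫ G₂.t)) :=
    isReduced_pullback_of_perfectField eU _ _
  obtain ⟨c', hc⟩ := exists_lift_of_isReduced C (GrpdH.ιι G₂ ι ≫ G₂.c) (by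
    rintro _ ⟨p, rfl⟩
    show (GrpdH.ιι G₂ ι ≫ G₂.c) p ∈ closure (Set.range f.fR)
    rw [Scheme.Hom.comp_apply]
    apply GrpdG.c_mem_closure f eU
    · rw [← Scheme.Hom.comp_apply, GrpdH.ιι_fst, Scheme.Hom.comp_apply]
      exact hιmem _
    · rw [← Scheme.Hom.comp_apply, GrpdH.ιι_snd, Scheme.Hom.comp_apply]
      exact hιmem _)
  refine ⟨GrpdH.subGrpd G₂ ι e' i' c' he hi hc, GrpdH.subHom G₂ ι e' i' c' he hi hc,
    ?_, ?_, ?_, ?_⟩
  · exact (inferInstance : IsIso (𝟙 G₂.U))
  · exact (inferInstance : IsClosedImmersion ι)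
  · exact hZred
  · exact hrange

end ReducedClosure

end Groth.Agent.Lib.Helper11.GrpdI
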