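import Mathlib
import Groth.Prelude.Def_AlgGrp
import Groth.Agent.Lib.Helper11.ArtB
import Groth.Agent.Lib.Helper11.ArtC
import Groth.Agent.Lib.Helper11.GrpdI
import Groth.Agent.Lib.Helper11.PF3
import Groth.Agent.Lib.Helper22.SmoothRed
import Groth.Agent.Lib.Helper22.ActionPts
import Groth.Agent.S5342

/-!
# ActTriv: a connected smooth group acts trivially on a reduced zero-dimensional scheme (helper11)
-/

set_option autoImplicit false
universe u

open CategoryTheory CategoryTheory.Limits MonoidalCategory CartesianMonoidalCategory MonObj GrpObj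
  AlgebraicGeometry Topology

namespace Groth.Agent.Lib.Helper11.ActTriv

/-- lifting through a closed immersion from a reduced scheme -/
theorem exists_lift_of_range_subset {Y Z W : Scheme.{u}} [IsReduced Y] (i : Z ⟶ W)
    [IsClosedImmersion i] (t : Y ⟶ W) (h : Set.range ⇑t ⊆ Set.range ⇑i) :
    ∃ l : Y ⟶ Z, l ≫ i = t := by
  have H : i.ker ≤ t.ker := by
    rw [GrpdI.ker_eq_vanishingIdeal_of_isReduced t,
      ← Scheme.IdealSheafData.le_support_iff_le_vanishingIdeal,
      TopologicalSpace.Closeds.closure_le]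
    intro z hz
    obtain ⟨y, rfl⟩ := h hz
    exact Scheme.Hom.range_subset_ker_support i ⟨y, rfl⟩
  exact ⟨IsClosedImmersion.lift i t H, IsClosedImmersion.lift_fac _ _ _⟩

theorem eq_of_connected_reduced {B U V U' : Scheme.{u}} (w : U ⟶ B) [IsSeparated w]
    [DiscreteTopology ↥(pullback w w)] (a b : V ⟶ U) (hab : a ≫ w = b ≫ w)
    [IsReduced V] [ConnectedSpace V] [Nonempty U'] (s : U' ⟶ V) (hs : s ≫ a = s ≫ b) :
    a = b := by
  obtain ⟨pair, hp1, hp2⟩ : ∃ pair : V ⟶ pullback w w,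
      pair ≫ pullback.fst w w = a ∧ pair ≫ pullback.snd w w = b :=
    ⟨pullback.lift a b hab, pullback.lift_fst _ _ _, pullback.lift_snd _ _ _⟩
  have hrange : Set.range ⇑pair ⊆ Set.range ⇑(pullback.diagonal w) := by
    have hclopen : IsClopen (⇑pair ⁻¹' Set.range ⇑(pullback.diagonal w)) :=
      ⟨(isClosed_discrete _).preimage pair.continuous,
        (isOpen_discrete _).preimage pair.continuous⟩
    have hne : (⇑pair ⁻¹' Set.range ⇑(pullback.diagonal w)).Nonempty := by
      obtain ⟨x⟩ := ‹Nonempty U'›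
      have e : s ≫ pair = (s ≫ a) ≫ pullback.diagonal w := by
        apply pullback.hom_ext
        · rw [Category.assoc, hp1, Category.assoc, pullback.diagonal_fst, Category.comp_id]
        · rw [Category.assoc, hp2, Category.assoc, pullback.diagonal_snd, Category.comp_id, hs]
      refine ⟨s x, (s ≫ a) x, ?_⟩
      rw [← Scheme.Hom.comp_apply, ← e, Scheme.Hom.comp_apply]
    rcases isClopen_iff.mp hclopen with h | h
    · exact absurd h hne.ne_empty
    · rintro _ ⟨v, rfl⟩
      have : v ∈ ⇑pair ⁻¹' Set.range ⇑(pullback.diagonal w) := by rw [h]; exact Set.mem_univ v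
      exact this
  obtain ⟨l, hl⟩ := exists_lift_of_range_subset (pullback.diagonal w) pair hrange
  have h1 : a = l := by
    rw [← hp1, ← hl, Category.assoc, pullback.diagonal_fst, Category.comp_id]
  have h2 : b = l := by
    rw [← hp2, ← hl, Category.assoc, pullback.diagonal_snd, Category.comp_id]
  rw [h1, h2]

variable {k : Type u} [Field k]

theorem key (G Z : Over (Spec (CommRingCat.of k))) [GrpObj G] [Smooth G.hom]
    [ConnectedSpace ↥G.left] [LocallyOfFiniteType Z.hom] [IsReduced Z.left]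
    [DiscreteTopology ↥Z.left]
    (α : G ⊗ Z ⟶ Z) (hα : lift (toUnit Z ≫ η[G]) (𝟙 Z) ≫ α = 𝟙 Z) (z : ↥Z.left)
    (UU : Over (Spec (CommRingCat.of k))) (ιU : UU ⟶ Z) [IsOpenImmersion ιU.left]
    (hr : Set.range ⇑ιU.left = {z}) :
    (G ◁ ιU) ≫ α = (G ◁ ιU) ≫ snd G Z := by
  haveI hsub : Subsingleton ↥UU.left := by
    refine ⟨fun x y => ιU.left.isOpenEmbedding.injective ?_⟩
    have hx : ιU.left x ∈ ({z} : Set ↥Z.left) := by rw [← hr]; exact ⟨x, rfl⟩
    have hy : ιU.left y ∈ ({z} : Set ↥Z.left) := by rw [← hr]; exact ⟨y, rfl⟩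
    rw [Set.mem_singleton_iff] at hx hy
    rw [hx, hy]
  obtain ⟨u₀, hu₀⟩ : ∃ u₀ : ↥UU.left, ιU.left u₀ = z := by
    have : z ∈ Set.range ⇑ιU.left := by rw [hr]; exact Set.mem_singleton z
    exact this
  haveI : IsReduced UU.left := isReduced_of_isOpenImmersion ιU.left
  haveI : LocallyOfFiniteType UU.hom := by
    have h1 : LocallyOfFiniteType (ιU.left ≫ Z.hom) := inferInstance
    rwa [Over.w] at h1
  haveI : IsAffine UU.left := inferInstance
  haveI : IsSeparated UU.hom := inferInstance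
  haveI : Finite ↥UU.left := Finite.of_subsingleton
  haveI : LocallyQuasiFinite UU.hom :=
    LocallyQuasiFinite.of_finite_preimage_singleton _ (fun _ => Set.toFinite _)
  haveI : IsLocallyArtinian UU.left := inferInstance
  haveI : IsLocallyArtinian (pullback UU.hom UU.hom) :=
    IsLocallyArtinian.of_locallyQuasiFinite (pullback.fst UU.hom UU.hom)
  haveI : DiscreteTopology ↥(pullback UU.hom UU.hom) := inferInstance
  haveI : ConnectedSpace ↥UU.left := { toPreconnectedSpace := inferInstance, toNonempty := ⟨u₀⟩ }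
  haveI hconnA : ConnectedSpace ↥(G ⊗ UU).left :=
    Groth.Agent.S5342.result k G.left UU.left G.hom UU.hom η[G].left (Over.w η[G])
  haveI : IsReduced (G ⊗ UU).left := by
    haveI : Smooth (pullback.snd G.hom UU.hom) := inferInstance
    exact Groth.Agent.Lib.Helper22.SmoothRed.isReduced_of_smooth (pullback.snd G.hom UU.hom)
  obtain ⟨a₀, ha₀⟩ : ∃ a₀ : G ⊗ UU ⟶ Z, a₀ = (G ◁ ιU) ≫ α := ⟨_, rfl⟩
  obtain ⟨σU, hσU⟩ : ∃ σU : UU ⟶ G ⊗ UU, σU = lift (toUnit UU ≫ η[G]) (𝟙 UU) := ⟨_, rfl⟩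
  have hσj : σU ≫ (G ◁ ιU) = ιU ≫ lift (toUnit Z ≫ η[G]) (𝟙 Z) := by
    rw [hσU, lift_whiskerLeft, comp_lift, Category.id_comp, Category.comp_id, ← Category.assoc,
      toUnit_unique (ιU ≫ toUnit Z) (toUnit UU)]
  have hσa : σU ≫ a₀ = ιU := by
    rw [ha₀, ← Category.assoc, hσj, Category.assoc, hα, Category.comp_id]
  have hσs : σU ≫ snd G UU = 𝟙 UU := by rw [hσU, lift_snd]
  have hconst : ∀ y : ↥(G ⊗ UU).left, a₀.left y = z := by
    intro y
    have hpre : _root_.IsPreconnected (Set.range ⇑a₀.left) :=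
      isPreconnected_range a₀.left.continuous
    have h1 : a₀.left (σU.left u₀) = z := by
      have h2 := ArtC.left_apply_congr' hσa u₀
      rw [Over.comp_left, Scheme.Hom.comp_apply] at h2
      rw [h2, hu₀]
    exact (hpre.subsingleton ⟨y, rfl⟩ ⟨_, rfl⟩).trans h1
  have hrange : Set.range ⇑a₀.left ⊆ Set.range ⇑ιU.left := by
    rintro _ ⟨y, rfl⟩
    rw [hr, hconst y]; exact Set.mem_singleton z
  obtain ⟨a', ha'⟩ : ∃ a' : (G ⊗ UU).left ⟶ UU.left, a' ≫ ιU.left = a₀.left :=
    ⟨IsOpenImmersion.lift ιU.left a₀.left hrange, IsOpenImmersion.lift_fac _ _ _⟩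
  have hab : a' ≫ UU.hom = (snd G UU).left ≫ UU.hom := by
    rw [Over.w (snd G UU), ← Over.w ιU, ← Category.assoc, ha', Over.w a₀]
  have hs : σU.left ≫ a' = σU.left ≫ (snd G UU).left := by
    rw [← cancel_mono ιU.left, Category.assoc, ha', ← Over.comp_left, hσa, ← Over.comp_left,
      hσs, Over.id_left, Category.id_comp]
  have hfin : a' = (snd G UU).left :=
    eq_of_connected_reduced UU.hom a' (snd G UU).left hab σU.left hs
  rw [← ha₀]
  apply Over.OverMorphism.ext
  rw [← ha', hfin, ← Over.comp_left, whiskerLeft_snd]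

theorem act_eq_snd (G Z : Over (Spec (CommRingCat.of k))) [GrpObj G] [Smooth G.hom]
    [ConnectedSpace ↥G.left] [LocallyOfFiniteType Z.hom] [IsReduced Z.left]
    (hdim : topologicalKrullDim ↥Z.left ≤ 0)
    (α : G ⊗ Z ⟶ Z) (hα : lift (toUnit Z ≫ η[G]) (𝟙 Z) ≫ α = 𝟙 Z) : α = snd G Z := by
  haveI : IsLocallyNoetherian Z.left := LocallyOfFiniteType.isLocallyNoetherian Z.hom
  haveI : IsLocallyArtinian Z.left := IsLocallyArtinian.of_topologicalKrullDim_le_zero hdim
  haveI : DiscreteTopology ↥Z.left := inferInstance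
  apply Over.OverMorphism.ext
  obtain ⟨Uz, hUz⟩ : ∃ Uz : ↥Z.left → Z.left.Opens, ∀ z, ((Uz z : Z.left.Opens) : Set ↥Z.left) = {z} :=
    ⟨fun z => ⟨{z}, isOpen_discrete _⟩, fun z => rfl⟩
  obtain ⟨UU, ιU, hop, hr⟩ : ∃ (UU : ↥Z.left → Over (Spec (CommRingCat.of k)))
      (ιU : ∀ z, UU z ⟶ Z), (∀ z, IsOpenImmersion (ιU z).left) ∧
        ∀ z, Set.range ⇑(ιU z).left = {z} := by
    refine ⟨fun z => Over.mk ((Uz z).ι ≫ Z.hom), fun z => Over.homMk (Uz z).ι rfl,
      fun z => inferInstanceAs (IsOpenImmersion (Uz z).ι), fun z => ?_⟩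
    show Set.range ⇑(Uz z).ι = {z}
    rw [Scheme.Opens.range_ι, hUz]
  have hj : ∀ z, IsOpenImmersion (G ◁ ιU z).left := fun z =>
    MorphismProperty.of_isPullback (P := @IsOpenImmersion)
      (ArtB.isPullback_whiskerLeft (ιU z) G).flip (hop z)
  have hcov : ∀ p : ↥(G ⊗ Z).left, ∃ (z : ↥Z.left) (y : ↥(G ⊗ UU z).left),
      (G ◁ ιU z).left y = p := by
    intro p
    obtain ⟨pt, hpt⟩ : ∃ pt : ↥(UU ((snd G Z).left p)).left,
        (ιU ((snd G Z).left p)).left pt = (snd G Z).left p := by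
      have : (snd G Z).left p ∈ Set.range ⇑(ιU ((snd G Z).left p)).left := by
        rw [hr]; exact Set.mem_singleton _
      exact this
    obtain ⟨y, hy, -⟩ := PF3.exists_of_isPullback
      (ArtB.isPullback_whiskerLeft (ιU ((snd G Z).left p)) G) p pt hpt.symm
    exact ⟨_, y, hy⟩
  let 𝒱 : (G ⊗ Z).left.OpenCover :=
    Scheme.Cover.mkOfCovers ↥Z.left (fun z => (G ⊗ UU z).left) (fun z => (G ◁ ιU z).left)
      hcov hj
  apply 𝒱.hom_ext
  intro z
  show (G ◁ ιU z).left ≫ α.left = (G ◁ ιU z).left ≫ (snd G Z).left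
  haveI := hop z
  have h1 := key G Z α hα z (UU z) (ιU z) (hr z)
  exact congrArg (fun f => f.left) h1

end Groth.Agent.Lib.Helper11.ActTriv
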