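import Mathlib
import Groth.Agent.Lib.Helper11.ArtC
import Groth.Agent.Lib.Helper11.GrpdI
import Groth.Agent.S5342

/-!
# ArtD: the neutral component of a group scheme over a local artinian base (helper11)
-/

set_option autoImplicit false
universe u

open CategoryTheory CategoryTheory.Limits MonoidalCategory CartesianMonoidalCategory MonObj GrpObj
  AlgebraicGeometry Topology
open Groth.Agent.Lib.Helper11.ArtC

namespace Groth.Agent.Lib.Helper11.ArtD

variable {A : Type u} [CommRing A] [IsArtinianRing A] [IsLocalRing A]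

theorem exists_lift_reduced (Y : Scheme.{u}) [IsReduced Y] (t : Y ⟶ Spec (CommRingCat.of A)) :
    ∃ tK : Y ⟶ Spec (CommRingCat.of (IsLocalRing.ResidueField A)), tK ≫ iA A = t := by
  have H : (iA A).ker ≤ t.ker := by
    rw [GrpdI.ker_eq_vanishingIdeal_of_isReduced t,
      ← Scheme.IdealSheafData.le_support_iff_le_vanishingIdeal,
      TopologicalSpace.Closeds.closure_le]
    intro z _
    obtain ⟨y, rfl⟩ := (iA A).surjective z
    exact Scheme.Hom.range_subset_ker_support (iA A) ⟨y, rfl⟩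
  exact ⟨IsClosedImmersion.lift (iA A) t H, IsClosedImmersion.lift_fac _ _ _⟩

theorem connectedSpace_pullback {X : Scheme.{u}} (f : X ⟶ Spec (CommRingCat.of A))
    [ConnectedSpace X] (x : Spec (CommRingCat.of A) ⟶ X) (hx : x ≫ f = 𝟙 _)
    (Y : Scheme.{u}) [IsReduced Y] [ConnectedSpace Y] (t : Y ⟶ Spec (CommRingCat.of A)) :
    ConnectedSpace ↥(pullback f t) := by
  obtain ⟨tK, rfl⟩ := exists_lift_reduced Y t
  have hemb : IsEmbedding ⇑(pullback.fst f (iA A)) :=
    (pullback.fst f (iA A)).isClosedEmbedding.isEmbedding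
  have hsurj : Function.Surjective ⇑(pullback.fst f (iA A)) := (pullback.fst f (iA A)).surjective
  let hh : ↥(pullback f (iA A)) ≃ₜ ↥X := hemb.toHomeomorphOfSurjective hsurj
  haveI : ConnectedSpace ↥(pullback f (iA A)) :=
    hh.symm.surjective.connectedSpace hh.symm.continuous
  have hc : (iA A ≫ x) ≫ f = 𝟙 _ ≫ iA A := by
    rw [Category.assoc, hx, Category.comp_id, Category.id_comp]
  have hxk : pullback.lift (iA A ≫ x) (𝟙 _) hc ≫ pullback.snd f (iA A) = 𝟙 _ :=
    pullback.lift_snd _ _ _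
  haveI := Groth.Agent.S5342.result (IsLocalRing.ResidueField A) (pullback f (iA A)) Y
    (pullback.snd f (iA A)) tK (pullback.lift (iA A ≫ x) (𝟙 _) hc) hxk
  let e := pullbackLeftPullbackSndIso f (iA A) tK
  exact (Scheme.homeoOfIso e).surjective.connectedSpace (Scheme.homeoOfIso e).continuous

variable (G : Over (Spec (CommRingCat.of A))) [GrpObj G]

theorem div_mem_unit (pt : ↥(𝟙_ (Over (Spec (CommRingCat.of A)))).left)
    (T : Over (Spec (CommRingCat.of A))) (g h : T ⟶ G)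
    (hg : Set.range ⇑g.left ⊆ connectedComponent (η[G].left pt))
    (hh : Set.range ⇑h.left ⊆ connectedComponent (η[G].left pt)) :
    Set.range ⇑(g * h⁻¹).left ⊆ connectedComponent (η[G].left pt) := by
  rintro _ ⟨s, rfl⟩
  have e1 : g * h⁻¹ = lift g h⁻¹ ≫ μ[G] := Hom.mul_def _ _
  have h1 := left_apply_congr' e1 s
  rw [Over.comp_left, Scheme.Hom.comp_apply] at h1
  rw [h1]
  apply mul_mem_unit G pt
  · have h2 := left_apply_congr' (lift_fst g h⁻¹) s
    rw [Over.comp_left, Scheme.Hom.comp_apply] at h2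
    rw [h2]; exact hg ⟨s, rfl⟩
  · have h2 := left_apply_congr' (lift_snd g h⁻¹) s
    rw [Over.comp_left, Scheme.Hom.comp_apply] at h2
    rw [h2]
    have e2 : h⁻¹ = h ≫ ι[G] := Hom.inv_def h
    have h3 := left_apply_congr' e2 s
    rw [Over.comp_left, Scheme.Hom.comp_apply] at h3
    rw [h3]
    exact inv_mem_unit G pt (hh ⟨s, rfl⟩)

theorem conj_mem_unit [LocallyOfFiniteType G.hom]
    (pt : ↥(𝟙_ (Over (Spec (CommRingCat.of A)))).left)
    (T : Over (Spec (CommRingCat.of A))) (g n : T ⟶ G)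
    (hn : Set.range ⇑n.left ⊆ connectedComponent (η[G].left pt)) :
    Set.range ⇑(g * n * g⁻¹).left ⊆ connectedComponent (η[G].left pt) := by
  haveI hss : Subsingleton ↥(Spec (CommRingCat.of A)) := ArtB.subsingleton_spec_artinianLocal A
  rintro _ ⟨s, rfl⟩
  obtain ⟨Ts, hTs⟩ : ∃ Ts : Over (Spec (CommRingCat.of A)),
      Ts = Over.mk (T.left.fromSpecResidueField s ≫ T.hom) := ⟨_, rfl⟩
  obtain ⟨σ, hσ⟩ : ∃ σ : Ts ⟶ T, ∀ s' : ↥Ts.left, σ.left s' = s := by
    subst hTs
    exact ⟨Over.homMk (T.left.fromSpecResidueField s) rfl,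
      fun s' => Scheme.fromSpecResidueField_apply s s'⟩
  haveI : Nonempty ↥Ts.left := by
    subst hTs; exact inferInstanceAs (Nonempty (PrimeSpectrum (T.left.residueField s)))
  haveI : IsReduced Ts.left := by
    subst hTs; exact inferInstanceAs (IsReduced (Spec (T.left.residueField s)))
  haveI : ConnectedSpace ↥Ts.left := by
    subst hTs
    haveI : IrreducibleSpace (PrimeSpectrum (T.left.residueField s)) := inferInstance
    exact inferInstanceAs (ConnectedSpace (PrimeSpectrum (T.left.residueField s)))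
  obtain ⟨s'⟩ := ‹Nonempty ↥Ts.left›
  obtain ⟨gs, hgs⟩ : ∃ gs : Ts ⟶ G, gs = σ ≫ g := ⟨_, rfl⟩
  obtain ⟨ns, hns⟩ : ∃ ns : Ts ⟶ G, ns = σ ≫ n := ⟨_, rfl⟩
  have e0 : (g * n * g⁻¹).left s = (gs * ns * gs⁻¹).left s' := by
    have h0 : σ ≫ (g * n * g⁻¹) = gs * ns * gs⁻¹ := by
      rw [MonObj.comp_mul, MonObj.comp_mul, GrpObj.comp_inv, hgs, hns]
    have h := left_apply_congr' h0 s'
    rw [Over.comp_left, Scheme.Hom.comp_apply, hσ] at h
    exact h
  rw [e0]
  obtain ⟨ψ, hψ⟩ : ∃ ψ : G ⊗ Ts ⟶ G, ψ = (snd G Ts ≫ gs) * fst G Ts * (snd G Ts ≫ gs)⁻¹ :=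
    ⟨_, rfl⟩
  have hψt : ∀ a : Ts ⟶ G, lift a (𝟙 Ts) ≫ ψ = gs * a * gs⁻¹ := by
    intro a
    rw [hψ, MonObj.comp_mul, MonObj.comp_mul, GrpObj.comp_inv, ← Category.assoc, lift_snd,
      Category.id_comp, lift_fst]
  obtain ⟨C, hC⟩ : ∃ C : Set G.left, C = connectedComponent (η[G].left pt) := ⟨_, rfl⟩
  rw [← hC] at hn ⊢
  have hCo : IsOpen C := by rw [hC]; exact isOpen_connectedComponent_lft G _
  have heC : η[G].left pt ∈ C := by rw [hC]; exact mem_connectedComponent
  -- the open subscheme on `C`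
  obtain ⟨U, hU⟩ : ∃ U : G.left.Opens, (U : Set G.left) = C := ⟨⟨C, hCo⟩, rfl⟩
  haveI : ConnectedSpace ↥U.toScheme := by
    have h1 : _root_.IsConnected (U : Set G.left) := by
      rw [hU, hC]; exact isConnected_connectedComponent
    exact Subtype.connectedSpace h1
  have hrange : Set.range ⇑η[G].left ⊆ Set.range ⇑U.ι := by
    rintro _ ⟨p, rfl⟩
    rw [Scheme.Opens.range_ι, hU]
    have : p = pt := Subsingleton.elim (α := ↥(Spec (CommRingCat.of A))) _ _
    rw [this]; exact heC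
  have hx : IsOpenImmersion.lift U.ι η[G].left hrange ≫ (U.ι ≫ G.hom) = 𝟙 _ := by
    rw [← Category.assoc, IsOpenImmersion.lift_fac]
    exact Over.w η[G]
  haveI hconn : ConnectedSpace ↥(pullback (U.ι ≫ G.hom) Ts.hom) :=
    connectedSpace_pullback (U.ι ≫ G.hom) (IsOpenImmersion.lift U.ι η[G].left hrange) hx
      Ts.left Ts.hom
  obtain ⟨UU, hUU⟩ : ∃ UU : Over (Spec (CommRingCat.of A)), UU = Over.mk (U.ι ≫ G.hom) := ⟨_, rfl⟩
  obtain ⟨ιU, hιU⟩ : ∃ ιU : UU ⟶ G, Set.range ⇑ιU.left = C := by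
    subst hUU
    refine ⟨Over.homMk U.ι rfl, ?_⟩
    show Set.range ⇑U.ι = C
    rw [Scheme.Opens.range_ι, hU]
  haveI : ConnectedSpace ↥(UU ⊗ Ts).left := by
    subst hUU; exact hconn
  have hpb := ArtB.isPullback_whiskerRight ιU Ts
  have hW : _root_.IsPreconnected (⇑(fst G Ts).left ⁻¹' C) := by
    have h1 : ⇑(fst G Ts).left ⁻¹' C = Set.range ⇑(ιU ▷ Ts).left := by
      ext z
      constructor
      · intro hz
        have hz' : (fst G Ts).left z ∈ Set.range ⇑ιU.left := by rw [hιU]; exact hz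
        obtain ⟨y, hy⟩ := hz'
        obtain ⟨z', hz1, -⟩ := PF3.exists_of_isPullback hpb z y hy.symm
        exact ⟨z', hz1⟩
      · rintro ⟨z', rfl⟩
        have h2 := NC1.apply_congr hpb.w z'
        rw [Scheme.Hom.comp_apply, Scheme.Hom.comp_apply] at h2
        show (fst G Ts).left _ ∈ C
        rw [← hιU]
        exact ⟨_, h2.symm⟩
    rw [h1]
    exact (isConnected_range (ιU ▷ Ts).left.continuous).isPreconnected
  have hu : (lift (1 : Ts ⟶ G) (𝟙 Ts)).left s' ∈ ⇑(fst G Ts).left ⁻¹' C := by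
    have h2 := left_apply_congr' (lift_fst (1 : Ts ⟶ G) (𝟙 Ts)) s'
    rw [Over.comp_left, Scheme.Hom.comp_apply] at h2
    show (fst G Ts).left _ ∈ C
    rw [h2]
    have h3 : (1 : Ts ⟶ G).left s' = η[G].left pt := by
      have h4 : (1 : Ts ⟶ G) = toUnit Ts ≫ η[G] := Hom.one_def
      have h5 := left_apply_congr' h4 s'
      rw [Over.comp_left, Scheme.Hom.comp_apply] at h5
      rw [h5]
      congr 1
      exact Subsingleton.elim (α := ↥(Spec (CommRingCat.of A))) _ _
    rw [h3]; exact heC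
  have hz : (lift ns (𝟙 Ts)).left s' ∈ ⇑(fst G Ts).left ⁻¹' C := by
    have h2 := left_apply_congr' (lift_fst ns (𝟙 Ts)) s'
    rw [Over.comp_left, Scheme.Hom.comp_apply] at h2
    show (fst G Ts).left _ ∈ C
    rw [h2, hns, Over.comp_left, Scheme.Hom.comp_apply]
    exact hn ⟨_, rfl⟩
  have hψu : ψ.left ((lift (1 : Ts ⟶ G) (𝟙 Ts)).left s') = η[G].left pt := by
    have h1 : lift (1 : Ts ⟶ G) (𝟙 Ts) ≫ ψ = 1 := by
      rw [hψt, _root_.mul_one, mul_inv_cancel]
    have h2 := left_apply_congr' h1 s'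
    rw [Over.comp_left, Scheme.Hom.comp_apply] at h2
    rw [h2]
    have h4 : (1 : Ts ⟶ G) = toUnit Ts ≫ η[G] := Hom.one_def
    have h5 := left_apply_congr' h4 s'
    rw [Over.comp_left, Scheme.Hom.comp_apply] at h5
    rw [h5]
    congr 1
    exact Subsingleton.elim (α := ↥(Spec (CommRingCat.of A))) _ _
  have hψz : ψ.left ((lift ns (𝟙 Ts)).left s') = (gs * ns * gs⁻¹).left s' := by
    have h2 := left_apply_congr' (hψt ns) s'
    rw [Over.comp_left, Scheme.Hom.comp_apply] at h2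
    exact h2
  have himg : _root_.IsPreconnected (⇑ψ.left '' (⇑(fst G Ts).left ⁻¹' C)) :=
    hW.image _ ψ.left.continuous.continuousOn
  have hfin := himg.subset_connectedComponent ⟨_, hu, hψu⟩ ⟨_, hz, rfl⟩
  rw [← hψz, hC]
  exact hfin

end Groth.Agent.Lib.Helper11.ArtD
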