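import Mathlib

/-!
# AutCardA: counting automorphisms of a direct sum over a hom-orthogonal family whose
endomorphism rings are a fixed finite field (helper11)
-/

set_option autoImplicit false
universe v u
open CategoryTheory CategoryTheory.Limits

noncomputable section

namespace Groth.Agent.Lib.Helper11.AutCardA

section Abstract

variable {C : Type u} [Category.{v} C] [Preadditive C]

/-- an additive fully faithful functor identifies endomorphism rings -/
def endRingEquiv {D : Type*} [Category D] [Preadditive D] (F : C ⥤ D) [F.Additive] [F.Full]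
    [F.Faithful] (A : C) {B : D} (e : F.obj A ≅ B) : End A ≃+* End B where
  toFun u := e.inv ≫ F.map u ≫ e.hom
  invFun w := F.preimage (e.hom ≫ w ≫ e.inv)
  left_inv u := by
    apply F.map_injective
    simp
  right_inv w := by
    simp
  map_mul' u w := by
    change e.inv ≫ F.map (w ≫ u) ≫ e.hom = (e.inv ≫ F.map w ≫ e.hom) ≫ (e.inv ≫ F.map u ≫ e.hom)
    simp
  map_add' u w := by
    have h : e.inv ≫ F.map ((u : A ⟶ A) + (w : A ⟶ A)) ≫ e.hom =
        (e.inv ≫ F.map u ≫ e.hom) + (e.inv ≫ F.map w ≫ e.hom) := by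
      rw [F.map_add, Preadditive.add_comp, Preadditive.comp_add]
    exact h

/-- a three-fold iterated binary biproduct is the indexed biproduct -/
theorem nonempty_iso_biproduct [HasFiniteBiproducts C] (M : Fin 3 → C) {A B D : C}
    [HasBinaryBiproduct B D] [HasBinaryBiproduct A (B ⊞ D)]
    (e0 : A ≅ M 0) (e1 : B ≅ M 1) (e2 : D ≅ M 2) :
    Nonempty (A ⊞ (B ⊞ D) ≅ ⨁ M) := by
  refine ⟨⟨biprod.desc (e0.hom ≫ biproduct.ι M 0)
      (biprod.desc (e1.hom ≫ biproduct.ι M 1) (e2.hom ≫ biproduct.ι M 2)),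
    biproduct.π M 0 ≫ e0.inv ≫ biprod.inl +
      biproduct.π M 1 ≫ e1.inv ≫ biprod.inl ≫ biprod.inr +
      biproduct.π M 2 ≫ e2.inv ≫ biprod.inr ≫ biprod.inr, ?_, ?_⟩⟩
  · apply biprod.hom_ext'
    · simp
    · apply biprod.hom_ext'
      · simp
      · simp
  · rw [← biproduct.total (f := M), Fin.sum_univ_three]
    simp

open scoped Classical in
/-- the number of automorphisms of a direct sum drawn from a hom-orthogonal family all of whose
endomorphism rings are a finite field `K` -/
theorem card_aut_biproduct [HasFiniteBiproducts C] {ι : Type*} [Fintype ι] {s : ι → C}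
    (o : HomOrthogonal s) (K : Type*) [Field K] [Fintype K] (φ : ∀ i, End (s i) ≃+* K)
    {n : ℕ} (f : Fin n → ι) (m : ι → ℕ) (hm : ∀ i, Nat.card (f ⁻¹' {i}) = m i) :
    Nat.card (Aut (⨁ fun a => s (f a))) =
      ∏ i : ι, ∏ j : Fin (m i), (Fintype.card K ^ (m i) - Fintype.card K ^ (j : ℕ)) := by
  rw [Nat.card_congr (Aut.unitsEndEquivAut _).symm.toEquiv]
  let md : End (⨁ fun a => s (f a)) ≃*
      (∀ i : ι, Matrix (f ⁻¹' {i}) (f ⁻¹' {i}) (End (s i))) :=
    { o.matrixDecomposition with
      map_mul' := fun x y => by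
        funext i
        exact o.matrixDecomposition_comp y x i }
  rw [Nat.card_congr (Units.mapEquiv md).toEquiv, Nat.card_congr MulEquiv.piUnits.toEquiv,
    Nat.card_pi]
  refine Finset.prod_congr rfl fun i _ => ?_
  let e : (f ⁻¹' {i}) ≃ Fin (m i) := (Finite.equivFin _).trans (finCongr (hm i))
  let r : Matrix (f ⁻¹' {i}) (f ⁻¹' {i}) (End (s i)) ≃+* Matrix (Fin (m i)) (Fin (m i)) K :=
    (Matrix.reindexRingEquiv (End (s i)) e).trans (φ i).mapMatrix
  rw [Nat.card_congr (Units.mapEquiv r.toMulEquiv).toEquiv]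
  exact Matrix.card_GL_field (m i)

end Abstract

end Groth.Agent.Lib.Helper11.AutCardA
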