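import Mathlib
import Groth.Prelude
import Groth.Agent.Lib.Helper11.AutCardA
import Groth.Agent.Lib.Helper7.RankTwoC
import Groth.Agent.Lib.Helper23.GeomCurve
import Groth.Agent.Lib.Helper23.HiggsInv
import Groth.Agent.Lib.Helper23.GlobFun
import Groth.Agent.Lib.Helper23.Inverse

/-!
# AutCardB: endomorphism rings of invertible modules on a geometrically integral proper curve over
a finite field, and hom-orthogonality of non-isomorphic invertible modules of equal degree (helper11)
-/

set_option autoImplicit false
set_option linter.style.haveILetI false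
set_option linter.unusedSectionVars false
universe u
open CategoryTheory CategoryTheory.Limits AlgebraicGeometry TopologicalSpace Opposite
open Scheme.Modules

noncomputable section

namespace Groth.Agent.Lib.Helper11.AutCardB

open Groth.Agent.Lib.Helper3 Groth.Agent.Lib.Helper3.QCSec Groth.Agent.Lib.Helper3.InvGen
open Groth.Agent.Lib.Helper23.T2 Groth.Agent.Lib.Helper23.Curve Groth.Agent.Lib.Helper7.CurvePair
  Groth.Agent.Lib.Helper23 Groth.Agent.Lib.Helper23.GlobFun Groth.Agent.Lib.Helper7.TwFun
  Groth.Agent.Lib.Helper11.AutCardA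

variable {X : Scheme.{u}}

/-- endomorphisms of the structure sheaf are the global functions -/
def endO (X : Scheme.{u}) : End (Coh.structureModule X) ≃+* Γ(X, ⊤) where
  toFun u := toFun ⊤ (sec u ⊤)
  invFun r := mulHom r
  left_inv u := by
    apply hom_ext_sec
    rw [sec_mulHom, rres_self]
    rfl
  right_inv r := by
    change toFun ⊤ (sec (mulHom r) ⊤) = r
    rw [sec_mulHom, rres_self]
    rfl
  map_mul' u v := by
    change toFun ⊤ (sec (v ≫ u) ⊤) = toFun ⊤ (sec u ⊤) * toFun ⊤ (sec v ⊤)
    rw [sec_comp]
    have h : u.app ⊤ (sec v ⊤) = u.app ⊤ (ofFun ⊤ (toFun ⊤ (sec v ⊤))) := rfl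
    rw [h, app_eq_smul_sec]
    have h2 : sec u ⊤ = ofFun ⊤ (toFun ⊤ (sec u ⊤)) := rfl
    rw [h2, smul_ofFun, mul_comm]
    rfl
  map_add' u v := by
    change toFun ⊤ (sec (u + v) ⊤) = toFun ⊤ (sec u ⊤) + toFun ⊤ (sec v ⊤)
    rw [sec_add]
    rfl

/-- endomorphisms of an invertible module are those of the structure sheaf -/
theorem nonempty_endL {L : X.Modules} (hL : PicF.IsInvertible L) :
    Nonempty (End L ≃+* End (Coh.structureModule X)) := by
  obtain ⟨M, -, ⟨e⟩⟩ := Inverse.exists_isInverseOf hL
  haveI := isEquivalence_twR L M e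
  exact ⟨(endRingEquiv (twR L) (Coh.structureModule X) (InvMonoidal.unitorL L)).symm⟩

variable (k : Type u) [Field k] [Finite k] [X.Over (Spec (CommRingCat.of k))]
  [IsProper (X ↘ Spec (CommRingCat.of k))] [GeometricallyIntegral (X ↘ Spec (CommRingCat.of k))]

include k in
theorem isIntegral_of_geom : IsIntegral X :=
  GeometricallyIntegral.isIntegral_of_subsingleton (X ↘ Spec (CommRingCat.of k))

/-- the global functions are the constants -/
theorem nonempty_globalK : Nonempty (Γ(X, ⊤) ≃+* k) := by
  haveI := isIntegral_of_geom (X := X) k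
  haveI : Nontrivial (Coh.Γtop X) := (inferInstance : Nontrivial Γ(X, ⊤))
  have hinj : Function.Injective (Coh.toGlobal (X ↘ Spec (CommRingCat.of k))) :=
    RingHom.injective _
  haveI := finite_HH k (Coh.structureModule X) (T2.isCoh_structureModule X) 0
  have hcard : Nat.card Γ(X, ⊤) = Nat.card k := by
    have h1 : Nat.card (Coh.HH X (Coh.structureModule X) 0) = Nat.card k ^ 1 := by
      rw [← GeomCurve.finrank_h0_eq_one k X]
      exact Module.natCard_eq_pow_finrank
    rw [pow_one] at h1
    rw [← h1]
    exact Nat.card_congr (H0equiv (Coh.structureModule X)).toEquiv.symm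
  haveI : Finite Γ(X, ⊤) := Nat.finite_of_card_ne_zero (by rw [hcard]; exact Nat.card_pos.ne')
  haveI : Finite (Coh.Γtop X) := (inferInstance : Finite Γ(X, ⊤))
  have hbij : Function.Bijective (Coh.toGlobal (X ↘ Spec (CommRingCat.of k))) :=
    (Function.Injective.bijective_of_nat_card_le hinj hcard.le)
  exact ⟨(RingEquiv.ofBijective _ hbij).symm⟩

end Groth.Agent.Lib.Helper11.AutCardB
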