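import Mathlib
import Groth.Prelude
import Groth.Agent.Lib.Helper11.AutCardB

/-!
# AutCardC: number of automorphisms of a direct sum of three invertible modules of degree zero on a
smooth proper geometrically integral curve over a finite field (helper11)
-/

set_option autoImplicit false
set_option linter.style.haveILetI false
set_option linter.unusedSectionVars false
universe u
open CategoryTheory CategoryTheory.Limits AlgebraicGeometry TopologicalSpace Opposite
open Scheme.Modules

noncomputable section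

namespace Groth.Agent.Lib.Helper11.AutCardC

open Groth.Agent.Lib.Helper23.Curve Groth.Agent.Lib.Helper23
  Groth.Agent.Lib.Helper11.AutCardA Groth.Agent.Lib.Helper11.AutCardB

theorem card_fiber {ι : Type*} [DecidableEq ι] (f : Fin 3 → ι) (i : ι) :
    Nat.card (f ⁻¹' {i}) = (Finset.univ.filter fun a => f a = i).card := by
  change Nat.card {a // f a = i} = _
  rw [Nat.card_eq_fintype_card, Fintype.card_subtype]

theorem arith (q : ℕ) (hq : 1 ≤ q) :
    (q ^ 2 - 1) * (q ^ 2 - q) * (q - 1) = (q - 1) ^ 3 * (q + 1) * q := by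
  obtain ⟨t, rfl⟩ : ∃ t, q = t + 1 := ⟨q - 1, by omega⟩
  have h1 : (t + 1) ^ 2 - 1 = t * (t + 2) := by
    apply Nat.sub_eq_of_eq_add
    ring
  have h2 : (t + 1) ^ 2 - (t + 1) = t * (t + 1) := by
    apply Nat.sub_eq_of_eq_add
    ring
  rw [h1, h2, Nat.add_sub_cancel]
  ring

variable {X : Scheme.{u}} (k : Type u) [Field k] [Finite k] [X.Over (Spec (CommRingCat.of k))]
  [IsProper (X ↘ Spec (CommRingCat.of k))] [Smooth (X ↘ Spec (CommRingCat.of k))]
  [GeometricallyIntegral (X ↘ Spec (CommRingCat.of k))]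

theorem card_aut (hdim : topologicalKrullDim X ≤ 1) {ι : Type} [Fintype ι] (s : ι → X.Modules)
    (hs : ∀ i, PicF.IsInvertible (s i)) (hd : ∀ i, Curv2.deg k X (s i) 1 = 0)
    (hne : ∀ i j, i ≠ j → ¬ Nonempty (s i ≅ s j)) (f : Fin 3 → ι) (m : ι → ℕ)
    (hm : ∀ i, Nat.card (f ⁻¹' {i}) = m i) {A B D : X.Modules}
    (e0 : A ≅ s (f 0)) (e1 : B ≅ s (f 1)) (e2 : D ≅ s (f 2)) :
    Nat.card (Aut (A ⊞ (B ⊞ D))) =
      ∏ i : ι, ∏ j : Fin (m i), (Nat.card k ^ (m i) - Nat.card k ^ (j : ℕ)) := by
  haveI := isIntegral_of_geom (X := X) k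
  letI : Fintype k := Fintype.ofFinite k
  have o : HomOrthogonal s := by
    intro i j hij
    refine ⟨fun a b => ?_⟩
    have hz : ∀ c : s i ⟶ s j, c = 0 := by
      intro c
      by_contra hc
      haveI := HiggsInv.isIso_of_ne_zero_of_deg_eq k hdim
        (isFinLocFreeOfRank_one_of_isInvertible (hs i))
        (isFinLocFreeOfRank_one_of_isInvertible (hs j)) c hc (by rw [hd i, hd j])
      exact hne i j hij ⟨asIso c⟩
    rw [hz a, hz b]
  have φ : ∀ i, End (s i) ≃+* k := fun i =>
    ((nonempty_endL (hs i)).some.trans (endO X)).trans (nonempty_globalK (X := X) k).some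
  obtain ⟨e⟩ := nonempty_iso_biproduct (fun a => s (f a)) e0 e1 e2
  rw [Nat.card_congr e.conjAut.toEquiv, card_aut_biproduct o k φ f m hm, Nat.card_eq_fintype_card]

end Groth.Agent.Lib.Helper11.AutCardC
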