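import Mathlib
import Groth.Prelude
import Groth.Agent.Lib.Helper3.FreeBasis
import Groth.Agent.Lib.Helper3.QCExact
import Groth.Agent.Lib.Helper3.QCOpen
import Groth.Agent.Lib.Helper3.SecLoc
import Groth.Agent.Lib.Helper23.Devissage

/-!
# Non-surjective functionals on sectionless subsheaves of free modules (helper11)

Let `X` be a scheme locally of finite type over an algebraically closed field `k`.

* `AlgInput k`: the commutative algebra input (Nakayama + Zariski's lemma), proved by helper4 in
  `Groth.Agent.Lib.Helper4.ConstFunctional`.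
* `exists_not_epi_comb`: if `Λ = (λ_i) : N ⟶ O^m` is not an epimorphism, some non-trivial
  `k`-linear combination `∑ a_i λ_i : N ⟶ O` is not an epimorphism.
* `exists_functional`: a non-zero quasi-coherent `N` without non-zero global sections and with a
  jointly monic family of maps to `O` has a non-zero, non-epi map `N ⟶ O`.
-/

set_option autoImplicit false
set_option linter.style.haveILetI false
set_option linter.unusedSectionVars false
universe u
open CategoryTheory CategoryTheory.Limits AlgebraicGeometry TopologicalSpace Opposite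
open Scheme.Modules

namespace Groth.Agent.Lib.Helper11.NegFiltA

open Groth.Agent.Lib.Helper3 Groth.Agent.Lib.Helper3.QCSec Groth.Agent.Lib.Helper3.InvGen
  Groth.Agent.Lib.Helper3.FreeBasis

/-- the algebra input -/
def AlgInput (k : Type u) [Field k] : Prop :=
  ∀ (R : Type u) [CommRing R] (ρ : k →+* R) (_ : ρ.FiniteType) (M : ℕ)
    (W : Submodule R (Fin M → R)) (_ : W ≠ ⊤),
    ∃ (a : Fin M → k) (I : Ideal R), a ≠ 0 ∧ I ≠ ⊤ ∧ ∀ w ∈ W, ∑ i, ρ (a i) * w i ∈ I

variable {X : Scheme.{u}}

/-- `Λ = ∑ λ_i ≫ inj_i : N ⟶ O^m` -/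
noncomputable def bigLam {N : X.Modules} {m : ℕ} (lam : Fin m → (N ⟶ Coh.structureModule X)) :
    N ⟶ FlatMod.freeMod X m := ∑ i, lam i ≫ inj X m i

theorem bigLam_proj {N : X.Modules} {m : ℕ} (lam : Fin m → (N ⟶ Coh.structureModule X))
    (i : Fin m) : bigLam lam ≫ proj X m i = lam i := by
  unfold bigLam
  rw [Preadditive.sum_comp]
  simp_rw [Category.assoc, inj_proj]
  rw [Finset.sum_eq_single i]
  · simp
  · intro j _ hji; rw [if_neg hji, comp_zero]
  · intro h; exact absurd (Finset.mem_univ i) h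

theorem toFun_sum {ι : Type*} (U : X.Opens) (s : Finset ι)
    (f : ι → Γ(Coh.structureModule X, U)) :
    toFun U (∑ i ∈ s, f i) = ∑ i ∈ s, toFun U (f i) := by
  classical
  induction s using Finset.induction_on with
  | empty => simp only [Finset.sum_empty]; rfl
  | insert a s ha ih =>
    rw [Finset.sum_insert ha, Finset.sum_insert ha, ← ih]
    rfl

section PW

variable (k : Type u) [Field k] [X.Over (Spec (CommRingCat.of k))]

theorem exists_not_epi_comb [LocallyOfFiniteType (X ↘ Spec (CommRingCat.of k))]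
    (halg : AlgInput k) {N : X.Modules} [N.IsQuasicoherent] {m : ℕ}
    (lam : Fin m → (N ⟶ Coh.structureModule X)) (hΛ : ¬ Epi (bigLam lam)) :
    ∃ a : Fin m → k, a ≠ 0 ∧ ¬ Epi (∑ i, a i • lam i) := by
  haveI : (FlatMod.freeMod X m).IsQuasicoherent :=
    SecLoc.isQuasicoherent_of_isFinLocFreeOfRank
      (Groth.Agent.Lib.Helper23.Dev.isFinLocFreeOfRank_freeMod X m)
  rw [QCExact.epi_iff_surjective_on_affines] at hΛ
  push Not at hΛ
  obtain ⟨U, hU, hns⟩ := hΛ
  let ρ : k →+* Γ(X, U) := (X.presheaf.map (homOfLE (le_top : U ≤ ⊤)).op).hom.comp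
    (Coh.toGlobal (X ↘ Spec (CommRingCat.of k)))
  have hρ : ρ.FiniteType := by
    have e' : U ≤ (X ↘ Spec (CommRingCat.of k)) ⁻¹ᵁ ⊤ := fun x _ => Set.mem_univ _
    have hft : RingHom.FiniteType ((X ↘ Spec (CommRingCat.of k)).appLE ⊤ U e').hom :=
      HasRingHomProperty.appLE @LocallyOfFiniteType (X ↘ Spec (CommRingCat.of k)) inferInstance
        ⟨⊤, isAffineOpen_top _⟩ ⟨U, hU⟩ e'
    have hinv : RingHom.FiniteType (Scheme.ΓSpecIso (CommRingCat.of k)).inv.hom :=
      RingHom.FiniteType.of_surjective _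
        (ConcreteCategory.bijective_of_isIso (Scheme.ΓSpecIso (CommRingCat.of k)).inv).2
    have hcomp := hft.comp hinv
    have heq : ((X ↘ Spec (CommRingCat.of k)).appLE ⊤ U e').hom.comp
        (Scheme.ΓSpecIso (CommRingCat.of k)).inv.hom = ρ := by
      ext c
      rfl
    rw [heq] at hcomp
    exact hcomp
  let L : Γ(N, U) →ₗ[Γ(X, U)] (Fin m → Γ(X, U)) :=
    { toFun := fun p i => toFun U ((lam i).app U p)
      map_add' := fun a b => by
        funext i
        exact congrArg (toFun U) (QCExact.app_add (lam i) U a b)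
      map_smul' := fun r t => by
        funext i
        exact congrArg (toFun U) (Scheme.Modules.Hom.app_smul (lam i) r t) }
  have hW : LinearMap.range L ≠ ⊤ := by
    intro htop
    apply hns
    intro t
    have hmem : (fun i => toFun U ((proj X m i).app U t)) ∈ LinearMap.range L := by
      rw [htop]; trivial
    obtain ⟨p, hp⟩ := hmem
    refine ⟨p, ?_⟩
    rw [eq_sum_bsec m U t, eq_sum_bsec m U ((bigLam lam).app U p)]
    refine Finset.sum_congr rfl (fun i _ => ?_)
    have h1 := congrFun hp i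
    have h2 : (proj X m i).app U ((bigLam lam).app U p) = (lam i).app U p := by
      rw [← bigLam_proj lam i]; rfl
    rw [h2, ← h1]
    rfl
  obtain ⟨a, I, ha, hI, hmem⟩ := halg Γ(X, U) ρ hρ m _ hW
  refine ⟨a, ha, fun hepi => hI ?_⟩
  have hsurj := (QCExact.epi_iff_surjective_on_affines (∑ i, a i • lam i)).mp hepi U hU
  obtain ⟨p, hp⟩ := hsurj (ofFun U 1)
  rw [Ideal.eq_top_iff_one]
  have h1 := hmem (L p) ⟨p, rfl⟩
  have h2 : ∑ i, ρ (a i) * L p i = toFun U ((∑ i, a i • lam i).app U p) := by
    rw [sum_app, toFun_sum]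
    refine Finset.sum_congr rfl (fun i _ => ?_)
    rw [KLin.smul_app_apply]
    rfl
  rw [h2, hp] at h1
  exact h1

end PW

end Groth.Agent.Lib.Helper11.NegFiltA
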