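import Mathlib
import Groth.Prelude
import Groth.Agent.Lib.Helper11.NegFiltA

/-!
# A non-zero non-epi functional on a sectionless subsheaf of a free module (helper11)
-/

set_option autoImplicit false
set_option linter.style.haveILetI false
set_option linter.unusedSectionVars false
universe u
open CategoryTheory CategoryTheory.Limits AlgebraicGeometry TopologicalSpace Opposite
open Scheme.Modules

namespace Groth.Agent.Lib.Helper11.NegFiltB

open Groth.Agent.Lib.Helper3 Groth.Agent.Lib.Helper3.QCSec Groth.Agent.Lib.Helper3.InvGen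
  Groth.Agent.Lib.Helper3.FreeBasis Groth.Agent.Lib.Helper11.NegFiltA

variable {X : Scheme.{u}}
variable (k : Type u) [Field k] [X.Over (Spec (CommRingCat.of k))]

theorem exists_functional [LocallyOfFiniteType (X ↘ Spec (CommRingCat.of k))] [Nonempty X]
    (halg : AlgInput k) {N : X.Modules} [N.IsQuasicoherent] (hN0 : ¬ IsZero N)
    (h0 : ∀ s : Γ(N, ⊤), s = 0) :
    ∀ (m : ℕ) (lam : Fin m → (N ⟶ Coh.structureModule X)),
      (∀ (T : X.Modules) (g : T ⟶ N), (∀ i, g ≫ lam i = 0) → g = 0) →
      ∃ μ : N ⟶ Coh.structureModule X, μ ≠ 0 ∧ ¬ Epi μ := by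
  intro m
  induction m with
  | zero =>
    intro lam hjm
    exact absurd ((IsZero.iff_id_eq_zero N).mpr (hjm N (𝟙 N) (fun i => i.elim0))) hN0
  | succ m ih =>
    intro lam hjm
    haveI : Mono (bigLam lam) := by
      apply Preadditive.mono_of_cancel_zero
      intro T g hg
      apply hjm T g
      intro i
      rw [← bigLam_proj lam i, ← Category.assoc, hg, zero_comp]
    have hne : ¬ Epi (bigLam lam) := by
      intro hepi
      haveI : IsIso (bigLam lam) := isIso_of_mono_of_epi _
      have hs := h0 ((inv (bigLam lam)).app ⊤ (bsec (m+1) 0 ⊤))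
      have h1 : (bigLam lam).app ⊤ ((inv (bigLam lam)).app ⊤ (bsec (m+1) 0 ⊤))
          = bsec (m+1) 0 ⊤ := by
        have : (inv (bigLam lam) ≫ bigLam lam).app ⊤ (bsec (m+1) 0 ⊤) = bsec (m+1) 0 ⊤ := by
          rw [IsIso.inv_hom_id]; rfl
        exact this
      rw [hs, QCExact.app_zero] at h1
      have h2 := proj_bsec (X := X) (m+1) 0 0 ⊤
      rw [← h1, QCExact.app_zero, if_pos rfl] at h2
      have h3 : (1 : Γ(X, ⊤)) = 0 := ofFun_injective ⊤ h2.symm
      obtain ⟨x⟩ : Nonempty X := inferInstance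
      haveI : Nonempty (⊤ : X.Opens) := ⟨⟨x, trivial⟩⟩
      haveI : Nontrivial Γ(X, ⊤) := Scheme.component_nontrivial X ⊤
      exact one_ne_zero h3
    obtain ⟨a, ha, hnepi⟩ := exists_not_epi_comb k halg lam hne
    by_cases hμ : (∑ i, a i • lam i) = 0
    · obtain ⟨i₀, hi₀⟩ : ∃ i₀, a i₀ ≠ 0 := by
        by_contra hcon
        push Not at hcon
        exact ha (funext hcon)
      apply ih (fun j => lam (i₀.succAbove j))
      intro T g hg
      apply hjm T g
      have h1 : g ≫ ∑ i, a i • lam i = 0 := by rw [hμ, comp_zero]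
      rw [Preadditive.comp_sum, Fin.sum_univ_succAbove _ i₀] at h1
      simp_rw [Linear.comp_smul] at h1
      simp_rw [hg, smul_zero, Finset.sum_const_zero, add_zero] at h1
      have h2 : g ≫ lam i₀ = 0 := (smul_eq_zero.mp h1).resolve_left hi₀
      intro i
      rcases Fin.eq_self_or_eq_succAbove i₀ i with rfl | ⟨j, rfl⟩
      · exact h2
      · exact hg j
    · exact ⟨_, hμ, hnepi⟩

end Groth.Agent.Lib.Helper11.NegFiltB
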