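import Mathlib
import Groth.Prelude
import Groth.Agent.Lib.Helper23.TwE
import Groth.Agent.Lib.Helper7.TorsFree
import Groth.Agent.S5019
import Groth.Agent.S5005

/-!
# Very stable bundles: a vanishing composite gives a nilpotent Higgs field (helper11)
-/

set_option autoImplicit false
set_option linter.style.haveILetI false
set_option linter.unusedSectionVars false
universe u
open CategoryTheory CategoryTheory.Limits AlgebraicGeometry TopologicalSpace Opposite
open Scheme.Modules MonoidalCategory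

namespace Groth.Agent.Lib.Helper11.VeryStableA

open Groth.Agent.Lib.Helper3 Groth.Agent.Lib.Helper3.QCSec Groth.Agent.Lib.Helper3.InvGen
  Groth.Agent.Lib.Helper3.InvTensor Groth.Agent.Lib.Helper3.InvMonoidal
  Groth.Agent.Lib.Helper3.FreeBasis Groth.Agent.Lib.Helper7.TwFun
open Groth.Agent.Lib.Helper23.Twist Groth.Agent.Lib.Helper23.TmBasis Groth.Agent.Lib.Helper23.TwE

variable {X : Scheme.{u}}

/-- `K` has a local basis (of some size) around every point. -/
def HasLocBases (K : X.Modules) : Prop :=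
  ∀ x : X, ∃ (U : X.Opens) (n : ℕ) (e : Fin n → Γ(K, U)), x ∈ U ∧ IsBasis K U e

/-- tensoring with a module with local bases preserves monomorphisms -/
theorem mono_tw_of_hasLocBases {K : X.Modules} (hK : HasLocBases K) {F G : X.Modules}
    (j : F ⟶ G) [Mono j] : Mono ((twR K).map j) := by
  apply ModBasis.mono_of_injective_on_basis
  intro W x hx
  obtain ⟨U₀, n, e₀, hxU₀, hb₀⟩ := hK x
  let U : X.Opens := U₀ ⊓ W
  let e : Fin n → Γ(K, U) := fun i => res K inf_le_left (e₀ i)
  have hb : IsBasis K U e := hb₀.mono inf_le_left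
  refine ⟨U, ⟨hxU₀, hx⟩, inf_le_right, fun t ht => ?_⟩
  obtain ⟨t', rfl⟩ := tm_basis_self_surj F hb t
  have ht2 : ∑ i, tm G K U (j.app U (t' i)) (e i) = 0 := (tw_app_sum j U t' e).symm.trans ht
  have h2 := tm_basis_self_zero G hb _ ht2
  have h3 : t' = 0 := by
    funext i
    exact QCExact.injective_sections j U ((congrFun h2 i).trans (QCExact.app_zero j U).symm)
  rw [h3]
  have h4 : ∑ i, tm F K U ((0 : Fin n → Γ(F, U)) i) (e i) = 0 := by
    simp only [Pi.zero_apply, tm_zero_left, Finset.sum_const_zero]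
  exact h4

/-- local bases transport along isomorphisms -/
theorem hasLocBases_of_locFree {K : X.Modules}
    (h : ∀ x : X, ∃ (U : X.Opens) (n : ℕ), x ∈ U ∧
      Nonempty (K.restrict U.ι ≅ FlatMod.freeMod (U : Scheme.{u}) n)) : HasLocBases K := by
  intro x
  obtain ⟨U, n, hxU, ⟨φ⟩⟩ := h x
  obtain ⟨e, he⟩ := exists_isBasis_of_iso φ
  exact ⟨U, n, e, hxU, he⟩

/-- the sheaf of differentials of a smooth morphism has local bases -/
theorem hasLocBases_omega {X Y : Scheme.{u}} (f : X ⟶ Y) [Smooth f] [QuasiSeparated f]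
    {K : X.Modules} (eK : K ≅ Omega.sheaf f) : HasLocBases K := by
  apply hasLocBases_of_locFree
  intro x
  obtain ⟨U, n, hxU, ⟨φ⟩, -⟩ := Groth.Agent.S5019.main f (Omega.sheaf f) (OmegaSh.dOmega f)
    (Groth.Agent.S5005.result f) x
  exact ⟨U, n, hxU, ⟨(Scheme.Modules.restrictFunctor U.ι).mapIso eK ≪≫ φ⟩⟩

theorem tw_comp (K : X.Modules) {A B C : X.Modules} (φ : A ⟶ B) (ψ : B ⟶ C) :
    tensorMap (φ ≫ ψ) (𝟙 K) = tensorMap φ (𝟙 K) ≫ tensorMap ψ (𝟙 K) :=
  (twR K).map_comp φ ψ

theorem tw_zero (K : X.Modules) (A B : X.Modules) :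
    tensorMap (0 : A ⟶ B) (𝟙 K) = 0 :=
  (twR K).map_zero A B

/-- **Key**: if every nilpotent `K`-valued endomorphism of `E` vanishes, then the composite of a
non-zero `s : L ⟶ E` and a non-zero `t : E ⟶ L ⊗ K` is non-zero. -/
theorem comp_ne_zero [IsIntegral X] {E L K : X.Modules} {r : ℕ}
    (hE : FlatMod.IsFinLocFreeOfRank r E) (hL : PicF.IsInvertible L) (hK : HasLocBases K)
    (hvs : ∀ α : E ⟶ CohB1.tensorMod E K,
        α ≫ (CohB1.sheafifyMod X).map
          (MonoidalCategoryStruct.whiskerRight (C := CohB1.PMod X) α.val (CohB1.toPMod K)) = 0 →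
        α = 0)
    (s : L ⟶ E) (hs : s ≠ 0) (t : E ⟶ CohB1.tensorMod L K) (ht : t ≠ 0) : s ≫ t ≠ 0 := by
  intro h0
  haveI : Mono s := Groth.Agent.Lib.Helper7.TorsFree.mono_of_ne_zero
    (Groth.Agent.Lib.Helper7.TorsFree.isFinLocFreeOfRank_one_of_isInvertible' hL) hE s hs
  let A : CohB1.tensorMod L K ⟶ CohB1.tensorMod E K := tensorMap s (𝟙 K)
  haveI : Mono A := mono_tw_of_hasLocBases hK s
  have hconv : ∀ α : E ⟶ CohB1.tensorMod E K, tensorMap α (𝟙 K) =
      (CohB1.sheafifyMod X).map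
        (MonoidalCategoryStruct.whiskerRight (C := CohB1.PMod X) α.val (CohB1.toPMod K)) := by
    intro α
    unfold tensorMap aMap
    congr 1
  have hα : (t ≫ A) ≫ tensorMap (t ≫ A) (𝟙 K) = 0 := by
    rw [tw_comp, Category.assoc, ← Category.assoc A, ← tw_comp, h0, tw_zero, zero_comp, comp_zero]
  rw [hconv (t ≫ A)] at hα
  have h1 := hvs (t ≫ A) hα
  exact ht ((cancel_mono A).mp (h1.trans zero_comp.symm))

end Groth.Agent.Lib.Helper11.VeryStableA
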