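import Mathlib
import Groth.Prelude
import Groth.Agent.Lib.Helper11.VeryStableA
import Groth.Agent.Lib.Helper23.Sat
import Groth.Agent.Lib.Helper23.StableEnd

/-!
# Very stable bundles of rank two: nilpotent Higgs fields and line subbundles (helper11)

* `exact_tw_of_hasLocBases`: twisting by a module with local bases is exact.
* `not_veryStable_of_sub`: a mono `j : L ⟶ E` and a non-zero `β : E/L ⟶ L ⊗ K` give a non-zero
  nilpotent `K`-valued endomorphism of `E`.
* `exists_sub_of_nilpotent`: on a smooth proper integral curve, a non-zero nilpotent `K`-valued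
  endomorphism `α` of a rank two bundle `E` (with `K` of rank one) has kernel a line subbundle
  `L` with invertible quotient, and induces a non-zero map `E/L ⟶ L ⊗ K`.
-/

set_option autoImplicit false
set_option linter.style.haveILetI false
set_option linter.unusedSectionVars false
universe u
open CategoryTheory CategoryTheory.Limits AlgebraicGeometry TopologicalSpace Opposite
open Scheme.Modules MonoidalCategory

namespace Groth.Agent.Lib.Helper11.VeryStableB

open Groth.Agent.Lib.Helper3 Groth.Agent.Lib.Helper3.QCSec Groth.Agent.Lib.Helper3.InvGen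
  Groth.Agent.Lib.Helper3.InvTensor Groth.Agent.Lib.Helper3.InvMonoidal
  Groth.Agent.Lib.Helper3.FreeBasis Groth.Agent.Lib.Helper7.TwFun
open Groth.Agent.Lib.Helper23.Twist Groth.Agent.Lib.Helper23.TmBasis Groth.Agent.Lib.Helper23.TwE
open Groth.Agent.Lib.Helper11.VeryStableA

variable {X : Scheme.{u}}

/-- twisting by a module with local bases preserves exactness (with mono first map) -/
theorem exact_tw_of_hasLocBases {K : X.Modules} (hK : HasLocBases K) (S : ShortComplex X.Modules)
    (hS : S.Exact) [Mono S.f] : (S.map (twR K)).Exact := by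
  apply ModBasis.exact_of_exact_on_basis
  intro W x hx
  obtain ⟨U₀, n, e₀, hxU₀, hb₀⟩ := hK x
  let U : X.Opens := U₀ ⊓ W
  let e : Fin n → Γ(K, U) := fun i => res K inf_le_left (e₀ i)
  have hb : IsBasis K U e := hb₀.mono inf_le_left
  refine ⟨U, ⟨hxU₀, hx⟩, inf_le_right, fun s hs => ?_⟩
  obtain ⟨s', rfl⟩ := tm_basis_self_surj S.X₂ hb s
  have hs0 : ((twR K).map S.g).app U (∑ i, tm S.X₂ K U (s' i) (e i)) = 0 := hs
  have hs1 : ∑ i, tm S.X₃ K U (S.g.app U (s' i)) (e i) = 0 :=
    (tw_app_sum S.g U s' e).symm.trans hs0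
  have h2 := tm_basis_self_zero S.X₃ hb _ hs1
  have h3 : ∀ i, ∃ t : Γ(S.X₁, U), S.f.app U t = s' i :=
    fun i => QCExact.exact_sections S hS U (s' i) (congrFun h2 i)
  choose t' ht' using h3
  refine ⟨∑ i, tm S.X₁ K U (t' i) (e i), ?_⟩
  refine (tw_app_sum S.f U t' e).trans ?_
  exact Finset.sum_congr rfl (fun i _ => by rw [ht' i])

theorem hconv {E K : X.Modules} (α : E ⟶ CohB1.tensorMod E K) : tensorMap α (𝟙 K) =
    (CohB1.sheafifyMod X).map
      (MonoidalCategoryStruct.whiskerRight (C := CohB1.PMod X) α.val (CohB1.toPMod K)) := by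
  unfold tensorMap aMap
  congr 1

/-- (⇐) a sub line bundle with a non-zero map from the quotient to its twist gives a non-zero
nilpotent Higgs field -/
theorem not_veryStable_of_sub {E L K : X.Modules} (hK : HasLocBases K) (j : L ⟶ E) [Mono j]
    (β : cokernel j ⟶ CohB1.tensorMod L K) (hβ : β ≠ 0) :
    ¬ ∀ α : E ⟶ CohB1.tensorMod E K,
        α ≫ (CohB1.sheafifyMod X).map
          (MonoidalCategoryStruct.whiskerRight (C := CohB1.PMod X) α.val (CohB1.toPMod K)) = 0 →
        α = 0 := by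
  intro hvs
  let A : CohB1.tensorMod L K ⟶ CohB1.tensorMod E K := tensorMap j (𝟙 K)
  haveI : Mono A := mono_tw_of_hasLocBases hK j
  have h1 : A ≫ tensorMap (cokernel.π j) (𝟙 K) = 0 := by
    change tensorMap j (𝟙 K) ≫ tensorMap (cokernel.π j) (𝟙 K) = 0
    rw [← tw_comp, cokernel.condition, tw_zero]
  have hα : (cokernel.π j ≫ β ≫ A) ≫ tensorMap (cokernel.π j ≫ β ≫ A) (𝟙 K) = 0 := by
    rw [tw_comp]
    simp only [Category.assoc]
    rw [← Category.assoc A, h1, zero_comp, comp_zero, comp_zero]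
  rw [hconv] at hα
  have h2 := hvs _ hα
  have h3 : β ≫ A = 0 := (cancel_epi (cokernel.π j)).mp (h2.trans comp_zero.symm)
  exact hβ ((cancel_mono A).mp (h3.trans zero_comp.symm))

lemma isInvertible_of_rank_one {M : X.Modules} (h : FlatMod.IsFinLocFreeOfRank 1 M) :
    PicF.IsInvertible M := by
  intro x
  obtain ⟨U, hxU, ⟨e⟩⟩ := h x
  exact ⟨U, hxU, ⟨e ≪≫ coproductUniqueIso
    (fun _ : Fin 1 => Coh.structureModule (U : Scheme.{u}))⟩⟩

lemma hasLocBases_of_rank {K : X.Modules} {n : ℕ} (hK : FlatMod.IsFinLocFreeOfRank n K) :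
    HasLocBases K := by
  intro x
  obtain ⟨U, e, hxU, hb⟩ := isFinLocFreeOfRank_iff.mp hK x
  exact ⟨U, n, e, hxU, hb⟩

section curve

variable (k : Type u) [Field k] [X.Over (Spec (CommRingCat.of k))]
  [IsProper (X ↘ Spec (CommRingCat.of k))]

include k in
/-- (⇒) the kernel of a non-zero nilpotent Higgs field on a rank two bundle -/
theorem exists_sub_of_nilpotent [IsIntegral X] [Smooth (X ↘ Spec (CommRingCat.of k))]
    (hdim : topologicalKrullDim X ≤ 1) {E K : X.Modules}
    (hE : FlatMod.IsFinLocFreeOfRank 2 E) (hK1 : FlatMod.IsFinLocFreeOfRank 1 K)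
    (α : E ⟶ CohB1.tensorMod E K) (hα0 : α ≠ 0) (hnil : α ≫ tensorMap α (𝟙 K) = 0) :
    ∃ (L : X.Modules) (j : L ⟶ E), PicF.IsInvertible L ∧ Mono j ∧
      PicF.IsInvertible (cokernel j) ∧ ∃ β : cokernel j ⟶ CohB1.tensorMod L K, β ≠ 0 := by
  haveI := Groth.Agent.Lib.Helper23.Curve.isNoetherian_of_isProper k X
  have hKinv : PicF.IsInvertible K := isInvertible_of_rank_one hK1
  have hKb : HasLocBases K := hasLocBases_of_rank hK1
  have hEK : FlatMod.IsFinLocFreeOfRank 2 (CohB1.tensorMod E K) :=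
    isFinLocFreeOfRank_tensor hKinv hE
  have hcE := Groth.Agent.Lib.Helper23.Curve.isCoh_of_isFinLocFreeOfRank hE
  have hcEK := Groth.Agent.Lib.Helper23.Curve.isCoh_of_isFinLocFreeOfRank hEK
  -- image factorisation
  let p : E ⟶ Abelian.image α := Abelian.factorThruImage α
  let ι : Abelian.image α ⟶ CohB1.tensorMod E K := Abelian.image.ι α
  have hpι : p ≫ ι = α := Abelian.image.fac α
  haveI : Epi p := inferInstanceAs (Epi (Abelian.factorThruImage α))
  haveI : Mono ι := inferInstanceAs (Mono (Abelian.image.ι α))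
  have hcC : Coh.IsCoh (cokernel α) := (Groth.Agent.S9514.result X hcE hcEK α).2
  have hcI : Coh.IsCoh (Abelian.image α) :=
    (Groth.Agent.S9514.result X hcEK hcC (cokernel.π α)).1
  obtain ⟨b, hI⟩ := Groth.Agent.Lib.Helper23.SmoothCurve.isFinLocFreeOfRank_of_mono_of_smooth k
    hdim hcI ι hEK
  obtain ⟨a, hL, hab, -⟩ := Groth.Agent.Lib.Helper23.Sat.kernel_epi_data k hdim hE hI p
  have hb0 : b ≠ 0 := by
    rintro rfl
    have hz := Groth.Agent.Lib.Helper23.StableEnd.isZero_of_rank_zero hI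
    apply hα0
    rw [← hpι, hz.eq_of_tgt p 0, zero_comp]
  have ha0 : a ≠ 0 := by
    rintro rfl
    have hz := Groth.Agent.Lib.Helper23.StableEnd.isZero_of_rank_zero hL
    haveI : Mono p := Preadditive.mono_of_kernel_zero (hz.eq_of_src _ _)
    haveI : Mono α := by rw [← hpι]; exact mono_comp p ι
    haveI : Mono (tensorMap α (𝟙 K)) := mono_tw_of_hasLocBases hKb α
    haveI : Mono (α ≫ tensorMap α (𝟙 K)) := mono_comp _ _
    apply hα0
    have h1 : (𝟙 E) ≫ (α ≫ tensorMap α (𝟙 K)) = 0 ≫ (α ≫ tensorMap α (𝟙 K)) := by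
      rw [hnil, comp_zero, comp_zero]
    have h2 : 𝟙 E = 0 := (cancel_mono _).mp h1
    calc α = 𝟙 E ≫ α := (Category.id_comp α).symm
      _ = 0 := by rw [h2, zero_comp]
  have ha1 : a = 1 := by omega
  have hb1 : b = 1 := by omega
  subst ha1 hb1
  -- cokernel of the kernel is the image
  let S : ShortComplex X.Modules := ShortComplex.mk (kernel.ι p) p (kernel.condition p)
  have hSex : S.Exact := ShortComplex.exact_of_f_is_kernel S (kernelIsKernel p)
  haveI : Mono S.f := (inferInstance : Mono (kernel.ι p))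
  haveI : Epi S.g := (inferInstance : Epi p)
  have hcok : IsColimit (CokernelCofork.ofπ S.g S.zero) := hSex.gIsCokernel
  let e : cokernel (kernel.ι p) ≅ Abelian.image α :=
    (cokernelIsCokernel (kernel.ι p)).coconePointUniqueUpToIso hcok
  refine ⟨kernel p, kernel.ι p, isInvertible_of_rank_one hL, inferInstance,
    isInvertible_of_rank_one
      (Groth.Agent.Lib.Helper23.Sat.isFinLocFreeOfRank_of_iso e.symm hI), ?_⟩
  -- the induced map
  have h1 : ι ≫ tensorMap p (𝟙 K) = 0 := by
    haveI : Mono (tensorMap ι (𝟙 K)) := mono_tw_of_hasLocBases hKb ι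
    have h2 : p ≫ (ι ≫ tensorMap p (𝟙 K)) ≫ tensorMap ι (𝟙 K) = 0 := by
      rw [Category.assoc, ← tw_comp, hpι, ← Category.assoc, hpι]
      exact hnil
    have h3 : (ι ≫ tensorMap p (𝟙 K)) ≫ tensorMap ι (𝟙 K) = 0 :=
      (cancel_epi p).mp (h2.trans comp_zero.symm)
    exact (cancel_mono (tensorMap ι (𝟙 K))).mp (h3.trans zero_comp.symm)
  have hSK : (S.map (twR K)).Exact := exact_tw_of_hasLocBases hKb S hSex
  haveI : Mono (S.map (twR K)).f := mono_tw_of_hasLocBases hKb (kernel.ι p)
  obtain ⟨β', hβ'⟩ : ∃ β' : Abelian.image α ⟶ CohB1.tensorMod (kernel p) K,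
      β' ≫ tensorMap (kernel.ι p) (𝟙 K) = ι := ⟨hSK.lift ι h1, hSK.lift_f ι h1⟩
  refine ⟨e.hom ≫ β', fun h0 => ?_⟩
  have h4 : β' = 0 := by
    have h5 := congrArg (fun t => e.inv ≫ t) h0
    simpa using h5
  apply hα0
  rw [← hpι, ← hβ', h4, zero_comp, comp_zero]

end curve

end Groth.Agent.Lib.Helper11.VeryStableB
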