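import Mathlib
import Groth.Prelude
import Groth.Agent.Lib.Helper11.NegFiltB
import Groth.Agent.Lib.Helper11.VeryStableB
import Groth.Agent.Lib.Helper23.SmoothCurve
import Groth.Agent.Lib.Helper23.CurveF
import Groth.Agent.Lib.Helper26.RegularNormal
import Groth.Agent.Lib.Helper7.TorsFree

/-!
# Filtration of a sectionless subsheaf of `O^m` on a regular proper curve by negative line bundles
(helper11)
-/

set_option autoImplicit false
set_option linter.style.haveILetI false
set_option linter.unusedSectionVars false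
universe u
open CategoryTheory CategoryTheory.Limits AlgebraicGeometry TopologicalSpace Opposite
open Scheme.Modules

namespace Groth.Agent.Lib.Helper11.NegFiltC

open Groth.Agent.Lib.Helper3 Groth.Agent.Lib.Helper3.QCSec Groth.Agent.Lib.Helper3.InvGen
  Groth.Agent.Lib.Helper3.FreeBasis Groth.Agent.Lib.Helper11.NegFiltA
  Groth.Agent.Lib.Helper11.NegFiltB
open Groth.Agent.Lib.Helper23.Curve

variable {C : Scheme.{u}}
variable (k : Type u) [Field k] [C.Over (Spec (CommRingCat.of k))]

theorem pid_of_regular [IsIntegral C] [IsLocallyNoetherian C] (hdim : topologicalKrullDim C ≤ 1)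
    (hreg : ∀ x : C, IsRegularLocalRing (C.presheaf.stalk x)) (x : C) :
    IsPrincipalIdealRing (C.presheaf.stalk x) := by
  haveI := hreg x
  haveI : IsIntegrallyClosed (C.presheaf.stalk x) :=
    Groth.Agent.Lib.Helper26.RegularNormal.isIntegrallyClosed_of_isRegularLocalRing _
  exact Groth.Agent.Lib.Helper23.SmoothCurve.isPrincipalIdealRing_stalk hdim x

theorem step [IsIntegral C] [IsProper (C ↘ Spec (CommRingCat.of k))] (halg : AlgInput k)
    (hdim : topologicalKrullDim C ≤ 1)
    (hpid : ∀ x : C, IsPrincipalIdealRing (C.presheaf.stalk x))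
    {N : C.Modules} {r : ℕ} (hN : FlatMod.IsFinLocFreeOfRank (r + 1) N) {m : ℕ}
    (ι : N ⟶ FlatMod.freeMod C m) [Mono ι] (h0 : ∀ s : Γ(N, ⊤), s = 0) :
    ∃ (N' : C.Modules) (g : N' ⟶ N), Mono g ∧ FlatMod.IsFinLocFreeOfRank r N' ∧
      PicF.IsInvertible (cokernel g) ∧ Curv2.deg k C (cokernel g) 1 < 0 := by
  haveI := isNoetherian_of_isProper k C
  haveI : Nonempty C := inferInstance
  haveI : N.IsQuasicoherent := SecLoc.isQuasicoherent_of_isFinLocFreeOfRank hN
  have hN0 : ¬ IsZero N := by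
    intro hz
    haveI : Mono (0 : N ⟶ FlatMod.freeMod C 0) := ⟨fun a b _ => hz.eq_of_tgt a b⟩
    have := Groth.Agent.Lib.Helper7.TorsFree.rank_le_of_mono' hN
      (Groth.Agent.Lib.Helper23.Dev.isFinLocFreeOfRank_freeMod C 0) (0 : N ⟶ FlatMod.freeMod C 0)
    omega
  let lam : Fin m → (N ⟶ Coh.structureModule C) := fun i => ι ≫ proj C m i
  have hjm : ∀ (T : C.Modules) (g : T ⟶ N), (∀ i, g ≫ lam i = 0) → g = 0 := by
    intro T g hg
    have h1 : g ≫ ι = 0 := by
      have h2 : g ≫ ι = (g ≫ ι) ≫ ∑ i, proj C m i ≫ inj C m i := by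
        rw [sum_proj_inj, Category.comp_id]
      rw [h2, Preadditive.comp_sum]
      apply Finset.sum_eq_zero
      intro i _
      have := hg i
      simp only [lam, ← Category.assoc] at this
      rw [← Category.assoc, this, zero_comp]
    exact (cancel_mono ι).mp (h1.trans zero_comp.symm)
  obtain ⟨μ, hμ0, hμe⟩ := exists_functional k halg hN0 h0 m lam hjm
  let g : kernel μ ⟶ N := kernel.ι μ
  let ψ : cokernel g ⟶ Coh.structureModule C := Abelian.factorThruCoimage μ
  haveI : Mono ψ := inferInstanceAs (Mono (Abelian.factorThruCoimage μ))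
  have hπψ : cokernel.π g ≫ ψ = μ := Abelian.coimage.fac μ
  have hO : FlatMod.IsFinLocFreeOfRank 1 (Coh.structureModule C) :=
    isFinLocFreeOfRank_one_of_isInvertible (isInvertible_structureModule C)
  have hcN := isCoh_of_isFinLocFreeOfRank hN
  have hcO := isCoh_of_isFinLocFreeOfRank hO
  have hcK : Coh.IsCoh (kernel μ) := (Groth.Agent.S9514.result C hcN hcO μ).1
  have hcQ : Coh.IsCoh (cokernel g) := (Groth.Agent.S9514.result C hcK hcN g).2
  obtain ⟨a, hK⟩ := Groth.Agent.Lib.Helper23.LocFreeSub.isFinLocFreeOfRank_of_mono hpid hcK g hN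
  obtain ⟨b, hQ⟩ := Groth.Agent.Lib.Helper23.LocFreeSub.isFinLocFreeOfRank_of_mono hpid hcQ ψ hO
  have hab : r + 1 = a + b := rank_additive (cokerSC g) (cokerSC_shortExact g) hK hN hQ
  have hb1 : b ≤ 1 := Groth.Agent.Lib.Helper7.TorsFree.rank_le_of_mono' hQ hO ψ
  have hψ0 : ψ ≠ 0 := by
    intro h
    apply hμ0
    rw [← hπψ, h, comp_zero]
  have hb0 : b ≠ 0 := by
    rintro rfl
    have hz := Groth.Agent.Lib.Helper23.StableEnd.isZero_of_rank_zero hQ
    exact hψ0 (hz.eq_of_src _ _)
  have hb : b = 1 := by omega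
  have ha : a = r := by omega
  subst hb ha
  have hQinv : PicF.IsInvertible (cokernel g) :=
    Groth.Agent.Lib.Helper11.VeryStableB.isInvertible_of_rank_one hQ
  refine ⟨kernel μ, g, inferInstance, hK, hQinv, ?_⟩
  obtain ⟨hle, hiso⟩ := deg_le_of_map k hdim hQinv (isInvertible_structureModule C) ψ hψ0
  rw [deg_structureModule] at hle hiso
  rcases lt_or_eq_of_le hle with hlt | heq
  · exact hlt
  · exfalso
    haveI := hiso heq
    apply hμe
    rw [← hπψ]
    infer_instance

/-- prepend a module to a sequence -/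
def consSeq (N : C.Modules) (M' : ℕ → C.Modules) : ℕ → C.Modules
  | 0 => N
  | j + 1 => M' j

/-- prepend a map to a sequence of maps -/
def consMap (N : C.Modules) (M' : ℕ → C.Modules) (f' : ∀ j, M' (j + 1) ⟶ M' j)
    (g0 : M' 0 ⟶ N) : ∀ j, consSeq N M' (j + 1) ⟶ consSeq N M' j
  | 0 => g0
  | j + 1 => f' j

theorem filtration [IsIntegral C] [IsProper (C ↘ Spec (CommRingCat.of k))] (halg : AlgInput k)
    (hdim : topologicalKrullDim C ≤ 1)
    (hpid : ∀ x : C, IsPrincipalIdealRing (C.presheaf.stalk x)) :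
    ∀ (r : ℕ) (N : C.Modules) (_ : FlatMod.IsFinLocFreeOfRank r N) (m : ℕ)
      (ι : N ⟶ FlatMod.freeMod C m) [Mono ι] (_ : ∀ s : Γ(N, ⊤), s = 0),
      ∃ (M : ℕ → C.Modules) (f : ∀ j, M (j + 1) ⟶ M j), M 0 = N ∧ IsZero (M r) ∧
        ∀ j, j < r → Mono (f j) ∧ PicF.IsInvertible (cokernel (f j)) ∧
          Curv2.deg k C (cokernel (f j)) 1 < 0 := by
  intro r
  induction r with
  | zero =>
    intro N hN m ι _ h0
    exact ⟨fun _ => N, fun _ => 𝟙 N, rfl,
      Groth.Agent.Lib.Helper23.StableEnd.isZero_of_rank_zero hN, fun j hj => absurd hj (by omega)⟩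
  | succ r ih =>
    intro N hN m ι _ h0
    obtain ⟨N', g, hg, hN', hinv, hdeg⟩ := step k halg hdim hpid hN ι h0
    haveI := hg
    have h0' : ∀ s : Γ(N', ⊤), s = 0 := by
      intro s
      apply QCExact.injective_sections g ⊤
      rw [h0 (g.app ⊤ s), QCExact.app_zero]
    obtain ⟨M', f', hM0, hz, hall⟩ := ih N' hN' m (g ≫ ι) h0'
    subst hM0
    refine ⟨consSeq N M', consMap N M' f' g, rfl, hz, ?_⟩
    intro j hj
    cases j with
    | zero => exact ⟨hg, hinv, hdeg⟩
    | succ j => exact hall j (by omega)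

end Groth.Agent.Lib.Helper11.NegFiltC
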