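import Mathlib
import Groth.Prelude
import Groth.Agent.Lib.Helper11.NegFiltC
import Groth.Agent.Lib.Helper3.VACore
import Groth.Agent.Lib.Helper3.SubIdeal
import Groth.Agent.Lib.Helper23.HiggsInv
import Groth.Agent.Lib.Helper23.LocFreeSub
import Groth.Agent.Lib.Helper23.StableEnd

/-!
# LinSerA: the morphism to projective space attached to a linear series on a regular curve
(helper11)

* `exists_mem_genLocus_of_epi`: if `π : O^n ⟶ L'` is an epimorphism onto an invertible module, then
  at every point one of the `n` coordinate sections generates `L'`.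
* `exists_hom_projSpace_of_sections`: on a regular integral curve, sections `s_0, …, s_r` of an
  invertible module `L` with `s_0 ≠ 0` define `φ : X ⟶ P^r` and `α : φ^*O(1) ⟶ L` with
  `α(φ^*T_i) = s_i`.
-/

set_option autoImplicit false
set_option linter.style.haveILetI false
set_option linter.unusedSectionVars false
universe u
open CategoryTheory CategoryTheory.Limits AlgebraicGeometry TopologicalSpace Opposite
open Scheme.Modules

noncomputable section

namespace Groth.Agent.Lib.Helper11.LinSerA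

open Groth.Agent.Lib.Helper3 Groth.Agent.Lib.Helper3.QCSec Groth.Agent.Lib.Helper3.InvGen
  Groth.Agent.Lib.Helper3.FreeBasis
open Groth.Agent.Lib.Helper23.Curve

variable {X : Scheme.{u}}

theorem exists_mem_genLocus_of_epi {L' : X.Modules} (hL' : PicF.IsInvertible L') {n : ℕ}
    (π : FlatMod.freeMod X n ⟶ L') [Epi π] (x : X) :
    ∃ i : Fin n, x ∈ CohB1.genLocus L' (inj X n i ≫ π) := by
  obtain ⟨U, e, hU, hxU, hg⟩ := exists_affine_isGen hL' x
  haveI : (FlatMod.freeMod X n).IsQuasicoherent := (Groth.Agent.Lib.Helper23.Dev.isCoh_freeMod X n).1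
  haveI : L'.IsQuasicoherent := (isCoh_of_isInvertible hL').1
  haveI : (kernel π).IsQuasicoherent := QCProps.isQuasicoherent_kernel π
  have hS : (ShortComplex.mk (kernel.ι π) π (kernel.condition π)).ShortExact :=
    { exact := ShortComplex.exact_of_f_is_kernel _ (kernelIsKernel π) }
  have hsurj : Function.Surjective (π.app U) :=
    QCExact.surjective_app_of_isAffineOpen _ hS hU
  obtain ⟨t, ht⟩ := hsurj e
  -- coordinates of the coordinate sections
  choose f hf using fun i : Fin n => hg.self.exists_coord (sec (inj X n i ≫ π) U)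
  have hsum : (∑ i, toFun U ((proj X n i).app U t) * f i) • e = (1 : Γ(X, U)) • e := by
    rw [one_smul, Finset.sum_smul]
    conv_rhs => rw [← ht, eq_sum_bsec n U t, app_sum]
    apply Finset.sum_congr rfl
    intro i _
    rw [Scheme.Modules.Hom.app_smul, mul_smul, hf i]
    rfl
  have h1 : ∑ i, toFun U ((proj X n i).app U t) * f i = 1 := hg.self.smul_inj hsum
  have hspan : Ideal.span (Set.range f) = ⊤ := by
    rw [Ideal.eq_top_iff_one, ← h1]
    apply Ideal.sum_mem
    intro i _
    exact Ideal.mul_mem_left _ _ (Ideal.subset_span ⟨i, rfl⟩)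
  have hcov := (hU.iSup_basicOpen_eq_self_iff (s := Set.range f)).mpr hspan
  have hx' : x ∈ ⨆ g : Set.range f, X.basicOpen (g : Γ(X, U)) := by rw [hcov]; exact hxU
  obtain ⟨⟨_, ⟨i, rfl⟩⟩, hxi⟩ := Opens.mem_iSup.mp hx'
  refine ⟨i, ?_⟩
  have h2 := genLocus_inf_eq_basicOpen (inj X n i ≫ π) hg (f i) (hf i).symm
  have h3 : x ∈ CohB1.genLocus L' (inj X n i ≫ π) ⊓ U := by rw [h2]; exact hxi
  exact h3.1

open Groth.Agent.Lib.Helper3.SecCoord Groth.Agent.Lib.Helper3.VACore
  Groth.Agent.Lib.Helper3.TwistProj Groth.Agent.Lib.Helper3.ToProj Groth.Agent.Lib.Helper3.InvAmple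
  Groth.Agent.Lib.Helper3.ProjPullGen

variable (k : Type u) [Field k] [X.Over (Spec (CommRingCat.of k))]

theorem exists_hom_projSpace_of_sections [IsIntegral X] [IsProper (X ↘ Spec (CommRingCat.of k))]
    (hdim : topologicalKrullDim X ≤ 1) (hreg : ∀ x : X, IsRegularLocalRing (X.presheaf.stalk x))
    {L : X.Modules} (hL : PicF.IsInvertible L) (r : ℕ) (s : Fin (r + 1) → Γ(L, ⊤))
    (hs0 : ∃ i, s i ≠ 0) :
    ∃ (φ : X ⟶ CohB1.ProjSpace r k)
      (α : (Scheme.Modules.pullback φ).obj (Twist.twist (CohB1.polyGrading r k) ((1 : ℕ) : ℤ)) ⟶ L),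
      φ ≫ CohB1.ProjSpace.toSpec r k = X ↘ Spec (CommRingCat.of k) ∧
      ∀ i, α.app ⊤ (gpull φ (Twist.twist (CohB1.polyGrading r k) ((1 : ℕ) : ℤ))
        (gsec (⟨MvPolynomial.X i, MvPolynomial.isHomogeneous_X k i⟩ :
          CohB1.polyGrading r k 1))) = s i := by
  haveI : IsLocallyNoetherian X :=
    LocallyOfFiniteType.isLocallyNoetherian (X ↘ Spec (CommRingCat.of k))
  have hpid := fun x => Groth.Agent.Lib.Helper11.NegFiltC.pid_of_regular hdim hreg x
  have hcF := Groth.Agent.Lib.Helper23.Dev.isCoh_freeMod X (r + 1)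
  have hcL := isCoh_of_isInvertible hL
  have hL1 := isFinLocFreeOfRank_one_of_isInvertible hL
  haveI := hcF.1
  haveI := hcF.2
  haveI := hcL.1
  let f : FlatMod.freeMod X (r + 1) ⟶ L := Sigma.desc (fun i => globalHom L (s i))
  have hinj : ∀ i, inj X (r + 1) i ≫ f = globalHom L (s i) := fun i => Sigma.ι_desc _ _
  let π : FlatMod.freeMod X (r + 1) ⟶ Abelian.image f := Abelian.factorThruImage f
  let ι : Abelian.image f ⟶ L := Abelian.image.ι f
  have hπι : π ≫ ι = f := Abelian.image.fac f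
  haveI : (cokernel f).IsQuasicoherent := QCProps.isQuasicoherent_cokernel f
  have hcL' : Coh.IsCoh (Abelian.image f) :=
    ⟨QCProps.isQuasicoherent_kernel (cokernel.π f), QCProps.isFiniteType_of_epi π⟩
  obtain ⟨n, hn⟩ := Groth.Agent.Lib.Helper23.LocFreeSub.isFinLocFreeOfRank_of_mono hpid hcL' ι hL1
  have hn1 : n ≤ 1 := Groth.Agent.Lib.Helper7.TorsFree.rank_le_of_mono' hn hL1 ι
  have hn0 : n ≠ 0 := by
    rintro rfl
    have hz := Groth.Agent.Lib.Helper23.StableEnd.isZero_of_rank_zero hn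
    obtain ⟨i, hi⟩ := hs0
    apply hi
    have h0 : globalHom L (s i) = 0 := by
      rw [← hinj i, ← hπι, hz.eq_of_tgt π 0, zero_comp, comp_zero]
    have h2 : sec (globalHom L (s i)) ⊤ = s i := by rw [sec_globalHom, res_self]
    rw [h0] at h2
    rw [← h2]
    rfl
  obtain rfl : n = 1 := by omega
  have hL' : PicF.IsInvertible (Abelian.image f) :=
    Groth.Agent.Lib.Helper23.HiggsInv.isInvertible_of_rank_one hn
  let s' : Fin (r + 1) → Γ(Abelian.image f, ⊤) := fun i => sec (inj X (r + 1) i ≫ π) ⊤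
  have hcov : ∀ x, ∃ i, x ∈ locus (Abelian.image f) (s' i) := by
    intro x
    obtain ⟨i, hi⟩ := exists_mem_genLocus_of_epi hL' π x
    refine ⟨i, ?_⟩
    change x ∈ CohB1.genLocus _ (globalHom _ (sec (inj X (r + 1) i ≫ π) ⊤))
    rw [Groth.Agent.Lib.Helper3.SubIdeal.globalHom_sec]
    exact hi
  obtain ⟨φ, hφ, τ, hτ⟩ := exists_hom_projSpace r (X ↘ Spec (CommRingCat.of k))
    (Abelian.image f) s' hcov
  refine ⟨φ, τ.hom ≫ ι, hφ, fun i => ?_⟩
  change ι.app ⊤ (τ.hom.app ⊤ _) = s i
  rw [hτ i]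
  change ι.app ⊤ (sec (inj X (r + 1) i ≫ π) ⊤) = s i
  rw [← sec_comp, Category.assoc, hπι, hinj, sec_globalHom, res_self]

end Groth.Agent.Lib.Helper11.LinSerA
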