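import Mathlib
import Groth.Prelude
import Groth.Agent.Lib.Helper11.LinSerA
import Groth.Agent.Lib.Helper7.DegPull
import Groth.Agent.Lib.Helper23.P1Coh
import Groth.Agent.Lib.Helper23.P1Dim
import Groth.Agent.Lib.Helper23.NormDelta
import Groth.Agent.Lib.Helper3.QProj

/-!
# LinSerB: the degree of the morphism to `P^1` attached to a pencil (helper11)
-/

set_option autoImplicit false
set_option linter.style.haveILetI false
set_option linter.unusedSectionVars false
universe u
open CategoryTheory CategoryTheory.Limits AlgebraicGeometry TopologicalSpace Opposite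
open Scheme.Modules

noncomputable section

namespace Groth.Agent.Lib.Helper11.LinSerB

open Groth.Agent.Lib.Helper3 Groth.Agent.Lib.Helper3.QCSec Groth.Agent.Lib.Helper3.InvGen
open Groth.Agent.Lib.Helper23.Curve

variable (k : Type u) [Field k]

theorem isInvertible_twist_one :
    PicF.IsInvertible (Twist.twistProjSpace 1 k ((1 : ℕ) : ℤ)) :=
  Groth.Agent.Lib.Helper7.TwProj.isInvertible_twist (Groth.Agent.Lib.Helper7.Mumford.hU 1 k) _

theorem deg_twist_one :
    Curv2.deg k (CohB1.ProjSpace 1 k) (Twist.twistProjSpace 1 k ((1 : ℕ) : ℤ)) 1 = 1 := by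
  unfold Curv2.deg
  have h1 : Curv2.euler k (CohB1.ProjSpace 1 k) (Coh.structureModule (CohB1.ProjSpace 1 k)) =
      Curv2.euler k (CohB1.ProjSpace 1 k) (Twist.twistProjSpace 1 k ((0 : ℕ) : ℤ)) :=
    Groth.Agent.Lib.Helper23.FBC.euler_eq_of_iso' k (Groth.Agent.Lib.Helper3.TwistMul.unitIso
      (𝒜 := CohB1.polyGrading 1 k))
  rw [h1, Groth.Agent.Lib.Helper23.P1Coh.euler_twist, Groth.Agent.Lib.Helper23.P1Coh.euler_twist]
  push_cast

variable {X : Scheme.{u}} [X.Over (Spec (CommRingCat.of k))]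

/-- a morphism from an integral scheme to `P^1` which does not map into a closed point maps the
generic point to the generic point, and `P^1` has dimension one -/
theorem generic_of_nonconstant [IsIntegral X] (φ : X ⟶ CohB1.ProjSpace 1 k)
    (hnc : ¬ ∃ p : CohB1.ProjSpace 1 k, IsClosed ({p} : Set (CohB1.ProjSpace 1 k)) ∧
      Set.range φ ⊆ {p}) :
    φ (genericPoint X) = genericPoint (CohB1.ProjSpace 1 k) ∧
      topologicalKrullDim (CohB1.ProjSpace 1 k) = 1 := by
  have hle := Groth.Agent.Lib.Helper23.P1Dim.topologicalKrullDim_projSpace_one_le k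
  have hrange : ∀ p : CohB1.ProjSpace 1 k, IsClosed ({p} : Set (CohB1.ProjSpace 1 k)) →
      φ (genericPoint X) = p → Set.range φ ⊆ {p} := by
    intro p hp hη
    rintro _ ⟨x, rfl⟩
    have hx : x ∈ closure ({genericPoint X} : Set X) := by
      rw [(genericPoint_spec X).def]; trivial
    have h1 : φ x ∈ closure ({φ (genericPoint X)} : Set (CohB1.ProjSpace 1 k)) := by
      have := image_closure_subset_closure_image φ.continuous ⟨x, hx, rfl⟩
      rwa [Set.image_singleton] at this
    rw [hη, hp.closure_eq] at h1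
    exact h1
  have hgen : φ (genericPoint X) = genericPoint (CohB1.ProjSpace 1 k) := by
    by_contra hne
    exact hnc ⟨_, Groth.Agent.Lib.Helper23.NormDelta.isClosed_singleton_of_ne_genericPoint hle _ hne,
      hrange _ (Groth.Agent.Lib.Helper23.NormDelta.isClosed_singleton_of_ne_genericPoint hle _ hne)
        rfl⟩
  refine ⟨hgen, le_antisymm hle ?_⟩
  -- the generic point is not closed
  have hncl : ¬ IsClosed ({genericPoint (CohB1.ProjSpace 1 k)} : Set (CohB1.ProjSpace 1 k)) :=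
    fun hcl => hnc ⟨_, hcl, hrange _ hcl hgen⟩
  have hex : ∃ y : CohB1.ProjSpace 1 k, y ≠ genericPoint (CohB1.ProjSpace 1 k) := by
    by_contra hall
    push Not at hall
    apply hncl
    have : ({genericPoint (CohB1.ProjSpace 1 k)} : Set (CohB1.ProjSpace 1 k)) = Set.univ := by
      ext y; simp [hall y]
    rw [this]; exact isClosed_univ
  obtain ⟨y, hy⟩ := hex
  have h1 : (1 : WithBot ℕ∞) ≤ Order.krullDim (IrreducibleCloseds (CohB1.ProjSpace 1 k)) := by
    rw [Order.one_le_krullDim_iff]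
    refine ⟨⟨closure {y}, isIrreducible_singleton.closure, isClosed_closure⟩,
      ⟨Set.univ, (inferInstance : IrreducibleSpace (CohB1.ProjSpace 1 k)).isIrreducible_univ,
        isClosed_univ⟩, ?_⟩
    refine lt_of_le_of_ne (fun _ _ => trivial) ?_
    intro heq
    have h2 : closure ({y} : Set (CohB1.ProjSpace 1 k)) = Set.univ :=
      congrArg IrreducibleCloseds.carrier heq
    have h3 : IsGenericPoint y (Set.univ : Set (CohB1.ProjSpace 1 k)) := h2
    exact hy (h3.eq (genericPoint_spec _))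
  exact h1

/-- the degree bound in the non-constant case -/
theorem finrank_le_of_nonconstant [IsIntegral X] [IsProper (X ↘ Spec (CommRingCat.of k))]
    (hdim : topologicalKrullDim X = 1) {L : X.Modules} (hL : PicF.IsInvertible L)
    (φ : X ⟶ CohB1.ProjSpace 1 k)
    (hφ : φ ≫ CohB1.ProjSpace.toSpec 1 k = X ↘ Spec (CommRingCat.of k))
    (α : (Scheme.Modules.pullback φ).obj (Twist.twistProjSpace 1 k ((1 : ℕ) : ℤ)) ⟶ L)
    (hα : α ≠ 0)
    (hnc : ¬ ∃ p : CohB1.ProjSpace 1 k, IsClosed ({p} : Set (CohB1.ProjSpace 1 k)) ∧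
      Set.range φ ⊆ {p}) :
    letI := (φ.stalkMap (genericPoint X)).hom.toAlgebra
    (Module.finrank ((CohB1.ProjSpace 1 k).presheaf.stalk (φ (genericPoint X)))
      X.functionField : ℤ) ≤ Curv2.deg k X L 1 := by
  obtain ⟨hgen, hY⟩ := generic_of_nonconstant k φ hnc
  haveI : IsProper ((CohB1.ProjSpace 1 k) ↘ Spec (CommRingCat.of k)) :=
    Groth.Agent.Lib.Helper3.QProj.isProper_toSpec k 1
  have hE1 := isFinLocFreeOfRank_one_of_isInvertible (isInvertible_twist_one k)
  have hpull := Groth.Agent.Lib.Helper7.DegPull.deg_pullback k hdim.le hY φ hφ hgen 1 _ hE1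
  rw [deg_twist_one, mul_one] at hpull
  have hinvP : PicF.IsInvertible
      ((Scheme.Modules.pullback φ).obj (Twist.twistProjSpace 1 k ((1 : ℕ) : ℤ))) :=
    Groth.Agent.Lib.Helper23.HiggsInv.isInvertible_of_rank_one
      (Groth.Agent.Lib.Helper17.LocFreeRank.isFinLocFreeOfRank_pullback φ _ 1 hE1)
  have hle := (deg_le_of_map k hdim.le hinvP hL α hα).1
  rw [hpull] at hle
  have hXf : IsField (X.presheaf.stalk (genericPoint X)) := Field.toIsField X.functionField
  have hYf : IsField ((CohB1.ProjSpace 1 k).presheaf.stalk (φ (genericPoint X))) := by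
    rw [hgen]
    exact Field.toIsField (CohB1.ProjSpace 1 k).functionField
  have hfr := Groth.Agent.Lib.Helper7.DegPull.finrank_stalk_eq_residueDegree φ (genericPoint X)
    hXf hYf
  have hfr' : (letI := (φ.stalkMap (genericPoint X)).hom.toAlgebra
      Module.finrank ((CohB1.ProjSpace 1 k).presheaf.stalk (φ (genericPoint X)))
        X.functionField) = φ.residueDegree (genericPoint X) := hfr
  rw [hfr']
  exact hle

open Groth.Agent.Lib.Helper3.TwistProj Groth.Agent.Lib.Helper3.ProjPullGen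
  Groth.Agent.Lib.Helper23.T2

/-- if `h⁰(O_X) = 1` every global function is a constant -/
theorem exists_const_of_h0_eq_one [IsIntegral X]
    (h1 : Module.finrank k (Coh.HH X (Coh.structureModule X) 0) = 1) (a : Γ(X, ⊤)) :
    ∃ c : k, a = Coh.toGlobal (X ↘ Spec (CommRingCat.of k)) c := by
  set e := H0equiv (Coh.structureModule X) with he
  have hne : e.symm (ofFun ⊤ (1 : Γ(X, ⊤))) ≠ 0 := by
    intro h0
    have h2 := congrArg e h0
    rw [LinearEquiv.apply_symm_apply, map_zero] at h2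
    have h3 : (1 : Γ(X, ⊤)) = 0 := h2
    exact one_ne_zero h3
  obtain ⟨c, hc⟩ := (finrank_eq_one_iff_of_nonzero' _ hne).mp h1 (e.symm (ofFun ⊤ a))
  refine ⟨c, ?_⟩
  have hc' : Coh.toGlobal (X ↘ Spec (CommRingCat.of k)) c • e.symm (ofFun ⊤ (1 : Γ(X, ⊤))) =
      e.symm (ofFun ⊤ a) := hc
  have h2 := congrArg e hc'
  rw [LinearEquiv.map_smul, LinearEquiv.apply_symm_apply, LinearEquiv.apply_symm_apply] at h2
  let tg : Γ(X, ⊤) := Coh.toGlobal (X ↘ Spec (CommRingCat.of k)) c
  have h3 : ofFun ⊤ (tg * (1 : Γ(X, ⊤))) = ofFun ⊤ a := h2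
  have h4 : tg * (1 : Γ(X, ⊤)) = a := ofFun_injective ⊤ h3
  rw [mul_one] at h4
  exact h4.symm

/-- a relation between the two coordinate sections when `φ` lands in a standard chart -/
theorem gpull_rel (φ : X ⟶ CohB1.ProjSpace 1 k) (j j' : Fin 2)
    (hj : ∀ x : X, φ x ∈ Proj.basicOpen (CohB1.polyGrading 1 k) (MvPolynomial.X j)) :
    ∃ a : Γ(X, ⊤),
      gpull φ (Twist.twist (CohB1.polyGrading 1 k) ((1 : ℕ) : ℤ))
        (gsec (⟨MvPolynomial.X j', MvPolynomial.isHomogeneous_X k j'⟩ :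
          CohB1.polyGrading 1 k 1)) =
      a • gpull φ (Twist.twist (CohB1.polyGrading 1 k) ((1 : ℕ) : ℤ))
        (gsec (⟨MvPolynomial.X j, MvPolynomial.isHomogeneous_X k j⟩ :
          CohB1.polyGrading 1 k 1)) := by
  have e : (⊤ : X.Opens) ≤ φ ⁻¹ᵁ Proj.basicOpen (CohB1.polyGrading 1 k) (MvPolynomial.X j) :=
    fun x _ => hj x
  have h := res_gpull_gsec φ (MvPolynomial.isHomogeneous_X k j) (MvPolynomial.isHomogeneous_X k j')
    ⊤ e
  rw [res_self, res_self] at h
  exact ⟨_, h⟩

/-- in the constant case `h⁰(O_X) ≠ 1` -/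
theorem h0_ne_one_of_constant [IsIntegral X] {L : X.Modules}
    (φ : X ⟶ CohB1.ProjSpace 1 k)
    (α : (Scheme.Modules.pullback φ).obj (Twist.twist (CohB1.polyGrading 1 k) ((1 : ℕ) : ℤ)) ⟶ L)
    (s : Fin (1 + 1) → LinSer.Sect X L)
    (hα : ∀ i, α.app ⊤ (gpull φ (Twist.twist (CohB1.polyGrading 1 k) ((1 : ℕ) : ℤ))
      (gsec (⟨MvPolynomial.X i, MvPolynomial.isHomogeneous_X k i⟩ :
        CohB1.polyGrading 1 k 1))) = s i)
    (hind : LinSer.LinIndep k X L s)
    (p : CohB1.ProjSpace 1 k) (hp : Set.range φ ⊆ {p}) :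
    Module.finrank k (Coh.HH X (Coh.structureModule X) 0) ≠ 1 := by
  intro h1
  have hadj : Algebra.adjoin k (Set.range
      (fun j : Fin (1 + 1) => (MvPolynomial.X j : MvPolynomial (Fin (1 + 1)) k))) = ⊤ :=
    MvPolynomial.adjoin_range_X
  obtain ⟨j, hj⟩ := exists_mem_basicOpen_of_adjoin (𝒜 := CohB1.polyGrading 1 k)
    (fun j : Fin (1 + 1) => (MvPolynomial.X j : MvPolynomial (Fin (1 + 1)) k))
    (fun _ => 1) (fun j => MvPolynomial.isHomogeneous_X k j) hadj p
  have hjx : ∀ x : X, φ x ∈ Proj.basicOpen (CohB1.polyGrading 1 k) (MvPolynomial.X j) := by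
    intro x
    have h2 : φ x ∈ ({p} : Set (CohB1.ProjSpace 1 k)) := hp ⟨x, rfl⟩
    rw [Set.mem_singleton_iff.mp h2]
    exact hj
  obtain ⟨j', hjj'⟩ : ∃ j' : Fin (1 + 1), j' ≠ j := by
    refine ⟨j + 1, ?_⟩
    fin_cases j <;> decide
  obtain ⟨a, ha⟩ := gpull_rel k φ j j' hjx
  obtain ⟨c, hc⟩ := exists_const_of_h0_eq_one k h1 a
  let t : Fin (1 + 1) → Γ(L, ⊤) := s
  have hαt : ∀ i, α.app ⊤ (gpull φ (Twist.twist (CohB1.polyGrading 1 k) ((1 : ℕ) : ℤ))
      (gsec (⟨MvPolynomial.X i, MvPolynomial.isHomogeneous_X k i⟩ :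
        CohB1.polyGrading 1 k 1))) = t i := hα
  have hrel' : t j' = a • t j := by
    rw [← hαt j', ← hαt j, ha]
    exact Scheme.Modules.Hom.app_smul _ _ _
  have hrel : s j' = Coh.toGlobal (X ↘ Spec (CommRingCat.of k)) c • s j := by
    rw [← hc]
    exact hrel'
  have h0 := hind (fun i => if i = j' then 1 else -c) (by
    rw [Fintype.sum_eq_add j' j hjj' (fun x hx => by
      exfalso
      have h1 := hx.1
      have h2 := hx.2
      rw [Ne, Fin.ext_iff] at h1 h2 hjj'
      omega)]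
    rw [if_pos rfl, if_neg hjj'.symm, map_one, one_smul, map_neg, neg_smul, hrel, add_neg_cancel])
  have h3 := congrFun h0 j'
  simp at h3

end Groth.Agent.Lib.Helper11.LinSerB
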