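import Mathlib
import Groth.Prelude
import Groth.Agent.Lib.Helper2.ExtLin.TensorLinear
import Groth.Agent.Lib.Helper11.AutCardB
import Groth.Agent.Lib.Helper11.LinSerB

/-!
# DualDegA: endomorphisms of an invertible module are global functions; the degree of a dualizing
module on a smooth proper curve with `H⁰(O) = k` (helper11)
-/

set_option autoImplicit false
set_option linter.style.haveILetI false
set_option linter.unusedSectionVars false
set_option linter.unusedVariables false
universe u
open CategoryTheory CategoryTheory.Limits AlgebraicGeometry TopologicalSpace Opposite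
open Scheme.Modules

noncomputable section

namespace Groth.Agent.Lib.Helper11.DualDegA

open Groth.Agent.Lib.Helper3 Groth.Agent.Lib.Helper3.QCSec Groth.Agent.Lib.Helper3.InvGen
open Groth.Agent.Lib.Helper23.T2 Groth.Agent.Lib.Helper23.Curve Groth.Agent.Lib.Helper7.CurvePair
  Groth.Agent.Lib.Helper23 Groth.Agent.Lib.Helper23.GlobFun Groth.Agent.Lib.Helper7.TwFun
  Groth.Agent.Lib.Helper11.AutCardA Groth.Agent.Lib.Helper11.AutCardB

variable {X : Scheme.{u}}

/-- multiplication by a global function on the structure sheaf, two descriptions -/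
lemma mulHom_eq_smulModΓ (r : Γ(X, ⊤)) :
    mulHom r = Formal.smulModΓ (Coh.structureModule X) r := by
  apply hom_ext_sec
  rw [sec_mulHom]
  change _ = (Formal.smulModΓ (Coh.structureModule X) r).app ⊤ (ofFun ⊤ 1)
  rw [KLin.smulModΓ_app_apply, smul_ofFun, mul_one]

/-- every endomorphism of an invertible module is multiplication by a global function -/
theorem exists_eq_smulModΓ {L : X.Modules} (hL : PicF.IsInvertible L) (φ : L ⟶ L) :
    ∃ r : Coh.Γtop X, φ = Formal.smulModΓ L r := by
  obtain ⟨M, -, ⟨e⟩⟩ := Inverse.exists_isInverseOf hL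
  haveI := isEquivalence_twR L M e
  let E := endRingEquiv (twR L) (Coh.structureModule X) (InvMonoidal.unitorL L)
  obtain ⟨u, hu⟩ := E.surjective φ
  obtain ⟨r, h1⟩ : ∃ r : Coh.Γtop X, (u : Coh.structureModule X ⟶ Coh.structureModule X) =
      Formal.smulModΓ (Coh.structureModule X) r := by
    refine ⟨endO X u, ?_⟩
    have h0 := mulHom_eq_smulModΓ (endO X u)
    exact ((endO X).left_inv u).symm.trans h0
  refine ⟨r, ?_⟩
  have h2 := Groth.Agent.Lib.Helper2.ExtLin.tensorMap_smulModΓ (Coh.structureModule X) L r
  have h3 := KLin.comp_smulModΓ (InvMonoidal.unitorL L).inv r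
  have h4 : φ = (InvMonoidal.unitorL L).inv ≫ (twR L).map u ≫ (InvMonoidal.unitorL L).hom :=
    hu.symm
  have h5 : ((InvMonoidal.unitorL L).inv ≫
      Formal.smulModΓ (CohB1.tensorMod (Coh.structureModule X) L) r) ≫
      (InvMonoidal.unitorL L).hom = Formal.smulModΓ L r := by
    rw [h3, Category.assoc, Iso.inv_hom_id, Category.comp_id]
  rw [h4, h1, twR_map, h2]
  exact (Category.assoc _ _ _).symm.trans h5

end Groth.Agent.Lib.Helper11.DualDegA
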