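import Mathlib
import Groth.Prelude
import Groth.Agent.Lib.Helper11.AutCardC
import Groth.Agent.Lib.Helper11.DualDegA

/-!
# AutExtA: scheme-theoretic input for counting automorphisms of `O ⊕ F`, `F` a non-split
self-extension of `O` on a curve over a finite field (helper11)
-/

set_option autoImplicit false
set_option linter.style.haveILetI false
set_option linter.unusedSectionVars false
set_option linter.unusedVariables false
universe u
open CategoryTheory CategoryTheory.Limits AlgebraicGeometry TopologicalSpace Opposite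
open Scheme.Modules

noncomputable section

namespace Groth.Agent.Lib.Helper11.AutExtA

open Groth.Agent.Lib.Helper3 Groth.Agent.Lib.Helper3.QCSec Groth.Agent.Lib.Helper3.InvGen
open Groth.Agent.Lib.Helper23.T2 Groth.Agent.Lib.Helper23.Curve Groth.Agent.Lib.Helper7.CurvePair
  Groth.Agent.Lib.Helper23 Groth.Agent.Lib.Helper23.GlobFun Groth.Agent.Lib.Helper7.TwFun
  Groth.Agent.Lib.Helper11.AutCardA Groth.Agent.Lib.Helper11.AutCardB

/-! ### generic: normalising a short exact sequence whose ends are isomorphic to `O` -/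

section generic
variable {C : Type*} [Category C] [Abelian C]

theorem shortExact_mk (T : ShortComplex C) (hT : T.ShortExact) {O : C} (e₁ : T.X₁ ≅ O)
    (e₃ : T.X₃ ≅ O) :
    (ShortComplex.mk (e₁.inv ≫ T.f) (T.g ≫ e₃.hom) (by simp)).ShortExact := by
  refine ShortComplex.shortExact_of_iso
    (ShortComplex.isoMk e₁ (Iso.refl _) e₃ (by simp) (by simp)) hT

theorem not_isSplitEpi_mk (T : ShortComplex C) {O : C} (e₃ : T.X₃ ≅ O)
    (hns : ¬ IsSplitEpi T.g) : ¬ IsSplitEpi (T.g ≫ e₃.hom) := by
  intro h
  obtain ⟨⟨se⟩⟩ := h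
  apply hns
  have h1 : se.section_ ≫ T.g = e₃.inv := by
    have h0 := se.id
    calc se.section_ ≫ T.g = (se.section_ ≫ T.g ≫ e₃.hom) ≫ e₃.inv := by
          rw [Category.assoc, Category.assoc, Iso.hom_inv_id, Category.comp_id]
      _ = e₃.inv := by rw [h0, Category.id_comp]
  exact IsSplitEpi.mk' ⟨e₃.hom ≫ se.section_, by rw [Category.assoc, h1, Iso.hom_inv_id]⟩

end generic

variable {X : Scheme.{u}}

/-- scalars in `End O` lift compatibly to any module -/
theorem exists_central_lift (F : X.Modules) (ι : Coh.structureModule X ⟶ F)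
    (p : F ⟶ Coh.structureModule X) (c : Coh.structureModule X ⟶ Coh.structureModule X) :
    ∃ z : F ⟶ F, ι ≫ z = c ≫ ι ∧ z ≫ p = p ≫ c := by
  obtain ⟨r, hr⟩ := DualDegA.exists_eq_smulModΓ (InvGen.isInvertible_structureModule X) c
  refine ⟨Formal.smulModΓ F r, ?_, ?_⟩
  · rw [hr]; exact KLin.comp_smulModΓ ι r
  · rw [hr]; exact (KLin.comp_smulModΓ p r).symm

variable (k : Type u) [Field k] [Finite k] [X.Over (Spec (CommRingCat.of k))]
  [IsProper (X ↘ Spec (CommRingCat.of k))] [GeometricallyIntegral (X ↘ Spec (CommRingCat.of k))]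

/-- `End O ≅ k` -/
def endK : End (Coh.structureModule X) ≃+* k :=
  (endO X).trans (nonempty_globalK (X := X) k).some

include k in
theorem finite_end : Finite (Coh.structureModule X ⟶ Coh.structureModule X) :=
  Finite.of_equiv k (endK (X := X) k).toEquiv.symm

theorem card_end : Nat.card (Coh.structureModule X ⟶ Coh.structureModule X) = Nat.card k :=
  Nat.card_congr (endK (X := X) k).toEquiv

include k in
theorem isIso_of_ne_zero (c : Coh.structureModule X ⟶ Coh.structureModule X) (hc : c ≠ 0) :
    IsIso c := by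
  have h : IsUnit (endK (X := X) k c) := by
    refine IsUnit.mk0 _ ?_
    intro h0
    apply hc
    exact (endK (X := X) k).injective (h0.trans (map_zero _).symm)
  have h2 : IsUnit (M := End (Coh.structureModule X)) c := by
    have h3 := h.map (endK (X := X) k).symm
    rwa [RingEquiv.symm_apply_apply] at h3
  exact (isUnit_iff_isIso _).mp h2

theorem card_aut_O : Nat.card (Aut (Coh.structureModule X)) = Nat.card k - 1 := by
  rw [Nat.card_congr (Aut.unitsEndEquivAut (Coh.structureModule X)).symm.toEquiv,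
    Nat.card_congr (Units.mapEquiv (endK (X := X) k).toMulEquiv).toEquiv]
  exact Nat.card_units k

/-! ### twisting by a non-trivial degree zero invertible module kills maps to and from `O` -/

variable [Smooth (X ↘ Spec (CommRingCat.of k))]

include k in
theorem hom_O_eq_zero (hdim : topologicalKrullDim X ≤ 1) {L : X.Modules}
    (hL : PicF.IsInvertible L) (hdeg : Curv2.deg k X L 1 = 0)
    (hne : ¬ Nonempty (L ≅ Coh.structureModule X)) :
    (∀ t : Coh.structureModule X ⟶ L, t = 0) ∧ (∀ t : L ⟶ Coh.structureModule X, t = 0) := by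
  haveI := isIntegral_of_geom (X := X) k
  have hO1 := isFinLocFreeOfRank_one_of_isInvertible (InvGen.isInvertible_structureModule X)
  have hL1 := isFinLocFreeOfRank_one_of_isInvertible hL
  have hdO : Curv2.deg k X (Coh.structureModule X) 1 = 0 := DegTensor.deg_structureModule_one k
  constructor
  · intro t
    by_contra ht
    haveI := HiggsInv.isIso_of_ne_zero_of_deg_eq k hdim hO1 hL1 t ht (by rw [hdO, hdeg])
    exact hne ⟨(asIso t).symm⟩
  · intro t
    by_contra ht
    haveI := HiggsInv.isIso_of_ne_zero_of_deg_eq k hdim hL1 hO1 t ht (by rw [hdO, hdeg])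
    exact hne ⟨asIso t⟩

include k in
/-- an extension of `L` by `L` has no maps to or from `O` -/
theorem hom_ext_eq_zero (hdim : topologicalKrullDim X ≤ 1) (S : ShortComplex X.Modules)
    (hS : S.ShortExact) {L : X.Modules} (hL : PicF.IsInvertible L)
    (hdeg : Curv2.deg k X L 1 = 0) (hne : ¬ Nonempty (L ≅ Coh.structureModule X))
    (a₁ : S.X₁ ≅ L) (a₃ : S.X₃ ≅ L) :
    (∀ s : Coh.structureModule X ⟶ S.X₂, s = 0) ∧ (∀ s : S.X₂ ⟶ Coh.structureModule X, s = 0) := by
  obtain ⟨h1, h2⟩ := hom_O_eq_zero k hdim hL hdeg hne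
  haveI := hS.mono_f
  haveI := hS.epi_g
  constructor
  · intro s
    have hz : s ≫ S.g = 0 := by
      have h := h1 ((s ≫ S.g) ≫ a₃.hom)
      calc s ≫ S.g = ((s ≫ S.g) ≫ a₃.hom) ≫ a₃.inv := by simp
        _ = 0 := by rw [h, zero_comp]
    have hl := hS.exact.lift_f s hz
    have hz2 : hS.exact.lift s hz = 0 := by
      have h := h1 (hS.exact.lift s hz ≫ a₁.hom)
      calc hS.exact.lift s hz = (hS.exact.lift s hz ≫ a₁.hom) ≫ a₁.inv := by simp
        _ = 0 := by rw [h, zero_comp]
    rw [← hl, hz2, zero_comp]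
  · intro s
    have hz : S.f ≫ s = 0 := by
      have h := h2 (a₁.inv ≫ S.f ≫ s)
      calc S.f ≫ s = a₁.hom ≫ a₁.inv ≫ S.f ≫ s := by simp
        _ = 0 := by rw [h, comp_zero]
    have hl := hS.exact.g_desc s hz
    have hz2 : hS.exact.desc s hz = 0 := by
      have h := h2 (a₃.inv ≫ hS.exact.desc s hz)
      calc hS.exact.desc s hz = a₃.hom ≫ a₃.inv ≫ hS.exact.desc s hz := by simp
        _ = 0 := by rw [h, comp_zero]
    rw [← hl, hz2, comp_zero]

end Groth.Agent.Lib.Helper11.AutExtA
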