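import Mathlib
import Groth.Prelude.Def_W4stkschemesremainderFib

set_option autoImplicit false
universe u
open CategoryTheory CategoryTheory.Limits AlgebraicGeometry TensorProduct

namespace Groth.Agent.Lib.Helper11.BddLib

/-- `p : T ⟶ Spec K` is represented by a finite `K`-algebra of rank at most `n`. -/
def Rep (K : Type u) [Field K] {T : Scheme.{u}} (p : T ⟶ Spec (CommRingCat.of K)) (n : ℕ) : Prop :=
  ∃ (A : Type u) (_ : CommRing A) (_ : Algebra K A), Module.Finite K A ∧ Module.finrank K A ≤ n ∧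
    ∃ e : T ≅ Spec (CommRingCat.of A), e.hom ≫ Spec.map (CommRingCat.ofHom (algebraMap K A)) = p

theorem isoSpec_comp (K : CommRingCat.{u}) {T : Scheme.{u}} [IsAffine T] (p : T ⟶ Spec K) :
    T.isoSpec.hom ≫ Spec.map ((Scheme.ΓSpecIso K).inv ≫ p.appTop) = p := by
  rw [Scheme.isoSpec_hom, Spec.map_comp, ← Scheme.toSpecΓ_naturality_assoc,
    toSpecΓ_SpecMap_ΓSpecIso_inv, Category.comp_id]

theorem rep_of_finiteOfDegLE (K : Type u) [Field K] {T : Scheme.{u}}
    (p : T ⟶ Spec (CommRingCat.of K)) (n : ℕ)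
    (h : BddFib.FiniteOfDegLE (CommRingCat.of K) p n) : Rep K p n := by
  obtain ⟨hT, hfin, hrk⟩ := h
  haveI := hT
  refine ⟨Γ(T, ⊤), inferInstance, BddFib.secAlgebra (CommRingCat.of K) p, hfin, hrk, T.isoSpec, ?_⟩
  exact isoSpec_comp (CommRingCat.of K) p

theorem finiteOfDegLE_of_rep (K : Type u) [Field K] {T : Scheme.{u}}
    (p : T ⟶ Spec (CommRingCat.of K)) (n : ℕ) (h : Rep K p n) :
    BddFib.FiniteOfDegLE (CommRingCat.of K) p n := by
  obtain ⟨A, iA, iAlg, hfin, hrk, e, he⟩ := h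
  letI : Algebra K Γ(T, ⊤) := BddFib.secAlgebra (CommRingCat.of K) p
  haveI : IsAffine T := IsAffine.of_isIso e.hom
  let ψ : A →+* Γ(T, ⊤) := ((Scheme.ΓSpecIso (CommRingCat.of A)).inv ≫ e.hom.appTop).hom
  haveI : IsIso e.hom.appTop := ⟨e.inv.appTop,
    by rw [← Scheme.Hom.comp_appTop, e.inv_hom_id, Scheme.Hom.id_appTop],
    by rw [← Scheme.Hom.comp_appTop, e.hom_inv_id, Scheme.Hom.id_appTop]⟩
  have hψ : Function.Bijective ψ :=
    ConcreteCategory.bijective_of_isIso ((Scheme.ΓSpecIso (CommRingCat.of A)).inv ≫ e.hom.appTop)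
  have hcompat : ∀ c : K, ψ (algebraMap K A c) = algebraMap K Γ(T, ⊤) c := by
    intro c
    have h1 : CommRingCat.ofHom (algebraMap K A) ≫ (Scheme.ΓSpecIso (CommRingCat.of A)).inv ≫
        e.hom.appTop = (Scheme.ΓSpecIso (CommRingCat.of K)).inv ≫ p.appTop := by
      rw [← he, Scheme.Hom.comp_appTop, Scheme.ΓSpecIso_inv_naturality_assoc]
    exact congrArg (fun f => f.hom c) h1
  let l : A →ₗ[K] Γ(T, ⊤) :=
    { toFun := ψ
      map_add' := map_add ψ
      map_smul' := fun c a => by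
        show ψ (c • a) = c • ψ a
        rw [Algebra.smul_def, Algebra.smul_def, map_mul, hcompat] }
  have hl : Function.Surjective l := hψ.2
  have hfin' : Module.Finite K Γ(T, ⊤) := Module.Finite.of_surjective l hl
  refine ⟨inferInstance, hfin', ?_⟩
  exact (LinearMap.finrank_le_finrank_of_surjective hl).trans hrk

theorem rep_of_iso {K : Type u} [Field K] {T T' : Scheme.{u}} {p : T ⟶ Spec (CommRingCat.of K)}
    {n : ℕ} (i : T' ≅ T) (p' : T' ⟶ Spec (CommRingCat.of K)) (hp : i.hom ≫ p = p')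
    (h : Rep K p n) : Rep K p' n := by
  obtain ⟨A, iA, iAlg, hfin, hrk, e, he⟩ := h
  exact ⟨A, iA, iAlg, hfin, hrk, i ≪≫ e, by rw [Iso.trans_hom, Category.assoc, he, hp]⟩

theorem rep_baseChange (K k : Type u) [Field K] [Field k] (φ : K →+* k) {T : Scheme.{u}}
    (p : T ⟶ Spec (CommRingCat.of K)) (n : ℕ) (h : Rep K p n) :
    Rep k (pullback.snd p (Spec.map (CommRingCat.ofHom φ))) n := by
  obtain ⟨A, iA, iAlg, hfin, hrk, e, he⟩ := h
  letI : Algebra K k := φ.toAlgebra
  have hsq : IsPullback (pullback.fst p (Spec.map (CommRingCat.ofHom φ)) ≫ e.hom)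
      (pullback.snd p (Spec.map (CommRingCat.ofHom φ)))
      (Spec.map (CommRingCat.ofHom (algebraMap K A))) (Spec.map (CommRingCat.ofHom φ)) := by
    have h1 := IsPullback.of_hasPullback p (Spec.map (CommRingCat.ofHom φ))
    have h2 : IsPullback e.hom p (Spec.map (CommRingCat.ofHom (algebraMap K A))) (𝟙 _) :=
      IsPullback.of_horiz_isIso ⟨by rw [he, Category.comp_id]⟩
    have h3 := h1.paste_horiz h2
    rwa [Category.comp_id] at h3
  have hsq' : IsPullback (pullback.snd p (Spec.map (CommRingCat.ofHom φ)))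
      (pullback.fst p (Spec.map (CommRingCat.ofHom φ)) ≫ e.hom)
      (Spec.map (CommRingCat.ofHom (algebraMap K k)))
      (Spec.map (CommRingCat.ofHom (algebraMap K A))) := hsq.flip
  refine ⟨k ⊗[K] A, inferInstance, inferInstance, inferInstance, ?_,
    hsq'.isoPullback ≪≫ pullbackSpecIso K k A, ?_⟩
  · rw [Module.finrank_baseChange]; exact hrk
  · rw [Iso.trans_hom, Category.assoc, pullbackSpecIso_hom_fst', IsPullback.isoPullback_hom_fst]

theorem rep_fibre {X Y : Scheme.{u}} (f : X ⟶ Y) (n : ℕ) (hf : BddFib.FibreDegLE f n) (y : Y) :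
    Rep (Y.residueField y) (f.fiberToSpecResidueField y) n :=
  rep_of_finiteOfDegLE _ _ n (hf y)

theorem rep_aux {X Y : Scheme.{u}} (f : X ⟶ Y) (n : ℕ) (hf : BddFib.FibreDegLE f n)
    (k : Type u) [Field k] (y : Y) (φ : Y.residueField y ⟶ CommRingCat.of k) :
    Rep k (pullback.snd f (Spec.map φ ≫ Y.fromSpecResidueField y)) n := by
  have h2 := rep_baseChange (Y.residueField y) k φ.hom (f.fiberToSpecResidueField y) n
    (rep_fibre f n hf y)
  exact rep_of_iso (pullbackLeftPullbackSndIso f (Y.fromSpecResidueField y) (Spec.map φ)).symm _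
    (pullbackLeftPullbackSndIso_inv_snd_snd f (Y.fromSpecResidueField y) (Spec.map φ)) h2

theorem rep_of_fibreDegLE {X Y : Scheme.{u}} (f : X ⟶ Y) (n : ℕ) (hf : BddFib.FibreDegLE f n)
    (k : Type u) [Field k] (g : Spec (CommRingCat.of k) ⟶ Y) : Rep k (pullback.snd f g) n := by
  have h := rep_aux f n hf k (g (IsLocalRing.closedPoint k))
    (Scheme.descResidueField (Scheme.stalkClosedPointTo g))
  rwa [Scheme.descResidueField_stalkClosedPointTo_fromSpecResidueField] at h

theorem fibreDegLE_iff {X Y : Scheme.{u}} (f : X ⟶ Y) (n : ℕ) :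
    BddFib.FibreDegLE f n ↔ ∀ (k : Type u) [Field k] (g : Spec (CommRingCat.of k) ⟶ Y),
      BddFib.FiniteOfDegLE (CommRingCat.of k) (Limits.pullback.snd f g) n := by
  constructor
  · intro hf k _ g
    exact finiteOfDegLE_of_rep k _ n (rep_of_fibreDegLE f n hf k g)
  · intro h y
    exact h (Y.residueField y) (Y.fromSpecResidueField y)

theorem card_primeSpectrum_le (K A : Type u) [Field K] [CommRing A] [Algebra K A]
    [Module.Finite K A] :
    Finite (PrimeSpectrum A) ∧ Nat.card (PrimeSpectrum A) ≤ Module.finrank K A := by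
  haveI : IsArtinianRing A := IsArtinianRing.of_finite K A
  refine ⟨inferInstance, ?_⟩
  classical
  letI : Fintype (MaximalSpectrum A) := Fintype.ofFinite _
  rw [Nat.card_congr (IsArtinianRing.primeSpectrumEquivMaximalSpectrum (R := A))]
  haveI : ∀ m : MaximalSpectrum A, Module.Finite K (A ⧸ m.asIdeal) := fun m =>
    Module.Finite.of_surjective (Ideal.Quotient.mkₐ K m.asIdeal).toLinearMap
      (Ideal.Quotient.mkₐ_surjective K m.asIdeal)
  let e := (IsArtinianRing.quotNilradicalEquivPi A).restrictScalars K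
  have h1 : Module.finrank K (A ⧸ nilradical A) ≤ Module.finrank K A :=
    LinearMap.finrank_le_finrank_of_surjective
      (f := (Ideal.Quotient.mkₐ K (nilradical A)).toLinearMap)
      (Ideal.Quotient.mkₐ_surjective K _)
  have h2 : Module.finrank K (A ⧸ nilradical A) =
      ∑ m : MaximalSpectrum A, Module.finrank K (A ⧸ m.asIdeal) := by
    rw [e.toLinearEquiv.finrank_eq, Module.finrank_pi_fintype]
  have h3 : ∀ m : MaximalSpectrum A, 1 ≤ Module.finrank K (A ⧸ m.asIdeal) := by
    intro m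
    haveI := m.isMaximal
    haveI : Nontrivial (A ⧸ m.asIdeal) := Ideal.Quotient.nontrivial_iff.mpr m.isMaximal.ne_top
    exact Module.finrank_pos
  calc Nat.card (MaximalSpectrum A) = ∑ m : MaximalSpectrum A, 1 := by
        simp [Nat.card_eq_fintype_card]
    _ ≤ ∑ m : MaximalSpectrum A, Module.finrank K (A ⧸ m.asIdeal) :=
        Finset.sum_le_sum fun m _ => h3 m
    _ = Module.finrank K (A ⧸ nilradical A) := h2.symm
    _ ≤ Module.finrank K A := h1

theorem finiteOfDegLE_of_isFinite (K : Type u) [Field K] {T : Scheme.{u}}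
    (p : T ⟶ Spec (CommRingCat.of K)) [IsFinite p] [Flat p] (s : Spec (CommRingCat.of K)) :
    BddFib.FiniteOfDegLE (CommRingCat.of K) p (p.finrank s) := by
  letI : Algebra K Γ(T, ⊤) := BddFib.secAlgebra (CommRingCat.of K) p
  haveI : IsAffine T := isAffine_of_isAffineHom p
  have hp : T.isoSpec.hom ≫ Spec.map (CommRingCat.ofHom (algebraMap K Γ(T, ⊤))) = p :=
    isoSpec_comp (CommRingCat.of K) p
  have hfinS : IsFinite (Spec.map (CommRingCat.ofHom (algebraMap K Γ(T, ⊤)))) := by
    have : Spec.map (CommRingCat.ofHom (algebraMap K Γ(T, ⊤))) = T.isoSpec.inv ≫ p := by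
      rw [← hp, Iso.inv_hom_id_assoc]
    rw [this]; infer_instance
  have hfin : Module.Finite K Γ(T, ⊤) :=
    RingHom.finite_algebraMap.mp ((IsFinite.SpecMap_iff _).mp hfinS)
  haveI := hfin
  haveI : Flat (Spec.map (CommRingCat.ofHom (algebraMap K Γ(T, ⊤)))) := by
    rw [Flat.SpecMap_iff]
    exact RingHom.flat_algebraMap_iff.mpr inferInstance
  refine ⟨inferInstance, hfin, le_of_eq ?_⟩
  have h1 : p.finrank s = (Spec.map (CommRingCat.ofHom (algebraMap K Γ(T, ⊤)))).finrank s := by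
    calc p.finrank s
        = (T.isoSpec.hom ≫ Spec.map (CommRingCat.ofHom (algebraMap K Γ(T, ⊤)))).finrank s := by
          rw [hp]
      _ = _ := by rw [Scheme.Hom.finrank_comp_left_of_isIso]
  rw [h1, Scheme.Hom.finrank_SpecMap_algebraMap, Module.rankAtStalk_eq_finrank_of_free]
  rfl

end Groth.Agent.Lib.Helper11.BddLib
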