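import Mathlib
import Groth.Agent.Lib.Helper11.BddLib

universe u

open CategoryTheory Limits AlgebraicGeometry

namespace Groth.Agent.Lib.Helper11.BddLib

theorem sum_finrank_le (K A : Type u) [Field K] [CommRing A] [Algebra K A] [Module.Finite K A]
    {ι : Type u} [Fintype ι] (L : ι → Type u) [∀ i, Field (L i)] [∀ i, Algebra K (L i)]
    (ev : ∀ i, A →ₐ[K] L i) (hsurj : ∀ i, Function.Surjective (ev i))
    (hne : ∀ i j, i ≠ j → RingHom.ker (ev i) ≠ RingHom.ker (ev j)) :
    ∑ i, Module.finrank K (L i) ≤ Module.finrank K A := by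
  classical
  have hmax : ∀ i, (RingHom.ker (ev i)).IsMaximal :=
    fun i => RingHom.ker_isMaximal_of_surjective (ev i) (hsurj i)
  have hcop : Pairwise (Function.onFun IsCoprime fun i => RingHom.ker (ev i)) := by
    intro i j hij
    exact Ideal.isCoprime_iff_sup_eq.mpr
      (Ideal.IsMaximal.coprime_of_ne (hmax i) (hmax j) (hne i j hij))
  let Φ : A →ₗ[K] (∀ i, L i) := LinearMap.pi (fun i => (ev i).toLinearMap)
  have hΦ : Function.Surjective Φ := by
    intro l
    choose a ha using fun i => hsurj i (l i)
    obtain ⟨r, hr⟩ := Ideal.exists_forall_sub_mem_ideal hcop a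
    refine ⟨r, funext fun i => ?_⟩
    have h0 : ev i (r - a i) = 0 := (RingHom.mem_ker).mp (hr i)
    rw [map_sub, sub_eq_zero] at h0
    show ev i r = l i
    rw [h0, ha]
  haveI : ∀ i, Module.Finite K (L i) :=
    fun i => Module.Finite.of_surjective (ev i).toLinearMap (hsurj i)
  calc ∑ i, Module.finrank K (L i) = Module.finrank K (∀ i, L i) :=
        (Module.finrank_pi_fintype (R := K)).symm
    _ ≤ Module.finrank K A := LinearMap.finrank_le_finrank_of_surjective hΦ

theorem ev_surjective (R : Type u) [CommRing R] [IsArtinianRing R] (P : Spec (CommRingCat.of R)) :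
    Function.Surjective ((Scheme.ΓSpecIso (CommRingCat.of R)).inv ≫
      (Spec (CommRingCat.of R)).Γevaluation P).hom := by
  have h1 := Scheme.Spec.algebraMap_residueFieldIso_inv (CommRingCat.of R) P
  have h2 : (Scheme.ΓSpecIso (CommRingCat.of R)).inv ≫ (Spec (CommRingCat.of R)).Γevaluation P =
      CommRingCat.ofHom (algebraMap R P.asIdeal.ResidueField) ≫
        (Scheme.Spec.residueFieldIso (CommRingCat.of R) P).inv := by
    rw [h1]; rfl
  rw [h2]
  have hs1 : Function.Surjective (algebraMap R P.asIdeal.ResidueField) :=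
    Ideal.algebraMap_residueField_surjective P.asIdeal
  have hs2 : Function.Surjective (Scheme.Spec.residueFieldIso (CommRingCat.of R) P).inv.hom :=
    ((Scheme.Spec.residueFieldIso (CommRingCat.of R) P).symm.commRingCatIsoToRingEquiv).surjective
  exact hs2.comp hs1

theorem ev_ker (R : Type u) [CommRing R] (P : Spec (CommRingCat.of R)) :
    RingHom.ker ((Scheme.ΓSpecIso (CommRingCat.of R)).inv ≫
      (Spec (CommRingCat.of R)).Γevaluation P).hom = P.asIdeal := by
  ext a
  rw [RingHom.mem_ker]
  have h1 : ((Scheme.ΓSpecIso (CommRingCat.of R)).inv ≫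
      (Spec (CommRingCat.of R)).Γevaluation P).hom a =
      (Spec (CommRingCat.of R)).evaluation ⊤ P trivial
        ((Scheme.ΓSpecIso (CommRingCat.of R)).inv a) := rfl
  rw [h1, Scheme.evaluation_eq_zero_iff_notMem_basicOpen, basicOpen_eq_of_affine]
  exact not_not

theorem residueDegree_comp_iso {T S B : Scheme.{u}} (e : T ⟶ S) [IsIso e] (q : S ⟶ B) (x : T) :
    (e ≫ q).residueDegree x = q.residueDegree (e x) := by
  letI a1 : Algebra (B.residueField ((e ≫ q) x)) (T.residueField x) :=
    ((e ≫ q).residueFieldMap x).hom.toAlgebra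
  letI a2 : Algebra (B.residueField (q (e x))) (S.residueField (e x)) :=
    (q.residueFieldMap (e x)).hom.toAlgebra
  have := Algebra.finrank_eq_of_equiv_equiv (R₀ := B.residueField (q (e x)))
    (S₀ := S.residueField (e x)) (R₁ := B.residueField ((e ≫ q) x)) (S₁ := T.residueField x)
    (RingEquiv.refl _) (asIso (e.residueFieldMap x)).commRingCatIsoToRingEquiv
    (RingHom.ext fun r => congr(($(Scheme.residueFieldMap_comp e q x)).hom r))
  exact this.symm

theorem spec_sum_le (K A : Type u) [Field K] [CommRing A] [Algebra K A] [Module.Finite K A] :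
    Finite (Spec (CommRingCat.of A)) ∧
      ∑ᶠ P : Spec (CommRingCat.of A),
        (Spec.map (CommRingCat.ofHom (algebraMap K A))).residueDegree P ≤ Module.finrank K A := by
  haveI : IsArtinianRing A := IsArtinianRing.of_finite K A
  haveI hfin : Finite (PrimeSpectrum A) := inferInstance
  haveI : Finite (Spec (CommRingCat.of A)) := hfin
  refine ⟨inferInstance, ?_⟩
  letI : Fintype (Spec (CommRingCat.of A)) := Fintype.ofFinite _
  rw [finsum_eq_sum_of_fintype]
  set q := Spec.map (CommRingCat.ofHom (algebraMap K A)) with hq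
  let evA : ∀ P : Spec (CommRingCat.of A), A →+* (Spec (CommRingCat.of A)).residueField P :=
    fun P => ((Scheme.ΓSpecIso (CommRingCat.of A)).inv ≫
      (Spec (CommRingCat.of A)).Γevaluation P).hom
  let evK : ∀ P : Spec (CommRingCat.of A), K →+* (Spec (CommRingCat.of K)).residueField (q P) :=
    fun P => ((Scheme.ΓSpecIso (CommRingCat.of K)).inv ≫
      (Spec (CommRingCat.of K)).Γevaluation (q P)).hom
  have hnat : ∀ P, (q.residueFieldMap P).hom.comp (evK P) = (evA P).comp (algebraMap K A) := by
    intro P
    have h1 := Scheme.Γevaluation_naturality q P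
    have h2 := Scheme.ΓSpecIso_inv_naturality (CommRingCat.ofHom (algebraMap K A))
    have h3 : ((Scheme.ΓSpecIso (CommRingCat.of K)).inv ≫
        (Spec (CommRingCat.of K)).Γevaluation (q P)) ≫ q.residueFieldMap P =
        CommRingCat.ofHom (algebraMap K A) ≫ ((Scheme.ΓSpecIso (CommRingCat.of A)).inv ≫
          (Spec (CommRingCat.of A)).Γevaluation P) := by
      rw [Category.assoc, h1, ← Category.assoc, ← h2, Category.assoc]
    exact congr(($h3).hom)
  letI algL : ∀ P : Spec (CommRingCat.of A),
      Algebra K ((Spec (CommRingCat.of A)).residueField P) :=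
    fun P => ((evA P).comp (algebraMap K A)).toAlgebra
  let ev : ∀ P : Spec (CommRingCat.of A), A →ₐ[K] ((Spec (CommRingCat.of A)).residueField P) :=
    fun P => { evA P with commutes' := fun r => rfl }
  have key := sum_finrank_le K A
    (fun P : Spec (CommRingCat.of A) => (Spec (CommRingCat.of A)).residueField P) ev
    (fun P => ev_surjective A P)
    (fun P P' hPP' hk => hPP' (PrimeSpectrum.ext ((ev_ker A P).symm.trans (hk.trans (ev_ker A P')))))
  refine le_trans (le_of_eq (Finset.sum_congr rfl fun P _ => ?_)) key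
  letI a1 : Algebra ((Spec (CommRingCat.of K)).residueField (q P))
      ((Spec (CommRingCat.of A)).residueField P) := (q.residueFieldMap P).hom.toAlgebra
  haveI : IsArtinianRing K := inferInstance
  let i : K ≃+* (Spec (CommRingCat.of K)).residueField (q P) :=
    RingEquiv.ofBijective (evK P) ⟨(evK P).injective, ev_surjective K (q P)⟩
  have := Algebra.finrank_eq_of_equiv_equiv (R₀ := K)
    (S₀ := (Spec (CommRingCat.of A)).residueField P)
    (R₁ := (Spec (CommRingCat.of K)).residueField (q P))
    (S₁ := (Spec (CommRingCat.of A)).residueField P) i (RingEquiv.refl _)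
    (RingHom.ext fun r => congr($(hnat P) r))
  exact this.symm

theorem rep_sum_le (K : Type u) [Field K] {T : Scheme.{u}} (p : T ⟶ Spec (CommRingCat.of K))
    (n : ℕ) (h : Rep K p n) : Finite T ∧ ∑ᶠ x : T, p.residueDegree x ≤ n := by
  obtain ⟨A, iA, iAlg, hfin, hrk, e, he⟩ := h
  subst he
  obtain ⟨hF, hS⟩ := spec_sum_le K A
  haveI := hF
  haveI : Finite T := Finite.of_equiv _ (Scheme.homeoOfIso e).symm.toEquiv
  refine ⟨inferInstance, le_trans (le_of_eq ?_) (hS.trans hrk)⟩
  refine Eq.trans ?_ (finsum_comp_equiv (Scheme.homeoOfIso e).toEquiv)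
  refine finsum_congr fun x => ?_
  exact residueDegree_comp_iso e.hom _ x

end Groth.Agent.Lib.Helper11.BddLib
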