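import Mathlib
import Groth.Agent.Lib.Helper11.BddLib2
import Groth.Agent.S9867

universe u

open CategoryTheory Limits AlgebraicGeometry

namespace Groth.Agent.Lib.Helper11.BddLib

theorem finiteOfDegLE_mono (K : CommRingCat.{u}) {T : Scheme.{u}} (p : T ⟶ Spec K) {n m : ℕ}
    (hnm : n ≤ m) (h : BddFib.FiniteOfDegLE K p n) : BddFib.FiniteOfDegLE K p m := by
  obtain ⟨a, b, c⟩ := h
  exact ⟨a, b, c.trans hnm⟩

theorem isFinite_of_rep {k : Type u} [Field k] {T : Scheme.{u}}
    {q : T ⟶ Spec (CommRingCat.of k)} {n : ℕ} (h : Rep k q n) : IsFinite q := by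
  obtain ⟨A, iA, iAlg, hfin, hrk, e, he⟩ := h
  subst he
  haveI : IsFinite (Spec.map (CommRingCat.ofHom (algebraMap k A))) :=
    (IsFinite.SpecMap_iff _).mpr (RingHom.finite_algebraMap.mpr hfin)
  infer_instance

theorem flat_of_rep {k : Type u} [Field k] {T : Scheme.{u}}
    {q : T ⟶ Spec (CommRingCat.of k)} {n : ℕ} (h : Rep k q n) : Flat q := by
  obtain ⟨A, iA, iAlg, hfin, hrk, e, he⟩ := h
  subst he
  haveI : Flat (Spec.map (CommRingCat.ofHom (algebraMap k A))) := by
    rw [Flat.SpecMap_iff]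
    exact RingHom.flat_algebraMap_iff.mpr inferInstance
  infer_instance

theorem lfp_of_rep {k : Type u} [Field k] {T : Scheme.{u}}
    {q : T ⟶ Spec (CommRingCat.of k)} {n : ℕ} (h : Rep k q n) : LocallyOfFinitePresentation q := by
  obtain ⟨A, iA, iAlg, hfin, hrk, e, he⟩ := h
  subst he
  haveI := hfin
  haveI : LocallyOfFinitePresentation (Spec.map (CommRingCat.ofHom (algebraMap k A))) := by
    rw [LocallyOfFinitePresentation.SpecMap_iff]
    exact RingHom.finitePresentation_algebraMap.mpr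
      (Algebra.FinitePresentation.of_finiteType.mp inferInstance)
  infer_instance

theorem finrank_le_of_rep {k : Type u} [Field k] {T : Scheme.{u}}
    {q : T ⟶ Spec (CommRingCat.of k)} {n : ℕ} (h : Rep k q n) [IsFinite q] [Flat q]
    (s : Spec (CommRingCat.of k)) : q.finrank s ≤ n := by
  obtain ⟨A, iA, iAlg, hfin, hrk, e, he⟩ := h
  subst he
  haveI := hfin
  haveI : IsFinite (Spec.map (CommRingCat.ofHom (algebraMap k A))) :=
    (IsFinite.SpecMap_iff _).mpr (RingHom.finite_algebraMap.mpr hfin)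
  haveI : Flat (Spec.map (CommRingCat.ofHom (algebraMap k A))) := by
    rw [Flat.SpecMap_iff]
    exact RingHom.flat_algebraMap_iff.mpr inferInstance
  refine le_trans (le_of_eq ?_) hrk
  rw [Scheme.Hom.finrank_comp_left_of_isIso, Scheme.Hom.finrank_SpecMap_algebraMap,
    Module.rankAtStalk_eq_finrank_of_free]
  rfl

theorem rep_descent (K k : Type u) [Field K] [Field k] (φ : K →+* k) {T : Scheme.{u}}
    (p : T ⟶ Spec (CommRingCat.of K)) (n : ℕ)
    (h : Rep k (pullback.snd p (Spec.map (CommRingCat.ofHom φ))) n) : Rep K p n := by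
  have hsurj : Surjective (Spec.map (CommRingCat.ofHom φ)) := by
    refine ⟨fun z => ?_⟩
    haveI : Subsingleton (Spec (CommRingCat.of K)) :=
      inferInstanceAs (Subsingleton (PrimeSpectrum K))
    obtain ⟨w⟩ : Nonempty (Spec (CommRingCat.of k)) :=
      inferInstanceAs (Nonempty (PrimeSpectrum k))
    exact ⟨w, Subsingleton.elim _ _⟩
  have hflat : Flat (Spec.map (CommRingCat.ofHom φ)) := by
    rw [Flat.SpecMap_iff]
    letI := φ.toAlgebra
    exact (inferInstance : Module.Flat K k)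
  have hQ : (@Surjective ⊓ @Flat ⊓ @QuasiCompact : MorphismProperty Scheme.{u})
      (Spec.map (CommRingCat.ofHom φ)) := ⟨⟨hsurj, hflat⟩, inferInstance⟩
  have hP : Mor2.IsFinLocFree (pullback.snd p (Spec.map (CommRingCat.ofHom φ))) :=
    ⟨isFinite_of_rep h, flat_of_rep h, lfp_of_rep h⟩
  have hdesc := (Groth.Agent.S9867.result.{u}).1
  have hp : Mor2.IsFinLocFree p :=
    hdesc.of_isPullback (IsPullback.of_hasPullback p (Spec.map (CommRingCat.ofHom φ))).flip hQ hP
  obtain ⟨hp1, hp2, hp3⟩ := hp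
  haveI := hp1
  haveI := hp2
  obtain ⟨s'⟩ : Nonempty (Spec (CommRingCat.of k)) :=
    inferInstanceAs (Nonempty (PrimeSpectrum k))
  have h1 := finiteOfDegLE_of_isFinite K p (Spec.map (CommRingCat.ofHom φ) s')
  have h2 : p.finrank (Spec.map (CommRingCat.ofHom φ) s') ≤ n := by
    haveI := isFinite_of_rep h
    haveI := flat_of_rep h
    rw [← Scheme.Hom.finrank_pullback_snd p (Spec.map (CommRingCat.ofHom φ)) s']
    exact finrank_le_of_rep h s'
  exact rep_of_finiteOfDegLE K p n (finiteOfDegLE_mono _ p h2 h1)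

theorem fibreDegLE_descent {X Y X' Y' : Scheme.{u}} (f : X ⟶ Y) (g : Y' ⟶ Y) [Surjective g]
    (f' : X' ⟶ Y') (g' : X' ⟶ X) (h : IsPullback g' f' f g) (n : ℕ)
    (hf' : BddFib.FibreDegLE f' n) : BddFib.FibreDegLE f n := by
  intro y
  obtain ⟨y', rfl⟩ := g.surjective y
  apply finiteOfDegLE_of_rep
  apply rep_descent (Y.residueField (g y')) (Y'.residueField y') (g.residueFieldMap y').hom
  have h1 : Rep (Y'.residueField y') (pullback.snd f' (Y'.fromSpecResidueField y')) n :=
    rep_of_fibreDegLE f' n hf' _ _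
  have hpaste := (IsPullback.of_hasPullback f' (Y'.fromSpecResidueField y')).paste_horiz h
  have h2 : Rep (Y'.residueField y') (pullback.snd f (Y'.fromSpecResidueField y' ≫ g)) n :=
    rep_of_iso hpaste.isoPullback.symm _ hpaste.isoPullback_inv_snd h1
  have h3 : Y'.fromSpecResidueField y' ≫ g =
      Spec.map (g.residueFieldMap y') ≫ Y.fromSpecResidueField (g y') :=
    (Scheme.Hom.SpecMap_residueFieldMap_fromSpecResidueField g y').symm
  rw [h3] at h2
  exact rep_of_iso (pullbackLeftPullbackSndIso f (Y.fromSpecResidueField (g y'))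
    (Spec.map (g.residueFieldMap y'))) _ (pullbackLeftPullbackSndIso_hom_snd _ _ _) h2

end Groth.Agent.Lib.Helper11.BddLib
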