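import Mathlib
import Groth.Agent.Lib.Helper11.BddLib

universe u

open CategoryTheory Limits AlgebraicGeometry

namespace Groth.Agent.Lib.Helper11.BddLib

theorem rep_of_flat_surjective (K : Type u) [Field K] {T W : Scheme.{u}}
    (pW : W ⟶ Spec (CommRingCat.of K)) (φ : T ⟶ W) [Flat φ] [Surjective φ] (n : ℕ)
    (h : Rep K (φ ≫ pW) n) : Rep K pW n := by
  obtain ⟨hFT, hDT⟩ : Finite T ∧ DiscreteTopology T := by
    obtain ⟨A, iA, iAlg, hfin, hrk, e, he⟩ := h
    haveI : IsArtinianRing A := IsArtinianRing.of_finite K A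
    haveI : Finite (Spec (CommRingCat.of A)) := inferInstanceAs (Finite (PrimeSpectrum A))
    haveI : DiscreteTopology (Spec (CommRingCat.of A)) :=
      inferInstanceAs (DiscreteTopology (PrimeSpectrum A))
    exact ⟨Finite.of_equiv _ (Scheme.homeoOfIso e).symm.toEquiv,
      (Scheme.homeoOfIso e).symm.discreteTopology⟩
  haveI := hFT
  haveI := hDT
  haveI : Finite W := Finite.of_surjective φ φ.surjective
  haveI : T1Space W := by
    refine ⟨fun w => ?_⟩
    rw [← closure_subset_iff_isClosed]
    intro y hy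
    have hsp : w ⤳ y := specializes_iff_mem_closure.mpr hy
    obtain ⟨t, rfl⟩ := φ.surjective y
    obtain ⟨t', ht', rfl⟩ := (Flat.generalizingMap φ) hsp
    have htt : t' = t := ht'.eq
    rw [htt]
    exact Set.mem_singleton _
  haveI : DiscreteTopology W := inferInstance
  haveI : IsAffine W := inferInstance
  apply rep_of_finiteOfDegLE
  obtain ⟨hTa, hTfin, hTrk⟩ := finiteOfDegLE_of_rep K (φ ≫ pW) n h
  haveI := hTa
  letI aT : Algebra K Γ(T, ⊤) := BddFib.secAlgebra (CommRingCat.of K) (φ ≫ pW)
  letI aW : Algebra K Γ(W, ⊤) := BddFib.secAlgebra (CommRingCat.of K) pW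
  haveI : Module.Finite K Γ(T, ⊤) := hTfin
  have hff : φ.appTop.hom.FaithfullyFlat :=
    (Flat.flat_and_surjective_iff_faithfullyFlat_of_isAffine φ).mp ⟨inferInstance, inferInstance⟩
  have hinj : Function.Injective φ.appTop.hom := hff.injective
  have hcompat : ∀ c : K, φ.appTop.hom (algebraMap K Γ(W, ⊤) c) = algebraMap K Γ(T, ⊤) c := by
    intro c
    have h1 : ((Scheme.ΓSpecIso (CommRingCat.of K)).inv ≫ pW.appTop) ≫ φ.appTop =
        (Scheme.ΓSpecIso (CommRingCat.of K)).inv ≫ (φ ≫ pW).appTop := by
      rw [Scheme.Hom.comp_appTop, Category.assoc]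
    exact congrArg (fun f => f.hom c) h1
  let l : Γ(W, ⊤) →ₗ[K] Γ(T, ⊤) :=
    { toFun := φ.appTop.hom
      map_add' := map_add φ.appTop.hom
      map_smul' := fun c a => by
        show φ.appTop.hom (c • a) = c • φ.appTop.hom a
        rw [Algebra.smul_def, Algebra.smul_def, map_mul, hcompat] }
  have hl : Function.Injective l := hinj
  have hfin' : Module.Finite K Γ(W, ⊤) := Module.Finite.of_injective l hl
  refine ⟨inferInstance, hfin', ?_⟩
  exact (LinearMap.finrank_le_finrank_of_injective hl).trans hTrk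

theorem fibreDegLE_of_comp_flat {X Y Z : Scheme.{u}} (f : X ⟶ Y) (h : Y ⟶ Z) [Flat f] [Surjective f]
    (n : ℕ) (hg : BddFib.FibreDegLE (f ≫ h) n) : BddFib.FibreDegLE h n := by
  intro z
  apply finiteOfDegLE_of_rep
  have h1 := rep_fibre (f ≫ h) n hg z
  haveI : Flat (pullback.snd f (pullback.fst h (Z.fromSpecResidueField z))) :=
    MorphismProperty.pullback_snd (P := @Flat) _ _ ‹Flat f›
  haveI : Surjective (pullback.snd f (pullback.fst h (Z.fromSpecResidueField z))) :=
    MorphismProperty.pullback_snd (P := @Surjective) _ _ ‹Surjective f›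
  have hpaste := (IsPullback.of_hasPullback f (pullback.fst h (Z.fromSpecResidueField z))).paste_vert
    (IsPullback.of_hasPullback h (Z.fromSpecResidueField z))
  have h2 : Rep (Z.residueField z)
      (pullback.snd f (pullback.fst h (Z.fromSpecResidueField z)) ≫
        pullback.snd h (Z.fromSpecResidueField z)) n :=
    rep_of_iso hpaste.isoPullback _ hpaste.isoPullback_hom_snd h1
  exact rep_of_flat_surjective (Z.residueField z) (pullback.snd h (Z.fromSpecResidueField z))
    (pullback.snd f (pullback.fst h (Z.fromSpecResidueField z))) n h2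

end Groth.Agent.Lib.Helper11.BddLib
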