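import Mathlib
import Groth.Agent.Lib.Helper11.BddLib3

universe u

open CategoryTheory Limits AlgebraicGeometry

namespace Groth.Agent.Lib.Helper11.BddLib

theorem finrank_eq_card_of_isAlgClosed (k B : Type u) [Field k] [IsAlgClosed k] [CommRing B]
    [Algebra k B] [Module.Finite k B] [IsReduced B] :
    Module.finrank k B = Nat.card (PrimeSpectrum B) := by
  haveI : IsArtinianRing B := IsArtinianRing.of_finite k B
  classical
  letI : Fintype (MaximalSpectrum B) := Fintype.ofFinite _
  rw [Nat.card_congr (IsArtinianRing.primeSpectrumEquivMaximalSpectrum (R := B))]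
  haveI : ∀ m : MaximalSpectrum B, Module.Finite k (B ⧸ m.asIdeal) := fun m =>
    Module.Finite.of_surjective (Ideal.Quotient.mkₐ k m.asIdeal).toLinearMap
      (Ideal.Quotient.mkₐ_surjective k m.asIdeal)
  let e := (IsArtinianRing.equivPi B).restrictScalars k
  have h2 : Module.finrank k B = ∑ m : MaximalSpectrum B, Module.finrank k (B ⧸ m.asIdeal) := by
    rw [e.toLinearEquiv.finrank_eq, Module.finrank_pi_fintype]
  have h3 : ∀ m : MaximalSpectrum B, Module.finrank k (B ⧸ m.asIdeal) = 1 := by
    intro m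
    haveI := m.isMaximal
    haveI : Algebra.IsIntegral k (B ⧸ m.asIdeal) := Algebra.IsIntegral.of_finite k _
    have hb := IsAlgClosed.algebraMap_bijective_of_isIntegral (k := k) (K := B ⧸ m.asIdeal)
    have h4 := (LinearEquiv.ofBijective (Algebra.linearMap k (B ⧸ m.asIdeal)) hb).finrank_eq
    rw [← h4, Module.finrank_self]
  rw [h2, Finset.sum_congr rfl (fun m _ => h3 m)]
  simp [Nat.card_eq_fintype_card]

theorem quasiFinite_of_etale {R S : Type u} [CommRing R] [CommRing S] (φ : R →+* S)
    (h : φ.Etale) : φ.QuasiFinite := by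
  letI := φ.toAlgebra
  haveI : Algebra.Etale R S := h
  show Algebra.QuasiFinite R S
  infer_instance

theorem rep_of_etale_algClosed (k : Type u) [Field k] [IsAlgClosed k] {T : Scheme.{u}}
    (p : T ⟶ Spec (CommRingCat.of k)) [Etale p] (n : ℕ) (hT : Finite T ∧ Nat.card T ≤ n) :
    Rep k p n := by
  obtain ⟨hfin, hcard⟩ := hT
  haveI := hfin
  haveI : LocallyQuasiFinite p := by
    rw [HasRingHomProperty.iff_appLE (P := @LocallyQuasiFinite)]
    intro U V e
    have h1 := (HasRingHomProperty.iff_appLE (P := @Etale)).mp ‹Etale p› U V e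
    exact quasiFinite_of_etale _ h1
  haveI : DiscreteTopology T := by
    haveI : Subsingleton (Spec (CommRingCat.of k)) :=
      inferInstanceAs (Subsingleton (PrimeSpectrum k))
    let y0 : ↥(Spec (CommRingCat.of k)) := IsLocalRing.closedPoint k
    have hd := Scheme.Hom.isDiscrete_preimage_singleton p y0
    have hsub : (Set.univ : Set T) ⊆ p ⁻¹' {y0} := fun t _ => Subsingleton.elim (p t) y0
    exact isDiscrete_univ_iff.mp (hd.mono hsub)
  haveI : IsAffine T := inferInstance
  letI : Algebra k Γ(T, ⊤) := BddFib.secAlgebra (CommRingCat.of k) p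
  have hp : T.isoSpec.hom ≫ Spec.map (CommRingCat.ofHom (algebraMap k Γ(T, ⊤))) = p :=
    isoSpec_comp (CommRingCat.of k) p
  have hEt : Etale (Spec.map (CommRingCat.ofHom (algebraMap k Γ(T, ⊤)))) := by
    have : Spec.map (CommRingCat.ofHom (algebraMap k Γ(T, ⊤))) = T.isoSpec.inv ≫ p := by
      rw [← hp, Iso.inv_hom_id_assoc]
    rw [this]; infer_instance
  have hEt' : Algebra.Etale k Γ(T, ⊤) :=
    RingHom.etale_algebraMap.mp ((HasRingHomProperty.Spec_iff (P := @Etale)).mp hEt)
  haveI := hEt'
  haveI : Module.Finite k Γ(T, ⊤) := Algebra.FormallyUnramified.finite_of_free k _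
  haveI : IsReduced Γ(T, ⊤) := Algebra.FormallyUnramified.isReduced_of_field k _
  refine ⟨Γ(T, ⊤), inferInstance, inferInstance, inferInstance, ?_, T.isoSpec, hp⟩
  rw [finrank_eq_card_of_isAlgClosed k Γ(T, ⊤)]
  exact (Nat.card_congr (Scheme.homeoOfIso T.isoSpec).toEquiv).symm.trans_le hcard

theorem fibreDegLE_of_etale {X Y : Scheme.{u}} (f : X ⟶ Y) [Etale f] (n : ℕ)
    (h : ∀ (k : Type u) [Field k] (g : Spec (CommRingCat.of k) ⟶ Y),
      Finite ↥(Limits.pullback f g) ∧ Nat.card ↥(Limits.pullback f g) ≤ n) :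
    BddFib.FibreDegLE f n := by
  intro y
  apply finiteOfDegLE_of_rep
  apply rep_descent (Y.residueField y) (AlgebraicClosure (Y.residueField y))
    (algebraMap (Y.residueField y) (AlgebraicClosure (Y.residueField y)))
  have key : Rep (AlgebraicClosure (Y.residueField y))
      (pullback.snd f (Spec.map (CommRingCat.ofHom
        (algebraMap (Y.residueField y) (AlgebraicClosure (Y.residueField y)))) ≫
          Y.fromSpecResidueField y)) n :=
    rep_of_etale_algClosed _ _ n (h _ _)
  exact rep_of_iso (pullbackLeftPullbackSndIso f (Y.fromSpecResidueField y) (Spec.map _)) _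
    (pullbackLeftPullbackSndIso_hom_snd _ _ _) key

end Groth.Agent.Lib.Helper11.BddLib
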