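import Mathlib

universe u

namespace Groth.Agent.Lib.Helper11.DimLib

theorem es_finrank {K M N P : Type*} [Field K] [AddCommGroup M] [AddCommGroup N] [AddCommGroup P]
    [Module K M] [Module K N] [Module K P]
    (f : M →ₗ[K] N) (g : N →ₗ[K] P) (hex : Function.Exact f g) (hg : Function.Surjective g)
    [Module.Finite K M] [Module.Finite K P] :
    Module.Finite K N ∧ Module.finrank K N ≤ Module.finrank K M + Module.finrank K P ∧
      (Function.Injective f → Module.finrank K N = Module.finrank K M + Module.finrank K P) := by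
  haveI : Module.Finite K N := Module.Finite.of_exact hex hg
  have h1 := LinearMap.finrank_range_add_finrank_ker g
  have h2 : Module.finrank K (LinearMap.range g) = Module.finrank K P := by
    rw [LinearMap.range_eq_top.mpr hg, finrank_top]
  have h3 : LinearMap.ker g = LinearMap.range f := LinearMap.exact_iff.mp hex
  refine ⟨inferInstance, ?_, fun hf => ?_⟩
  · have h4 := LinearMap.finrank_range_le f
    rw [h3] at h1; omega
  · have h4 := LinearMap.finrank_range_of_inj hf
    rw [h3] at h1; omega

theorem exact_seq (K : Type u) {C : Type u} [Field K] [CommRing C] [Algebra K C]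
    (IC JC mC : Ideal C) (x' : C) (hJC : JC = IC ⊔ Ideal.span {x'})
    (hm : ∀ c ∈ mC, x' * c ∈ IC) :
    ∃ (ψ : (C ⧸ mC) →ₗ[K] (C ⧸ IC)) (φ : (C ⧸ IC) →ₗ[K] (C ⧸ JC)),
      Function.Exact ψ φ ∧ Function.Surjective φ ∧
        ((∀ c : C, x' * c ∈ IC → c ∈ mC) → Function.Injective ψ) := by
  have hIJ : IC ≤ JC := by rw [hJC]; exact le_sup_left
  have hxJ : x' ∈ JC := by rw [hJC]; exact Ideal.mem_sup_right (Ideal.subset_span rfl)
  have hker : mC ≤ LinearMap.ker ((Submodule.mkQ IC).comp (LinearMap.mulLeft C x')) := by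
    intro c hc
    rw [LinearMap.mem_ker]
    show Submodule.Quotient.mk (x' * c) = (0 : C ⧸ IC)
    rw [Submodule.Quotient.mk_eq_zero]
    exact hm c hc
  let ψC : (C ⧸ mC) →ₗ[C] (C ⧸ IC) :=
    Submodule.liftQ mC ((Submodule.mkQ IC).comp (LinearMap.mulLeft C x')) hker
  let φC : (C ⧸ IC) →ₗ[C] (C ⧸ JC) :=
    Submodule.liftQ IC (Submodule.mkQ JC) (by rw [Submodule.ker_mkQ]; exact hIJ)
  refine ⟨ψC.restrictScalars K, φC.restrictScalars K, ?_, ?_, ?_⟩
  · intro y
    constructor
    · intro hy
      obtain ⟨c, rfl⟩ := Submodule.Quotient.mk_surjective _ y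
      have hc : c ∈ JC := by
        have h0 : Submodule.Quotient.mk c = (0 : C ⧸ JC) := hy
        rwa [Submodule.Quotient.mk_eq_zero] at h0
      rw [hJC, Submodule.mem_sup] at hc
      obtain ⟨i, hi, z, hz, rfl⟩ := hc
      obtain ⟨d, rfl⟩ := Ideal.mem_span_singleton'.mp hz
      refine ⟨Submodule.Quotient.mk d, ?_⟩
      show Submodule.Quotient.mk (x' * d) = (Submodule.Quotient.mk (i + d * x') : C ⧸ IC)
      rw [eq_comm, Submodule.Quotient.eq]
      have h0 : i + d * x' - x' * d = i := by ring
      rw [h0]; exact hi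
    · rintro ⟨z, rfl⟩
      obtain ⟨d, rfl⟩ := Submodule.Quotient.mk_surjective _ z
      show Submodule.Quotient.mk (x' * d) = (0 : C ⧸ JC)
      rw [Submodule.Quotient.mk_eq_zero]
      exact JC.mul_mem_right d hxJ
  · intro y
    obtain ⟨c, rfl⟩ := Submodule.Quotient.mk_surjective _ y
    exact ⟨Submodule.Quotient.mk c, rfl⟩
  · intro hinj
    rw [injective_iff_map_eq_zero]
    intro z hz
    obtain ⟨d, rfl⟩ := Submodule.Quotient.mk_surjective _ z
    have h0 : Submodule.Quotient.mk (x' * d) = (0 : C ⧸ IC) := hz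
    rw [Submodule.Quotient.mk_eq_zero] at h0
    exact (Submodule.Quotient.mk_eq_zero _).mpr (hinj d h0)

theorem finrank_le_mul_of_fibres (K B C : Type u) [Field K] [CommRing B] [CommRing C]
    [Algebra K B] [Algebra B C] [Algebra K C] [IsScalarTower K B C] [Module.Finite K B] (n : ℕ)
    (H : ∀ m : Ideal B, m.IsMaximal → Module.Finite K (C ⧸ m.map (algebraMap B C)) ∧
      Module.finrank K (C ⧸ m.map (algebraMap B C)) ≤ n * Module.finrank K (B ⧸ m)) :
    Module.Finite K C ∧ Module.finrank K C ≤ n * Module.finrank K B := by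
  haveI : IsArtinianRing B := IsArtinianRing.of_finite K B
  haveI : IsNoetherianRing B := inferInstance
  have key : ∀ I : Ideal B, Module.Finite K (C ⧸ I.map (algebraMap B C)) ∧
      Module.finrank K (C ⧸ I.map (algebraMap B C)) ≤ n * Module.finrank K (B ⧸ I) := by
    intro I
    refine IsNoetherian.induction (P := fun I : Ideal B =>
      Module.Finite K (C ⧸ I.map (algebraMap B C)) ∧
      Module.finrank K (C ⧸ I.map (algebraMap B C)) ≤ n * Module.finrank K (B ⧸ I))
      (fun (I : Ideal B) ih => ?_) I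
    by_cases hI : I = ⊤
    · subst hI
      rw [Ideal.map_top]
      haveI : Subsingleton (C ⧸ (⊤ : Ideal C)) := Ideal.Quotient.subsingleton_iff.mpr rfl
      exact ⟨inferInstance, by rw [Module.finrank_zero_of_subsingleton]; exact Nat.zero_le _⟩
    · obtain ⟨J, hIJ, hmin⟩ : ∃ J : Ideal B, J ∈ {J : Ideal B | I < J} ∧
          ∀ J' ∈ {J : Ideal B | I < J}, ¬ J' < J :=
        IsArtinian.set_has_minimal {J : Ideal B | I < J} ⟨⊤, lt_top_iff_ne_top.mpr hI⟩
      have hIJ' : I < J := hIJ
      obtain ⟨x, hxJ, hxI⟩ := SetLike.exists_of_lt hIJ'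
      have hJ : J = I ⊔ Ideal.span {x} := by
        have h1 : I < I ⊔ Ideal.span {x} := by
          refine lt_of_le_of_ne le_sup_left (fun h => hxI ?_)
          rw [h]; exact Ideal.mem_sup_right (Ideal.subset_span rfl)
        have h2 : I ⊔ Ideal.span {x} ≤ J :=
          sup_le hIJ'.le ((Ideal.span_singleton_le_iff_mem _).mpr hxJ)
        exact ((lt_or_eq_of_le h2).resolve_left (hmin _ h1)).symm
      let m : Ideal B :=
        { carrier := {b | b * x ∈ I}
          add_mem' := fun {a b} ha hb => by
            show (a + b) * x ∈ I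
            rw [add_mul]; exact I.add_mem ha hb
          zero_mem' := by
            show (0 : B) * x ∈ I
            rw [zero_mul]; exact I.zero_mem
          smul_mem' := fun c a ha => by
            show c • a * x ∈ I
            rw [smul_eq_mul, mul_assoc]; exact Ideal.mul_mem_left I c ha }
      have hmmem : ∀ b, b ∈ m ↔ b * x ∈ I := fun b => Iff.rfl
      have hmmax : m.IsMaximal := by
        rw [Ideal.isMaximal_iff]
        refine ⟨fun h1 => hxI (by simpa using (hmmem 1).mp h1), fun m' b hmm' hbm hbm' => ?_⟩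
        have hbx : b * x ∉ I := fun h => hbm ((hmmem b).mpr h)
        have h1 : I < I ⊔ Ideal.span {b * x} := by
          refine lt_of_le_of_ne le_sup_left (fun h => hbx ?_)
          rw [h]; exact Ideal.mem_sup_right (Ideal.subset_span rfl)
        have h2 : I ⊔ Ideal.span {b * x} ≤ J :=
          sup_le hIJ'.le ((Ideal.span_singleton_le_iff_mem _).mpr (Ideal.mul_mem_left J b hxJ))
        have h3 : I ⊔ Ideal.span {b * x} = J := (lt_or_eq_of_le h2).resolve_left (hmin _ h1)
        have hx3 : x ∈ I ⊔ Ideal.span {b * x} := h3 ▸ hxJ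
        obtain ⟨i, hi, z, hz, hsum⟩ := Submodule.mem_sup.mp hx3
        obtain ⟨c, rfl⟩ := Ideal.mem_span_singleton'.mp hz
        have h4 : (1 - c * b) ∈ m := by
          rw [hmmem]
          have h0 : (1 - c * b) * x = i := by linear_combination (-1 : B) * hsum
          rw [h0]; exact hi
        have h5 : c * b ∈ m' := m'.mul_mem_left c hbm'
        have h6 : (1 : B) = (1 - c * b) + c * b := by ring
        rw [h6]; exact m'.add_mem (hmm' h4) h5
      obtain ⟨hHfin, hHrk⟩ := H m hmmax
      obtain ⟨hJfin, hJrk⟩ := ih J hIJ'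
      haveI := hHfin
      haveI := hJfin
      -- C side
      have hmC : ∀ c ∈ m.map (algebraMap B C),
          algebraMap B C x * c ∈ I.map (algebraMap B C) := by
        let N : Ideal C := Submodule.comap (LinearMap.mulLeft C (algebraMap B C x))
          (I.map (algebraMap B C))
        have hN : m.map (algebraMap B C) ≤ N := by
          rw [Ideal.map_le_iff_le_comap]
          intro b hb
          show algebraMap B C x * algebraMap B C b ∈ I.map (algebraMap B C)
          rw [← map_mul, mul_comm]
          exact Ideal.mem_map_of_mem _ ((hmmem b).mp hb)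
        exact fun c hc => hN hc
      have hJC : J.map (algebraMap B C) =
          I.map (algebraMap B C) ⊔ Ideal.span {algebraMap B C x} := by
        rw [hJ, Ideal.map_sup, Ideal.map_span, Set.image_singleton]
      obtain ⟨ψ, φ, hex, hsurj, -⟩ := exact_seq K (I.map (algebraMap B C)) (J.map (algebraMap B C))
        (m.map (algebraMap B C)) (algebraMap B C x) hJC hmC
      obtain ⟨hfinI, hrkI, -⟩ := es_finrank ψ φ hex hsurj
      -- B side
      obtain ⟨ψB, φB, hexB, hsurjB, hinjB⟩ := exact_seq K I J m x hJ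
        (fun b hb => by rw [mul_comm]; exact (hmmem b).mp hb)
      obtain ⟨-, -, hrkB⟩ := es_finrank ψB φB hexB hsurjB
      have hB := hrkB (hinjB (fun c hc => (hmmem c).mpr (by rwa [mul_comm])))
      refine ⟨hfinI, ?_⟩
      rw [hB, Nat.mul_add]
      linarith
  obtain ⟨h0fin, h0rk⟩ := key ⊥
  rw [Ideal.map_bot] at h0fin h0rk
  have eC := (AlgEquiv.quotientBot K C).toLinearEquiv
  have eB := (AlgEquiv.quotientBot K B).toLinearEquiv
  haveI := h0fin
  refine ⟨Module.Finite.equiv eC, ?_⟩
  rw [← eC.finrank_eq, ← eB.finrank_eq]; exact h0rk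

end Groth.Agent.Lib.Helper11.DimLib
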