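import Mathlib
import Groth.Agent.Lib.Helper11.BddLib
import Groth.Agent.Lib.Helper11.DimLib

universe u

open CategoryTheory Limits AlgebraicGeometry TensorProduct

namespace Groth.Agent.Lib.Helper11.BddLib

theorem finite_discrete_of_rep {K : Type u} [Field K] {T : Scheme.{u}}
    {p : T ⟶ Spec (CommRingCat.of K)} {n : ℕ} (h : Rep K p n) :
    Finite T ∧ DiscreteTopology T := by
  obtain ⟨A, iA, iAlg, hfin, hrk, e, he⟩ := h
  haveI : IsArtinianRing A := IsArtinianRing.of_finite K A
  haveI : Finite (Spec (CommRingCat.of A)) := inferInstanceAs (Finite (PrimeSpectrum A))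
  haveI : DiscreteTopology (Spec (CommRingCat.of A)) :=
    inferInstanceAs (DiscreteTopology (PrimeSpectrum A))
  exact ⟨Finite.of_equiv _ (Scheme.homeoOfIso e).symm.toEquiv,
    (Scheme.homeoOfIso e).symm.discreteTopology⟩

theorem rep_spec_iff (k' R' : Type u) [Field k'] [CommRing R'] [Algebra k' R'] (n : ℕ)
    (h : Rep k' (Spec.map (CommRingCat.ofHom (algebraMap k' R'))) n) :
    Module.Finite k' R' ∧ Module.finrank k' R' ≤ n := by
  obtain ⟨_, hfin, hrk⟩ := finiteOfDegLE_of_rep k' _ n h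
  letI aΓ : Algebra k' Γ(Spec (CommRingCat.of R'), ⊤) :=
    BddFib.secAlgebra (CommRingCat.of k') (Spec.map (CommRingCat.ofHom (algebraMap k' R')))
  haveI : Module.Finite k' Γ(Spec (CommRingCat.of R'), ⊤) := hfin
  let ψ : R' →+* Γ(Spec (CommRingCat.of R'), ⊤) := (Scheme.ΓSpecIso (CommRingCat.of R')).inv.hom
  have hψ : Function.Bijective ψ :=
    ConcreteCategory.bijective_of_isIso (Scheme.ΓSpecIso (CommRingCat.of R')).inv
  have hcompat : ∀ c : k', ψ (algebraMap k' R' c) =
      algebraMap k' Γ(Spec (CommRingCat.of R'), ⊤) c := by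
    intro c
    have h1 := Scheme.ΓSpecIso_inv_naturality (CommRingCat.ofHom (algebraMap k' R'))
    exact congrArg (fun f => f.hom c) h1
  let l : R' →ₗ[k'] Γ(Spec (CommRingCat.of R'), ⊤) :=
    { toFun := ψ
      map_add' := map_add ψ
      map_smul' := fun c a => by
        show ψ (c • a) = c • ψ a
        rw [Algebra.smul_def, Algebra.smul_def, map_mul, hcompat] }
  let e : R' ≃ₗ[k'] Γ(Spec (CommRingCat.of R'), ⊤) := LinearEquiv.ofBijective l hψ
  exact ⟨Module.Finite.equiv e.symm, by rw [e.finrank_eq]; exact hrk⟩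

theorem affine_bound (K : Type u) [Field K] (B C : Type u) [CommRing B] [CommRing C] [Algebra K B]
    [Module.Finite K B] [Algebra B C] [Algebra K C] [IsScalarTower K B C] (n : ℕ)
    (h : ∀ (k' : Type u) [Field k'] [Algebra B k'],
      Rep k' (pullback.snd (Spec.map (CommRingCat.ofHom (algebraMap B C)))
        (Spec.map (CommRingCat.ofHom (algebraMap B k')))) n) :
    Module.Finite K C ∧ Module.finrank K C ≤ n * Module.finrank K B := by
  apply DimLib.finrank_le_mul_of_fibres K B C n
  intro m hm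
  haveI := hm
  letI : Field (B ⧸ m) := Ideal.Quotient.field m
  have h1 := h (B ⧸ m)
  have h2 : Rep (B ⧸ m)
      (Spec.map (CommRingCat.ofHom (algebraMap (B ⧸ m) ((B ⧸ m) ⊗[B] C)))) n := by
    refine rep_of_iso ((pullbackSpecIso B (B ⧸ m) C).symm ≪≫ (pullbackSymmetry _ _)) _ ?_ h1
    rw [Iso.trans_hom, Iso.symm_hom, Category.assoc, pullbackSymmetry_hom_comp_snd,
      pullbackSpecIso_inv_fst']
  obtain ⟨h3fin, h3rk⟩ := rep_spec_iff (B ⧸ m) ((B ⧸ m) ⊗[B] C) n h2
  haveI := h3fin
  let e2 := Algebra.TensorProduct.quotIdealMapEquivQuotTensor C m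
  haveI : Module.Finite (B ⧸ m) (C ⧸ m.map (algebraMap B C)) :=
    Module.Finite.equiv e2.symm.toLinearEquiv
  have h4 : Module.finrank (B ⧸ m) (C ⧸ m.map (algebraMap B C)) ≤ n := by
    rw [e2.toLinearEquiv.finrank_eq]; exact h3rk
  haveI : IsScalarTower K (B ⧸ m) (C ⧸ m.map (algebraMap B C)) :=
    IsScalarTower.of_algebraMap_eq (fun a => by
      show Ideal.Quotient.mk _ (algebraMap K C a) =
        Ideal.Quotient.mk _ (algebraMap B C (algebraMap K B a))
      rw [← IsScalarTower.algebraMap_apply])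
  refine ⟨Module.Finite.trans (B ⧸ m) _, ?_⟩
  rw [← Module.finrank_mul_finrank K (B ⧸ m) (C ⧸ m.map (algebraMap B C)), mul_comm]
  exact Nat.mul_le_mul_right _ h4

theorem rep_comp (K : Type u) [Field K] {T W : Scheme.{u}} (qW : W ⟶ Spec (CommRingCat.of K))
    (π : T ⟶ W) (n m : ℕ) (hW : Rep K qW m)
    (hπ : ∀ (k' : Type u) [Field k'] (s : Spec (CommRingCat.of k') ⟶ W),
      Rep k' (pullback.snd π s) n) :
    Rep K (π ≫ qW) (n * m) := by
  obtain ⟨hFW, hDW⟩ : Finite W ∧ DiscreteTopology W := finite_discrete_of_rep hW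
  obtain ⟨B, iB, iAlgB, hBfin, hBrk, e, he⟩ := hW
  haveI := hBfin
  haveI := hFW
  haveI := hDW
  have hfib : ∀ w : W, Finite (π.fiber w) ∧ DiscreteTopology (π.fiber w) := fun w =>
    finite_discrete_of_rep (hπ (W.residueField w) (W.fromSpecResidueField w))
  have hdisc : ∀ w, _root_.IsDiscrete (π ⁻¹' {w}) := fun w => by
    haveI := (hfib w).2
    simpa [Scheme.Hom.range_fiberι] using
      (isDiscrete_univ_iff.mpr inferInstance).image (π.fiberι w).isEmbedding.toIsInducing
  haveI : DiscreteTopology T := by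
    have h0 := (isDiscrete_univ_iff.mpr hDW).preimage' π.continuous.continuousOn hdisc
    rw [Set.preimage_univ] at h0
    exact isDiscrete_univ_iff.mp h0
  haveI : Finite T := by
    have hfin : ∀ w ∈ (Set.univ : Set W), (π ⁻¹' {w}).Finite := fun w _ => by
      haveI := (hfib w).1
      rw [← Scheme.Hom.range_fiberι]
      exact Set.finite_range _
    have h0 := Set.Finite.preimage' Set.finite_univ hfin
    rw [Set.preimage_univ] at h0
    exact Set.finite_univ_iff.mp h0
  haveI : IsAffine T := inferInstance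
  let π' : Spec Γ(T, ⊤) ⟶ Spec (CommRingCat.of B) := T.isoSpec.inv ≫ π ≫ e.hom
  let β : CommRingCat.of B ⟶ Γ(T, ⊤) := Spec.preimage π'
  have hβ : Spec.map β = π' := Spec.map_preimage π'
  letI algBC : Algebra B Γ(T, ⊤) := β.hom.toAlgebra
  letI algKC : Algebra K Γ(T, ⊤) := (β.hom.comp (algebraMap K B)).toAlgebra
  haveI : IsScalarTower K B Γ(T, ⊤) := IsScalarTower.of_algebraMap_eq (fun _ => rfl)
  have hbound := affine_bound K B Γ(T, ⊤) n (by
    intro k' _ _
    have hβ' : Spec.map (CommRingCat.ofHom (algebraMap B Γ(T, ⊤))) = π' := hβ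
    rw [hβ']
    have hpb : IsPullback (pullback.fst π (Spec.map (CommRingCat.ofHom (algebraMap B k')) ≫ e.inv) ≫
        T.isoSpec.hom) (pullback.snd π (Spec.map (CommRingCat.ofHom (algebraMap B k')) ≫ e.inv))
        π' (Spec.map (CommRingCat.ofHom (algebraMap B k'))) :=
      IsPullback.of_iso (IsPullback.of_hasPullback π
        (Spec.map (CommRingCat.ofHom (algebraMap B k')) ≫ e.inv))
        (Iso.refl _) T.isoSpec (Iso.refl _) e (by simp) (by simp) (by simp [π']) (by simp)
    exact rep_of_iso hpb.isoPullback.symm _ hpb.isoPullback_inv_snd (hπ k' _))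
  refine ⟨Γ(T, ⊤), inferInstance, algKC, hbound.1,
    hbound.2.trans (Nat.mul_le_mul_left n hBrk), T.isoSpec, ?_⟩
  have h1 : CommRingCat.ofHom (algebraMap K Γ(T, ⊤)) =
      CommRingCat.ofHom (algebraMap K B) ≫ β := rfl
  rw [h1, Spec.map_comp, hβ]
  simp only [π', Category.assoc, Iso.hom_inv_id_assoc, he]

theorem fibreDegLE_comp {X Y Z : Scheme.{u}} (f : X ⟶ Y) (g : Y ⟶ Z) (n m : ℕ)
    (hf : BddFib.FibreDegLE f n) (hg : BddFib.FibreDegLE g m) :
    BddFib.FibreDegLE (f ≫ g) (n * m) := by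
  intro z
  apply finiteOfDegLE_of_rep
  have hW : Rep (Z.residueField z) (pullback.snd g (Z.fromSpecResidueField z)) m :=
    rep_fibre g m hg z
  have hπ : ∀ (k' : Type u) [Field k']
      (s : Spec (CommRingCat.of k') ⟶ pullback g (Z.fromSpecResidueField z)),
      Rep k' (pullback.snd (pullback.snd f (pullback.fst g (Z.fromSpecResidueField z))) s) n := by
    intro k' _ s
    exact rep_of_iso (pullbackLeftPullbackSndIso f (pullback.fst g (Z.fromSpecResidueField z)) s) _
      (pullbackLeftPullbackSndIso_hom_snd _ _ _)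
      (rep_of_fibreDegLE f n hf k' (s ≫ pullback.fst g (Z.fromSpecResidueField z)))
  have h2 := rep_comp (Z.residueField z) (pullback.snd g (Z.fromSpecResidueField z))
    (pullback.snd f (pullback.fst g (Z.fromSpecResidueField z))) n m hW hπ
  have hpaste := (IsPullback.of_hasPullback f (pullback.fst g (Z.fromSpecResidueField z))).paste_vert
    (IsPullback.of_hasPullback g (Z.fromSpecResidueField z))
  exact rep_of_iso hpaste.isoPullback.symm _ hpaste.isoPullback_inv_snd h2

end Groth.Agent.Lib.Helper11.BddLib
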