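import Mathlib
import Groth.Agent.Lib.Helper11.BddLib6

universe u

open CategoryTheory Limits AlgebraicGeometry TensorProduct

namespace Groth.Agent.Lib.Helper11.BddLib

theorem rep_of_cover (k : Type u) [Field k] {T : Scheme.{u}} (p : T ⟶ Spec (CommRingCat.of k))
    {ι : Type*} [Fintype ι] (Ti : ι → Scheme.{u}) (v : ∀ i, Ti i ⟶ T) [∀ i, IsOpenImmersion (v i)]
    (hcov : ∀ t : T, ∃ i, t ∈ Set.range (v i)) (n : ι → ℕ) (h : ∀ i, Rep k (v i ≫ p) (n i)) :
    Rep k p (∑ i, n i) := by
  have hfd : ∀ i, Finite (Ti i) ∧ DiscreteTopology (Ti i) := fun i => finite_discrete_of_rep (h i)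
  haveI : ∀ i, Finite (Ti i) := fun i => (hfd i).1
  haveI : ∀ i, DiscreteTopology (Ti i) := fun i => (hfd i).2
  haveI : Finite T := by
    refine Finite.of_surjective (fun q : Σ i, Ti i => v q.1 q.2) ?_
    intro t
    obtain ⟨i, ti, rfl⟩ := hcov t
    exact ⟨⟨i, ti⟩, rfl⟩
  haveI : DiscreteTopology T := by
    rw [discreteTopology_iff_isOpen_singleton]
    intro t
    obtain ⟨i, ti, rfl⟩ := hcov t
    have h0 := (v i).isOpenEmbedding.isOpenMap _ (isOpen_discrete ({ti} : Set (Ti i)))
    rwa [Set.image_singleton] at h0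
  haveI : IsAffine T := inferInstance
  apply rep_of_finiteOfDegLE
  have hF : ∀ i, BddFib.FiniteOfDegLE (CommRingCat.of k) (v i ≫ p) (n i) :=
    fun i => finiteOfDegLE_of_rep k _ _ (h i)
  letI aT : Algebra k Γ(T, ⊤) := BddFib.secAlgebra (CommRingCat.of k) p
  letI aTi : ∀ i, Algebra k Γ(Ti i, ⊤) := fun i => BddFib.secAlgebra (CommRingCat.of k) (v i ≫ p)
  haveI : ∀ i, Module.Finite k Γ(Ti i, ⊤) := fun i => by
    obtain ⟨_, b, _⟩ := hF i
    exact b
  have hrk : ∀ i, Module.finrank k Γ(Ti i, ⊤) ≤ n i := fun i => by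
    obtain ⟨_, _, c⟩ := hF i
    exact c
  have hcompat : ∀ i (c : k), (v i).appTop.hom (algebraMap k Γ(T, ⊤) c) =
      algebraMap k Γ(Ti i, ⊤) c := by
    intro i c
    have h1 : ((Scheme.ΓSpecIso (CommRingCat.of k)).inv ≫ p.appTop) ≫ (v i).appTop =
        (Scheme.ΓSpecIso (CommRingCat.of k)).inv ≫ (v i ≫ p).appTop := by
      rw [Scheme.Hom.comp_appTop, Category.assoc]
    exact congrArg (fun f => f.hom c) h1
  let li : ∀ i, Γ(T, ⊤) →ₗ[k] Γ(Ti i, ⊤) := fun i =>
    { toFun := (v i).appTop.hom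
      map_add' := map_add _
      map_smul' := fun c a => by
        show (v i).appTop.hom (c • a) = c • (v i).appTop.hom a
        rw [Algebra.smul_def, Algebra.smul_def, map_mul, hcompat] }
  let l : Γ(T, ⊤) →ₗ[k] (∀ i, Γ(Ti i, ⊤)) := LinearMap.pi li
  have hl : Function.Injective l := by
    rw [injective_iff_map_eq_zero]
    intro s hs
    have hs' : ∀ i, (v i).appTop.hom s = 0 := fun i => congrFun hs i
    refine TopCat.Presheaf.section_ext T.sheaf ⊤ s 0 (fun t ht => ?_)
    obtain ⟨i, ti, rfl⟩ := hcov t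
    have h1 := Scheme.Hom.germ_stalkMap_apply (v i) ⊤ ti trivial s
    have h2 : (v i).app ⊤ s = 0 := hs' i
    rw [h2, map_zero] at h1
    have hinj : Function.Injective ((v i).stalkMap ti).hom :=
      (ConcreteCategory.bijective_of_isIso ((v i).stalkMap ti)).1
    rw [map_zero]
    exact hinj (h1.trans (map_zero _).symm)
  haveI : Module.Finite k Γ(T, ⊤) := Module.Finite.of_injective l hl
  refine ⟨inferInstance, inferInstance, ?_⟩
  calc Module.finrank k Γ(T, ⊤) ≤ Module.finrank k (∀ i, Γ(Ti i, ⊤)) :=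
        LinearMap.finrank_le_finrank_of_injective hl
    _ = ∑ i, Module.finrank k Γ(Ti i, ⊤) := Module.finrank_pi_fintype (R := k)
    _ ≤ ∑ i, n i := Finset.sum_le_sum fun i _ => hrk i

theorem fibreDegLE_of_cover {X Y : Scheme.{u}} (f : X ⟶ Y) {ι : Type*} [Fintype ι]
    (W : ι → Scheme.{u}) (v : ∀ i, W i ⟶ X) [∀ i, IsOpenImmersion (v i)]
    (hcov : ∀ x : X, ∃ i, x ∈ Set.range (v i)) (n : ι → ℕ)
    (h : ∀ i, BddFib.FibreDegLE (v i ≫ f) (n i)) : BddFib.FibreDegLE f (∑ i, n i) := by
  intro y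
  apply finiteOfDegLE_of_rep
  let vi : ∀ i, pullback (v i ≫ f) (Y.fromSpecResidueField y) ⟶
      pullback f (Y.fromSpecResidueField y) := fun i =>
    pullback.map (v i ≫ f) (Y.fromSpecResidueField y) f (Y.fromSpecResidueField y) (v i) (𝟙 _) (𝟙 _)
      (by simp) (by simp)
  haveI : ∀ i, IsOpenImmersion (vi i) := fun i => by dsimp only [vi]; infer_instance
  refine rep_of_cover (Y.residueField y) (pullback.snd f (Y.fromSpecResidueField y))
    (fun i => pullback (v i ≫ f) (Y.fromSpecResidueField y)) vi ?_ n ?_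
  · intro t
    obtain ⟨i, w, hw⟩ := hcov (pullback.fst f (Y.fromSpecResidueField y) t)
    refine ⟨i, ?_⟩
    dsimp only [vi]
    rw [Scheme.Pullback.range_map]
    exact ⟨⟨w, hw⟩, ⟨pullback.snd f (Y.fromSpecResidueField y) t, rfl⟩⟩
  · intro i
    have h0 : vi i ≫ pullback.snd f (Y.fromSpecResidueField y) =
        pullback.snd (v i ≫ f) (Y.fromSpecResidueField y) := by
      dsimp only [vi, pullback.map]
      rw [pullback.lift_snd]
      exact Category.comp_id _
    rw [h0]
    exact rep_fibre (v i ≫ f) (n i) (h i) y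

theorem fibreDegLE_spec_of_span (R S' : Type u) [CommRing R] [CommRing S'] [Algebra R S'] (N : ℕ)
    (s : Fin N → S') (hs : Submodule.span R (Set.range s) = ⊤) :
    BddFib.FibreDegLE (Spec.map (CommRingCat.ofHom (algebraMap R S'))) N := by
  rw [fibreDegLE_iff]
  intro k _ g
  apply finiteOfDegLE_of_rep
  obtain ⟨γ, rfl⟩ := Spec.map_surjective g
  letI : Algebra R k := γ.hom.toAlgebra
  let π : (Fin N → R) →ₗ[R] S' := Fintype.linearCombination R s
  have hπ : Function.Surjective π := by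
    rw [← LinearMap.range_eq_top, Fintype.range_linearCombination, hs]
  have hπk : Function.Surjective (π.baseChange k) := by
    rw [LinearMap.baseChange_eq_ltensor]
    exact LinearMap.lTensor_surjective _ hπ
  haveI : Module.Finite k (k ⊗[R] S') := Module.Finite.of_surjective (π.baseChange k) hπk
  have hrk : Module.finrank k (k ⊗[R] S') ≤ N := by
    calc Module.finrank k (k ⊗[R] S') ≤ Module.finrank k (k ⊗[R] (Fin N → R)) :=
          LinearMap.finrank_le_finrank_of_surjective hπk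
      _ = Module.finrank k (Fin N → k) :=
          (TensorProduct.piScalarRight R k k (Fin N)).finrank_eq
      _ = N := Module.finrank_fin_fun k
  have h2 : Rep k (Spec.map (CommRingCat.ofHom (algebraMap k (k ⊗[R] S')))) N :=
    ⟨k ⊗[R] S', inferInstance, inferInstance, inferInstance, hrk, Iso.refl _, by simp⟩
  refine rep_of_iso (pullbackSymmetry _ _ ≪≫ pullbackSpecIso R k S') _ ?_ h2
  rw [Iso.trans_hom, Category.assoc, pullbackSpecIso_hom_fst', pullbackSymmetry_hom_comp_fst]
  rfl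

end Groth.Agent.Lib.Helper11.BddLib
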