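import Mathlib
import Groth.Agent.Lib.Helper11.BddLib7
import Groth.Agent.S7439

universe u

open CategoryTheory Limits AlgebraicGeometry TensorProduct TopologicalSpace

namespace Groth.Agent.Lib.Helper11.BddLib

theorem exists_local_bound {X Y : Scheme.{u}} (f : X ⟶ Y) [LocallyQuasiFinite f]
    [LocallyOfFiniteType f] (x : X) :
    ∃ (W : Scheme.{u}) (v : W ⟶ X) (_ : IsOpenImmersion v) (N : ℕ),
      x ∈ Set.range v ∧ BddFib.FibreDegLE (v ≫ f) N := by
  obtain ⟨V, hV, hfxV⟩ : ∃ V : Y.Opens, IsAffineOpen V ∧ f x ∈ V := by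
    obtain ⟨V, hV, hfxV, -⟩ := Opens.isBasis_iff_nbhd.mp Y.isBasis_affineOpens
      (U := ⊤) (x := f x) trivial
    exact ⟨V, hV, hfxV⟩
  obtain ⟨U, hU, hxU, hUV⟩ : ∃ U : X.Opens, IsAffineOpen U ∧ x ∈ U ∧ U ≤ f ⁻¹ᵁ V := by
    obtain ⟨U, hU, hxU, hUV⟩ := Opens.isBasis_iff_nbhd.mp X.isBasis_affineOpens
      (U := f ⁻¹ᵁ V) (x := x) hfxV
    exact ⟨U, hU, hxU, hUV⟩
  let φ : Γ(Y, V) ⟶ Γ(X, U) := f.appLE V U hUV
  have hft : φ.hom.FiniteType :=
    HasRingHomProperty.appLE @LocallyOfFiniteType f inferInstance ⟨V, hV⟩ ⟨U, hU⟩ hUV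
  have hqf : φ.hom.QuasiFinite :=
    HasRingHomProperty.appLE @LocallyQuasiFinite f inferInstance ⟨V, hV⟩ ⟨U, hU⟩ hUV
  letI alg : Algebra Γ(Y, V) Γ(X, U) := φ.hom.toAlgebra
  haveI : Algebra.FiniteType Γ(Y, V) Γ(X, U) := hft
  haveI : Algebra.QuasiFinite Γ(Y, V) Γ(X, U) := hqf
  let p : PrimeSpectrum Γ(X, U) := hU.primeIdealOf ⟨x, hxU⟩
  haveI : p.asIdeal.IsPrime := p.isPrime
  obtain ⟨S', hS'fg, r, hrp, hbij⟩ :=
    Algebra.QuasiFiniteAt.exists_fg_and_exists_notMem_and_awayMap_bijective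
      (R := Γ(Y, V)) p.asIdeal
  haveI hS'fin : Module.Finite Γ(Y, V) S' := Module.Finite.iff_fg.mpr hS'fg
  obtain ⟨N, s, hs⟩ := Module.Finite.exists_fin (R := Γ(Y, V)) (M := S')
  let r' : Γ(X, U) := S'.val.toRingHom r
  let a0 : Γ(Y, V) →+* S' := algebraMap Γ(Y, V) S'
  let a1 : S' →+* Localization.Away r := algebraMap S' (Localization.Away r)
  let a2 : Localization.Away r →+* Localization.Away r' :=
    Localization.awayMap S'.val.toRingHom r
  let b1 : Γ(X, U) →+* Localization.Away r' := algebraMap Γ(X, U) (Localization.Away r')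
  have hcomp : (a2.comp a1).comp a0 = b1.comp φ.hom := by
    have h1 : a2.comp a1 = b1.comp S'.val.toRingHom := IsLocalization.map_comp _
    rw [h1, RingHom.comp_assoc]
    rfl
  let v : Spec (CommRingCat.of (Localization.Away r')) ⟶ X :=
    Spec.map (CommRingCat.ofHom b1) ≫ hU.fromSpec
  haveI : IsOpenImmersion v := by dsimp only [v, b1]; infer_instance
  refine ⟨_, v, inferInstance, 1 * (1 * (N * 1)), ?_, ?_⟩
  · have hp : p ∈ Set.range (Spec.map (CommRingCat.ofHom b1)) := by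
      have h0 := PrimeSpectrum.localization_away_comap_range (Localization.Away r') r'
      show p ∈ Set.range (PrimeSpectrum.comap b1)
      rw [h0]; exact hrp
    obtain ⟨q, hq⟩ := hp
    refine ⟨q, ?_⟩
    show hU.fromSpec (Spec.map (CommRingCat.ofHom b1) q) = x
    rw [hq]; exact hU.fromSpec_primeIdealOf ⟨x, hxU⟩
  · have hring : φ ≫ CommRingCat.ofHom b1 =
        CommRingCat.ofHom a0 ≫ CommRingCat.ofHom a1 ≫ CommRingCat.ofHom a2 := by
      ext1
      exact hcomp.symm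
    have hfac : v ≫ f = Spec.map (CommRingCat.ofHom a2) ≫ Spec.map (CommRingCat.ofHom a1) ≫
        Spec.map (CommRingCat.ofHom a0) ≫ hV.fromSpec := by
      dsimp only [v]
      rw [Category.assoc, ← IsAffineOpen.SpecMap_appLE_fromSpec f hV hU hUV, ← Category.assoc,
        ← Spec.map_comp]
      show Spec.map (φ ≫ CommRingCat.ofHom b1) ≫ hV.fromSpec = _
      rw [hring, Spec.map_comp, Spec.map_comp, Category.assoc, Category.assoc]
    rw [hfac]
    haveI : IsIso (Spec.map (CommRingCat.ofHom a2)) := by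
      haveI : IsIso (CommRingCat.ofHom a2) := (ConcreteCategory.isIso_iff_bijective _).mpr hbij
      infer_instance
    refine fibreDegLE_comp _ _ 1 _ (Groth.Agent.S7439.result _) ?_
    refine fibreDegLE_comp _ _ 1 _ (Groth.Agent.S7439.result _) ?_
    refine fibreDegLE_comp _ _ N 1 ?_ (Groth.Agent.S7439.result _)
    exact fibreDegLE_spec_of_span Γ(Y, V) S' N s hs

theorem univBounded_of_lqf {X Y : Scheme.{u}} (f : X ⟶ Y) [LocallyQuasiFinite f]
    [LocallyOfFiniteType f] [CompactSpace X] : BddFib.UnivBounded f := by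
  choose W v hv N hx hN using exists_local_bound f
  haveI := hv
  obtain ⟨t, ht⟩ := isCompact_univ.elim_finite_subcover (fun x : X => Set.range (v x))
    (fun x => (v x).isOpenEmbedding.isOpen_range) (fun x _ => Set.mem_iUnion.mpr ⟨x, hx x⟩)
  refine ⟨∑ i : t, N i.1, ?_⟩
  refine fibreDegLE_of_cover f (ι := t) (fun i => W i.1) (fun i => v i.1) ?_ (fun i => N i.1)
    (fun i => hN i.1)
  intro x
  have h0 := ht (Set.mem_univ x)
  simp only [Set.mem_iUnion] at h0
  obtain ⟨y, hyt, hy⟩ := h0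
  exact ⟨⟨y, hyt⟩, hy⟩

end Groth.Agent.Lib.Helper11.BddLib
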