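import Mathlib

/-!
# Eilenberg swindle (helper11)
-/

set_option autoImplicit false
universe u v w

namespace Groth.Agent.Lib.Helper11

open Cardinal

variable (R : Type u) [CommRing R]

/-- split a finsupp valued in a product -/
noncomputable def finsuppProdSplit (α : Type v) (M N : Type w) [AddCommGroup M] [Module R M]
    [AddCommGroup N] [Module R N] : (α →₀ M × N) ≃ₗ[R] (α →₀ M) × (α →₀ N) where
  toFun g := (g.mapRange Prod.fst rfl, g.mapRange Prod.snd rfl)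
  invFun ab := Finsupp.zipWith Prod.mk rfl ab.1 ab.2
  map_add' := by intro g h; ext <;> simp
  map_smul' := by intro c g; ext <;> simp
  left_inv := by intro g; ext <;> simp
  right_inv := by intro ab; ext <;> simp

/-- shift: `M^(ℕ) ≃ M × M^(ℕ)` -/
noncomputable def finsuppNatShift (M : Type w) [AddCommGroup M] [Module R M] :
    (ℕ →₀ M) ≃ₗ[R] M × (ℕ →₀ M) :=
  (Finsupp.domLCongr Equiv.natEquivNatSumPUnit.{0}) ≪≫ₗ (Finsupp.sumFinsuppLEquivProdFinsupp R) ≪≫ₗ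
    (LinearEquiv.prodComm R _ _) ≪≫ₗ
    (LinearEquiv.prodCongr (Finsupp.uniqueLinearEquiv R M PUnit.unit) (LinearEquiv.refl R _))

theorem exists_equiv_nat_prod (ι : Type v) [Infinite ι] : Nonempty (ι ≃ ℕ × ι) := by
  rw [← Cardinal.eq]
  simp [Cardinal.mk_prod, Cardinal.aleph0_mul_eq (Cardinal.aleph0_le_mk ι)]

/-- for infinite `ι`, `R^(ι) ≃ (R^(ι))^(ℕ)` -/
theorem nonempty_finsupp_equiv_nat (ι : Type v) [Infinite ι] :
    Nonempty ((ι →₀ R) ≃ₗ[R] (ℕ →₀ (ι →₀ R))) := by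
  obtain ⟨e⟩ := exists_equiv_nat_prod ι
  exact ⟨(Finsupp.domLCongr e) ≪≫ₗ Finsupp.curryLinearEquiv R⟩

/-- the swindle: `P × (P × Q)^(ℕ) ≃ (P × Q)^(ℕ)` -/
noncomputable def swindle (P Q : Type w) [AddCommGroup P] [Module R P] [AddCommGroup Q] [Module R Q] :
    (P × (ℕ →₀ P × Q)) ≃ₗ[R] (ℕ →₀ P × Q) :=
  -- P × (P^(ℕ) × Q^(ℕ)) ≃ (P × P^(ℕ)) × Q^(ℕ) ≃ P^(ℕ) × Q^(ℕ)
  (LinearEquiv.prodCongr (LinearEquiv.refl R P) (finsuppProdSplit R ℕ P Q)) ≪≫ₗ
    (LinearEquiv.prodAssoc R P (ℕ →₀ P) (ℕ →₀ Q)).symm ≪≫ₗ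
    (LinearEquiv.prodCongr (finsuppNatShift R P).symm (LinearEquiv.refl R _)) ≪≫ₗ
    (finsuppProdSplit R ℕ P Q).symm

/-- Eilenberg swindle: if `P × Q ≃ F` with `F` free on an infinite set then `P × F ≃ F`. -/
theorem eilenberg_swindle (P Q : Type w) [AddCommGroup P] [Module R P] [AddCommGroup Q] [Module R Q]
    (ι : Type v) [Infinite ι] (e : (P × Q) ≃ₗ[R] (ι →₀ R)) :
    Nonempty ((P × (ι →₀ R)) ≃ₗ[R] (ι →₀ R)) := by
  obtain ⟨a⟩ := nonempty_finsupp_equiv_nat R ι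
  -- F ≃ (ℕ →₀ F) ≃ (ℕ →₀ P × Q)
  let b : (ι →₀ R) ≃ₗ[R] (ℕ →₀ P × Q) := a ≪≫ₗ (Finsupp.mapRange.linearEquiv e.symm)
  exact ⟨(LinearEquiv.prodCongr (LinearEquiv.refl R P) b) ≪≫ₗ swindle R P Q ≪≫ₗ b.symm⟩

/-- `P × Q ≃ F` free implies `P × F^(ℕ)` is free. -/
theorem free_prod_of_summand (P Q : Type w) [AddCommGroup P] [Module R P] [AddCommGroup Q] [Module R Q]
    (κ : Type v) (e : (P × Q) ≃ₗ[R] (κ →₀ R)) :
    Module.Free R (P × (ℕ × κ →₀ R)) := by
  let b : (ℕ × κ →₀ R) ≃ₗ[R] (ℕ →₀ P × Q) :=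
    (Finsupp.curryLinearEquiv R) ≪≫ₗ (Finsupp.mapRange.linearEquiv e.symm)
  exact Module.Free.of_equiv
    ((LinearEquiv.prodCongr (LinearEquiv.refl R P) b) ≪≫ₗ swindle R P Q ≪≫ₗ b.symm).symm

/-- a split injection gives a product decomposition -/
noncomputable def prodKerEquivOfSplit {P M : Type w} [AddCommGroup P] [Module R P] [AddCommGroup M]
    [Module R M] (i : P →ₗ[R] M) (s : M →ₗ[R] P) (h : ∀ p, s (i p) = p) :
    (P × LinearMap.ker s) ≃ₗ[R] M where
  toFun x := i x.1 + x.2.1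
  invFun m := (s m, ⟨m - i (s m), by simp [LinearMap.mem_ker, h]⟩)
  map_add' x y := by
    simp only [Prod.fst_add, map_add, Prod.snd_add, Submodule.coe_add]
    abel
  map_smul' c x := by
    simp only [Prod.smul_fst, map_smul, Prod.smul_snd, Submodule.coe_smul, RingHom.id_apply,
      smul_add]
  left_inv x := by
    obtain ⟨p, k, hk⟩ := x
    have hk' : s k = 0 := hk
    ext
    · simp [h, hk']
    · simp [h, hk']
  right_inv m := by simp

/-- every projective module becomes free after adding a free module -/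
theorem exists_free_prod_of_projective (P : Type u) [AddCommGroup P] [Module R P]
    [Module.Projective R P] : ∃ ι : Type u, Module.Free R (P × (ι →₀ R)) := by
  obtain ⟨s, hs⟩ := (Module.projective_def' (R := R) (P := P)).1 inferInstance
  have h : ∀ p, Finsupp.linearCombination R (id : P → P) (s p) = p := fun p =>
    congrArg (fun l : P →ₗ[R] P => l p) hs
  let e := prodKerEquivOfSplit R s (Finsupp.linearCombination R (id : P → P)) h
  exact ⟨ℕ × P, free_prod_of_summand R P (LinearMap.ker (Finsupp.linearCombination R (id : P → P))) P e⟩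

end Groth.Agent.Lib.Helper11
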