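import Mathlib
import Groth.Agent.Lib.Helper11.Swindle

/-!
# Modules over Bézout domains (helper11)
-/

set_option autoImplicit false
universe u

namespace Groth.Agent.Lib.Helper11

variable {R : Type u} [CommRing R] [IsDomain R]

/-- a principal ideal of a domain is free -/
theorem free_of_isPrincipal (I : Ideal R) [I.IsPrincipal] : Module.Free R I := by
  by_cases h : I = ⊥
  · subst h
    exact Module.Free.of_subsingleton R _
  · obtain ⟨d, hd⟩ := Submodule.IsPrincipal.principal I
    have hd0 : d ≠ 0 := by
      rintro rfl
      apply h
      rw [hd]
      simp
    subst hd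
    exact Module.Free.of_equiv (LinearEquiv.toSpanNonzeroSingleton R R d hd0)

/-- a finite module embedding into `R^m` over a Bézout domain is free -/
theorem free_of_injective_to_pi [IsBezout R] : ∀ (m : ℕ) (N : Type u) [AddCommGroup N] [Module R N]
    [Module.Finite R N] (g : N →ₗ[R] (Fin m → R)), Function.Injective g → Module.Free R N := by
  intro m
  induction m with
  | zero =>
    intro N _ _ _ g hg
    haveI : Subsingleton N := hg.subsingleton
    exact Module.Free.of_subsingleton R N
  | succ m ih =>
    intro N _ _ _ g hg
    let π : N →ₗ[R] R := (LinearMap.proj (Fin.last m)).comp g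
    let I : Ideal R := LinearMap.range π
    have hIfg : I.FG := by
      show (LinearMap.range π).FG
      rw [LinearMap.range_eq_map]
      exact Module.Finite.fg_top.map π
    haveI : I.IsPrincipal := IsBezout.isPrincipal_of_FG I hIfg
    haveI : Module.Free R I := free_of_isPrincipal I
    obtain ⟨s, hs⟩ := Module.projective_lifting_property π.rangeRestrict (LinearMap.id : I →ₗ[R] I)
      π.surjective_rangeRestrict
    have hs' : ∀ x, π.rangeRestrict (s x) = x := fun x => congrArg (fun l : I →ₗ[R] I => l x) hs
    let e := prodKerEquivOfSplit R s π.rangeRestrict hs'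
    haveI : Module.Finite R (LinearMap.ker π.rangeRestrict) :=
      Module.Finite.of_surjective ((LinearMap.snd R I _).comp e.symm.toLinearMap) (by
        intro k
        exact ⟨e (0, k), by simp⟩)
    let g' : LinearMap.ker π.rangeRestrict →ₗ[R] (Fin m → R) :=
      (LinearMap.funLeft R R Fin.castSucc).comp (g.comp (Submodule.subtype _))
    have hg' : Function.Injective g' := by
      rw [← LinearMap.ker_eq_bot, LinearMap.ker_eq_bot']
      intro k hk
      have hk0 : π k.1 = 0 := by
        have := k.2
        rw [LinearMap.mem_ker] at this
        exact congrArg Subtype.val this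
      have hgk : g k.1 = 0 := by
        funext i
        refine Fin.lastCases ?_ (fun j => ?_) i
        · exact hk0
        · exact congrFun hk j
      exact Subtype.ext (hg (by rw [hgk]; exact (map_zero g).symm))
    haveI : Module.Free R (LinearMap.ker π.rangeRestrict) := ih _ g' hg'
    exact Module.Free.of_equiv e

/-- finitely generated submodules of free modules over a Bézout domain are free -/
theorem free_of_fg_submodule_of_free [IsBezout R] (F : Type u) [AddCommGroup F] [Module R F]
    [Module.Free R F] (N : Submodule R F) (hN : N.FG) : Module.Free R N := by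
  classical
  let b := Module.Free.chooseBasis R F
  obtain ⟨S, hS⟩ := hN
  let T : Finset (Module.Free.ChooseBasisIndex R F) := S.biUnion (fun s => (b.repr s).support)
  have hsupp : ∀ x ∈ N, (b.repr x).support ⊆ T := by
    intro x hx
    rw [← hS] at hx
    induction hx using Submodule.span_induction with
    | mem s hs => exact Finset.subset_biUnion_of_mem (fun s => (b.repr s).support) hs
    | zero => simp
    | add x y _ _ hx hy =>
      rw [map_add]
      exact (Finsupp.support_add).trans (Finset.union_subset hx hy)
    | smul c x _ hx =>
      rw [map_smul]
      exact (Finsupp.support_smul).trans hx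
  let G : N →ₗ[R] (T → R) :=
    { toFun := fun n t => b.repr n.1 t.1
      map_add' := by intros; ext; simp
      map_smul' := by intros; ext; simp }
  have hG : Function.Injective G := by
    rw [← LinearMap.ker_eq_bot, LinearMap.ker_eq_bot']
    intro n hn
    have h0 : b.repr n.1 = 0 := by
      ext i
      by_cases hi : i ∈ T
      · exact congrFun hn ⟨i, hi⟩
      · have : i ∉ (b.repr n.1).support := fun h => hi (hsupp n.1 n.2 h)
        simpa using this
    exact Subtype.ext (b.repr.map_eq_zero_iff.1 h0)
  haveI : Module.Finite R N := Module.Finite.iff_fg.2 ⟨S, hS⟩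
  let e : T ≃ Fin (Fintype.card T) := Fintype.equivFin T
  have hinj : Function.Injective ((LinearEquiv.funCongrLeft R R e.symm).toLinearMap.comp G) := by
    intro x y hxy
    apply hG
    exact (LinearEquiv.funCongrLeft R R e.symm).injective hxy
  exact free_of_injective_to_pi _ N ((LinearEquiv.funCongrLeft R R e.symm).toLinearMap.comp G) hinj

end Groth.Agent.Lib.Helper11
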