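import Mathlib
import Groth.Agent.Lib.Helper11.QFlat8

universe u
open CategoryTheory CategoryTheory.Limits AlgebraicGeometry TopologicalSpace Topology

namespace Groth.Agent.Lib.Helper11.Birat

/-- A point whose closure is an irreducible component has no proper generalization. -/
theorem eq_of_specializes_of_mem_irreducibleComponents {T : Type*} [TopologicalSpace T] [T0Space T]
    {y y' : T} (hy : closure {y} ∈ irreducibleComponents T) (h : y' ⤳ y) : y' = y := by
  have h1 : closure {y} ⊆ closure {y'} := specializes_iff_closure_subset.mp h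
  have h2 : closure {y'} ⊆ closure {y} := hy.2 (isIrreducible_singleton.closure) h1
  have h3 : y ⤳ y' := specializes_iff_closure_subset.mpr h2
  exact (h.antisymm h3).eq

/-- If the stalk map at `x` is surjective, then `x` has no proper specialization in its fibre. -/
theorem specializes_of_stalkMap_surjective {X Y : Scheme.{u}} (f : X ⟶ Y) {x x' : X}
    (h : x ⤳ x') (hf : f.base x = f.base x')
    (hs : Function.Surjective (f.stalkMap x)) : x' ⤳ x := by
  obtain ⟨V, hV, hyV⟩ : ∃ V : Y.Opens, IsAffineOpen V ∧ f.base x' ∈ V := by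
    obtain ⟨_, ⟨V, hV, rfl⟩, hyV, -⟩ :=
      Y.isBasis_affineOpens.exists_subset_of_mem_open (Set.mem_univ (f.base x')) isOpen_univ
    exact ⟨V, hV, hyV⟩
  obtain ⟨U, hU, hxU', hUV⟩ : ∃ U : X.Opens, IsAffineOpen U ∧ x' ∈ U ∧ U ≤ f ⁻¹ᵁ V := by
    obtain ⟨_, ⟨U, hU, rfl⟩, hxU', hUV⟩ :=
      X.isBasis_affineOpens.exists_subset_of_mem_open
        (show x' ∈ ((f ⁻¹ᵁ V : X.Opens) : Set X) from hyV) (f ⁻¹ᵁ V).2
    exact ⟨U, hU, hxU', hUV⟩
  have hxU : x ∈ U := h.mem_open U.2 hxU'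
  have hyV0 : f.base x ∈ V := hUV hxU
  rw [specializes_iff_forall_open]
  intro W hW hxW
  obtain ⟨b, hbW, hxb⟩ := hU.exists_basicOpen_le (V := ⟨W, hW⟩) ⟨x, hxW⟩ hxU
  apply hbW
  by_contra hx'b
  obtain ⟨a, ha⟩ := hs (X.presheaf.germ U x hxU b)
  letI := Y.presheaf.algebra_section_stalk ⟨f.base x, hyV0⟩
  haveI hloc := hV.isLocalization_stalk ⟨f.base x, hyV0⟩
  obtain ⟨⟨c, s⟩, hcs⟩ :=
    IsLocalization.surj (hV.primeIdealOf ⟨f.base x, hyV0⟩).asIdeal.primeCompl a
  have hsu : IsUnit (Y.presheaf.germ V (f.base x) hyV0 (s : Γ(Y, V))) :=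
    IsLocalization.map_units (Y.presheaf.stalk (f.base x)) s
  have hcs' : a * Y.presheaf.germ V (f.base x) hyV0 (s : Γ(Y, V)) =
      Y.presheaf.germ V (f.base x) hyV0 c := hcs
  have key : f.appLE V U hUV ≫ X.presheaf.germ U x hxU =
      Y.presheaf.germ V (f.base x) hyV0 ≫ f.stalkMap x := by
    rw [Scheme.Hom.appLE, Category.assoc, X.presheaf.germ_res]
    exact (Scheme.Hom.germ_stalkMap f V x hyV0).symm
  have key_apply : ∀ r, X.presheaf.germ U x hxU (f.appLE V U hUV r) =
      f.stalkMap x (Y.presheaf.germ V (f.base x) hyV0 r) := fun r =>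
    ConcreteCategory.congr_hom key r
  have E1 : X.presheaf.germ U x hxU (b * f.appLE V U hUV (s : Γ(Y, V))) =
      X.presheaf.germ U x hxU (f.appLE V U hUV c) := by
    rw [map_mul, key_apply, key_apply, ← ha, ← map_mul]
    exact congrArg (fun z => f.stalkMap x z) hcs'
  have F1 : f.base x ∈ Y.basicOpen (s : Γ(Y, V)) := (Y.mem_basicOpen _ _ hyV0).mpr hsu
  have F3 : x ∈ X.basicOpen (f.appLE V U hUV (s : Γ(Y, V))) := by
    rw [Scheme.basicOpen_appLE]; exact ⟨hxU, F1⟩
  have hd : x' ∉ X.basicOpen (b * f.appLE V U hUV (s : Γ(Y, V)) - f.appLE V U hUV c) := by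
    intro hx'd
    have hxd : x ∈ X.basicOpen (b * f.appLE V U hUV (s : Γ(Y, V)) - f.appLE V U hUV c) :=
      h.mem_open (X.basicOpen _).2 hx'd
    rw [X.mem_basicOpen _ x hxU, map_sub, E1, sub_self] at hxd
    exact not_isUnit_zero hxd
  have mem_iff : ∀ r : Γ(X, U), X.presheaf.germ U x' hxU' r ∈
      IsLocalRing.maximalIdeal (X.presheaf.stalk x') ↔ x' ∉ X.basicOpen r := fun r => by
    rw [IsLocalRing.mem_maximalIdeal, mem_nonunits_iff, X.mem_basicOpen r x' hxU']
  have h1 : X.presheaf.germ U x' hxU' (b * f.appLE V U hUV (s : Γ(Y, V))) ∈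
      IsLocalRing.maximalIdeal (X.presheaf.stalk x') := by
    rw [map_mul]
    exact Ideal.mul_mem_right _ _ ((mem_iff b).mpr hx'b)
  have h2 := (mem_iff _).mpr hd
  have h3 : X.presheaf.germ U x' hxU' (f.appLE V U hUV c) ∈
      IsLocalRing.maximalIdeal (X.presheaf.stalk x') := by
    have := Ideal.sub_mem _ h1 h2
    rwa [← map_sub, sub_sub_cancel] at this
  have h4 : x' ∉ X.basicOpen (f.appLE V U hUV c) := (mem_iff _).mp h3
  have h5 : f.base x' ∉ Y.basicOpen c := fun hc =>
    h4 (by rw [Scheme.basicOpen_appLE]; exact ⟨hxU', hc⟩)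
  have h6 : x ∉ X.basicOpen (f.appLE V U hUV c) := fun hx => by
    rw [Scheme.basicOpen_appLE] at hx
    have h7 : f.base x ∈ Y.basicOpen c := hx.2
    rw [hf] at h7
    exact h5 h7
  apply h6
  rw [X.mem_basicOpen _ x hxU, ← E1, ← X.mem_basicOpen _ x hxU, Scheme.basicOpen_mul]
  exact ⟨hxb, F3⟩

/-- A morphism whose image consists of generalizations of `x` factors through `Spec 𝒪_{X,x}`. -/
theorem exists_lift_fromSpecStalk {X P : Scheme.{u}} (g : P ⟶ X) (x : X)
    (hg : ∀ p : P, g.base p ⤳ x) :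
    ∃ g' : P ⟶ Spec (X.presheaf.stalk x), g' ≫ X.fromSpecStalk x = g := by
  obtain ⟨U, hU, hxU⟩ : ∃ U : X.Opens, IsAffineOpen U ∧ x ∈ U := by
    obtain ⟨_, ⟨U, hU, rfl⟩, hxU, -⟩ :=
      X.isBasis_affineOpens.exists_subset_of_mem_open (Set.mem_univ x) isOpen_univ
    exact ⟨U, hU, hxU⟩
  have hgU : ∀ p : P, g.base p ∈ U := fun p => (hg p).mem_open U.2 hxU
  have hle : (⊤ : P.Opens) ≤ g ⁻¹ᵁ U := fun p _ => hgU p
  letI := X.presheaf.algebra_section_stalk ⟨x, hxU⟩
  haveI hloc := hU.isLocalization_stalk ⟨x, hxU⟩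
  have hunit : ∀ r : (hU.primeIdealOf ⟨x, hxU⟩).asIdeal.primeCompl,
      IsUnit (g.appLE U ⊤ hle (r : Γ(X, U))) := by
    intro r
    have hxr : x ∈ X.basicOpen (r : Γ(X, U)) :=
      (X.mem_basicOpen _ x hxU).mpr (IsLocalization.map_units (X.presheaf.stalk x) r)
    refine RingedSpace.isUnit_of_isUnit_germ P.toRingedSpace ⊤ _ (fun p hp => ?_)
    refine (P.mem_basicOpen (g.appLE U ⊤ hle (r : Γ(X, U))) p hp).mp ?_
    rw [Scheme.basicOpen_appLE]
    exact ⟨hp, (hg p).mem_open (X.basicOpen _).2 hxr⟩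
  let φ₁ : X.presheaf.stalk x →+* Γ(P, ⊤) :=
    IsLocalization.lift (M := (hU.primeIdealOf ⟨x, hxU⟩).asIdeal.primeCompl)
      (g := (g.appLE U ⊤ hle).hom) hunit
  have hφ₁ : X.presheaf.germ U x hxU ≫ CommRingCat.ofHom φ₁ = g.appLE U ⊤ hle := by
    ext r
    exact IsLocalization.lift_eq hunit r
  refine ⟨P.toSpecΓ ≫ Spec.map (CommRingCat.ofHom φ₁), ?_⟩
  rw [← hU.fromSpecStalk_eq_fromSpecStalk hxU, IsAffineOpen.fromSpecStalk, Category.assoc,
    ← Spec.map_comp_assoc, hφ₁, ← cancel_epi P.topIso.hom, Scheme.topIso_hom]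
  calc (⊤ : P.Opens).ι ≫ P.toSpecΓ ≫ Spec.map (g.appLE U ⊤ hle) ≫ hU.fromSpec
      = ((⊤ : P.Opens).toSpecΓ ≫ Spec.map (g.appLE U ⊤ hle)) ≫ hU.fromSpec := by
        rw [Scheme.Opens.toSpecΓ_top]; simp only [Category.assoc]
    _ = (g.resLE U ⊤ hle ≫ U.toSpecΓ) ≫ hU.fromSpec := by
        rw [Scheme.Opens.toSpecΓ_SpecMap_appLE]
    _ = g.resLE U ⊤ hle ≫ U.ι := by rw [Category.assoc, hU.toSpecΓ_fromSpec]
    _ = (⊤ : P.Opens).ι ≫ g := Scheme.Hom.resLE_comp_ι _ _

/-- **S9677**: a birational morphism is an isomorphism over `Spec 𝒪_{Y,y}` for `y` generic. -/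
theorem isIso_snd_fromSpecStalk {X Y : Scheme.{u}} (f : X ⟶ Y)
    (hbij : Set.BijOn (fun x : X => f.base x) {x : X | closure {x} ∈ irreducibleComponents ↥X}
      {y : Y | closure {y} ∈ irreducibleComponents ↥Y})
    (hiso : ∀ x : X, closure {x} ∈ irreducibleComponents ↥X → IsIso (f.stalkMap x))
    (y : Y) (hy : closure {y} ∈ irreducibleComponents ↥Y) :
    IsIso (pullback.snd f (Y.fromSpecStalk y)) := by
  obtain ⟨x, hx, hxy⟩ := hbij.surjOn hy
  have hx' : closure {x} ∈ irreducibleComponents ↥X := hx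
  have hxy' : f.base x = y := hxy
  subst hxy'
  haveI := hiso x hx'
  have hfib : ∀ x' : X, f.base x' = f.base x → x' = x := by
    intro x' hx'y
    obtain ⟨ξ, hξcl, -⟩ := QFlat.exists_maxPt_of_mem_irreducibleComponents
      (irreducibleComponent_mem_irreducibleComponents x')
    have hξx' : ξ ⤳ x' := by
      rw [specializes_iff_mem_closure, hξcl]; exact mem_irreducibleComponent
    have hξgen : closure {ξ} ∈ irreducibleComponents ↥X := by
      rw [hξcl]; exact irreducibleComponent_mem_irreducibleComponents x'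
    have h1 : f.base ξ ⤳ f.base x := by
      rw [← hx'y]; exact hξx'.map f.continuous
    have h2 : f.base ξ = f.base x := eq_of_specializes_of_mem_irreducibleComponents hy h1
    have h3 : ξ = x := hbij.injOn hξgen hx' h2
    rw [h3] at hξx'
    have h4 : x' ⤳ x := specializes_of_stalkMap_surjective f hξx' hx'y.symm
      (ConcreteCategory.bijective_of_isIso (f.stalkMap x)).surjective
    exact (h4.antisymm hξx').eq
  have hfst : ∀ p : ↥(pullback f (Y.fromSpecStalk (f.base x))),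
      (pullback.fst f (Y.fromSpecStalk (f.base x))).base p = x := by
    intro p
    apply hfib
    have h1 : f.base ((pullback.fst f (Y.fromSpecStalk (f.base x))).base p) =
        (Y.fromSpecStalk (f.base x)).base ((pullback.snd f (Y.fromSpecStalk (f.base x))).base p) :=
      congrArg (fun g : pullback f (Y.fromSpecStalk (f.base x)) ⟶ Y => g.base p)
        (pullback.condition (f := f) (g := Y.fromSpecStalk (f.base x)))
    rw [h1]
    apply eq_of_specializes_of_mem_irreducibleComponents hy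
    exact (Scheme.range_fromSpecStalk (X := Y) (x := f.base x)).le
      ⟨(pullback.snd f (Y.fromSpecStalk (f.base x))).base p, rfl⟩
  obtain ⟨g, hg⟩ := exists_lift_fromSpecStalk (pullback.fst f (Y.fromSpecStalk (f.base x))) x
    (fun p => specializes_of_eq (hfst p))
  have hφ : Spec.map (f.stalkMap x) ≫ Y.fromSpecStalk (f.base x) = X.fromSpecStalk x ≫ f :=
    Scheme.SpecMap_stalkMap_fromSpecStalk f (x := x)
  have hgφ : g ≫ Spec.map (f.stalkMap x) = pullback.snd f (Y.fromSpecStalk (f.base x)) := by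
    rw [← cancel_mono (Y.fromSpecStalk (f.base x)), Category.assoc, hφ, ← Category.assoc, hg,
      pullback.condition]
  refine ⟨⟨pullback.lift (inv (Spec.map (f.stalkMap x)) ≫ X.fromSpecStalk x) (𝟙 _) ?_, ?_, ?_⟩⟩
  · rw [Category.assoc, ← hφ, IsIso.inv_hom_id_assoc, Category.id_comp]
  · apply pullback.hom_ext
    · rw [Category.assoc, pullback.lift_fst, Category.id_comp, ← hgφ, Category.assoc,
        IsIso.hom_inv_id_assoc, hg]
    · rw [Category.assoc, pullback.lift_snd, Category.id_comp, Category.comp_id]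
  · rw [pullback.lift_snd]

end Groth.Agent.Lib.Helper11.Birat
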