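import Mathlib
import Groth.Agent.Lib.Helper11.Birat1
import Groth.Agent.S7659
import Groth.Agent.S2145

universe u
open CategoryTheory CategoryTheory.Limits AlgebraicGeometry TopologicalSpace Topology

namespace Groth.Agent.Lib.Helper11.Birat

/-- A set containing all generic points of irreducible components is dense. -/
theorem dense_of_generic_mem {T : Type*} [TopologicalSpace T] [QuasiSober T] [T0Space T]
    {s : Set T} (hs : ∀ ξ : T, closure {ξ} ∈ irreducibleComponents T → ξ ∈ s) : Dense s := by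
  rw [dense_iff_inter_open]
  rintro O hO ⟨z, hz⟩
  obtain ⟨ξ, hξcl, -⟩ := QFlat.exists_maxPt_of_mem_irreducibleComponents
    (irreducibleComponent_mem_irreducibleComponents z)
  have hξz : ξ ⤳ z := by
    rw [specializes_iff_mem_closure, hξcl]; exact mem_irreducibleComponent
  exact ⟨ξ, hξz.mem_open hO hz,
    hs ξ (by rw [hξcl]; exact irreducibleComponent_mem_irreducibleComponents z)⟩

theorem isOpenImmersion_iSup_ι_comp {X Y : Scheme.{u}} (f : X ⟶ Y) {ι : Type*}
    (Wt : ι → X.Opens) (hoi : ∀ i, IsOpenImmersion ((Wt i).ι ≫ f))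
    (hinj : Set.InjOn f.base ((⨆ i, Wt i : X.Opens) : Set X)) :
    IsOpenImmersion ((⨆ i, Wt i).ι ≫ f) := by
  refine IsOpenImmersion.of_openCover_source _ (Scheme.Opens.iSupOpenCover Wt) ?_ ?_
  · intro u₁ u₂ h
    apply Subtype.ext
    exact hinj u₁.2 u₂.2 h
  · intro i
    have : (Scheme.Opens.iSupOpenCover Wt).f i ≫ (⨆ i, Wt i).ι ≫ f = (Wt i).ι ≫ f := by
      rw [← Category.assoc]
      congr 1
      exact X.homOfLE_ι (le_iSup Wt i)
    rw [this]
    exact hoi i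

theorem exists_dense_opens_iso {X Y : Scheme.{u}} (f : X ⟶ Y)
    (hXfin : (irreducibleComponents ↥X).Finite)
    (hbij : Set.BijOn (fun x : X => f.base x) {x : X | closure {x} ∈ irreducibleComponents ↥X}
      {y : Y | closure {y} ∈ irreducibleComponents ↥Y})
    (hloc : ∀ x : X, closure {x} ∈ irreducibleComponents ↥X →
      ∃ U : X.Opens, x ∈ U ∧ IsOpenImmersion (U.ι ≫ f)) :
    ∃ (U : X.Opens) (V : Y.Opens) (hUV : U ≤ f ⁻¹ᵁ V), Dense (U : Set ↥X) ∧ Dense (V : Set ↥Y) ∧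
      IsIso (f.resLE V U hUV) := by
  classical
  choose! W hxW hWoi using hloc
  let E : X → X.Opens := fun x =>
    ⟨(⋃ Z ∈ irreducibleComponents ↥X \ {closure {x}}, Z)ᶜ,
      (Set.Finite.isClosed_biUnion (hXfin.subset Set.sdiff_subset)
        (fun Z hZ => isClosed_of_mem_irreducibleComponents Z hZ.1)).isOpen_compl⟩
  have hE1 : ∀ x : X, closure {x} ∈ irreducibleComponents ↥X → x ∈ E x := by
    intro x hx
    change x ∉ (⋃ Z ∈ irreducibleComponents ↥X \ {closure {x}}, Z)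
    intro hmem
    obtain ⟨Z, hZ, hxZ⟩ := Set.mem_iUnion₂.mp hmem
    have h1 : closure {x} ⊆ Z := closure_minimal (Set.singleton_subset_iff.mpr hxZ)
      (isClosed_of_mem_irreducibleComponents Z hZ.1)
    have h2 : Z ⊆ closure {x} := hx.2 hZ.1.1 h1
    exact hZ.2 (Set.mem_singleton_iff.mpr (Set.Subset.antisymm h2 h1))
  have hE2 : ∀ x z : X, z ∈ E x → x ⤳ z := by
    intro x z hz
    have hz' : z ∉ (⋃ Z ∈ irreducibleComponents ↥X \ {closure {x}}, Z) := hz
    rw [specializes_iff_mem_closure]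
    by_contra hzx
    apply hz'
    refine Set.mem_iUnion₂.mpr ⟨irreducibleComponent z,
      ⟨irreducibleComponent_mem_irreducibleComponents z, ?_⟩, mem_irreducibleComponent⟩
    intro heq
    apply hzx
    rw [← Set.mem_singleton_iff.mp heq]
    exact mem_irreducibleComponent
  let Wt : {x : X // closure {x} ∈ irreducibleComponents ↥X} → X.Opens :=
    fun i => W i.1 ⊓ E i.1
  have hWt_oi : ∀ i, IsOpenImmersion ((Wt i).ι ≫ f) := by
    intro i
    haveI := hWoi i.1 i.2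
    have : (Wt i).ι ≫ f = X.homOfLE (inf_le_left : Wt i ≤ W i.1) ≫ ((W i.1).ι ≫ f) := by
      rw [← Category.assoc, X.homOfLE_ι]
    rw [this]; infer_instance
  have hmemWt : ∀ i, i.1 ∈ Wt i := fun i => ⟨hxW i.1 i.2, hE1 i.1 i.2⟩
  have hinj : Set.InjOn f.base ((⨆ i, Wt i : X.Opens) : Set X) := by
    intro u₁ hu₁ u₂ hu₂ h
    obtain ⟨i₁, h₁⟩ := TopologicalSpace.Opens.mem_iSup.mp hu₁
    obtain ⟨i₂, h₂⟩ := TopologicalSpace.Opens.mem_iSup.mp hu₂
    have hkey : f.base i₁.1 = f.base i₂.1 := by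
      haveI := hWt_oi i₁
      have hO : IsOpen (Set.range ((Wt i₁).ι ≫ f).base) :=
        ((Wt i₁).ι ≫ f).isOpenEmbedding.isOpen_range
      have hs2 : f.base i₂.1 ⤳ f.base u₁ := by
        rw [h]; exact (hE2 i₂.1 u₂ h₂.2).map f.continuous
      obtain ⟨w, hw⟩ := hs2.mem_open hO ⟨⟨u₁, h₁⟩, rfl⟩
      have hs1 : f.base i₁.1 ⤳ f.base i₂.1 := by
        rw [← hw]; exact (hE2 i₁.1 w.1 w.2.2).map f.continuous
      exact eq_of_specializes_of_mem_irreducibleComponents (hbij.mapsTo i₂.2) hs1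
    have hi : i₁ = i₂ := Subtype.ext (hbij.injOn i₁.2 i₂.2 hkey)
    subst hi
    haveI := hWoi i₁.1 i₁.2
    have hinj' := ((W i₁.1).ι ≫ f).isOpenEmbedding.injective
    have := @hinj' ⟨u₁, h₁.1⟩ ⟨u₂, h₂.1⟩ h
    exact congrArg Subtype.val this
  haveI hj := isOpenImmersion_iSup_ι_comp f Wt hWt_oi hinj
  have hUmem : ∀ ξ : X, closure {ξ} ∈ irreducibleComponents ↥X → ξ ∈ (⨆ i, Wt i : X.Opens) :=
    fun ξ hξ => TopologicalSpace.Opens.mem_iSup.mpr ⟨⟨ξ, hξ⟩, hmemWt ⟨ξ, hξ⟩⟩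
  have hUV : (⨆ i, Wt i : X.Opens) ≤ f ⁻¹ᵁ ((⨆ i, Wt i).ι ≫ f).opensRange :=
    fun u hu => ⟨⟨u, hu⟩, rfl⟩
  refine ⟨⨆ i, Wt i, ((⨆ i, Wt i).ι ≫ f).opensRange, hUV, ?_, ?_, ?_⟩
  · exact dense_of_generic_mem hUmem
  · apply dense_of_generic_mem
    intro η hη
    obtain ⟨ξ, hξ, rfl⟩ := hbij.surjOn hη
    exact ⟨⟨ξ, hUmem ξ hξ⟩, rfl⟩
  · have h1 : f.resLE _ _ hUV ≫ (((⨆ i, Wt i).ι ≫ f).opensRange).ι =
        ((⨆ i, Wt i).ι ≫ f).isoOpensRange.hom ≫ (((⨆ i, Wt i).ι ≫ f).opensRange).ι := by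
      rw [Scheme.Hom.resLE_comp_ι, Scheme.Hom.isoOpensRange_hom_ι]
    rw [(cancel_mono _).mp h1]
    infer_instance

theorem exists_away_isLocalization_of_fp {A B : Type u} [CommRing A] [CommRing B] [Algebra A B]
    [Algebra.FinitePresentation A B] (p : Ideal A) [p.IsPrime] (q : Ideal B) [q.IsPrime]
    (hpq : p = q.comap (algebraMap A B))
    (hbij : Function.Bijective (Localization.localRingHom p q (algebraMap A B) hpq)) :
    ∃ h : B, h ∉ q ∧ ∃ gf : A, ∀ (C : Type u) [CommRing C] [Algebra B C] [Algebra A C]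
      [IsScalarTower A B C] [IsLocalization.Away h C], IsLocalization.Away gf C := by
  let e' : Localization.AtPrime p ≃ₐ[A] Localization.AtPrime q :=
    AlgEquiv.ofBijective
      { toRingHom := Localization.localRingHom p q (algebraMap A B) hpq
        commutes' := fun a => by
          show Localization.localRingHom p q (algebraMap A B) hpq (algebraMap A _ a) = _
          rw [Localization.localRingHom_to_map]
          exact (IsScalarTower.algebraMap_apply A B (Localization.AtPrime q) a).symm }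
      hbij
  obtain ⟨g, g', hg, -, ⟨e₂⟩⟩ := Groth.Agent.S2145.result (R := A) (S := B) (S' := A) q p e'.symm
  refine ⟨g, hg, g', ?_⟩
  intro C _ _ _ _ _
  let e₁ : Localization.Away g ≃ₐ[B] C := IsLocalization.algEquiv (Submonoid.powers g) _ _
  exact IsLocalization.isLocalization_of_algEquiv (Submonoid.powers g')
    (e₂.symm.trans (e₁.restrictScalars A))

theorem exists_isOpenImmersion_of_isIso_stalkMap {X Y : Scheme.{u}} (f : X ⟶ Y)
    [LocallyOfFinitePresentation f] (x : X) (hx : IsIso (f.stalkMap x)) :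
    ∃ U : X.Opens, x ∈ U ∧ IsOpenImmersion (U.ι ≫ f) := by
  obtain ⟨_, ⟨V, hV, rfl⟩, hxV, -⟩ :=
    Y.isBasis_affineOpens.exists_subset_of_mem_open (Set.mem_univ (f.base x)) isOpen_univ
  obtain ⟨_, ⟨U, hU, rfl⟩, hxU, hUV⟩ :=
    X.isBasis_affineOpens.exists_subset_of_mem_open
      (show x ∈ ((f ⁻¹ᵁ V : X.Opens) : Set X) from hxV) (f ⁻¹ᵁ V).2
  have hUV' : U ≤ f ⁻¹ᵁ V := hUV
  letI algAB : Algebra Γ(Y, V) Γ(X, U) := (f.appLE V U hUV').hom.toAlgebra
  haveI fp : Algebra.FinitePresentation Γ(Y, V) Γ(X, U) := f.finitePresentation_appLE hV hU hUV'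
  haveI hpp : (hV.primeIdealOf ⟨f.base x, hUV' hxU⟩).asIdeal.IsPrime :=
    (hV.primeIdealOf ⟨f.base x, hUV' hxU⟩).isPrime
  haveI hqp : (hU.primeIdealOf ⟨x, hxU⟩).asIdeal.IsPrime := (hU.primeIdealOf ⟨x, hxU⟩).isPrime
  have hpq : (hV.primeIdealOf ⟨f.base x, hUV' hxU⟩).asIdeal =
      (hU.primeIdealOf ⟨x, hxU⟩).asIdeal.comap (algebraMap Γ(Y, V) Γ(X, U)) :=
    congr($(IsAffineOpen.comap_primeIdealOf_appLE V hV U hU hUV' hxU).1).symm
  have hbij : Function.Bijective (Localization.localRingHom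
      (hV.primeIdealOf ⟨f.base x, hUV' hxU⟩).asIdeal (hU.primeIdealOf ⟨x, hxU⟩).asIdeal
      (algebraMap Γ(Y, V) Γ(X, U)) hpq) := by
    have e := IsAffineOpen.arrowStalkMapIso f V hV U hU hUV' hxU
    haveI h2 : IsIso (CommRingCat.ofHom (Localization.localRingHom
        (hV.primeIdealOf ⟨f.base x, hUV' hxU⟩).asIdeal (hU.primeIdealOf ⟨x, hxU⟩).asIdeal
        (f.appLE V U hUV').hom
        congr($(IsAffineOpen.comap_primeIdealOf_appLE V hV U hU hUV' hxU).1).symm)) :=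
      ((MorphismProperty.isomorphisms CommRingCat).arrow_mk_iso_iff e).mp hx
    exact ConcreteCategory.bijective_of_isIso (CommRingCat.ofHom (Localization.localRingHom
        (hV.primeIdealOf ⟨f.base x, hUV' hxU⟩).asIdeal (hU.primeIdealOf ⟨x, hxU⟩).asIdeal
        (f.appLE V U hUV').hom
        congr($(IsAffineOpen.comap_primeIdealOf_appLE V hV U hU hUV' hxU).1).symm))
  obtain ⟨h, hhq, gf, hC⟩ := exists_away_isLocalization_of_fp
    (hV.primeIdealOf ⟨f.base x, hUV' hxU⟩).asIdeal (hU.primeIdealOf ⟨x, hxU⟩).asIdeal hpq hbij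
  letI := X.presheaf.algebra_section_stalk (⟨x, hxU⟩ : U)
  haveI := hU.isLocalization_stalk ⟨x, hxU⟩
  have hU' : IsAffineOpen (X.basicOpen h) := hU.basicOpen h
  have hU'U : X.basicOpen h ≤ U := X.basicOpen_le h
  have hxU' : x ∈ X.basicOpen h := by
    rw [Scheme.mem_basicOpen X h x hxU]
    exact (IsLocalization.AtPrime.isUnit_to_map_iff (X.presheaf.stalk x)
      (hU.primeIdealOf ⟨x, hxU⟩).asIdeal h).2 hhq
  have e' : X.basicOpen h ≤ f ⁻¹ᵁ V := hU'U.trans hUV'
  letI algAC : Algebra Γ(Y, V) Γ(X, X.basicOpen h) := (f.appLE V (X.basicOpen h) e').hom.toAlgebra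
  haveI : IsScalarTower Γ(Y, V) Γ(X, U) Γ(X, X.basicOpen h) := by
    refine IsScalarTower.of_algebraMap_eq' ?_
    simp only [RingHom.algebraMap_toAlgebra]
    rw [← CommRingCat.hom_comp, Scheme.Hom.appLE_map]
  haveI := hU.isLocalization_basicOpen h
  haveI hloc : IsLocalization.Away gf Γ(X, X.basicOpen h) := hC Γ(X, X.basicOpen h)
  have hoi : IsOpenImmersion (Spec.map (f.appLE V (X.basicOpen h) e')) :=
    IsOpenImmersion.of_isLocalization (R := Γ(Y, V)) (S := Γ(X, X.basicOpen h)) gf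
  refine ⟨X.basicOpen h, hxU', ?_⟩
  have heq : (X.basicOpen h).ι ≫ f =
      hU'.isoSpec.hom ≫ Spec.map (f.appLE V (X.basicOpen h) e') ≫ hV.fromSpec := by
    rw [IsAffineOpen.SpecMap_appLE_fromSpec f hV hU' e', ← Category.assoc,
      hU'.isoSpec_hom_fromSpec]
  rw [heq]
  infer_instance

/-- **S9678**. -/
theorem exists_dense_opens_iso_of_birational {X Y : Scheme.{u}} (f : X ⟶ Y)
    (hXfin : (irreducibleComponents ↥X).Finite) (hYfin : (irreducibleComponents ↥Y).Finite)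
    (hbij : Set.BijOn (fun x : X => f.base x) {x : X | closure {x} ∈ irreducibleComponents ↥X}
      {y : Y | closure {y} ∈ irreducibleComponents ↥Y})
    (hiso : ∀ x : X, closure {x} ∈ irreducibleComponents ↥X → IsIso (f.stalkMap x))
    (hf : (LocallyOfFiniteType f ∧ IsReduced Y) ∨ LocallyOfFinitePresentation f) :
    ∃ (U : X.Opens) (V : Y.Opens) (hUV : U ≤ f ⁻¹ᵁ V), Dense (U : Set ↥X) ∧ Dense (V : Set ↥Y) ∧
      IsIso (f.resLE V U hUV) := by
  apply exists_dense_opens_iso f hXfin hbij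
  intro x hx
  rcases hf with ⟨h1, h2⟩ | h3
  · haveI := h1
    haveI := h2
    exact Groth.Agent.S7659.result f hYfin x (hiso x hx)
  · haveI := h3
    exact exists_isOpenImmersion_of_isIso_stalkMap f x (hiso x hx)

end Groth.Agent.Lib.Helper11.Birat
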