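import Mathlib
import Groth.Agent.S1655
import Groth.Agent.S5094

universe u
open CategoryTheory CategoryTheory.Limits AlgebraicGeometry TopologicalSpace Topology

namespace Groth.Agent.Lib.Helper11.Birat6

theorem birational_of_isIso_morphismRestrict {X Y : Scheme.{u}} [IsIntegral X] [IsIntegral Y]
    (f : X ⟶ Y) (W : Y.Opens) (hW : (W : Set Y).Nonempty) (hfW : IsIso (f ∣_ W)) :
    f.base (genericPoint X) = genericPoint Y ∧ IsIso (f.stalkMap (genericPoint X)) := by
  haveI := hfW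
  obtain ⟨w, hw⟩ := hW
  haveI : IsOpenImmersion ((f ⁻¹ᵁ W).ι ≫ f) := by
    rw [← morphismRestrict_ι]; infer_instance
  have hne : Nonempty (f ⁻¹ᵁ W) := by
    obtain ⟨v, hv⟩ := (f ∣_ W).surjective ⟨w, hw⟩
    exact ⟨v⟩
  haveI := hne
  have h1 : (f ⁻¹ᵁ W).ι.base (genericPoint (f ⁻¹ᵁ W).toScheme) = genericPoint X :=
    genericPoint_eq_of_isOpenImmersion _
  have h2 : ((f ⁻¹ᵁ W).ι ≫ f).base (genericPoint (f ⁻¹ᵁ W).toScheme) = genericPoint Y :=
    genericPoint_eq_of_isOpenImmersion _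
  have key : ∀ z : X, ∀ hz : z ∈ f ⁻¹ᵁ W, IsIso (f.stalkMap z) := by
    intro z hz
    have h3 : IsIso (((f ⁻¹ᵁ W).ι ≫ f).stalkMap ⟨z, hz⟩) := inferInstance
    rw [Scheme.Hom.stalkMap_comp] at h3
    exact @IsIso.of_isIso_comp_right _ _ _ _ _ (f.stalkMap ((f ⁻¹ᵁ W).ι.base ⟨z, hz⟩))
      ((f ⁻¹ᵁ W).ι.stalkMap ⟨z, hz⟩) inferInstance h3
  refine ⟨?_, ?_⟩
  · rw [← h1]; exact h2
  · exact key _ (by rw [← h1]; exact (genericPoint (f ⁻¹ᵁ W).toScheme).2)

theorem le_one_of_not_two_le (d : WithBot ℕ∞) (h : ¬ (2 : WithBot ℕ∞) ≤ d) : d ≤ 1 := by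
  have h1 : d < ((1 : ℕ) : WithBot ℕ∞) + 1 := by
    rw [not_le] at h
    have e : (((1 : ℕ) : WithBot ℕ∞) + 1) = 2 := by rw [Nat.cast_one, one_add_one_eq_two]
    rw [e]; exact h
  have h2 := ENat.WithBot.lt_add_one_iff.mp h1
  rwa [Nat.cast_one] at h2

theorem valuationRing_of_dim_le_one (R : Type*) [CommRing R] [IsDomain R] [IsNoetherianRing R]
    [IsLocalRing R] [IsIntegrallyClosed R] (h : ringKrullDim R ≤ 1) : ValuationRing R := by
  have h1 : Ring.KrullDimLE 1 R := Ring.krullDimLE_iff.mpr (by simpa using h)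
  have h2 := Ring.krullDimLE_one_iff_of_noZeroDivisors.mp h1
  have h3 := (tfae_of_isNoetherianRing_of_isLocalRing_of_isDomain R).out 3 1
  refine h3.mp ⟨inferInstance, ?_⟩
  intro P hP hP'
  exact IsLocalRing.eq_maximalIdeal (h2 P hP hP')

theorem isIso_stalkSpecializes_of_eq {X : Scheme.{u}} {a b : X} (e : a = b) (h : a ⤳ b) :
    IsIso (X.presheaf.stalkSpecializes h) := by
  subst e
  rw [TopCat.Presheaf.stalkSpecializes_refl]
  infer_instance

/-- The computation: a lift of the valuative square at `y` gives a point with stalk iso. -/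
theorem exists_isIso_stalkMap_of_lift {X Y : Scheme.{u}} [IsIntegral X] [IsIntegral Y]
    (f : X ⟶ Y) (y : Y)
    (ψ : X.presheaf.stalk (genericPoint X) ⟶ Y.presheaf.stalk (genericPoint Y))
    (hψ : Function.Injective ψ)
    (l : Spec (Y.presheaf.stalk y) ⟶ X)
    (hl₁ : Spec.map (Y.presheaf.stalkSpecializes ((genericPoint_spec Y).specializes trivial)) ≫ l =
      Spec.map ψ ≫ X.fromSpecStalk (genericPoint X))
    (hl₂ : l ≫ f = Y.fromSpecStalk y) :
    ∃ x : X, f.base x = y ∧ IsIso (f.stalkMap x) := by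
  obtain ⟨x, hxdef⟩ : ∃ x : X, x = l.base (IsLocalRing.closedPoint (Y.presheaf.stalk y)) :=
    ⟨_, rfl⟩
  have hxy : f.base (l.base (IsLocalRing.closedPoint (Y.presheaf.stalk y))) = y := by
    have h1 : (l ≫ f).base (IsLocalRing.closedPoint (Y.presheaf.stalk y)) = y := by
      rw [hl₂]; exact Scheme.fromSpecStalk_closedPoint
    exact h1
  have hlam : Spec.map (Scheme.stalkClosedPointTo l) ≫
      X.fromSpecStalk (l.base (IsLocalRing.closedPoint (Y.presheaf.stalk y))) = l :=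
    Scheme.Spec_stalkClosedPointTo_fromSpecStalk l
  refine ⟨l.base (IsLocalRing.closedPoint (Y.presheaf.stalk y)), hxy, ?_⟩
  have h2 : y ⤳ f.base (l.base (IsLocalRing.closedPoint (Y.presheaf.stalk y))) :=
    specializes_of_eq hxy.symm
  have key1 : f.stalkMap (l.base (IsLocalRing.closedPoint (Y.presheaf.stalk y))) ≫
      Scheme.stalkClosedPointTo l = Y.presheaf.stalkSpecializes h2 := by
    apply Spec.map_injective
    rw [← cancel_mono (Y.fromSpecStalk
      (f.base (l.base (IsLocalRing.closedPoint (Y.presheaf.stalk y))))), Spec.map_comp,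
      Category.assoc, Scheme.SpecMap_stalkMap_fromSpecStalk, ← Category.assoc, hlam, hl₂,
      Scheme.SpecMap_stalkSpecializes_fromSpecStalk]
  have key2 : IsIso (Y.presheaf.stalkSpecializes h2) :=
    isIso_stalkSpecializes_of_eq hxy.symm h2
  have hx : genericPoint X ⤳ l.base (IsLocalRing.closedPoint (Y.presheaf.stalk y)) :=
    (genericPoint_spec X).specializes trivial
  have key3 : Scheme.stalkClosedPointTo l ≫
      Y.presheaf.stalkSpecializes ((genericPoint_spec Y).specializes trivial) =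
      X.presheaf.stalkSpecializes hx ≫ ψ := by
    apply Spec.map_injective
    rw [← cancel_mono (X.fromSpecStalk
      (l.base (IsLocalRing.closedPoint (Y.presheaf.stalk y)))), Spec.map_comp,
      Category.assoc, hlam, hl₁, Spec.map_comp, Category.assoc,
      Scheme.SpecMap_stalkSpecializes_fromSpecStalk]
  have hinj_spec : Function.Injective (X.presheaf.stalkSpecializes hx) :=
    IsFractionRing.injective
      (X.presheaf.stalk (l.base (IsLocalRing.closedPoint (Y.presheaf.stalk y)))) X.functionField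
  have hlaminj : Function.Injective (Scheme.stalkClosedPointTo l) := by
    intro a b hab
    have h5 : (X.presheaf.stalkSpecializes hx ≫ ψ) a =
        (X.presheaf.stalkSpecializes hx ≫ ψ) b := by
      rw [← key3, CommRingCat.comp_apply, CommRingCat.comp_apply, hab]
    rw [CommRingCat.comp_apply, CommRingCat.comp_apply] at h5
    exact hinj_spec (hψ h5)
  have hlamiso : IsIso (Scheme.stalkClosedPointTo l) := by
    apply (ConcreteCategory.isIso_iff_bijective _).mpr
    refine ⟨hlaminj, fun r => ?_⟩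
    obtain ⟨s, hs⟩ := (ConcreteCategory.bijective_of_isIso (Y.presheaf.stalkSpecializes h2)).2 r
    refine ⟨f.stalkMap (l.base (IsLocalRing.closedPoint (Y.presheaf.stalk y))) s, ?_⟩
    rw [← key1, CommRingCat.comp_apply] at hs
    exact hs
  have hcomp : IsIso (f.stalkMap (l.base (IsLocalRing.closedPoint (Y.presheaf.stalk y))) ≫
      Scheme.stalkClosedPointTo l) := by rw [key1]; exact key2
  exact @IsIso.of_isIso_comp_right _ _ _ _ _
    (f.stalkMap (l.base (IsLocalRing.closedPoint (Y.presheaf.stalk y))))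
    (Scheme.stalkClosedPointTo l) hlamiso hcomp

theorem exists_isIso_stalkMap_of_valuationRing {X Y : Scheme.{u}} [IsIntegral X] [IsIntegral Y]
    (f : X ⟶ Y) [UniversallyClosed f]
    (hgen : f.base (genericPoint X) = genericPoint Y)
    (hbir : IsIso (f.stalkMap (genericPoint X)))
    (y : Y) [ValuationRing (Y.presheaf.stalk y)] :
    ∃ x : X, f.base x = y ∧ IsIso (f.stalkMap x) := by
  haveI := hbir
  have H : ValuativeCriterion.Existence f := by
    have h2 : (ValuativeCriterion.Existence ⊓ @QuasiCompact) f := by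
      rw [← UniversallyClosed.eq_valuativeCriterion]; infer_instance
    exact h2.1
  have hξ : genericPoint Y ⤳ f.base (genericPoint X) := specializes_of_eq hgen.symm
  haveI hξiso : IsIso (Y.presheaf.stalkSpecializes hξ) :=
    isIso_stalkSpecializes_of_eq hgen.symm hξ
  obtain ⟨ψ, hψdef⟩ : ∃ ψ : X.presheaf.stalk (genericPoint X) ⟶
      Y.presheaf.stalk (genericPoint Y),
      ψ = inv (f.stalkMap (genericPoint X)) ≫ Y.presheaf.stalkSpecializes hξ := ⟨_, rfl⟩
  haveI hψiso : IsIso ψ := by rw [hψdef]; infer_instance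
  have hψ : Function.Injective ψ := (ConcreteCategory.bijective_of_isIso ψ).1
  have e2 : f.stalkMap (genericPoint X) ≫ ψ = Y.presheaf.stalkSpecializes hξ := by
    rw [hψdef, IsIso.hom_inv_id_assoc]
  have w : (Spec.map ψ ≫ X.fromSpecStalk (genericPoint X)) ≫ f =
      Spec.map (CommRingCat.ofHom (algebraMap (Y.presheaf.stalk y) Y.functionField)) ≫
        Y.fromSpecStalk y := by
    have e1 : CommRingCat.ofHom (algebraMap (Y.presheaf.stalk y) Y.functionField) =
        Y.presheaf.stalkSpecializes ((genericPoint_spec Y).specializes trivial) := rfl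
    rw [e1, Scheme.SpecMap_stalkSpecializes_fromSpecStalk, Category.assoc,
      ← Scheme.SpecMap_stalkMap_fromSpecStalk, ← Spec.map_comp_assoc, e2,
      Scheme.SpecMap_stalkSpecializes_fromSpecStalk]
  obtain ⟨l, hl₁, hl₂⟩ := (H (@ValuativeCommSq.mk _ _ f (Y.presheaf.stalk y) _ inferInstance _
    Y.functionField _ _ _ (Spec.map ψ ≫ X.fromSpecStalk (genericPoint X)) (Y.fromSpecStalk y)
    ⟨w⟩)).exists_lift
  exact exists_isIso_stalkMap_of_lift f y ψ hψ l hl₁ hl₂

theorem exists_maximal_iso_open {X Y : Scheme.{u}} [IsIntegral X] (f : X ⟶ Y) [IsSeparated f] :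
    ∃ V : Y.Opens, IsIso (f ∣_ V) ∧
      ∀ x : X, (∃ U : X.Opens, x ∈ U ∧ IsOpenImmersion (U.ι ≫ f)) → f.base x ∈ V := by
  let Wt : {U : X.Opens // IsOpenImmersion (U.ι ≫ f)} → X.Opens := Subtype.val
  have hoi : ∀ i, IsOpenImmersion ((Wt i).ι ≫ f) := fun i => i.2
  have hinj : Set.InjOn f.base ((⨆ i, Wt i : X.Opens) : Set X) := by
    intro u₁ hu₁ u₂ hu₂ h12
    obtain ⟨i, hi⟩ := Opens.mem_iSup.mp hu₁
    haveI := hoi i
    haveI : Nonempty (Wt i) := ⟨⟨u₁, hi⟩⟩
    haveI hiso := Groth.Agent.S1655.isIso_morphismRestrict_opensRange f (Wt i)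
    have hm₁ : f.base u₁ ∈ ((Wt i).ι ≫ f).opensRange := ⟨⟨u₁, hi⟩, rfl⟩
    have hm₂ : f.base u₂ ∈ ((Wt i).ι ≫ f).opensRange := by rw [← h12]; exact hm₁
    have hinj' : Function.Injective (f ∣_ ((Wt i).ι ≫ f).opensRange).base :=
      (ConcreteCategory.bijective_of_isIso (f ∣_ ((Wt i).ι ≫ f).opensRange).base).1
    have h6 : ∀ (u : X) (hu : u ∈ f ⁻¹ᵁ ((Wt i).ι ≫ f).opensRange),
        ((f ∣_ ((Wt i).ι ≫ f).opensRange).base ⟨u, hu⟩).1 = f.base u := fun u hu =>
      congrArg (fun ψ : ((f ⁻¹ᵁ ((Wt i).ι ≫ f).opensRange : X.Opens) : Scheme) ⟶ Y =>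
        ψ.base ⟨u, hu⟩) (morphismRestrict_ι f ((Wt i).ι ≫ f).opensRange)
    have h7 : (⟨u₁, hm₁⟩ : ↥(f ⁻¹ᵁ ((Wt i).ι ≫ f).opensRange)) = ⟨u₂, hm₂⟩ := by
      apply hinj'
      apply Subtype.ext
      rw [h6, h6]; exact h12
    exact congrArg Subtype.val h7
  haveI hU₀ := Groth.Agent.Lib.Helper11.Birat.isOpenImmersion_iSup_ι_comp f Wt hoi hinj
  by_cases hne : Nonempty (⨆ i, Wt i : X.Opens)
  · haveI := hne
    refine ⟨((⨆ i, Wt i).ι ≫ f).opensRange,
      Groth.Agent.S1655.isIso_morphismRestrict_opensRange f (⨆ i, Wt i), ?_⟩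
    rintro x ⟨U, hxU, hU⟩
    have hx : x ∈ (⨆ i, Wt i : X.Opens) := Opens.mem_iSup.mpr ⟨⟨U, hU⟩, hxU⟩
    exact ⟨⟨x, hx⟩, rfl⟩
  · refine ⟨⊥, ?_, ?_⟩
    · haveI : IsEmpty ((⊥ : Y.Opens) : Scheme) :=
        ⟨fun z => (Set.mem_empty_iff_false _).mp z.2⟩
      exact isIso_of_isEmpty _
    · rintro x ⟨U, hxU, hU⟩
      have hx : x ∈ (⨆ i, Wt i : X.Opens) := Opens.mem_iSup.mpr ⟨⟨U, hU⟩, hxU⟩
      exact (hne ⟨⟨x, hx⟩⟩).elim

end Groth.Agent.Lib.Helper11.Birat6
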