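import Mathlib
import Groth.Agent.Lib.Helper11.Birat6
import Groth.Agent.Lib.Helper7.RedLib
import Groth.Agent.S7659

universe u
open CategoryTheory CategoryTheory.Limits AlgebraicGeometry TopologicalSpace Topology

namespace Groth.Agent.Lib.Helper11.Birat7

/-! The first few lemmas are copies of lemmas of helper16 (`Lib/Helper16/SchImgRed`, `SchImmRed`),
re-proved here to keep the import closure small. -/

/-- For a reduced source the kernel is the vanishing ideal of the closure of the image. -/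
theorem ker_eq_vanishingIdeal_of_isReduced {X Y : Scheme.{u}} (f : X ⟶ Y) [IsReduced X] :
    f.ker = Scheme.IdealSheafData.vanishingIdeal (.closure (Set.range f)) := by
  rw [← Scheme.IdealSheafData.map_bot, ← Scheme.nilradical_eq_bot,
    ← Scheme.IdealSheafData.vanishingIdeal_top, Scheme.IdealSheafData.map_vanishingIdeal]
  congr 2
  simp

/-- A dominant immersion into a reduced scheme is an open immersion. -/
theorem isOpenImmersion_of_isDominant_of_isReduced {Z Y : Scheme.{u}} (f : Z ⟶ Y) [IsImmersion f]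
    [IsDominant f] [IsReduced Y] : IsOpenImmersion f := by
  haveI : IsDominant (f.liftCoborder ≫ f.coborderRange.ι) := by
    rw [f.liftCoborder_ι]; infer_instance
  haveI : IsDominant f.liftCoborder :=
    IsDominant.of_comp_of_isOpenImmersion f.liftCoborder f.coborderRange.ι
  haveI : Surjective f.liftCoborder :=
    surjective_of_isDominant_of_isClosed_range _ f.liftCoborder.isClosedEmbedding.isClosed_range
  haveI : IsIso f.liftCoborder := isIso_of_isClosedImmersion_of_surjective _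
  rw [← f.liftCoborder_ι]
  infer_instance

theorem isReduced_image_of_isReduced {Z X : Scheme.{u}} (h : Z ⟶ X) [IsReduced Z] :
    IsReduced h.image := by
  show IsReduced h.ker.subscheme
  rw [ker_eq_vanishingIdeal_of_isReduced]
  exact Groth.Agent.Lib.Helper7.isReduced_vanishingIdeal_subscheme _

theorem range_imageι_of_isReduced {Z X : Scheme.{u}} (h : Z ⟶ X) [IsReduced Z] :
    Set.range h.imageι = closure (Set.range h) := by
  show Set.range h.ker.subschemeι = _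
  rw [Scheme.IdealSheafData.range_subschemeι, ker_eq_vanishingIdeal_of_isReduced,
    Scheme.IdealSheafData.coe_support_vanishingIdeal, Closeds.coe_closure]

theorem denseRange_toImage_of_isReduced {Z X : Scheme.{u}} (h : Z ⟶ X) [IsReduced Z] :
    DenseRange h.toImage := by
  intro y
  have hy : h.imageι y ∈ closure (Set.range h) :=
    (range_imageι_of_isReduced h) ▸ Set.mem_range_self y
  have h1 : Set.range h = h.imageι '' Set.range h.toImage := by
    rw [← Set.range_comp]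
    conv_lhs => rw [← h.toImage_imageι]
    rfl
  rw [h1, h.imageι.isClosedEmbedding.closure_image_eq] at hy
  obtain ⟨y', hy', hyy'⟩ := hy
  rwa [← h.imageι.isClosedEmbedding.injective hyy']

theorem isOpenImmersion_toImage_of_isReduced {Z X : Scheme.{u}} (h : Z ⟶ X) [IsImmersion h]
    [IsReduced Z] : IsOpenImmersion h.toImage := by
  haveI := isReduced_image_of_isReduced h
  haveI : IsDominant h.toImage := ⟨denseRange_toImage_of_isReduced h⟩
  exact isOpenImmersion_of_isDominant_of_isReduced h.toImage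

/-- A point which is isolated in its fibre (cut out by an open set) is a quasi-finite point. -/
theorem quasiFiniteAt_of_isolated {X Y : Scheme.{u}} (f : X ⟶ Y) [LocallyOfFiniteType f] (x : X)
    (O : X.Opens) (hO : ∀ x' : X, x' ∈ O → f.base x' = f.base x → x' = x) (hxO : x ∈ O) :
    f.QuasiFiniteAt x := by
  rw [Scheme.Hom.quasiFiniteAt_iff_isOpen_singleton_asFiber,
    ← (f.fiberHomeo (f.base x)).isOpen_image]
  simp only [Set.image_singleton, Scheme.Hom.asFiber, Homeomorph.apply_symm_apply]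
  have : ({⟨x, rfl⟩} : Set (f ⁻¹' {f.base x})) = Subtype.val ⁻¹' (O : Set X) := by
    ext ⟨t, ht⟩
    simp only [Set.mem_singleton_iff, Set.mem_preimage, Subtype.mk.injEq]
    constructor
    · rintro rfl; exact hxO
    · intro h; exact hO t h ht
  rw [this]; exact O.isOpen.preimage continuous_subtype_val

/-- **Key lemma**: `p₀ : P ⟶ X` separated, locally of finite type over an integral scheme `X`,
`γ₀ : U₁ ⟶ P` with `γ₀ ≫ p₀` an open immersion (a rational section of `p₀`), `U₁` integral.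
If `z₀` is a point of the closure of the image of `γ₀`, isolated in the fibre of that closure
over `p₀ z₀`, and the local ring of `X` at `p₀ z₀` is integrally closed, then `γ₀` extends to a
section of `p₀` over an open neighbourhood of `p₀ z₀`. -/
theorem exists_section_of_isolated {X P U₁ : Scheme.{u}} [IsIntegral X] [IsIntegral U₁]
    (p₀ : P ⟶ X) [IsSeparated p₀] [LocallyOfFiniteType p₀]
    (γ₀ : U₁ ⟶ P) [IsOpenImmersion (γ₀ ≫ p₀)]
    (z₀ : P) (hz₀ : z₀ ∈ closure (Set.range γ₀))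
    (hic : IsIntegrallyClosed (X.presheaf.stalk (p₀.base z₀)))
    (W : P.Opens) (hz₀W : z₀ ∈ W)
    (hW : ∀ z' : P, z' ∈ W → z' ∈ closure (Set.range γ₀) → p₀.base z' = p₀.base z₀ → z' = z₀) :
    ∃ (N : X.Opens) (s : N.toScheme ⟶ P), p₀.base z₀ ∈ N ∧ s ≫ p₀ = N.ι ∧
      ((γ₀ ≫ p₀) ∣_ N) ≫ s = ((γ₀ ≫ p₀) ⁻¹ᵁ N).ι ≫ γ₀ := by
  haveI : IsImmersion (γ₀ ≫ p₀) := inferInstance
  haveI : IsImmersion γ₀ := IsImmersion.of_comp γ₀ p₀
  haveI hred : IsReduced γ₀.image := isReduced_image_of_isReduced γ₀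
  haveI hoi : IsOpenImmersion γ₀.toImage := isOpenImmersion_toImage_of_isReduced γ₀
  have hdense : DenseRange γ₀.toImage := denseRange_toImage_of_isReduced γ₀
  haveI : IrreducibleSpace γ₀.image := by
    rw [irreducibleSpace_def]
    convert ((IrreducibleSpace.isIrreducible_univ U₁).image _
      γ₀.toImage.continuous.continuousOn).closure
    simpa using hdense.closure_range.symm
  haveI : IsIntegral γ₀.image := isIntegral_of_irreducibleSpace_of_isReduced _
  have hfac : γ₀.toImage ≫ γ₀.imageι = γ₀ := γ₀.toImage_imageι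
  obtain ⟨f₀, hf₀⟩ : ∃ f₀ : γ₀.image ⟶ X, f₀ = γ₀.imageι ≫ p₀ := ⟨_, rfl⟩
  haveI : IsSeparated f₀ := by rw [hf₀]; infer_instance
  haveI : LocallyOfFiniteType f₀ := by rw [hf₀]; infer_instance
  have hjf : γ₀.toImage ≫ f₀ = γ₀ ≫ p₀ := by rw [hf₀, ← Category.assoc, hfac]
  obtain ⟨u⟩ : Nonempty U₁ := inferInstance
  -- birationality of `f₀`
  haveI hO₁ : IsOpenImmersion (γ₀.toImage.opensRange.ι ≫ f₀) := by
    have : γ₀.toImage.opensRange.ι ≫ f₀ = γ₀.toImage.isoOpensRange.inv ≫ (γ₀ ≫ p₀) := by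
      rw [← hjf, ← Category.assoc]
      congr 1
      rw [Iso.eq_inv_comp, Scheme.Hom.isoOpensRange_hom_ι]
    rw [this]; infer_instance
  haveI : Nonempty γ₀.toImage.opensRange := ⟨⟨γ₀.toImage.base u, ⟨u, rfl⟩⟩⟩
  have hiso₁ := Groth.Agent.S1655.isIso_morphismRestrict_opensRange f₀ γ₀.toImage.opensRange
  have hne₁ : ((γ₀.toImage.opensRange.ι ≫ f₀).opensRange : Set X).Nonempty :=
    ⟨_, ⟨⟨γ₀.toImage.base u, ⟨u, rfl⟩⟩, rfl⟩⟩
  obtain ⟨hgen, hbir⟩ :=
    Groth.Agent.Lib.Helper11.Birat6.birational_of_isIso_morphismRestrict f₀ _ hne₁ hiso₁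
  -- the point `t₀`
  have hrange : Set.range γ₀.imageι = closure (Set.range γ₀) := range_imageι_of_isReduced γ₀
  obtain ⟨t₀, ht₀⟩ : ∃ t₀ : γ₀.image, γ₀.imageι t₀ = z₀ := by
    have : z₀ ∈ Set.range γ₀.imageι := by rw [hrange]; exact hz₀
    exact this
  have hfp : ∀ t : γ₀.image, f₀.base t = p₀.base (γ₀.imageι.base t) := by
    intro t; rw [hf₀]; rfl
  have hft₀ : f₀.base t₀ = p₀.base z₀ := by rw [hfp, ← ht₀]
  have hq : f₀.QuasiFiniteAt t₀ := by
    apply quasiFiniteAt_of_isolated f₀ t₀ (γ₀.imageι ⁻¹ᵁ W)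
    · intro t' ht'W ht'
      have h1 : γ₀.imageι t' = z₀ := by
        apply hW _ ht'W
        · rw [← hrange]; exact ⟨t', rfl⟩
        · rw [← hfp, ht', hft₀]
      exact γ₀.imageι.isClosedEmbedding.injective (h1.trans ht₀.symm)
    · show γ₀.imageι.base t₀ ∈ W
      rw [ht₀]; exact hz₀W
  have hic' : IsIntegrallyClosed (X.presheaf.stalk (f₀.base t₀)) := by rw [hft₀]; exact hic
  have hiso_t : IsIso (f₀.stalkMap t₀) :=
    Groth.Agent.S1655.isIso_stalkMap_of_quasiFiniteAt f₀ hbir t₀ hic' hq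
  have hfin : (irreducibleComponents ↥X).Finite := by
    rw [irreducibleComponents_eq_singleton]; exact Set.finite_singleton _
  obtain ⟨O, ht₀O, hO⟩ := Groth.Agent.S7659.result f₀ hfin t₀ hiso_t
  haveI := hO
  haveI : Nonempty O := ⟨⟨t₀, ht₀O⟩⟩
  have hisoN := Groth.Agent.S1655.isIso_morphismRestrict_opensRange f₀ O
  obtain ⟨N, hN⟩ : ∃ N : X.Opens, N = (O.ι ≫ f₀).opensRange := ⟨_, rfl⟩
  rw [← hN] at hisoN
  haveI := hisoN
  have hxN : p₀.base z₀ ∈ N := by
    rw [hN, ← hft₀]; exact ⟨⟨t₀, ht₀O⟩, rfl⟩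
  refine ⟨N, inv (f₀ ∣_ N) ≫ (f₀ ⁻¹ᵁ N).ι ≫ γ₀.imageι, hxN, ?_, ?_⟩
  · rw [Category.assoc, Category.assoc, ← hf₀, ← morphismRestrict_ι, IsIso.inv_hom_id_assoc]
  · have hr : Set.range (((γ₀ ≫ p₀) ⁻¹ᵁ N).ι ≫ γ₀.toImage) ⊆ Set.range (f₀ ⁻¹ᵁ N).ι := by
      rintro _ ⟨u', rfl⟩
      have hu : f₀.base (γ₀.toImage.base u'.1) ∈ N := by
        have h2 : f₀.base (γ₀.toImage.base u'.1) = (γ₀ ≫ p₀).base u'.1 :=
          congrArg (fun ψ : U₁ ⟶ X => ψ.base u'.1) hjf
        rw [h2]; exact u'.2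
      exact ⟨⟨γ₀.toImage.base u'.1, hu⟩, rfl⟩
    obtain ⟨k, hk⟩ : ∃ k, k ≫ (f₀ ⁻¹ᵁ N).ι = ((γ₀ ≫ p₀) ⁻¹ᵁ N).ι ≫ γ₀.toImage :=
      ⟨IsOpenImmersion.lift _ _ hr, IsOpenImmersion.lift_fac _ _ hr⟩
    have hk2 : k ≫ (f₀ ∣_ N) = (γ₀ ≫ p₀) ∣_ N := by
      rw [← cancel_mono N.ι, Category.assoc, morphismRestrict_ι, ← Category.assoc, hk,
        Category.assoc, hjf, morphismRestrict_ι]
    calc ((γ₀ ≫ p₀) ∣_ N) ≫ inv (f₀ ∣_ N) ≫ (f₀ ⁻¹ᵁ N).ι ≫ γ₀.imageι
        = (k ≫ (f₀ ∣_ N)) ≫ inv (f₀ ∣_ N) ≫ (f₀ ⁻¹ᵁ N).ι ≫ γ₀.imageι := by rw [hk2]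
      _ = (k ≫ (f₀ ⁻¹ᵁ N).ι) ≫ γ₀.imageι := by
          simp only [Category.assoc, IsIso.hom_inv_id_assoc]
      _ = (((γ₀ ≫ p₀) ⁻¹ᵁ N).ι ≫ γ₀.toImage) ≫ γ₀.imageι := by rw [hk]
      _ = ((γ₀ ≫ p₀) ⁻¹ᵁ N).ι ≫ γ₀ := by rw [Category.assoc, hfac]

end Groth.Agent.Lib.Helper11.Birat7
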