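import Mathlib
import Groth.Agent.Lib.Helper11.Birat7

universe u
open CategoryTheory CategoryTheory.Limits AlgebraicGeometry TopologicalSpace Topology

namespace Groth.Agent.Lib.Helper11.Birat8

theorem isIntegrallyClosed_stalk_opens {X : Scheme.{u}} (W₀ : X.Opens) (x' : X)
    (hx' : IsIntegrallyClosed (X.presheaf.stalk x')) (w : W₀) (e : w.1 = x') :
    IsIntegrallyClosed (W₀.toScheme.presheaf.stalk w) := by
  subst e
  exact IsIntegrallyClosed.of_equiv (W₀.stalkIso w).symm.commRingCatIsoToRingEquiv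

/-- A point of a locally Noetherian scheme whose local ring is a domain has an integral open
neighbourhood. -/
theorem exists_integral_nbhd_of_isDomain_stalk {X : Scheme.{u}} [IsLocallyNoetherian X] (x : X)
    [IsDomain (X.presheaf.stalk x)] : ∃ W : X.Opens, x ∈ W ∧ IsIntegral W.toScheme := by
  obtain ⟨V, hxV, hV, hinj⟩ := X.exists_germ_injective x
  haveI : IsDomain Γ(X, V) := hinj.isDomain _
  haveI : IsDomain Γ(V.toScheme, ⊤) :=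
    MulEquiv.isDomain Γ(X, V) V.topIso.commRingCatIsoToRingEquiv.toMulEquiv
  haveI : IsAffine V.toScheme := hV
  haveI : Nonempty V.toScheme := ⟨⟨x, hxV⟩⟩
  exact ⟨V, hxV, isIntegral_of_isAffine_of_isDomain _⟩

/-- The generic point of the local ring at `x` lies in every dense open. -/
theorem fromSpecStalk_bot_mem_of_dense {X : Scheme.{u}} [IsLocallyNoetherian X] (x : X)
    [IsDomain (X.presheaf.stalk x)] (U : X.Opens) (hU : Dense (U : Set X)) :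
    (X.fromSpecStalk x).base (⟨⊥, Ideal.isPrime_bot⟩ : PrimeSpectrum (X.presheaf.stalk x)) ∈ U := by
  obtain ⟨W₀, hxW₀, hW₀⟩ := exists_integral_nbhd_of_isDomain_stalk x
  haveI := hW₀
  obtain ⟨η, hη⟩ : ∃ η : X, η = (X.fromSpecStalk x).base
      (⟨⊥, Ideal.isPrime_bot⟩ : PrimeSpectrum (X.presheaf.stalk x)) := ⟨_, rfl⟩
  rw [← hη]
  have hηx : η ⤳ x := by
    have : η ∈ Set.range (X.fromSpecStalk x) := ⟨_, hη.symm⟩
    rwa [Scheme.range_fromSpecStalk] at this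
  have hηW₀ : η ∈ W₀ := hηx.mem_open W₀.isOpen hxW₀
  -- the generic point of `W₀`
  have hξx : (genericPoint W₀.toScheme).1 ⤳ x :=
    ((genericPoint_spec W₀.toScheme).specializes
      (Set.mem_univ (⟨x, hxW₀⟩ : W₀.toScheme))).map continuous_subtype_val
  have hξη : (genericPoint W₀.toScheme).1 ⤳ η :=
    ((genericPoint_spec W₀.toScheme).specializes
      (Set.mem_univ (⟨η, hηW₀⟩ : W₀.toScheme))).map continuous_subtype_val
  have hηξ : η ⤳ (genericPoint W₀.toScheme).1 := by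
    have : (genericPoint W₀.toScheme).1 ∈ Set.range (X.fromSpecStalk x) := by
      rw [Scheme.range_fromSpecStalk]; exact hξx
    obtain ⟨p, hp⟩ := this
    rw [← hp, hη]
    apply Specializes.map _ (X.fromSpecStalk x).continuous
    refine (PrimeSpectrum.le_iff_specializes _ _).mp ?_
    show (⊥ : Ideal (X.presheaf.stalk x)) ≤ PrimeSpectrum.asIdeal p
    exact bot_le
  have heq : η = (genericPoint W₀.toScheme).1 := (hηξ.antisymm hξη).eq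
  rw [heq]
  have hne : (Set.univ ∩ ((W₀.ι ⁻¹ᵁ U : W₀.toScheme.Opens) : Set W₀.toScheme)).Nonempty := by
    obtain ⟨a, haW, haU⟩ := hU.inter_open_nonempty W₀ W₀.isOpen ⟨x, hxW₀⟩
    exact ⟨⟨a, haW⟩, trivial, haU⟩
  exact ((genericPoint_spec W₀.toScheme).mem_open_set_iff (W₀.ι ⁻¹ᵁ U).isOpen).mpr hne

/-- Gluing two morphisms defined on two opens agreeing on the intersection. -/
theorem exists_glue_two {X Y : Scheme.{u}} (U V : X.Opens) (h : U.toScheme ⟶ Y)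
    (s : V.toScheme ⟶ Y)
    (hag : X.homOfLE (inf_le_left : U ⊓ V ≤ U) ≫ h = X.homOfLE (inf_le_right : U ⊓ V ≤ V) ≫ s) :
    ∃ (U' : X.Opens) (hU : U ≤ U') (hV : V ≤ U') (g : U'.toScheme ⟶ Y),
      X.homOfLE hU ≫ g = h ∧ X.homOfLE hV ≫ g = s ∧
      ∀ {Z : Scheme.{u}} (a b : U'.toScheme ⟶ Z), X.homOfLE hU ≫ a = X.homOfLE hU ≫ b →
        X.homOfLE hV ≫ a = X.homOfLE hV ≫ b → a = b := by
  let Wt : Bool → X.Opens := fun b => cond b U V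
  let f : ∀ b, (Wt b).toScheme ⟶ Y := fun b => match b with
    | true => h
    | false => s
  have hf : ∀ i j, pullback.fst ((Scheme.Opens.iSupOpenCover Wt).f i)
      ((Scheme.Opens.iSupOpenCover Wt).f j) ≫ f i = pullback.snd _ _ ≫ f j := by
    intro i j
    refine (cancel_epi (isPullback_opens_inf_le (le_iSup Wt i)
      (le_iSup Wt j)).isoPullback.hom).mp ?_
    dsimp only [Scheme.Opens.iSupOpenCover]
    rw [IsPullback.isoPullback_hom_fst_assoc, IsPullback.isoPullback_hom_snd_assoc]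
    cases i <;> cases j
    · rfl
    · have h2 := congrArg (fun ψ => X.homOfLE (show V ⊓ U ≤ U ⊓ V from
        le_of_eq (inf_comm _ _)) ≫ ψ) hag
      simp only [Scheme.homOfLE_homOfLE_assoc] at h2
      exact h2.symm
    · exact hag
    · rfl
  refine ⟨⨆ b, Wt b, le_iSup Wt true, le_iSup Wt false,
    (Scheme.Opens.iSupOpenCover Wt).glueMorphisms f hf, ?_, ?_, ?_⟩
  · exact (Scheme.Opens.iSupOpenCover Wt).ι_glueMorphisms f hf true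
  · exact (Scheme.Opens.iSupOpenCover Wt).ι_glueMorphisms f hf false
  · intro Z a b h1 h2
    refine (Scheme.Opens.iSupOpenCover Wt).hom_ext a b ?_
    intro i
    cases i
    · exact h2
    · exact h1

/-- **Lemma B**: extension of a rational section at a normal point where the closure of the
graph has an isolated point in its fibre. -/
theorem exists_extension_of_isolated' {X P : Scheme.{u}} (p : P ⟶ X) [IsSeparated p]
    [LocallyOfFiniteType p] (U : X.Opens)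
    (γ : U.toScheme ⟶ P) (hγp : γ ≫ p = U.ι) (x : X) (hxU : x ∈ closure (U : Set ↥X))
    (hX : ∃ W₀ : X.Opens, x ∈ W₀ ∧ IsIntegral W₀.toScheme)
    (hx : IsIntegrallyClosed (X.presheaf.stalk x))
    (z : P) (hz : p.base z = x) (hzΓ : z ∈ closure (Set.range γ))
    (W : P.Opens)
    (hW : (W : Set P) ∩ closure (Set.range γ) ∩ p ⁻¹' {x} = {z}) :
    ∃ (V : X.Opens) (s : V.toScheme ⟶ P), x ∈ V ∧ s ≫ p = V.ι ∧
      X.homOfLE (inf_le_right : U ⊓ V ≤ V) ≫ s = X.homOfLE (inf_le_left : U ⊓ V ≤ U) ≫ γ := by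
  obtain ⟨W₀, hxW₀, hW₀int⟩ := hX
  haveI := hW₀int
  have hγpt : ∀ u : U, p.base (γ.base u) = u.1 :=
    fun u => congrArg (fun ψ : (U : Scheme) ⟶ X => ψ.base u) hγp
  have hne : Nonempty ↥(U ⊓ W₀) := by
    obtain ⟨a, haW, haU⟩ := mem_closure_iff.mp hxU W₀ W₀.isOpen hxW₀
    exact ⟨⟨a, haU, haW⟩⟩
  haveI : Nonempty (U ⊓ W₀ : X.Opens).toScheme := hne
  haveI : IsIntegral (U ⊓ W₀ : X.Opens).toScheme :=
    isIntegral_of_isOpenImmersion (X.homOfLE (inf_le_right : U ⊓ W₀ ≤ W₀))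
  have hsep : IsSeparated p := inferInstance
  have hlft : LocallyOfFiniteType p := inferInstance
  haveI : IsSeparated (p ∣_ W₀) := IsZariskiLocalAtTarget.restrict hsep W₀
  haveI : LocallyOfFiniteType (p ∣_ W₀) := IsZariskiLocalAtTarget.restrict hlft W₀
  have hpr : ∀ w : (p ⁻¹ᵁ W₀).toScheme, ((p ∣_ W₀).base w).1 = p.base w.1 := fun w =>
    congrArg (fun ψ : ((p ⁻¹ᵁ W₀ : P.Opens) : Scheme) ⟶ X => ψ.base w) (morphismRestrict_ι p W₀)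
  have hr₀ : Set.range (X.homOfLE (inf_le_left : U ⊓ W₀ ≤ U) ≫ γ) ⊆
      Set.range (p ⁻¹ᵁ W₀).ι := by
    rintro _ ⟨u, rfl⟩
    have hmem : p.base (γ.base ((X.homOfLE (inf_le_left : U ⊓ W₀ ≤ U)).base u)) ∈ W₀ := by
      rw [hγpt, X.homOfLE_apply]; exact u.2.2
    exact ⟨⟨_, hmem⟩, rfl⟩
  obtain ⟨γ₀, hγ₀⟩ : ∃ γ₀ : (U ⊓ W₀ : X.Opens).toScheme ⟶ (p ⁻¹ᵁ W₀ : P.Opens).toScheme,
      γ₀ ≫ (p ⁻¹ᵁ W₀).ι = X.homOfLE (inf_le_left : U ⊓ W₀ ≤ U) ≫ γ :=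
    ⟨IsOpenImmersion.lift _ _ hr₀, IsOpenImmersion.lift_fac _ _ hr₀⟩
  have hγ₀pt : ∀ u₁ : (U ⊓ W₀ : X.Opens).toScheme, (γ₀.base u₁).1 = γ.base
      ((X.homOfLE (inf_le_left : U ⊓ W₀ ≤ U)).base u₁) := fun u₁ =>
    congrArg (fun ψ : ((U ⊓ W₀ : X.Opens) : Scheme) ⟶ P => ψ.base u₁) hγ₀
  have hg : γ₀ ≫ (p ∣_ W₀) = X.homOfLE (inf_le_right : U ⊓ W₀ ≤ W₀) := by
    rw [← cancel_mono W₀.ι, Category.assoc, morphismRestrict_ι, ← Category.assoc, hγ₀,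
      Category.assoc, hγp, X.homOfLE_ι, X.homOfLE_ι]
  have hgι : (γ₀ ≫ (p ∣_ W₀)) ≫ W₀.ι = (U ⊓ W₀).ι := by
    rw [hg, X.homOfLE_ι]
  haveI : IsOpenImmersion (γ₀ ≫ (p ∣_ W₀)) := by rw [hg]; infer_instance
  have hzP : z ∈ p ⁻¹ᵁ W₀ := by
    show p.base z ∈ W₀
    rw [hz]; exact hxW₀
  have hzmem : z ∈ (W : Set P) ∩ closure (Set.range γ) ∩ p ⁻¹' {x} := by rw [hW]; rfl
  obtain ⟨z₀, hz₀def⟩ : ∃ z₀ : (p ⁻¹ᵁ W₀).toScheme, z₀.1 = z := ⟨⟨z, hzP⟩, rfl⟩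
  have hz₀ : z₀ ∈ closure (Set.range γ₀) := by
    rw [mem_closure_iff]
    intro O hO hzO
    have hO' : IsOpen ((p ⁻¹ᵁ W₀).ι '' O) := (p ⁻¹ᵁ W₀).ι.isOpenEmbedding.isOpenMap O hO
    have hzO' : z ∈ (p ⁻¹ᵁ W₀).ι '' O := ⟨z₀, hzO, hz₀def⟩
    obtain ⟨_, ⟨o, hoO, rfl⟩, ⟨u, hu⟩⟩ := mem_closure_iff.mp hzΓ _ hO' hzO'
    have huW₀ : u.1 ∈ W₀ := by
      rw [← hγpt u, hu]; exact o.2
    refine ⟨o, hoO, ⟨⟨u.1, u.2, huW₀⟩, ?_⟩⟩
    apply Subtype.ext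
    rw [hγ₀pt]
    refine Eq.trans ?_ hu
    congr 1
    exact Subtype.ext (X.homOfLE_apply _ _)
  have hpz : ((p ∣_ W₀).base z₀).1 = x := by rw [hpr, hz₀def]; exact hz
  have hic₀ : IsIntegrallyClosed (W₀.toScheme.presheaf.stalk ((p ∣_ W₀).base z₀)) :=
    isIntegrallyClosed_stalk_opens W₀ x hx _ hpz
  have hzW' : z₀ ∈ (p ⁻¹ᵁ W₀).ι ⁻¹ᵁ W := by
    show z₀.1 ∈ W
    rw [hz₀def]; exact hzmem.1.1
  have hWiso : ∀ z' : (p ⁻¹ᵁ W₀).toScheme,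
      z' ∈ (p ⁻¹ᵁ W₀).ι ⁻¹ᵁ W → z' ∈ closure (Set.range γ₀) →
      (p ∣_ W₀).base z' = (p ∣_ W₀).base z₀ → z' = z₀ := by
    intro z' h1 h2 h3
    apply Subtype.ext
    rw [hz₀def]
    have hcl : z'.1 ∈ closure (Set.range γ) := by
      refine map_mem_closure (f := fun w : (p ⁻¹ᵁ W₀).toScheme => w.1)
        continuous_subtype_val h2 ?_
      rintro _ ⟨u₁, rfl⟩
      exact ⟨_, (hγ₀pt u₁).symm⟩
    have hfx : p.base z'.1 = x := by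
      rw [← hpr, h3, hpz]
    have hmem' : z'.1 ∈ (W : Set P) ∩ closure (Set.range γ) ∩ p ⁻¹' {x} :=
      ⟨⟨h1, hcl⟩, hfx⟩
    rw [hW] at hmem'
    exact hmem'
  obtain ⟨N, s, hxN, hs, hagree⟩ :=
    Groth.Agent.Lib.Helper11.Birat7.exists_section_of_isolated (p ∣_ W₀) γ₀
      z₀ hz₀ hic₀ ((p ⁻¹ᵁ W₀).ι ⁻¹ᵁ W) hzW' hWiso
  obtain ⟨e, he⟩ : ∃ e : N.toScheme ⟶ X, e = N.ι ≫ W₀.ι := ⟨_, rfl⟩
  haveI : IsOpenImmersion e := by rw [he]; infer_instance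
  have h_e : ∀ {A : Scheme.{u}} (a : A ⟶ N.toScheme), a ≫ e = a ≫ N.ι ≫ W₀.ι := by
    intro A a; rw [he]
  have heι : e.isoOpensRange.inv ≫ e = e.opensRange.ι := by
    rw [Iso.inv_comp_eq, Scheme.Hom.isoOpensRange_hom_ι]
  have hxV : x ∈ e.opensRange := by
    have hxN' : (⟨x, hxW₀⟩ : W₀) ∈ N := by
      have : (p ∣_ W₀).base z₀ = ⟨x, hxW₀⟩ := Subtype.ext hpz
      rw [← this]; exact hxN
    refine ⟨⟨⟨x, hxW₀⟩, hxN'⟩, ?_⟩
    rw [he]; rfl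
  refine ⟨e.opensRange, e.isoOpensRange.inv ≫ s ≫ (p ⁻¹ᵁ W₀).ι, hxV, ?_, ?_⟩
  · have h1 : (s ≫ (p ⁻¹ᵁ W₀).ι) ≫ p = e := by
      calc (s ≫ (p ⁻¹ᵁ W₀).ι) ≫ p
          = s ≫ ((p ∣_ W₀) ≫ W₀.ι) := by
            rw [morphismRestrict_ι]; simp only [Category.assoc]
        _ = (s ≫ (p ∣_ W₀)) ≫ W₀.ι := by simp only [Category.assoc]
        _ = e := by rw [hs, he]
    calc (e.isoOpensRange.inv ≫ s ≫ (p ⁻¹ᵁ W₀).ι) ≫ p
        = e.isoOpensRange.inv ≫ (s ≫ (p ⁻¹ᵁ W₀).ι) ≫ p := by simp only [Category.assoc]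
      _ = e.opensRange.ι := by rw [h1, heι]
  · have hr : Set.range (U ⊓ e.opensRange).ι ⊆
        Set.range (((γ₀ ≫ (p ∣_ W₀)) ⁻¹ᵁ N).ι ≫ (U ⊓ W₀).ι) := by
      rintro _ ⟨a, rfl⟩
      obtain ⟨n, hn⟩ := a.2.2
      have hn' : n.1.1 = a.1 := by
        have : e.base n = n.1.1 := by rw [he]; rfl
        rw [← this]; exact hn
      have haW₀ : a.1 ∈ W₀ := by rw [← hn']; exact n.1.2
      have hmemN : (γ₀ ≫ (p ∣_ W₀)).base ⟨a.1, a.2.1, haW₀⟩ ∈ N := by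
        have h2 : (γ₀ ≫ (p ∣_ W₀)).base ⟨a.1, a.2.1, haW₀⟩ = n.1 := by
          apply Subtype.ext
          have h3 := congrArg (fun ψ : ((U ⊓ W₀ : X.Opens) : Scheme) ⟶ X =>
            ψ.base ⟨a.1, a.2.1, haW₀⟩) hgι
          exact h3.trans hn'.symm
        rw [h2]; exact n.2
      exact ⟨⟨⟨a.1, a.2.1, haW₀⟩, hmemN⟩, rfl⟩
    obtain ⟨m, hm⟩ : ∃ m, m ≫ (((γ₀ ≫ (p ∣_ W₀)) ⁻¹ᵁ N).ι ≫ (U ⊓ W₀).ι) =
        (U ⊓ e.opensRange).ι := ⟨IsOpenImmersion.lift _ _ hr, IsOpenImmersion.lift_fac _ _ hr⟩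
    have c1 : m ≫ ((γ₀ ≫ (p ∣_ W₀)) ∣_ N) =
        X.homOfLE (inf_le_right : U ⊓ e.opensRange ≤ e.opensRange) ≫ e.isoOpensRange.inv := by
      rw [← cancel_mono e]
      calc (m ≫ ((γ₀ ≫ (p ∣_ W₀)) ∣_ N)) ≫ e
          = m ≫ (((γ₀ ≫ (p ∣_ W₀)) ∣_ N) ≫ N.ι) ≫ W₀.ι := by
            rw [h_e]; simp only [Category.assoc]
        _ = m ≫ ((γ₀ ≫ (p ∣_ W₀)) ⁻¹ᵁ N).ι ≫ ((γ₀ ≫ (p ∣_ W₀)) ≫ W₀.ι) := by
            rw [morphismRestrict_ι]; simp only [Category.assoc]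
        _ = (U ⊓ e.opensRange).ι := by rw [hgι, hm]
        _ = (X.homOfLE (inf_le_right : U ⊓ e.opensRange ≤ e.opensRange) ≫
              e.isoOpensRange.inv) ≫ e := by
            rw [Category.assoc, heι, X.homOfLE_ι]
    have c2 : m ≫ ((γ₀ ≫ (p ∣_ W₀)) ⁻¹ᵁ N).ι ≫ X.homOfLE (inf_le_left : U ⊓ W₀ ≤ U) =
        X.homOfLE (inf_le_left : U ⊓ e.opensRange ≤ U) := by
      rw [← cancel_mono U.ι]
      simp only [Category.assoc, X.homOfLE_ι]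
      exact hm
    calc X.homOfLE (inf_le_right : U ⊓ e.opensRange ≤ e.opensRange) ≫
          e.isoOpensRange.inv ≫ s ≫ (p ⁻¹ᵁ W₀).ι
        = (X.homOfLE (inf_le_right : U ⊓ e.opensRange ≤ e.opensRange) ≫ e.isoOpensRange.inv) ≫
            s ≫ (p ⁻¹ᵁ W₀).ι := by simp only [Category.assoc]
      _ = m ≫ (((γ₀ ≫ (p ∣_ W₀)) ∣_ N) ≫ s) ≫ (p ⁻¹ᵁ W₀).ι := by
          rw [← c1]; simp only [Category.assoc]
      _ = m ≫ ((γ₀ ≫ (p ∣_ W₀)) ⁻¹ᵁ N).ι ≫ (γ₀ ≫ (p ⁻¹ᵁ W₀).ι) := by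
          rw [hagree]; simp only [Category.assoc]
      _ = (m ≫ ((γ₀ ≫ (p ∣_ W₀)) ⁻¹ᵁ N).ι ≫ X.homOfLE (inf_le_left : U ⊓ W₀ ≤ U)) ≫ γ := by
          rw [hγ₀]; simp only [Category.assoc]
      _ = X.homOfLE (inf_le_left : U ⊓ e.opensRange ≤ U) ≫ γ := by rw [c2]

/-- **Lemma B** (dense version). -/
theorem exists_extension_of_isolated {X P : Scheme.{u}} (p : P ⟶ X) [IsSeparated p]
    [LocallyOfFiniteType p] (U : X.Opens) (hU : Dense (U : Set ↥X))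
    (γ : U.toScheme ⟶ P) (hγp : γ ≫ p = U.ι) (x : X)
    (hX : ∃ W₀ : X.Opens, x ∈ W₀ ∧ IsIntegral W₀.toScheme)
    (hx : IsIntegrallyClosed (X.presheaf.stalk x))
    (z : P) (hz : p.base z = x) (hzΓ : z ∈ closure (Set.range γ))
    (W : P.Opens)
    (hW : (W : Set P) ∩ closure (Set.range γ) ∩ p ⁻¹' {x} = {z}) :
    ∃ (V : X.Opens) (s : V.toScheme ⟶ P), x ∈ V ∧ s ≫ p = V.ι ∧
      X.homOfLE (inf_le_right : U ⊓ V ≤ V) ≫ s = X.homOfLE (inf_le_left : U ⊓ V ≤ U) ≫ γ :=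
  exists_extension_of_isolated' p U γ hγp x (hU x) hX hx z hz hzΓ W hW

end Groth.Agent.Lib.Helper11.Birat8
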