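import Mathlib
import Groth.Agent.Lib.Helper11.Birat8
import Groth.Agent.Lib.Helper14.NormalSmoothAsc

universe u
open CategoryTheory CategoryTheory.Limits AlgebraicGeometry TopologicalSpace Topology

namespace Groth.Agent.Lib.Helper11.Birat10

open Groth.Agent.Lib.Helper11

theorem valuationRing_of_ringEquiv {A B : Type*} [CommRing A] [IsDomain A] [CommRing B]
    [IsDomain B] (e : A ≃+* B) [ValuationRing B] : ValuationRing A := by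
  rw [ValuationRing.iff_dvd_total]
  constructor
  intro a b
  have h := (ValuationRing.iff_dvd_total.mp (inferInstance : ValuationRing B)).total (e a) (e b)
  rcases h with h | h
  · left; exact (map_dvd_iff e).mp h
  · right; exact (map_dvd_iff e).mp h

/-- The local rings of a scheme smooth over an integrally closed domain are integrally closed
domains. -/
theorem stalk_normal_of_smooth (R : Type u) [CommRing R] [IsDomain R] [IsIntegrallyClosed R]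
    (Y : Scheme.{u}) (s : Y ⟶ Spec (CommRingCat.of R)) [Smooth s] (y : Y) :
    IsDomain (Y.presheaf.stalk y) ∧ IsIntegrallyClosed (Y.presheaf.stalk y) := by
  obtain ⟨V, hV, hyV⟩ : ∃ V : Y.Opens, IsAffineOpen V ∧ y ∈ V := by
    obtain ⟨_, ⟨V, hV, rfl⟩, hyV, -⟩ :=
      Y.isBasis_affineOpens.exists_subset_of_mem_open (Set.mem_univ y) isOpen_univ
    exact ⟨V, hV, hyV⟩
  have e : V ≤ s ⁻¹ᵁ ⊤ := fun x _ => Set.mem_univ (s.base x)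
  have hsm : RingHom.Smooth (s.appLE ⊤ V e).hom :=
    HasRingHomProperty.appLE @Smooth s inferInstance ⟨⊤, isAffineOpen_top _⟩ ⟨V, hV⟩ e
  let eΓ : Γ(Spec (CommRingCat.of R), ⊤) ≃+* R :=
    (Scheme.ΓSpecIso (CommRingCat.of R)).commRingCatIsoToRingEquiv
  haveI : IsDomain Γ(Spec (CommRingCat.of R), ⊤) := MulEquiv.isDomain R eΓ.toMulEquiv
  haveI : IsIntegrallyClosed Γ(Spec (CommRingCat.of R), ⊤) :=
    IsIntegrallyClosed.of_equiv eΓ.symm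
  letI alg : Algebra Γ(Spec (CommRingCat.of R), ⊤) Γ(Y, V) := (s.appLE ⊤ V e).hom.toAlgebra
  haveI : Algebra.Smooth Γ(Spec (CommRingCat.of R), ⊤) Γ(Y, V) := hsm
  have hnorm : EGA4.IsNormalRing Γ(Y, V) :=
    Groth.Agent.Lib.Helper14.NormalSmoothAsc.isNormalRing_of_smooth_of_isIntegrallyClosed
      Γ(Spec (CommRingCat.of R), ⊤) Γ(Y, V)
  haveI hpp : (hV.primeIdealOf ⟨y, hyV⟩).asIdeal.IsPrime := (hV.primeIdealOf ⟨y, hyV⟩).isPrime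
  obtain ⟨hd, hic⟩ := hnorm (hV.primeIdealOf ⟨y, hyV⟩).asIdeal
  letI := Y.presheaf.algebra_section_stalk (⟨y, hyV⟩ : V)
  haveI := hV.isLocalization_stalk ⟨y, hyV⟩
  let eloc : Localization.AtPrime (hV.primeIdealOf ⟨y, hyV⟩).asIdeal ≃ₐ[Γ(Y, V)]
      Y.presheaf.stalk y :=
    IsLocalization.algEquiv (hV.primeIdealOf ⟨y, hyV⟩).asIdeal.primeCompl _ _
  exact ⟨MulEquiv.isDomain (Localization.AtPrime (hV.primeIdealOf ⟨y, hyV⟩).asIdeal)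
    eloc.symm.toRingEquiv.toMulEquiv, IsIntegrallyClosed.of_equiv eloc.toRingEquiv⟩

/-- A dense open is dense in any larger open. -/
theorem isDominant_homOfLE_of_dense {X : Scheme.{u}} {U V : X.Opens} (hUV : U ≤ V)
    (hU : Dense (U : Set X)) : IsDominant (X.homOfLE hUV) := by
  constructor
  intro v
  rw [mem_closure_iff]
  intro N hN hvN
  have hN' : IsOpen (V.ι.base '' N) := V.ι.isOpenEmbedding.isOpenMap N hN
  obtain ⟨_, ⟨n, hnN, rfl⟩, hnU⟩ := hU.inter_open_nonempty _ hN' ⟨_, ⟨v, hvN, rfl⟩⟩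
  obtain ⟨m, hm⟩ : ∃ m : U.toScheme, m.1 = n.1 := ⟨⟨n.1, hnU⟩, rfl⟩
  refine ⟨n, hnN, ⟨m, ?_⟩⟩
  apply Subtype.ext
  rw [X.homOfLE_apply]; exact hm

/-- Section of a proper birational-type morphism at a point whose local ring is a valuation ring. -/
theorem exists_section_of_valuationRing {X P U₁ : Scheme.{u}} [IsIntegral X] [IsIntegral U₁]
    (p₀ : P ⟶ X) [IsSeparated p₀] [LocallyOfFiniteType p₀] [UniversallyClosed p₀]
    (γ₀ : U₁ ⟶ P) [IsOpenImmersion (γ₀ ≫ p₀)]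
    (x : X) [ValuationRing (X.presheaf.stalk x)] :
    ∃ (N : X.Opens) (s : N.toScheme ⟶ P), x ∈ N ∧ s ≫ p₀ = N.ι ∧
      ((γ₀ ≫ p₀) ∣_ N) ≫ s = ((γ₀ ≫ p₀) ⁻¹ᵁ N).ι ≫ γ₀ := by
  haveI : IsImmersion (γ₀ ≫ p₀) := inferInstance
  haveI : IsImmersion γ₀ := IsImmersion.of_comp γ₀ p₀
  haveI hred : IsReduced γ₀.image := Birat7.isReduced_image_of_isReduced γ₀
  haveI hoi : IsOpenImmersion γ₀.toImage := Birat7.isOpenImmersion_toImage_of_isReduced γ₀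
  have hdense : DenseRange γ₀.toImage := Birat7.denseRange_toImage_of_isReduced γ₀
  haveI : IrreducibleSpace γ₀.image := by
    rw [irreducibleSpace_def]
    convert ((IrreducibleSpace.isIrreducible_univ U₁).image _
      γ₀.toImage.continuous.continuousOn).closure
    simpa using hdense.closure_range.symm
  haveI : IsIntegral γ₀.image := isIntegral_of_irreducibleSpace_of_isReduced _
  have hfac : γ₀.toImage ≫ γ₀.imageι = γ₀ := γ₀.toImage_imageι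
  obtain ⟨f₀, hf₀⟩ : ∃ f₀ : γ₀.image ⟶ X, f₀ = γ₀.imageι ≫ p₀ := ⟨_, rfl⟩
  haveI : IsSeparated f₀ := by rw [hf₀]; infer_instance
  haveI : LocallyOfFiniteType f₀ := by rw [hf₀]; infer_instance
  have hjf : γ₀.toImage ≫ f₀ = γ₀ ≫ p₀ := by rw [hf₀, ← Category.assoc, hfac]
  obtain ⟨u⟩ : Nonempty U₁ := inferInstance
  -- birationality of `f₀`
  haveI hO₁ : IsOpenImmersion (γ₀.toImage.opensRange.ι ≫ f₀) := by
    have : γ₀.toImage.opensRange.ι ≫ f₀ = γ₀.toImage.isoOpensRange.inv ≫ (γ₀ ≫ p₀) := by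
      rw [← hjf, ← Category.assoc]
      congr 1
      rw [Iso.eq_inv_comp, Scheme.Hom.isoOpensRange_hom_ι]
    rw [this]; infer_instance
  haveI : Nonempty γ₀.toImage.opensRange := ⟨⟨γ₀.toImage.base u, ⟨u, rfl⟩⟩⟩
  have hiso₁ := Groth.Agent.S1655.isIso_morphismRestrict_opensRange f₀ γ₀.toImage.opensRange
  have hne₁ : ((γ₀.toImage.opensRange.ι ≫ f₀).opensRange : Set X).Nonempty :=
    ⟨_, ⟨⟨γ₀.toImage.base u, ⟨u, rfl⟩⟩, rfl⟩⟩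
  obtain ⟨hgen, hbir⟩ :=
    Groth.Agent.Lib.Helper11.Birat6.birational_of_isIso_morphismRestrict f₀ _ hne₁ hiso₁
  haveI : UniversallyClosed f₀ := by rw [hf₀]; infer_instance
  obtain ⟨t₀, hft₀, hiso_t⟩ :=
    Groth.Agent.Lib.Helper11.Birat6.exists_isIso_stalkMap_of_valuationRing f₀ hgen hbir x
  have hfin : (irreducibleComponents ↥X).Finite := by
    rw [irreducibleComponents_eq_singleton]; exact Set.finite_singleton _
  obtain ⟨O, ht₀O, hO⟩ := Groth.Agent.S7659.result f₀ hfin t₀ hiso_t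
  haveI := hO
  haveI : Nonempty O := ⟨⟨t₀, ht₀O⟩⟩
  have hisoN := Groth.Agent.S1655.isIso_morphismRestrict_opensRange f₀ O
  obtain ⟨N, hN⟩ : ∃ N : X.Opens, N = (O.ι ≫ f₀).opensRange := ⟨_, rfl⟩
  rw [← hN] at hisoN
  haveI := hisoN
  have hxN : x ∈ N := by
    rw [hN, ← hft₀]; exact ⟨⟨t₀, ht₀O⟩, rfl⟩
  refine ⟨N, inv (f₀ ∣_ N) ≫ (f₀ ⁻¹ᵁ N).ι ≫ γ₀.imageι, hxN, ?_, ?_⟩
  · rw [Category.assoc, Category.assoc, ← hf₀, ← morphismRestrict_ι, IsIso.inv_hom_id_assoc]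
  · have hr : Set.range (((γ₀ ≫ p₀) ⁻¹ᵁ N).ι ≫ γ₀.toImage) ⊆ Set.range (f₀ ⁻¹ᵁ N).ι := by
      rintro _ ⟨u', rfl⟩
      have hu : f₀.base (γ₀.toImage.base u'.1) ∈ N := by
        have h2 : f₀.base (γ₀.toImage.base u'.1) = (γ₀ ≫ p₀).base u'.1 :=
          congrArg (fun ψ : U₁ ⟶ X => ψ.base u'.1) hjf
        rw [h2]; exact u'.2
      exact ⟨⟨γ₀.toImage.base u'.1, hu⟩, rfl⟩
    obtain ⟨k, hk⟩ : ∃ k, k ≫ (f₀ ⁻¹ᵁ N).ι = ((γ₀ ≫ p₀) ⁻¹ᵁ N).ι ≫ γ₀.toImage :=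
      ⟨IsOpenImmersion.lift _ _ hr, IsOpenImmersion.lift_fac _ _ hr⟩
    have hk2 : k ≫ (f₀ ∣_ N) = (γ₀ ≫ p₀) ∣_ N := by
      rw [← cancel_mono N.ι, Category.assoc, morphismRestrict_ι, ← Category.assoc, hk,
        Category.assoc, hjf, morphismRestrict_ι]
    calc ((γ₀ ≫ p₀) ∣_ N) ≫ inv (f₀ ∣_ N) ≫ (f₀ ⁻¹ᵁ N).ι ≫ γ₀.imageι
        = (k ≫ (f₀ ∣_ N)) ≫ inv (f₀ ∣_ N) ≫ (f₀ ⁻¹ᵁ N).ι ≫ γ₀.imageι := by rw [hk2]
      _ = (k ≫ (f₀ ⁻¹ᵁ N).ι) ≫ γ₀.imageι := by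
          simp only [Category.assoc, IsIso.hom_inv_id_assoc]
      _ = (((γ₀ ≫ p₀) ⁻¹ᵁ N).ι ≫ γ₀.toImage) ≫ γ₀.imageι := by rw [hk]
      _ = ((γ₀ ≫ p₀) ⁻¹ᵁ N).ι ≫ γ₀ := by rw [Category.assoc, hfac]


/-- Extension of a rational section of a proper morphism at a point whose local ring is a
valuation ring. -/
theorem exists_extension_of_valuationRing {X P : Scheme.{u}} (p : P ⟶ X) [IsSeparated p]
    [LocallyOfFiniteType p] [UniversallyClosed p] (U : X.Opens)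
    (γ : U.toScheme ⟶ P) (hγp : γ ≫ p = U.ι) (x : X) (hxU : x ∈ closure (U : Set ↥X))
    (hX : ∃ W₀ : X.Opens, x ∈ W₀ ∧ IsIntegral W₀.toScheme)
    [IsDomain (X.presheaf.stalk x)] [ValuationRing (X.presheaf.stalk x)] :
    ∃ (V : X.Opens) (s : V.toScheme ⟶ P), x ∈ V ∧ s ≫ p = V.ι ∧
      X.homOfLE (inf_le_right : U ⊓ V ≤ V) ≫ s = X.homOfLE (inf_le_left : U ⊓ V ≤ U) ≫ γ := by
  obtain ⟨W₀, hxW₀, hW₀int⟩ := hX
  haveI := hW₀int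
  have hγpt : ∀ u : U, p.base (γ.base u) = u.1 :=
    fun u => congrArg (fun ψ : (U : Scheme) ⟶ X => ψ.base u) hγp
  have hne : Nonempty ↥(U ⊓ W₀) := by
    obtain ⟨a, haW, haU⟩ := mem_closure_iff.mp hxU W₀ W₀.isOpen hxW₀
    exact ⟨⟨a, haU, haW⟩⟩
  haveI : Nonempty (U ⊓ W₀ : X.Opens).toScheme := hne
  haveI : IsIntegral (U ⊓ W₀ : X.Opens).toScheme :=
    isIntegral_of_isOpenImmersion (X.homOfLE (inf_le_right : U ⊓ W₀ ≤ W₀))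
  have hsep : IsSeparated p := inferInstance
  have hlft : LocallyOfFiniteType p := inferInstance
  haveI : IsSeparated (p ∣_ W₀) := IsZariskiLocalAtTarget.restrict hsep W₀
  haveI : LocallyOfFiniteType (p ∣_ W₀) := IsZariskiLocalAtTarget.restrict hlft W₀
  have hpr : ∀ w : (p ⁻¹ᵁ W₀).toScheme, ((p ∣_ W₀).base w).1 = p.base w.1 := fun w =>
    congrArg (fun ψ : ((p ⁻¹ᵁ W₀ : P.Opens) : Scheme) ⟶ X => ψ.base w) (morphismRestrict_ι p W₀)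
  have hr₀ : Set.range (X.homOfLE (inf_le_left : U ⊓ W₀ ≤ U) ≫ γ) ⊆
      Set.range (p ⁻¹ᵁ W₀).ι := by
    rintro _ ⟨u, rfl⟩
    have hmem : p.base (γ.base ((X.homOfLE (inf_le_left : U ⊓ W₀ ≤ U)).base u)) ∈ W₀ := by
      rw [hγpt, X.homOfLE_apply]; exact u.2.2
    exact ⟨⟨_, hmem⟩, rfl⟩
  obtain ⟨γ₀, hγ₀⟩ : ∃ γ₀ : (U ⊓ W₀ : X.Opens).toScheme ⟶ (p ⁻¹ᵁ W₀ : P.Opens).toScheme,
      γ₀ ≫ (p ⁻¹ᵁ W₀).ι = X.homOfLE (inf_le_left : U ⊓ W₀ ≤ U) ≫ γ :=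
    ⟨IsOpenImmersion.lift _ _ hr₀, IsOpenImmersion.lift_fac _ _ hr₀⟩
  have hγ₀pt : ∀ u₁ : (U ⊓ W₀ : X.Opens).toScheme, (γ₀.base u₁).1 = γ.base
      ((X.homOfLE (inf_le_left : U ⊓ W₀ ≤ U)).base u₁) := fun u₁ =>
    congrArg (fun ψ : ((U ⊓ W₀ : X.Opens) : Scheme) ⟶ P => ψ.base u₁) hγ₀
  have hg : γ₀ ≫ (p ∣_ W₀) = X.homOfLE (inf_le_right : U ⊓ W₀ ≤ W₀) := by
    rw [← cancel_mono W₀.ι, Category.assoc, morphismRestrict_ι, ← Category.assoc, hγ₀,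
      Category.assoc, hγp, X.homOfLE_ι, X.homOfLE_ι]
  have hgι : (γ₀ ≫ (p ∣_ W₀)) ≫ W₀.ι = (U ⊓ W₀).ι := by
    rw [hg, X.homOfLE_ι]
  haveI : IsOpenImmersion (γ₀ ≫ (p ∣_ W₀)) := by rw [hg]; infer_instance
  have huc : UniversallyClosed p := inferInstance
  haveI : UniversallyClosed (p ∣_ W₀) := IsZariskiLocalAtTarget.restrict huc W₀
  obtain ⟨x₀, hx₀⟩ : ∃ x₀ : W₀.toScheme, x₀.1 = x := ⟨⟨x, hxW₀⟩, rfl⟩
  haveI : ValuationRing (W₀.toScheme.presheaf.stalk x₀) := by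
    subst hx₀
    exact valuationRing_of_ringEquiv (W₀.stalkIso x₀).commRingCatIsoToRingEquiv
  obtain ⟨N, s, hxN, hs, hagree⟩ := exists_section_of_valuationRing (p ∣_ W₀) γ₀ x₀
  obtain ⟨e, he⟩ : ∃ e : N.toScheme ⟶ X, e = N.ι ≫ W₀.ι := ⟨_, rfl⟩
  haveI : IsOpenImmersion e := by rw [he]; infer_instance
  have h_e : ∀ {A : Scheme.{u}} (a : A ⟶ N.toScheme), a ≫ e = a ≫ N.ι ≫ W₀.ι := by
    intro A a; rw [he]
  have heι : e.isoOpensRange.inv ≫ e = e.opensRange.ι := by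
    rw [Iso.inv_comp_eq, Scheme.Hom.isoOpensRange_hom_ι]
  have hxV : x ∈ e.opensRange := by
    refine ⟨⟨x₀, hxN⟩, ?_⟩
    rw [he]; exact hx₀
  refine ⟨e.opensRange, e.isoOpensRange.inv ≫ s ≫ (p ⁻¹ᵁ W₀).ι, hxV, ?_, ?_⟩
  · have h1 : (s ≫ (p ⁻¹ᵁ W₀).ι) ≫ p = e := by
      calc (s ≫ (p ⁻¹ᵁ W₀).ι) ≫ p
          = s ≫ ((p ∣_ W₀) ≫ W₀.ι) := by
            rw [morphismRestrict_ι]; simp only [Category.assoc]
        _ = (s ≫ (p ∣_ W₀)) ≫ W₀.ι := by simp only [Category.assoc]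
        _ = e := by rw [hs, he]
    calc (e.isoOpensRange.inv ≫ s ≫ (p ⁻¹ᵁ W₀).ι) ≫ p
        = e.isoOpensRange.inv ≫ (s ≫ (p ⁻¹ᵁ W₀).ι) ≫ p := by simp only [Category.assoc]
      _ = e.opensRange.ι := by rw [h1, heι]
  · have hr : Set.range (U ⊓ e.opensRange).ι ⊆
        Set.range (((γ₀ ≫ (p ∣_ W₀)) ⁻¹ᵁ N).ι ≫ (U ⊓ W₀).ι) := by
      rintro _ ⟨a, rfl⟩
      obtain ⟨n, hn⟩ := a.2.2
      have hn' : n.1.1 = a.1 := by
        have : e.base n = n.1.1 := by rw [he]; rfl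
        rw [← this]; exact hn
      have haW₀ : a.1 ∈ W₀ := by rw [← hn']; exact n.1.2
      have hmemN : (γ₀ ≫ (p ∣_ W₀)).base ⟨a.1, a.2.1, haW₀⟩ ∈ N := by
        have h2 : (γ₀ ≫ (p ∣_ W₀)).base ⟨a.1, a.2.1, haW₀⟩ = n.1 := by
          apply Subtype.ext
          have h3 := congrArg (fun ψ : ((U ⊓ W₀ : X.Opens) : Scheme) ⟶ X =>
            ψ.base ⟨a.1, a.2.1, haW₀⟩) hgι
          exact h3.trans hn'.symm
        rw [h2]; exact n.2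
      exact ⟨⟨⟨a.1, a.2.1, haW₀⟩, hmemN⟩, rfl⟩
    obtain ⟨m, hm⟩ : ∃ m, m ≫ (((γ₀ ≫ (p ∣_ W₀)) ⁻¹ᵁ N).ι ≫ (U ⊓ W₀).ι) =
        (U ⊓ e.opensRange).ι := ⟨IsOpenImmersion.lift _ _ hr, IsOpenImmersion.lift_fac _ _ hr⟩
    have c1 : m ≫ ((γ₀ ≫ (p ∣_ W₀)) ∣_ N) =
        X.homOfLE (inf_le_right : U ⊓ e.opensRange ≤ e.opensRange) ≫ e.isoOpensRange.inv := by
      rw [← cancel_mono e]
      calc (m ≫ ((γ₀ ≫ (p ∣_ W₀)) ∣_ N)) ≫ e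
          = m ≫ (((γ₀ ≫ (p ∣_ W₀)) ∣_ N) ≫ N.ι) ≫ W₀.ι := by
            rw [h_e]; simp only [Category.assoc]
        _ = m ≫ ((γ₀ ≫ (p ∣_ W₀)) ⁻¹ᵁ N).ι ≫ ((γ₀ ≫ (p ∣_ W₀)) ≫ W₀.ι) := by
            rw [morphismRestrict_ι]; simp only [Category.assoc]
        _ = (U ⊓ e.opensRange).ι := by rw [hgι, hm]
        _ = (X.homOfLE (inf_le_right : U ⊓ e.opensRange ≤ e.opensRange) ≫
              e.isoOpensRange.inv) ≫ e := by
            rw [Category.assoc, heι, X.homOfLE_ι]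
    have c2 : m ≫ ((γ₀ ≫ (p ∣_ W₀)) ⁻¹ᵁ N).ι ≫ X.homOfLE (inf_le_left : U ⊓ W₀ ≤ U) =
        X.homOfLE (inf_le_left : U ⊓ e.opensRange ≤ U) := by
      rw [← cancel_mono U.ι]
      simp only [Category.assoc, X.homOfLE_ι]
      exact hm
    calc X.homOfLE (inf_le_right : U ⊓ e.opensRange ≤ e.opensRange) ≫
          e.isoOpensRange.inv ≫ s ≫ (p ⁻¹ᵁ W₀).ι
        = (X.homOfLE (inf_le_right : U ⊓ e.opensRange ≤ e.opensRange) ≫ e.isoOpensRange.inv) ≫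
            s ≫ (p ⁻¹ᵁ W₀).ι := by simp only [Category.assoc]
      _ = m ≫ (((γ₀ ≫ (p ∣_ W₀)) ∣_ N) ≫ s) ≫ (p ⁻¹ᵁ W₀).ι := by
          rw [← c1]; simp only [Category.assoc]
      _ = m ≫ ((γ₀ ≫ (p ∣_ W₀)) ⁻¹ᵁ N).ι ≫ (γ₀ ≫ (p ⁻¹ᵁ W₀).ι) := by
          rw [hagree]; simp only [Category.assoc]
      _ = (m ≫ ((γ₀ ≫ (p ∣_ W₀)) ⁻¹ᵁ N).ι ≫ X.homOfLE (inf_le_left : U ⊓ W₀ ≤ U)) ≫ γ := by
          rw [hγ₀]; simp only [Category.assoc]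
      _ = X.homOfLE (inf_le_left : U ⊓ e.opensRange ≤ U) ≫ γ := by rw [c2]


end Groth.Agent.Lib.Helper11.Birat10
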