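import Mathlib
import Groth.Agent.Lib.Helper11.Birat10
import Groth.Agent.Lib.Helper9.RegLocal

/-!
# Birat11: closed-map variants of the valuation-ring extension lemmas, and gluing of sections

* `surjective_of_valuationRing`: a local injective "birational" hom out of a valuation ring is onto.
* `exists_isIso_stalkMap_of_valuationRing'`: closed birational morphism of integral schemes has
  a point with iso stalk map over any valuation-ring point.
* `exists_extension_of_valuationRing'`: extension of a rational section of a separated, l.f.t.,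
  topologically closed morphism at a valuation-ring point.
* `exists_glue_sections`: glue sections over a family of opens agreeing with a given section
  on a dense open.
* `valuationRing_of_regular_of_dim_le_one`.
-/

universe u
open CategoryTheory CategoryTheory.Limits AlgebraicGeometry TopologicalSpace Topology

namespace Groth.Agent.Lib.Helper11.Birat11

open Groth.Agent.Lib.Helper11

theorem surjective_of_valuationRing {A B : Type*} [CommRing A] [IsDomain A] [ValuationRing A]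
    [CommRing B] [IsDomain B] (φ : A →+* B) [IsLocalHom φ] (hinj : Function.Injective φ)
    (h : ∀ b : B, ∃ a a' : A, a' ≠ 0 ∧ φ a' * b = φ a) : Function.Surjective φ := by
  intro b
  by_cases hb : b = 0
  · exact ⟨0, by rw [hb, map_zero]⟩
  obtain ⟨a, a', ha', hab⟩ := h b
  have hφa' : φ a' ≠ 0 := fun h0 => ha' (hinj (by rw [h0, map_zero]))
  rcases ValuationRing.dvd_total a a' with ⟨c, hc⟩ | ⟨c, hc⟩
  · have ha : φ a ≠ 0 := by
      intro h0; rw [h0] at hab; exact (mul_ne_zero hφa' hb) hab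
    have h1 : φ a * (φ c * b) = φ a * 1 := by
      rw [mul_one, ← mul_assoc, ← map_mul, ← hc, hab]
    have h2 : φ c * b = 1 := mul_left_cancel₀ ha h1
    have hu : IsUnit (φ c) := IsUnit.of_mul_eq_one _ h2
    obtain ⟨u, hu'⟩ := isUnit_of_map_unit φ c hu
    refine ⟨((u⁻¹ : Aˣ) : A), ?_⟩
    have h3 : φ c * φ ((u⁻¹ : Aˣ) : A) = 1 := by
      rw [← map_mul, ← hu', Units.mul_inv, map_one]
    exact mul_left_cancel₀ hu.ne_zero (h3.trans h2.symm)
  · refine ⟨c, ?_⟩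
    have h1 : φ a' * φ c = φ a' * b := by rw [← map_mul, ← hc, hab]
    exact mul_left_cancel₀ hφa' h1

theorem exists_isIso_stalkMap_of_valuationRing' {X Y : Scheme.{u}} [IsIntegral X] [IsIntegral Y]
    (f : X ⟶ Y) (hcl : IsClosedMap f.base)
    (hgen : f.base (genericPoint X) = genericPoint Y)
    (hbir : IsIso (f.stalkMap (genericPoint X)))
    (y : Y) [ValuationRing (Y.presheaf.stalk y)] :
    ∃ x : X, f.base x = y ∧ IsIso (f.stalkMap x) := by
  haveI := hbir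
  have hsurj : Function.Surjective f.base := by
    have hclosed : IsClosed (Set.range f.base) := by
      rw [← Set.image_univ]; exact hcl _ isClosed_univ
    have hmem : genericPoint Y ∈ Set.range f.base := ⟨_, hgen⟩
    intro z
    have hz : z ∈ closure ({genericPoint Y} : Set Y) := by
      rw [(genericPoint_spec Y).def]; trivial
    exact hclosed.closure_subset_iff.mpr (Set.singleton_subset_iff.mpr hmem) hz
  obtain ⟨x, rfl⟩ := hsurj y
  refine ⟨x, rfl, ?_⟩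
  have hξx : genericPoint X ⤳ x := (genericPoint_spec X).specializes trivial
  have hfs : f.base (genericPoint X) ⤳ f.base x := f.base.hom.map_specializes hξx
  have hη : genericPoint Y ⤳ f.base (genericPoint X) := specializes_of_eq hgen.symm
  haveI hηiso : IsIso (Y.presheaf.stalkSpecializes hη) :=
    Birat6.isIso_stalkSpecializes_of_eq hgen.symm hη
  have heinj : Function.Injective (Y.presheaf.stalkSpecializes hη) :=
    (ConcreteCategory.bijective_of_isIso (Y.presheaf.stalkSpecializes hη)).1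
  have hcomp : ∀ a, (Y.presheaf.stalkSpecializes hη) ((Y.presheaf.stalkSpecializes hfs) a) =
      algebraMap (Y.presheaf.stalk (f.base x)) Y.functionField a := by
    intro a
    rw [← CommRingCat.comp_apply, TopCat.Presheaf.stalkSpecializes_comp]
    rfl
  have hsYinj : Function.Injective (Y.presheaf.stalkSpecializes hfs) := by
    intro a b hab
    have h1 : algebraMap (Y.presheaf.stalk (f.base x)) Y.functionField a =
        algebraMap (Y.presheaf.stalk (f.base x)) Y.functionField b := by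
      rw [← hcomp, ← hcomp, hab]
    exact IsFractionRing.injective _ _ h1
  have hsXinj : Function.Injective (X.presheaf.stalkSpecializes hξx) :=
    IsFractionRing.injective (X.presheaf.stalk x) X.functionField
  have hξinj : Function.Injective (f.stalkMap (genericPoint X)) :=
    (ConcreteCategory.bijective_of_isIso (f.stalkMap (genericPoint X))).1
  have hξsurj : Function.Surjective (f.stalkMap (genericPoint X)) :=
    (ConcreteCategory.bijective_of_isIso (f.stalkMap (genericPoint X))).2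
  have hnat : ∀ a, f.stalkMap (genericPoint X) (Y.presheaf.stalkSpecializes hfs a) =
      X.presheaf.stalkSpecializes hξx (f.stalkMap x a) := fun a =>
    Scheme.Hom.stalkSpecializes_stalkMap_apply f (genericPoint X) x hξx a
  have hinj : Function.Injective (f.stalkMap x).hom := by
    intro a b hab
    apply hsYinj
    apply hξinj
    rw [hnat, hnat]
    exact congrArg _ hab
  have hfrac : ∀ b : X.presheaf.stalk x, ∃ a a' : Y.presheaf.stalk (f.base x), a' ≠ 0 ∧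
      (f.stalkMap x).hom a' * b = (f.stalkMap x).hom a := by
    intro b
    obtain ⟨κ, hκ⟩ := hξsurj (X.presheaf.stalkSpecializes hξx b)
    obtain ⟨⟨a, s⟩, hk⟩ := IsLocalization.surj (nonZeroDivisors (Y.presheaf.stalk (f.base x)))
      (Y.presheaf.stalkSpecializes hη κ)
    refine ⟨a, s.1, nonZeroDivisors.ne_zero s.2, ?_⟩
    have h1 : κ * Y.presheaf.stalkSpecializes hfs s.1 = Y.presheaf.stalkSpecializes hfs a := by
      apply heinj
      rw [map_mul, hcomp, hcomp]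
      exact hk
    have h2 := congrArg (f.stalkMap (genericPoint X)) h1
    rw [map_mul, hκ, hnat, hnat, ← map_mul] at h2
    have h3 := hsXinj h2
    rw [mul_comm]
    exact h3
  have hbij : Function.Bijective (f.stalkMap x).hom :=
    ⟨hinj, surjective_of_valuationRing (f.stalkMap x).hom hinj hfrac⟩
  exact (ConcreteCategory.isIso_iff_bijective _).mpr hbij


/-- Section of a proper birational-type morphism at a point whose local ring is a valuation ring. -/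
theorem exists_section_of_valuationRing' {X P U₁ : Scheme.{u}} [IsIntegral X] [IsIntegral U₁]
    (p₀ : P ⟶ X) [IsSeparated p₀] [LocallyOfFiniteType p₀] (hcl : IsClosedMap p₀.base)
    (γ₀ : U₁ ⟶ P) [IsOpenImmersion (γ₀ ≫ p₀)]
    (x : X) [ValuationRing (X.presheaf.stalk x)] :
    ∃ (N : X.Opens) (s : N.toScheme ⟶ P), x ∈ N ∧ s ≫ p₀ = N.ι ∧
      ((γ₀ ≫ p₀) ∣_ N) ≫ s = ((γ₀ ≫ p₀) ⁻¹ᵁ N).ι ≫ γ₀ := by
  haveI : IsImmersion (γ₀ ≫ p₀) := inferInstance
  haveI : IsImmersion γ₀ := IsImmersion.of_comp γ₀ p₀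
  haveI hred : IsReduced γ₀.image := Birat7.isReduced_image_of_isReduced γ₀
  haveI hoi : IsOpenImmersion γ₀.toImage := Birat7.isOpenImmersion_toImage_of_isReduced γ₀
  have hdense : DenseRange γ₀.toImage := Birat7.denseRange_toImage_of_isReduced γ₀
  haveI : IrreducibleSpace γ₀.image := by
    rw [irreducibleSpace_def]
    convert ((IrreducibleSpace.isIrreducible_univ U₁).image _
      γ₀.toImage.continuous.continuousOn).closure
    simpa using hdense.closure_range.symm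
  haveI : IsIntegral γ₀.image := isIntegral_of_irreducibleSpace_of_isReduced _
  have hfac : γ₀.toImage ≫ γ₀.imageι = γ₀ := γ₀.toImage_imageι
  obtain ⟨f₀, hf₀⟩ : ∃ f₀ : γ₀.image ⟶ X, f₀ = γ₀.imageι ≫ p₀ := ⟨_, rfl⟩
  haveI : IsSeparated f₀ := by rw [hf₀]; infer_instance
  haveI : LocallyOfFiniteType f₀ := by rw [hf₀]; infer_instance
  have hjf : γ₀.toImage ≫ f₀ = γ₀ ≫ p₀ := by rw [hf₀, ← Category.assoc, hfac]
  obtain ⟨u⟩ : Nonempty U₁ := inferInstance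
  -- birationality of `f₀`
  haveI hO₁ : IsOpenImmersion (γ₀.toImage.opensRange.ι ≫ f₀) := by
    have : γ₀.toImage.opensRange.ι ≫ f₀ = γ₀.toImage.isoOpensRange.inv ≫ (γ₀ ≫ p₀) := by
      rw [← hjf, ← Category.assoc]
      congr 1
      rw [Iso.eq_inv_comp, Scheme.Hom.isoOpensRange_hom_ι]
    rw [this]; infer_instance
  haveI : Nonempty γ₀.toImage.opensRange := ⟨⟨γ₀.toImage.base u, ⟨u, rfl⟩⟩⟩
  have hiso₁ := Groth.Agent.S1655.isIso_morphismRestrict_opensRange f₀ γ₀.toImage.opensRange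
  have hne₁ : ((γ₀.toImage.opensRange.ι ≫ f₀).opensRange : Set X).Nonempty :=
    ⟨_, ⟨⟨γ₀.toImage.base u, ⟨u, rfl⟩⟩, rfl⟩⟩
  obtain ⟨hgen, hbir⟩ :=
    Groth.Agent.Lib.Helper11.Birat6.birational_of_isIso_morphismRestrict f₀ _ hne₁ hiso₁
  have hclf₀ : IsClosedMap f₀.base := by
    rw [hf₀, Scheme.Hom.comp_base, TopCat.coe_comp]
    exact hcl.comp γ₀.imageι.isClosedEmbedding.isClosedMap
  obtain ⟨t₀, hft₀, hiso_t⟩ :=
    exists_isIso_stalkMap_of_valuationRing' f₀ hclf₀ hgen hbir x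
  have hfin : (irreducibleComponents ↥X).Finite := by
    rw [irreducibleComponents_eq_singleton]; exact Set.finite_singleton _
  obtain ⟨O, ht₀O, hO⟩ := Groth.Agent.S7659.result f₀ hfin t₀ hiso_t
  haveI := hO
  haveI : Nonempty O := ⟨⟨t₀, ht₀O⟩⟩
  have hisoN := Groth.Agent.S1655.isIso_morphismRestrict_opensRange f₀ O
  obtain ⟨N, hN⟩ : ∃ N : X.Opens, N = (O.ι ≫ f₀).opensRange := ⟨_, rfl⟩
  rw [← hN] at hisoN
  haveI := hisoN
  have hxN : x ∈ N := by
    rw [hN, ← hft₀]; exact ⟨⟨t₀, ht₀O⟩, rfl⟩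
  refine ⟨N, inv (f₀ ∣_ N) ≫ (f₀ ⁻¹ᵁ N).ι ≫ γ₀.imageι, hxN, ?_, ?_⟩
  · rw [Category.assoc, Category.assoc, ← hf₀, ← morphismRestrict_ι, IsIso.inv_hom_id_assoc]
  · have hr : Set.range (((γ₀ ≫ p₀) ⁻¹ᵁ N).ι ≫ γ₀.toImage) ⊆ Set.range (f₀ ⁻¹ᵁ N).ι := by
      rintro _ ⟨u', rfl⟩
      have hu : f₀.base (γ₀.toImage.base u'.1) ∈ N := by
        have h2 : f₀.base (γ₀.toImage.base u'.1) = (γ₀ ≫ p₀).base u'.1 :=
          congrArg (fun ψ : U₁ ⟶ X => ψ.base u'.1) hjf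
        rw [h2]; exact u'.2
      exact ⟨⟨γ₀.toImage.base u'.1, hu⟩, rfl⟩
    obtain ⟨k, hk⟩ : ∃ k, k ≫ (f₀ ⁻¹ᵁ N).ι = ((γ₀ ≫ p₀) ⁻¹ᵁ N).ι ≫ γ₀.toImage :=
      ⟨IsOpenImmersion.lift _ _ hr, IsOpenImmersion.lift_fac _ _ hr⟩
    have hk2 : k ≫ (f₀ ∣_ N) = (γ₀ ≫ p₀) ∣_ N := by
      rw [← cancel_mono N.ι, Category.assoc, morphismRestrict_ι, ← Category.assoc, hk,
        Category.assoc, hjf, morphismRestrict_ι]
    calc ((γ₀ ≫ p₀) ∣_ N) ≫ inv (f₀ ∣_ N) ≫ (f₀ ⁻¹ᵁ N).ι ≫ γ₀.imageι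
        = (k ≫ (f₀ ∣_ N)) ≫ inv (f₀ ∣_ N) ≫ (f₀ ⁻¹ᵁ N).ι ≫ γ₀.imageι := by rw [hk2]
      _ = (k ≫ (f₀ ⁻¹ᵁ N).ι) ≫ γ₀.imageι := by
          simp only [Category.assoc, IsIso.hom_inv_id_assoc]
      _ = (((γ₀ ≫ p₀) ⁻¹ᵁ N).ι ≫ γ₀.toImage) ≫ γ₀.imageι := by rw [hk]
      _ = ((γ₀ ≫ p₀) ⁻¹ᵁ N).ι ≫ γ₀ := by rw [Category.assoc, hfac]



/-- Extension of a rational section of a proper morphism at a point whose local ring is a
valuation ring. -/
theorem exists_extension_of_valuationRing' {X P : Scheme.{u}} (p : P ⟶ X) [IsSeparated p]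
    [LocallyOfFiniteType p] (hcl : IsClosedMap p.base) (U : X.Opens)
    (γ : U.toScheme ⟶ P) (hγp : γ ≫ p = U.ι) (x : X) (hxU : x ∈ closure (U : Set ↥X))
    (hX : ∃ W₀ : X.Opens, x ∈ W₀ ∧ IsIntegral W₀.toScheme)
    [IsDomain (X.presheaf.stalk x)] [ValuationRing (X.presheaf.stalk x)] :
    ∃ (V : X.Opens) (s : V.toScheme ⟶ P), x ∈ V ∧ s ≫ p = V.ι ∧
      X.homOfLE (inf_le_right : U ⊓ V ≤ V) ≫ s = X.homOfLE (inf_le_left : U ⊓ V ≤ U) ≫ γ := by
  obtain ⟨W₀, hxW₀, hW₀int⟩ := hX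
  haveI := hW₀int
  have hγpt : ∀ u : U, p.base (γ.base u) = u.1 :=
    fun u => congrArg (fun ψ : (U : Scheme) ⟶ X => ψ.base u) hγp
  have hne : Nonempty ↥(U ⊓ W₀) := by
    obtain ⟨a, haW, haU⟩ := mem_closure_iff.mp hxU W₀ W₀.isOpen hxW₀
    exact ⟨⟨a, haU, haW⟩⟩
  haveI : Nonempty (U ⊓ W₀ : X.Opens).toScheme := hne
  haveI : IsIntegral (U ⊓ W₀ : X.Opens).toScheme :=
    isIntegral_of_isOpenImmersion (X.homOfLE (inf_le_right : U ⊓ W₀ ≤ W₀))
  have hsep : IsSeparated p := inferInstance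
  have hlft : LocallyOfFiniteType p := inferInstance
  haveI : IsSeparated (p ∣_ W₀) := IsZariskiLocalAtTarget.restrict hsep W₀
  haveI : LocallyOfFiniteType (p ∣_ W₀) := IsZariskiLocalAtTarget.restrict hlft W₀
  have hpr : ∀ w : (p ⁻¹ᵁ W₀).toScheme, ((p ∣_ W₀).base w).1 = p.base w.1 := fun w =>
    congrArg (fun ψ : ((p ⁻¹ᵁ W₀ : P.Opens) : Scheme) ⟶ X => ψ.base w) (morphismRestrict_ι p W₀)
  have hr₀ : Set.range (X.homOfLE (inf_le_left : U ⊓ W₀ ≤ U) ≫ γ) ⊆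
      Set.range (p ⁻¹ᵁ W₀).ι := by
    rintro _ ⟨u, rfl⟩
    have hmem : p.base (γ.base ((X.homOfLE (inf_le_left : U ⊓ W₀ ≤ U)).base u)) ∈ W₀ := by
      rw [hγpt, X.homOfLE_apply]; exact u.2.2
    exact ⟨⟨_, hmem⟩, rfl⟩
  obtain ⟨γ₀, hγ₀⟩ : ∃ γ₀ : (U ⊓ W₀ : X.Opens).toScheme ⟶ (p ⁻¹ᵁ W₀ : P.Opens).toScheme,
      γ₀ ≫ (p ⁻¹ᵁ W₀).ι = X.homOfLE (inf_le_left : U ⊓ W₀ ≤ U) ≫ γ :=
    ⟨IsOpenImmersion.lift _ _ hr₀, IsOpenImmersion.lift_fac _ _ hr₀⟩
  have hγ₀pt : ∀ u₁ : (U ⊓ W₀ : X.Opens).toScheme, (γ₀.base u₁).1 = γ.base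
      ((X.homOfLE (inf_le_left : U ⊓ W₀ ≤ U)).base u₁) := fun u₁ =>
    congrArg (fun ψ : ((U ⊓ W₀ : X.Opens) : Scheme) ⟶ P => ψ.base u₁) hγ₀
  have hg : γ₀ ≫ (p ∣_ W₀) = X.homOfLE (inf_le_right : U ⊓ W₀ ≤ W₀) := by
    rw [← cancel_mono W₀.ι, Category.assoc, morphismRestrict_ι, ← Category.assoc, hγ₀,
      Category.assoc, hγp, X.homOfLE_ι, X.homOfLE_ι]
  have hgι : (γ₀ ≫ (p ∣_ W₀)) ≫ W₀.ι = (U ⊓ W₀).ι := by
    rw [hg, X.homOfLE_ι]
  haveI : IsOpenImmersion (γ₀ ≫ (p ∣_ W₀)) := by rw [hg]; infer_instance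
  have hclW : IsClosedMap (p ∣_ W₀).base := by
    rw [morphismRestrict_base]; exact hcl.restrictPreimage _
  obtain ⟨x₀, hx₀⟩ : ∃ x₀ : W₀.toScheme, x₀.1 = x := ⟨⟨x, hxW₀⟩, rfl⟩
  haveI : ValuationRing (W₀.toScheme.presheaf.stalk x₀) := by
    subst hx₀
    exact Birat10.valuationRing_of_ringEquiv (W₀.stalkIso x₀).commRingCatIsoToRingEquiv
  obtain ⟨N, s, hxN, hs, hagree⟩ := exists_section_of_valuationRing' (p ∣_ W₀) hclW γ₀ x₀
  obtain ⟨e, he⟩ : ∃ e : N.toScheme ⟶ X, e = N.ι ≫ W₀.ι := ⟨_, rfl⟩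
  haveI : IsOpenImmersion e := by rw [he]; infer_instance
  have h_e : ∀ {A : Scheme.{u}} (a : A ⟶ N.toScheme), a ≫ e = a ≫ N.ι ≫ W₀.ι := by
    intro A a; rw [he]
  have heι : e.isoOpensRange.inv ≫ e = e.opensRange.ι := by
    rw [Iso.inv_comp_eq, Scheme.Hom.isoOpensRange_hom_ι]
  have hxV : x ∈ e.opensRange := by
    refine ⟨⟨x₀, hxN⟩, ?_⟩
    rw [he]; exact hx₀
  refine ⟨e.opensRange, e.isoOpensRange.inv ≫ s ≫ (p ⁻¹ᵁ W₀).ι, hxV, ?_, ?_⟩
  · have h1 : (s ≫ (p ⁻¹ᵁ W₀).ι) ≫ p = e := by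
      calc (s ≫ (p ⁻¹ᵁ W₀).ι) ≫ p
          = s ≫ ((p ∣_ W₀) ≫ W₀.ι) := by
            rw [morphismRestrict_ι]; simp only [Category.assoc]
        _ = (s ≫ (p ∣_ W₀)) ≫ W₀.ι := by simp only [Category.assoc]
        _ = e := by rw [hs, he]
    calc (e.isoOpensRange.inv ≫ s ≫ (p ⁻¹ᵁ W₀).ι) ≫ p
        = e.isoOpensRange.inv ≫ (s ≫ (p ⁻¹ᵁ W₀).ι) ≫ p := by simp only [Category.assoc]
      _ = e.opensRange.ι := by rw [h1, heι]
  · have hr : Set.range (U ⊓ e.opensRange).ι ⊆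
        Set.range (((γ₀ ≫ (p ∣_ W₀)) ⁻¹ᵁ N).ι ≫ (U ⊓ W₀).ι) := by
      rintro _ ⟨a, rfl⟩
      obtain ⟨n, hn⟩ := a.2.2
      have hn' : n.1.1 = a.1 := by
        have : e.base n = n.1.1 := by rw [he]; rfl
        rw [← this]; exact hn
      have haW₀ : a.1 ∈ W₀ := by rw [← hn']; exact n.1.2
      have hmemN : (γ₀ ≫ (p ∣_ W₀)).base ⟨a.1, a.2.1, haW₀⟩ ∈ N := by
        have h2 : (γ₀ ≫ (p ∣_ W₀)).base ⟨a.1, a.2.1, haW₀⟩ = n.1 := by
          apply Subtype.ext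
          have h3 := congrArg (fun ψ : ((U ⊓ W₀ : X.Opens) : Scheme) ⟶ X =>
            ψ.base ⟨a.1, a.2.1, haW₀⟩) hgι
          exact h3.trans hn'.symm
        rw [h2]; exact n.2
      exact ⟨⟨⟨a.1, a.2.1, haW₀⟩, hmemN⟩, rfl⟩
    obtain ⟨m, hm⟩ : ∃ m, m ≫ (((γ₀ ≫ (p ∣_ W₀)) ⁻¹ᵁ N).ι ≫ (U ⊓ W₀).ι) =
        (U ⊓ e.opensRange).ι := ⟨IsOpenImmersion.lift _ _ hr, IsOpenImmersion.lift_fac _ _ hr⟩
    have c1 : m ≫ ((γ₀ ≫ (p ∣_ W₀)) ∣_ N) =
        X.homOfLE (inf_le_right : U ⊓ e.opensRange ≤ e.opensRange) ≫ e.isoOpensRange.inv := by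
      rw [← cancel_mono e]
      calc (m ≫ ((γ₀ ≫ (p ∣_ W₀)) ∣_ N)) ≫ e
          = m ≫ (((γ₀ ≫ (p ∣_ W₀)) ∣_ N) ≫ N.ι) ≫ W₀.ι := by
            rw [h_e]; simp only [Category.assoc]
        _ = m ≫ ((γ₀ ≫ (p ∣_ W₀)) ⁻¹ᵁ N).ι ≫ ((γ₀ ≫ (p ∣_ W₀)) ≫ W₀.ι) := by
            rw [morphismRestrict_ι]; simp only [Category.assoc]
        _ = (U ⊓ e.opensRange).ι := by rw [hgι, hm]
        _ = (X.homOfLE (inf_le_right : U ⊓ e.opensRange ≤ e.opensRange) ≫
              e.isoOpensRange.inv) ≫ e := by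
            rw [Category.assoc, heι, X.homOfLE_ι]
    have c2 : m ≫ ((γ₀ ≫ (p ∣_ W₀)) ⁻¹ᵁ N).ι ≫ X.homOfLE (inf_le_left : U ⊓ W₀ ≤ U) =
        X.homOfLE (inf_le_left : U ⊓ e.opensRange ≤ U) := by
      rw [← cancel_mono U.ι]
      simp only [Category.assoc, X.homOfLE_ι]
      exact hm
    calc X.homOfLE (inf_le_right : U ⊓ e.opensRange ≤ e.opensRange) ≫
          e.isoOpensRange.inv ≫ s ≫ (p ⁻¹ᵁ W₀).ι
        = (X.homOfLE (inf_le_right : U ⊓ e.opensRange ≤ e.opensRange) ≫ e.isoOpensRange.inv) ≫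
            s ≫ (p ⁻¹ᵁ W₀).ι := by simp only [Category.assoc]
      _ = m ≫ (((γ₀ ≫ (p ∣_ W₀)) ∣_ N) ≫ s) ≫ (p ⁻¹ᵁ W₀).ι := by
          rw [← c1]; simp only [Category.assoc]
      _ = m ≫ ((γ₀ ≫ (p ∣_ W₀)) ⁻¹ᵁ N).ι ≫ (γ₀ ≫ (p ⁻¹ᵁ W₀).ι) := by
          rw [hagree]; simp only [Category.assoc]
      _ = (m ≫ ((γ₀ ≫ (p ∣_ W₀)) ⁻¹ᵁ N).ι ≫ X.homOfLE (inf_le_left : U ⊓ W₀ ≤ U)) ≫ γ := by
          rw [hγ₀]; simp only [Category.assoc]
      _ = X.homOfLE (inf_le_left : U ⊓ e.opensRange ≤ U) ≫ γ := by rw [c2]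


/-- A dense open is dense in the intersection with any open. -/
theorem isDominant_homOfLE_inf_of_dense {X : Scheme.{u}} (U W : X.Opens)
    (hU : Dense (U : Set X)) : IsDominant (X.homOfLE (inf_le_right : U ⊓ W ≤ W)) := by
  constructor
  intro w
  rw [mem_closure_iff]
  intro N hN hwN
  have hN' : IsOpen (W.ι.base '' N) := W.ι.isOpenEmbedding.isOpenMap N hN
  obtain ⟨_, ⟨n, hnN, rfl⟩, hnU⟩ := hU.inter_open_nonempty _ hN' ⟨_, ⟨w, hwN, rfl⟩⟩
  obtain ⟨m, hm⟩ : ∃ m : (U ⊓ W : X.Opens).toScheme, m.1 = n.1 := ⟨⟨n.1, hnU, n.2⟩, rfl⟩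
  refine ⟨n, hnN, ⟨m, ?_⟩⟩
  apply Subtype.ext
  rw [X.homOfLE_apply]; exact hm

/-- Gluing sections of a separated morphism over a reduced base which agree with a given section
on a dense open. -/
theorem exists_glue_sections {X P : Scheme.{u}} [IsReduced X] (p : P ⟶ X) [IsSeparated p]
    (U : X.Opens) (hU : Dense (U : Set X)) (γ : U.toScheme ⟶ P)
    {ι : Type u} (V : ι → X.Opens) (s : ∀ i, (V i).toScheme ⟶ P)
    (hsp : ∀ i, s i ≫ p = (V i).ι)
    (hsγ : ∀ i, X.homOfLE (inf_le_right : U ⊓ V i ≤ V i) ≫ s i =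
      X.homOfLE (inf_le_left : U ⊓ V i ≤ U) ≫ γ)
    (T : X.Opens) (hT : T = ⨆ i, V i) :
    ∃ s' : T.toScheme ⟶ P, s' ≫ p = T.ι ∧
      ∀ i (hi : V i ≤ T), X.homOfLE hi ≫ s' = s i := by
  subst hT
  have hf : ∀ i j, pullback.fst ((Scheme.Opens.iSupOpenCover V).f i)
      ((Scheme.Opens.iSupOpenCover V).f j) ≫ s i = pullback.snd _ _ ≫ s j := by
    intro i j
    refine (cancel_epi (isPullback_opens_inf_le (le_iSup V i)
      (le_iSup V j)).isoPullback.hom).mp ?_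
    dsimp only [Scheme.Opens.iSupOpenCover]
    rw [IsPullback.isoPullback_hom_fst_assoc, IsPullback.isoPullback_hom_snd_assoc]
    haveI := isDominant_homOfLE_inf_of_dense U (V i ⊓ V j) hU
    refine ext_of_isDominant_of_isSeparated p ?_
      (X.homOfLE (inf_le_right : U ⊓ (V i ⊓ V j) ≤ V i ⊓ V j)) ?_
    · rw [Category.assoc, Category.assoc, hsp, hsp, X.homOfLE_ι, X.homOfLE_ι]
    · have hi1 : U ⊓ (V i ⊓ V j) ≤ U ⊓ V i := inf_le_inf_left U inf_le_left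
      have hj1 : U ⊓ (V i ⊓ V j) ≤ U ⊓ V j := inf_le_inf_left U inf_le_right
      have e1 : X.homOfLE (inf_le_right : U ⊓ (V i ⊓ V j) ≤ V i ⊓ V j) ≫
          X.homOfLE (inf_le_left : V i ⊓ V j ≤ V i) ≫ s i =
          X.homOfLE (inf_le_left : U ⊓ (V i ⊓ V j) ≤ U) ≫ γ := by
        calc X.homOfLE (inf_le_right : U ⊓ (V i ⊓ V j) ≤ V i ⊓ V j) ≫
              X.homOfLE (inf_le_left : V i ⊓ V j ≤ V i) ≫ s i
            = X.homOfLE hi1 ≫ X.homOfLE (inf_le_right : U ⊓ V i ≤ V i) ≫ s i := by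
              rw [X.homOfLE_homOfLE_assoc, X.homOfLE_homOfLE_assoc]
          _ = X.homOfLE hi1 ≫ X.homOfLE (inf_le_left : U ⊓ V i ≤ U) ≫ γ := by rw [hsγ]
          _ = X.homOfLE (inf_le_left : U ⊓ (V i ⊓ V j) ≤ U) ≫ γ := by
              rw [X.homOfLE_homOfLE_assoc]
      have e2 : X.homOfLE (inf_le_right : U ⊓ (V i ⊓ V j) ≤ V i ⊓ V j) ≫
          X.homOfLE (inf_le_right : V i ⊓ V j ≤ V j) ≫ s j =
          X.homOfLE (inf_le_left : U ⊓ (V i ⊓ V j) ≤ U) ≫ γ := by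
        calc X.homOfLE (inf_le_right : U ⊓ (V i ⊓ V j) ≤ V i ⊓ V j) ≫
              X.homOfLE (inf_le_right : V i ⊓ V j ≤ V j) ≫ s j
            = X.homOfLE hj1 ≫ X.homOfLE (inf_le_right : U ⊓ V j ≤ V j) ≫ s j := by
              rw [X.homOfLE_homOfLE_assoc, X.homOfLE_homOfLE_assoc]
          _ = X.homOfLE hj1 ≫ X.homOfLE (inf_le_left : U ⊓ V j ≤ U) ≫ γ := by rw [hsγ]
          _ = X.homOfLE (inf_le_left : U ⊓ (V i ⊓ V j) ≤ U) ≫ γ := by
              rw [X.homOfLE_homOfLE_assoc]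
      rw [e1, e2]
  refine ⟨(Scheme.Opens.iSupOpenCover V).glueMorphisms s hf, ?_, ?_⟩
  · refine (Scheme.Opens.iSupOpenCover V).hom_ext _ _ fun i => ?_
    rw [← Category.assoc, (Scheme.Opens.iSupOpenCover V).ι_glueMorphisms s hf i]
    exact (hsp i).trans (X.homOfLE_ι (le_iSup V i)).symm
  · intro i hi
    exact (Scheme.Opens.iSupOpenCover V).ι_glueMorphisms s hf i

/-- Variant of `exists_glue_sections` which also includes the dense open itself. -/
theorem exists_glue_sections' {X P : Scheme.{u}} [IsReduced X] (p : P ⟶ X) [IsSeparated p]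
    (U : X.Opens) (hU : Dense (U : Set X)) (γ : U.toScheme ⟶ P) (hγp : γ ≫ p = U.ι)
    {ι : Type u} (V : ι → X.Opens) (s : ∀ i, (V i).toScheme ⟶ P)
    (hsp : ∀ i, s i ≫ p = (V i).ι)
    (hsγ : ∀ i, X.homOfLE (inf_le_right : U ⊓ V i ≤ V i) ≫ s i =
      X.homOfLE (inf_le_left : U ⊓ V i ≤ U) ≫ γ)
    (T : X.Opens) (hT : T = U ⊔ ⨆ i, V i) :
    ∃ s' : T.toScheme ⟶ P, s' ≫ p = T.ι ∧ (∀ hU' : U ≤ T, X.homOfLE hU' ≫ s' = γ) ∧
      ∀ i (hi : V i ≤ T), X.homOfLE hi ≫ s' = s i := by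
  let V' : Option ι → X.Opens := fun o => Option.elim o U V
  let s₁ : ∀ o, (V' o).toScheme ⟶ P := fun o => match o with
    | none => γ
    | some i => s i
  have h1 : ∀ o, s₁ o ≫ p = (V' o).ι := by
    intro o
    cases o with
    | none => exact hγp
    | some i => exact hsp i
  have h2 : ∀ o, X.homOfLE (inf_le_right : U ⊓ V' o ≤ V' o) ≫ s₁ o =
      X.homOfLE (inf_le_left : U ⊓ V' o ≤ U) ≫ γ := by
    intro o
    cases o with
    | none => rfl
    | some i => exact hsγ i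
  have hT' : T = ⨆ o, V' o := by
    rw [hT, iSup_option]
    rfl
  obtain ⟨s', hs'p, hs'⟩ := exists_glue_sections p U hU γ V' s₁ h1 h2 T hT'
  exact ⟨s', hs'p, fun hU' => hs' none hU', fun i hi => hs' (some i) hi⟩

/-- A regular local ring of dimension at most one is a valuation ring (and a domain). -/
theorem valuationRing_of_regular_of_dim_le_one (B : Type u) [CommRing B] [IsRegularLocalRing B]
    (h : ringKrullDim B ≤ 1) : ∃ _ : IsDomain B, ValuationRing B := by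
  haveI hd : IsDomain B := Groth.Agent.Lib.Helper9.RegLocal.isDomain_of_isRegularLocalRing B
  have h1 := (IsRegularLocalRing.iff_finrank_cotangentSpace B).mp inferInstance
  have h2 : Module.finrank (IsLocalRing.ResidueField B) (IsLocalRing.CotangentSpace B) ≤ 1 := by
    rw [← h1] at h
    exact_mod_cast h
  have h53 : Module.finrank (IsLocalRing.ResidueField B) (IsLocalRing.CotangentSpace B) ≤ 1 →
      ValuationRing B :=
    ((tfae_of_isNoetherianRing_of_isLocalRing_of_isDomain B).out 5 1).mp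
  exact ⟨hd, h53 h2⟩

/-- Points of a quasi-compact scheme whose closed points have one-dimensional local rings have
local rings of dimension at most one. -/
theorem ringKrullDim_stalk_le_one {X : Scheme.{u}} [CompactSpace X]
    (hcurve : ∀ x : X, IsClosed ({x} : Set X) → ringKrullDim (X.presheaf.stalk x) = 1) (x : X) :
    ringKrullDim (X.presheaf.stalk x) ≤ 1 := by
  obtain ⟨c, hc, hcc⟩ := IsClosed.exists_closed_singleton (isClosed_closure (s := ({x} : Set X)))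
    ⟨x, subset_closure rfl⟩
  have hxc : x ⤳ c := specializes_iff_mem_closure.mpr hc
  have hle : c ≤ x := Scheme.le_iff_specializes.2 hxc
  have h1 := hcurve c hcc
  rw [ringKrullDim_stalk_eq_coheight] at h1 ⊢
  rw [← h1]
  exact_mod_cast Order.coheight_anti hle

end Groth.Agent.Lib.Helper11.Birat11
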