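import Mathlib
import Groth.Agent.Lib.Helper11.Birat11

/-!
# Birat12: morphisms to schemes whose local rings are valuation rings

* `valuationRing_of_isLocalization`
* `isIso_stalkMap_of_valuationRing`: for a birational morphism of integral schemes, the stalk map
  at any point lying over a valuation-ring point is an isomorphism.
* `eq_of_comp_SpecMap_injective`: uniqueness in the valuative criterion, in a flexible form.
* `isIso_of_valuation`: EGA II 7.3-type statement: closed birational separated morphism to an
  integral scheme with valuation local rings, with one-point generic fibre, is an isomorphism.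
-/

universe u
open CategoryTheory CategoryTheory.Limits AlgebraicGeometry TopologicalSpace Topology

namespace Groth.Agent.Lib.Helper11.Birat12

open Groth.Agent.Lib.Helper11

/-- A localization of a valuation ring which is a domain is a valuation ring. -/
theorem valuationRing_of_isLocalization {A : Type*} [CommRing A] [IsDomain A] [ValuationRing A]
    (M : Submonoid A) (B : Type*) [CommRing B] [IsDomain B] [Algebra A B] [IsLocalization M B] :
    ValuationRing B := by
  rw [ValuationRing.iff_dvd_total]
  refine ⟨fun x y => ?_⟩
  obtain ⟨⟨a, s⟩, hx⟩ := IsLocalization.surj M x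
  obtain ⟨⟨b, t⟩, hy⟩ := IsLocalization.surj M y
  have hx' : x * algebraMap A B s = algebraMap A B a := hx
  have hy' : y * algebraMap A B t = algebraMap A B b := hy
  have hs : IsUnit (algebraMap A B s) := IsLocalization.map_units B s
  have ht : IsUnit (algebraMap A B t) := IsLocalization.map_units B t
  rcases ValuationRing.dvd_total a b with h | h
  · left
    have h1 : algebraMap A B a ∣ algebraMap A B b := map_dvd (algebraMap A B) h
    rw [← hx', ← hy'] at h1
    exact hs.mul_right_dvd.mp (ht.dvd_mul_right.mp h1)
  · right
    have h1 : algebraMap A B b ∣ algebraMap A B a := map_dvd (algebraMap A B) h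
    rw [← hx', ← hy'] at h1
    exact ht.mul_right_dvd.mp (hs.dvd_mul_right.mp h1)

theorem residue_bijective_of_isField (R : Type*) [CommRing R] [IsLocalRing R] (h : IsField R) :
    Function.Bijective (IsLocalRing.residue R) := by
  refine ⟨?_, IsLocalRing.residue_surjective⟩
  rw [RingHom.injective_iff_ker_eq_bot, IsLocalRing.ker_residue]
  exact IsLocalRing.isField_iff_maximalIdeal_eq.mp h

theorem injective_stalkSpecializes_of_eq_genericPoint {Y : Scheme.{u}} [IsIntegral Y] (η' : Y)
    (hη' : η' = genericPoint Y) (y : Y) (h : η' ⤳ y) :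
    Function.Injective (Y.presheaf.stalkSpecializes h) := by
  subst hη'
  exact IsFractionRing.injective (Y.presheaf.stalk y) Y.functionField

theorem eq_of_comp_SpecMap_injective {X Y : Scheme.{u}} (f : X ⟶ Y) [IsSeparated f]
    {R K : CommRingCat.{u}} [IsDomain R] (ρ : R ⟶ K) (hρ : Function.Injective ρ.hom)
    (l₁ l₂ : Spec R ⟶ X) (h₁ : l₁ ≫ f = l₂ ≫ f)
    (h₂ : Spec.map ρ ≫ l₁ = Spec.map ρ ≫ l₂) : l₁ = l₂ := by
  haveI : IsDominant (Spec.map ρ) := ⟨by
    show DenseRange (PrimeSpectrum.comap ρ.hom)
    rw [PrimeSpectrum.denseRange_comap_iff_ker_le_nilRadical,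
      (RingHom.injective_iff_ker_eq_bot _).mp hρ]
    exact bot_le⟩
  exact ext_of_isDominant_of_isSeparated f h₁ (Spec.map ρ) h₂


theorem isIso_stalkMap_of_valuationRing {X Y : Scheme.{u}} [IsIntegral X] [IsIntegral Y]
    (f : X ⟶ Y) (hgen : f.base (genericPoint X) = genericPoint Y)
    (hbir : IsIso (f.stalkMap (genericPoint X)))
    (x : X) [ValuationRing (Y.presheaf.stalk (f.base x))] : IsIso (f.stalkMap x) := by
  haveI := hbir
  have hξx : genericPoint X ⤳ x := (genericPoint_spec X).specializes trivial
  have hfs : f.base (genericPoint X) ⤳ f.base x := f.base.hom.map_specializes hξx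
  have hη : genericPoint Y ⤳ f.base (genericPoint X) := specializes_of_eq hgen.symm
  haveI hηiso : IsIso (Y.presheaf.stalkSpecializes hη) :=
    Birat6.isIso_stalkSpecializes_of_eq hgen.symm hη
  have heinj : Function.Injective (Y.presheaf.stalkSpecializes hη) :=
    (ConcreteCategory.bijective_of_isIso (Y.presheaf.stalkSpecializes hη)).1
  have hcomp : ∀ a, (Y.presheaf.stalkSpecializes hη) ((Y.presheaf.stalkSpecializes hfs) a) =
      algebraMap (Y.presheaf.stalk (f.base x)) Y.functionField a := by
    intro a
    rw [← CommRingCat.comp_apply, TopCat.Presheaf.stalkSpecializes_comp]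
    rfl
  have hsYinj : Function.Injective (Y.presheaf.stalkSpecializes hfs) := by
    intro a b hab
    have h1 : algebraMap (Y.presheaf.stalk (f.base x)) Y.functionField a =
        algebraMap (Y.presheaf.stalk (f.base x)) Y.functionField b := by
      rw [← hcomp, ← hcomp, hab]
    exact IsFractionRing.injective _ _ h1
  have hsXinj : Function.Injective (X.presheaf.stalkSpecializes hξx) :=
    IsFractionRing.injective (X.presheaf.stalk x) X.functionField
  have hξinj : Function.Injective (f.stalkMap (genericPoint X)) :=
    (ConcreteCategory.bijective_of_isIso (f.stalkMap (genericPoint X))).1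
  have hξsurj : Function.Surjective (f.stalkMap (genericPoint X)) :=
    (ConcreteCategory.bijective_of_isIso (f.stalkMap (genericPoint X))).2
  have hnat : ∀ a, f.stalkMap (genericPoint X) (Y.presheaf.stalkSpecializes hfs a) =
      X.presheaf.stalkSpecializes hξx (f.stalkMap x a) := fun a =>
    Scheme.Hom.stalkSpecializes_stalkMap_apply f (genericPoint X) x hξx a
  have hinj : Function.Injective (f.stalkMap x).hom := by
    intro a b hab
    apply hsYinj
    apply hξinj
    rw [hnat, hnat]
    exact congrArg _ hab
  have hfrac : ∀ b : X.presheaf.stalk x, ∃ a a' : Y.presheaf.stalk (f.base x), a' ≠ 0 ∧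
      (f.stalkMap x).hom a' * b = (f.stalkMap x).hom a := by
    intro b
    obtain ⟨κ, hκ⟩ := hξsurj (X.presheaf.stalkSpecializes hξx b)
    obtain ⟨⟨a, s⟩, hk⟩ := IsLocalization.surj (nonZeroDivisors (Y.presheaf.stalk (f.base x)))
      (Y.presheaf.stalkSpecializes hη κ)
    refine ⟨a, s.1, nonZeroDivisors.ne_zero s.2, ?_⟩
    have h1 : κ * Y.presheaf.stalkSpecializes hfs s.1 = Y.presheaf.stalkSpecializes hfs a := by
      apply heinj
      rw [map_mul, hcomp, hcomp]
      exact hk
    have h2 := congrArg (f.stalkMap (genericPoint X)) h1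
    rw [map_mul, hκ, hnat, hnat, ← map_mul] at h2
    have h3 := hsXinj h2
    rw [mul_comm]
    exact h3
  have hbij : Function.Bijective (f.stalkMap x).hom :=
    ⟨hinj, Birat11.surjective_of_valuationRing (f.stalkMap x).hom hinj hfrac⟩
  exact (ConcreteCategory.isIso_iff_bijective _).mpr hbij

theorem isIso_of_valuation {X Y : Scheme.{u}} [IsIntegral X] [IsIntegral Y] (f : X ⟶ Y)
    [IsSeparated f] (hval : ∀ y : Y, ValuationRing (Y.presheaf.stalk y))
    (hf : IsClosedMap f.base) (x : X) (hx : f.base ⁻¹' {genericPoint Y} = {x})
    (hres : Function.Bijective (f.residueFieldMap x).hom) : IsIso f := by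
  have hfx : f.base x = genericPoint Y := by
    have h0 : x ∈ f.base ⁻¹' {genericPoint Y} := by rw [hx]; exact Set.mem_singleton x
    exact h0
  have hξx : genericPoint X ⤳ x := (genericPoint_spec X).specializes trivial
  have h1 : f.base (genericPoint X) ⤳ genericPoint Y := by
    rw [← hfx]; exact hξx.map f.continuous
  have h2 : genericPoint Y ⤳ f.base (genericPoint X) :=
    (genericPoint_spec Y).specializes trivial
  have hgen : f.base (genericPoint X) = genericPoint Y := (h1.antisymm h2).eq
  have hξ : genericPoint X = x := by
    have h0 : genericPoint X ∈ f.base ⁻¹' {genericPoint Y} := hgen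
    rw [hx] at h0
    exact h0
  subst hξ
  -- birationality
  have hfieldX : IsField (X.presheaf.stalk (genericPoint X)) := Field.toIsField X.functionField
  have hfieldY : IsField (Y.presheaf.stalk (f.base (genericPoint X))) := by
    rw [hgen]; exact Field.toIsField Y.functionField
  have hrX := residue_bijective_of_isField _ hfieldX
  have hrY := residue_bijective_of_isField _ hfieldY
  have hsq : ∀ a, IsLocalRing.residue _ ((f.stalkMap (genericPoint X)).hom a) =
      (f.residueFieldMap (genericPoint X)).hom (IsLocalRing.residue _ a) := by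
    intro a
    have h := ConcreteCategory.congr_hom (Scheme.residue_residueFieldMap f (genericPoint X)) a
    exact h.symm
  have hbij : Function.Bijective (f.stalkMap (genericPoint X)).hom := by
    constructor
    · intro a b hab
      apply hrY.1
      apply hres.1
      rw [← hsq, ← hsq, hab]
    · intro c
      obtain ⟨d, hd⟩ := hres.2 (IsLocalRing.residue _ c)
      obtain ⟨a, ha⟩ := hrY.2 d
      refine ⟨a, hrX.1 ?_⟩
      rw [hsq, ha, hd]
  have hbir : IsIso (f.stalkMap (genericPoint X)) :=
    (ConcreteCategory.isIso_iff_bijective _).mpr hbij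
  have hiso : ∀ t : X, IsIso (f.stalkMap t) := fun t => by
    haveI := hval (f.base t)
    exact isIso_stalkMap_of_valuationRing f hgen hbir t
  have hgs : ∀ y : Y, f.base (genericPoint X) ⤳ y := fun y => by
    rw [hgen]; exact (genericPoint_spec Y).specializes trivial
  have key : ∀ (y : Y) (t : X), f.base t = y → ∃ l : Spec (Y.presheaf.stalk y) ⟶ X,
      l ≫ f = Y.fromSpecStalk y ∧
      Spec.map (Y.presheaf.stalkSpecializes (hgs y) ≫ f.stalkMap (genericPoint X)) ≫ l =
        X.fromSpecStalk (genericPoint X) ∧
      l.base (IsLocalRing.closedPoint (Y.presheaf.stalk y)) = t := by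
    rintro y t rfl
    haveI := hiso t
    have hξt : genericPoint X ⤳ t := (genericPoint_spec X).specializes trivial
    refine ⟨Spec.map (inv (f.stalkMap t)) ≫ X.fromSpecStalk t, ?_, ?_, ?_⟩
    · rw [Category.assoc, ← Scheme.SpecMap_stalkMap_fromSpecStalk, ← Spec.map_comp_assoc,
        IsIso.hom_inv_id, Spec.map_id, Category.id_comp]
    · rw [← Spec.map_comp_assoc]
      have hnat := Scheme.Hom.stalkSpecializes_stalkMap f (genericPoint X) t hξt
      have e : inv (f.stalkMap t) ≫ Y.presheaf.stalkSpecializes (hgs (f.base t)) ≫
          f.stalkMap (genericPoint X) = X.presheaf.stalkSpecializes hξt := by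
        rw [IsIso.inv_comp_eq]; exact hnat
      rw [e, Scheme.SpecMap_stalkSpecializes_fromSpecStalk]
    · show (X.fromSpecStalk t).base ((Spec.map (inv (f.stalkMap t))).base
        (IsLocalRing.closedPoint (Y.presheaf.stalk (f.base t)))) = t
      haveI : IsLocalHom (inv (f.stalkMap t)).hom := isLocalHom_of_isIso _
      have hc : (Spec.map (inv (f.stalkMap t))).base
          (IsLocalRing.closedPoint (Y.presheaf.stalk (f.base t))) =
          IsLocalRing.closedPoint (X.presheaf.stalk t) :=
        IsLocalRing.comap_closedPoint (inv (f.stalkMap t)).hom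
      rw [hc]; exact Scheme.fromSpecStalk_closedPoint
  have hinj : Function.Injective f.base := by
    intro t t' h
    obtain ⟨l₁, a₁, b₁, c₁⟩ := key (f.base t) t rfl
    obtain ⟨l₂, a₂, b₂, c₂⟩ := key (f.base t) t' h.symm
    have hρ : Function.Injective (Y.presheaf.stalkSpecializes (hgs (f.base t)) ≫
        f.stalkMap (genericPoint X)).hom := by
      have i1 := injective_stalkSpecializes_of_eq_genericPoint (f.base (genericPoint X)) hgen
        (f.base t) (hgs (f.base t))
      have i2 : Function.Injective (f.stalkMap (genericPoint X)).hom := hbij.1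
      rw [CommRingCat.hom_comp, RingHom.coe_comp]
      exact i2.comp i1
    have hl := eq_of_comp_SpecMap_injective f _ hρ l₁ l₂ (a₁.trans a₂.symm) (b₁.trans b₂.symm)
    rw [← c₁, ← c₂, hl]
  have hsurj : Function.Surjective f.base := by
    have hclosed : IsClosed (Set.range f.base) := by
      rw [← Set.image_univ]; exact hf _ isClosed_univ
    have hmem : genericPoint Y ∈ Set.range f.base := ⟨_, hgen⟩
    intro z
    have hz : z ∈ closure ({genericPoint Y} : Set Y) := by
      rw [(genericPoint_spec Y).def]; trivial
    exact hclosed.closure_subset_iff.mpr (Set.singleton_subset_iff.mpr hmem) hz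
  have hhomeo : IsHomeomorph f.base :=
    isHomeomorph_iff_continuous_isClosedMap_bijective.mpr ⟨f.continuous, hf, hinj, hsurj⟩
  haveI : ∀ t, IsIso (f.stalkMap t) := hiso
  haveI : IsOpenImmersion f := IsOpenImmersion.of_isIso_stalkMap f hhomeo.isOpenEmbedding
  exact (isIso_iff_isOpenImmersion_and_surjective f).mpr ⟨inferInstance, ⟨hsurj⟩⟩

theorem valuationRing_stalk_Spec (A : Type u) [CommRing A] [IsDomain A] [ValuationRing A]
    (y : Spec (CommRingCat.of A)) :
    ValuationRing ((Spec (CommRingCat.of A)).presheaf.stalk y) := by
  letI k : Algebra A ((Spec (CommRingCat.of A)).presheaf.stalk y) :=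
    StructureSheaf.stalkAlgebra A y
  haveI : IsLocalization.AtPrime ((Spec (CommRingCat.of A)).presheaf.stalk y) y.asIdeal :=
    StructureSheaf.IsLocalization.to_stalk A y
  exact valuationRing_of_isLocalization y.asIdeal.primeCompl _

end Groth.Agent.Lib.Helper11.Birat12
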