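import Mathlib
import Groth.Agent.Lib.Helper11.Birat2

universe u
open CategoryTheory CategoryTheory.Limits AlgebraicGeometry TopologicalSpace Topology

namespace Groth.Agent.Lib.Helper11.Birat

/-- With finitely many irreducible components, a dense open contains every generic point. -/
theorem generic_mem_of_dense_open {T : Type*} [TopologicalSpace T]
    (hfin : (irreducibleComponents T).Finite) {s : Set T} (hs : IsOpen s) (hd : Dense s) {η : T}
    (hη : closure {η} ∈ irreducibleComponents T) : η ∈ s := by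
  have hO : IsOpen (⋃ Z ∈ irreducibleComponents T \ {closure {η}}, Z)ᶜ :=
    (Set.Finite.isClosed_biUnion (hfin.subset Set.sdiff_subset)
      (fun Z hZ => isClosed_of_mem_irreducibleComponents Z hZ.1)).isOpen_compl
  have hηO : η ∈ (⋃ Z ∈ irreducibleComponents T \ {closure {η}}, Z)ᶜ := by
    intro hmem
    obtain ⟨Z, hZ, hxZ⟩ := Set.mem_iUnion₂.mp hmem
    have h1 : closure {η} ⊆ Z := closure_minimal (Set.singleton_subset_iff.mpr hxZ)
      (isClosed_of_mem_irreducibleComponents Z hZ.1)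
    have h2 : Z ⊆ closure {η} := hη.2 hZ.1.1 h1
    exact hZ.2 (Set.mem_singleton_iff.mpr (Set.Subset.antisymm h2 h1))
  obtain ⟨v, hvO, hvs⟩ := hd.inter_open_nonempty _ hO ⟨η, hηO⟩
  have hηv : η ⤳ v := by
    rw [specializes_iff_mem_closure]
    by_contra hzx
    apply hvO
    refine Set.mem_iUnion₂.mpr ⟨irreducibleComponent v,
      ⟨irreducibleComponent_mem_irreducibleComponents v, ?_⟩, mem_irreducibleComponent⟩
    intro heq
    apply hzx
    rw [← Set.mem_singleton_iff.mp heq]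
    exact mem_irreducibleComponent
  exact hηv.mem_open hs hvs

/-- The fibre of a birational morphism over the image of a generic point is that point. -/
theorem fibre_eq_of_generic {X Y : Scheme.{u}} (f : X ⟶ Y)
    (hbij : Set.BijOn (fun x : X => f.base x) {x : X | closure {x} ∈ irreducibleComponents ↥X}
      {y : Y | closure {y} ∈ irreducibleComponents ↥Y})
    (hiso : ∀ x : X, closure {x} ∈ irreducibleComponents ↥X → IsIso (f.stalkMap x))
    (x : X) (hx : closure {x} ∈ irreducibleComponents ↥X) (x' : X)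
    (hx'y : f.base x' = f.base x) : x' = x := by
  haveI := hiso x hx
  have hy : closure {f.base x} ∈ irreducibleComponents ↥Y := hbij.mapsTo hx
  obtain ⟨ξ, hξcl, -⟩ := QFlat.exists_maxPt_of_mem_irreducibleComponents
    (irreducibleComponent_mem_irreducibleComponents x')
  have hξx' : ξ ⤳ x' := by
    rw [specializes_iff_mem_closure, hξcl]; exact mem_irreducibleComponent
  have hξgen : closure {ξ} ∈ irreducibleComponents ↥X := by
    rw [hξcl]; exact irreducibleComponent_mem_irreducibleComponents x'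
  have h1 : f.base ξ ⤳ f.base x := by
    rw [← hx'y]; exact hξx'.map f.continuous
  have h2 : f.base ξ = f.base x := eq_of_specializes_of_mem_irreducibleComponents hy h1
  have h3 : ξ = x := hbij.injOn hξgen hx h2
  rw [h3] at hξx'
  have h4 : x' ⤳ x := specializes_of_stalkMap_surjective f hξx' hx'y.symm
    (ConcreteCategory.bijective_of_isIso (f.stalkMap x)).surjective
  exact (h4.antisymm hξx').eq

/-- For a quasi-compact morphism, the closure of the image of a closed set consists of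
specializations of points of the image. -/
theorem exists_specializes_of_mem_closure_image {X Y : Scheme.{u}} (f : X ⟶ Y) [QuasiCompact f]
    (T : Set X) (hT : IsClosed T) (y : Y) (hy : y ∈ closure (f.base '' T)) :
    ∃ t ∈ T, f.base t ⤳ y := by
  obtain ⟨Y₀, hY₀, hyY₀⟩ : ∃ Y₀ : Y.Opens, IsAffineOpen Y₀ ∧ y ∈ Y₀ := by
    obtain ⟨_, ⟨V, hV, rfl⟩, hyV, -⟩ :=
      Y.isBasis_affineOpens.exists_subset_of_mem_open (Set.mem_univ y) isOpen_univ
    exact ⟨V, hV, hyV⟩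
  have hcomp : IsCompact ((f ⁻¹ᵁ Y₀ : X.Opens) : Set X) := f.isCompact_preimage hY₀.isCompact
  obtain ⟨R, g, hg⟩ := isCompact_iff_exists.mp hcomp
  have hy2 : y ∈ closure ((g ≫ f).base '' (g.base ⁻¹' T)) := by
    have h1 : y ∈ (Y₀ : Set Y) ∩ closure (f.base '' T) := ⟨hyY₀, hy⟩
    have h2 := Y₀.2.inter_closure h1
    refine closure_mono ?_ h2
    rintro _ ⟨hz, t, ht, rfl⟩
    obtain ⟨r, rfl⟩ := hg.ge hz
    exact ⟨r, ht, rfl⟩
  have hrange : Set.range (g ≫ f) ⊆ Set.range Y₀.ι := by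
    rintro _ ⟨r, rfl⟩
    exact ⟨⟨(g ≫ f).base r, hg.le ⟨r, rfl⟩⟩, rfl⟩
  let k : Spec R ⟶ Y₀ := IsOpenImmersion.lift Y₀.ι (g ≫ f) hrange
  have hk : k ≫ Y₀.ι = g ≫ f := IsOpenImmersion.lift_fac _ _ _
  let φ : Γ(Y, Y₀) ⟶ R := Spec.preimage (k ≫ hY₀.isoSpec.hom)
  have hφ : Spec.map φ ≫ hY₀.fromSpec = g ≫ f := by
    rw [Spec.map_preimage, Category.assoc, hY₀.isoSpec_hom_fromSpec, hk]
  obtain ⟨p, hpy⟩ : ∃ p : PrimeSpectrum Γ(Y, Y₀), hY₀.fromSpec.base p = y :=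
    ⟨hY₀.primeIdealOf ⟨y, hyY₀⟩, hY₀.fromSpec_primeIdealOf ⟨y, hyY₀⟩⟩
  subst hpy
  have hZcl : IsClosed (g.base ⁻¹' T) := hT.preimage g.continuous
  obtain ⟨I, hI⟩ := (PrimeSpectrum.isClosed_iff_zeroLocus_ideal (g.base ⁻¹' T)).mp hZcl
  have hsub : (g ≫ f).base '' (g.base ⁻¹' T) ⊆
      hY₀.fromSpec.base '' ((Spec.map φ).base '' (g.base ⁻¹' T)) := by
    rintro _ ⟨r, hr, rfl⟩
    exact ⟨(Spec.map φ).base r, ⟨r, hr, rfl⟩,
      congrArg (fun ψ : Spec R ⟶ Y => ψ.base r) hφ⟩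
  have hpW : p ∈ closure ((Spec.map φ).base '' (g.base ⁻¹' T)) := by
    rw [hY₀.fromSpec.isOpenEmbedding.isEmbedding.closure_eq_preimage_closure_image]
    exact closure_mono hsub hy2
  have hWsub : (Spec.map φ).base '' (g.base ⁻¹' T) ⊆
      PrimeSpectrum.zeroLocus (I.comap φ.hom : Set Γ(Y, Y₀)) := by
    rintro _ ⟨r, hr, rfl⟩
    have hr' : (I : Set R) ⊆ (r : PrimeSpectrum R).asIdeal :=
      (PrimeSpectrum.mem_zeroLocus _ _).mp (hI.le hr)
    refine (PrimeSpectrum.mem_zeroLocus (PrimeSpectrum.comap φ.hom r) _).mpr ?_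
    intro a ha
    exact hr' ha
  have hp : I.comap φ.hom ≤ p.asIdeal := by
    have h1 := closure_minimal hWsub (PrimeSpectrum.isClosed_zeroLocus _) hpW
    exact (PrimeSpectrum.mem_zeroLocus _ _).mp h1
  obtain ⟨q, hIq, hqprime, hqp⟩ := Ideal.exists_ideal_comap_le_prime p.asIdeal I hp
  have hrZ : (⟨q, hqprime⟩ : PrimeSpectrum R) ∈ g.base ⁻¹' T := by
    exact hI.ge ((PrimeSpectrum.mem_zeroLocus _ _).mpr (fun a ha => hIq ha))
  refine ⟨g.base (⟨q, hqprime⟩ : PrimeSpectrum R), hrZ, ?_⟩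
  have h1 : (PrimeSpectrum.comap φ.hom ⟨q, hqprime⟩) ⤳ p :=
    (PrimeSpectrum.le_iff_specializes _ _).mp hqp
  have h2 := h1.map hY₀.fromSpec.continuous
  have h3 : f.base (g.base (⟨q, hqprime⟩ : PrimeSpectrum R)) =
      hY₀.fromSpec.base (PrimeSpectrum.comap φ.hom ⟨q, hqprime⟩) :=
    (congrArg (fun ψ : Spec R ⟶ Y => ψ.base (⟨q, hqprime⟩ : PrimeSpectrum R)) hφ).symm
  rw [h3]
  exact h2

/-- If `f : U ⟶ V₀` is an isomorphism and `f⁻¹ V ⊆ U` for `V ⊆ V₀`, then `f⁻¹ V ⟶ V` is an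
isomorphism. -/
theorem isIso_morphismRestrict_of_isIso_resLE {X Y : Scheme.{u}} (f : X ⟶ Y) (U : X.Opens)
    (V₀ V : Y.Opens) (hUV₀ : U ≤ f ⁻¹ᵁ V₀) [IsIso (f.resLE V₀ U hUV₀)] (hV : V ≤ V₀)
    (hVU : f ⁻¹ᵁ V ≤ U) : IsIso (f ∣_ V) := by
  haveI h1 : IsOpenImmersion (U.ι ≫ f) := by
    rw [← Scheme.Hom.resLE_comp_ι f hUV₀]; infer_instance
  haveI h2 : IsOpenImmersion ((f ∣_ V) ≫ V.ι) := by
    have : (f ∣_ V) ≫ V.ι = X.homOfLE hVU ≫ (U.ι ≫ f) := by
      rw [morphismRestrict_ι, ← Category.assoc, X.homOfLE_ι]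
    rw [this]; infer_instance
  haveI h3 : IsOpenImmersion (f ∣_ V) := IsOpenImmersion.of_comp _ V.ι
  rw [isIso_iff_isOpenImmersion_and_epi_base]
  refine ⟨h3, ?_⟩
  rw [TopCat.epi_iff_surjective]
  rintro ⟨v, hv⟩
  obtain ⟨u, hu⟩ := (f.resLE V₀ U hUV₀).surjective ⟨v, hV hv⟩
  have h4 : ((f.resLE V₀ U hUV₀).base u).1 = f.base u.1 :=
    congrArg (fun ψ : (U : Scheme) ⟶ Y => ψ.base u) (Scheme.Hom.resLE_comp_ι f hUV₀)
  have h5 : f.base u.1 = v := by rw [← h4, hu]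
  have hu' : u.1 ∈ f ⁻¹ᵁ V := by
    change f.base u.1 ∈ V
    rw [h5]; exact hv
  refine ⟨⟨u.1, hu'⟩, ?_⟩
  apply Subtype.ext
  have h6 : ((f ∣_ V).base ⟨u.1, hu'⟩).1 = f.base u.1 :=
    congrArg (fun ψ : ((f ⁻¹ᵁ V : X.Opens) : Scheme) ⟶ Y => ψ.base ⟨u.1, hu'⟩)
      (morphismRestrict_ι f V)
  exact h6.trans h5

theorem preimage_le_of_isSeparated {X Y : Scheme.{u}} (f : X ⟶ Y) [IsSeparated f] (U : X.Opens)
    (V₀ : Y.Opens) (hUV₀ : U ≤ f ⁻¹ᵁ V₀) [IsIso (f.resLE V₀ U hUV₀)]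
    (hU : Dense (U : Set X)) : f ⁻¹ᵁ V₀ ≤ U := by
  haveI : IsSeparated (f ∣_ V₀) := IsZariskiLocalAtTarget.restrict ‹_› V₀
  let s : (V₀ : Scheme) ⟶ ((f ⁻¹ᵁ V₀ : X.Opens) : Scheme) :=
    inv (f.resLE V₀ U hUV₀) ≫ X.homOfLE hUV₀
  have hres : X.homOfLE hUV₀ ≫ (f ∣_ V₀) = f.resLE V₀ U hUV₀ := rfl
  have hs : s ≫ (f ∣_ V₀) = 𝟙 _ := by
    rw [Category.assoc, hres, IsIso.inv_hom_id]
  haveI : IsClosedImmersion (s ≫ (f ∣_ V₀)) := by rw [hs]; infer_instance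
  haveI : IsClosedImmersion s := IsClosedImmersion.of_comp s (f ∣_ V₀)
  have hcl : IsClosed (Set.range s.base) := s.isClosedEmbedding.isClosed_range
  have hd : Dense ((f ⁻¹ᵁ V₀).ι.base ⁻¹' (U : Set X)) :=
    hU.preimage (f ⁻¹ᵁ V₀).ι.isOpenEmbedding.isOpenMap
  have hsub : (f ⁻¹ᵁ V₀).ι.base ⁻¹' (U : Set X) ⊆ Set.range s.base := by
    rintro ⟨z, hz⟩ (hzU : z ∈ U)
    refine ⟨(f.resLE V₀ U hUV₀).base ⟨z, hzU⟩, ?_⟩
    have h1 : f.resLE V₀ U hUV₀ ≫ s = X.homOfLE hUV₀ := by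
      rw [IsIso.hom_inv_id_assoc]
    have h2 : s.base ((f.resLE V₀ U hUV₀).base ⟨z, hzU⟩) = (X.homOfLE hUV₀).base ⟨z, hzU⟩ :=
      congrArg (fun ψ : (U : Scheme) ⟶ ((f ⁻¹ᵁ V₀ : X.Opens) : Scheme) => ψ.base ⟨z, hzU⟩) h1
    rw [h2]
    exact Subtype.ext (X.homOfLE_apply hUV₀ ⟨z, hzU⟩)
  have huniv : Set.range s.base = Set.univ := by
    rw [← hcl.closure_eq]; exact (hd.mono hsub).closure_eq
  intro z hz
  have hmem : (⟨z, hz⟩ : ↥(f ⁻¹ᵁ V₀)) ∈ Set.range s.base := by rw [huniv]; trivial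
  obtain ⟨v, hv⟩ := hmem
  have h3 : (s.base v).1 = ((inv (f.resLE V₀ U hUV₀)).base v).1 := X.homOfLE_apply hUV₀ _
  have h4 : (s.base v).1 = z := congrArg Subtype.val hv
  rw [← h4, h3]
  exact ((inv (f.resLE V₀ U hUV₀)).base v).2

/-- **S9679**. -/
theorem exists_dense_open_iso_of_birational {X Y : Scheme.{u}} (f : X ⟶ Y)
    (hXfin : (irreducibleComponents ↥X).Finite) (hYfin : (irreducibleComponents ↥Y).Finite)
    (hbij : Set.BijOn (fun x : X => f.base x) {x : X | closure {x} ∈ irreducibleComponents ↥X}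
      {y : Y | closure {y} ∈ irreducibleComponents ↥Y})
    (hiso : ∀ x : X, closure {x} ∈ irreducibleComponents ↥X → IsIso (f.stalkMap x))
    (hf₁ : QuasiCompact f ∨ IsSeparated f)
    (hf₂ : (LocallyOfFiniteType f ∧ IsReduced Y) ∨ LocallyOfFinitePresentation f) :
    ∃ V : Y.Opens, Dense (V : Set ↥Y) ∧ IsIso (f ∣_ V) := by
  obtain ⟨U, V₀, hUV₀, hUd, hVd, hiso'⟩ :=
    exists_dense_opens_iso_of_birational f hXfin hYfin hbij hiso hf₂
  haveI := hiso'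
  rcases hf₁ with hqc | hsep
  · haveI := hqc
    have hVU : f ⁻¹ᵁ (V₀ ⊓ ⟨(closure (f.base '' (U : Set X)ᶜ))ᶜ, isClosed_closure.isOpen_compl⟩) ≤ U := by
      intro x hx
      by_contra hxU
      exact hx.2 (subset_closure ⟨x, hxU, rfl⟩)
    refine ⟨V₀ ⊓ ⟨(closure (f.base '' (U : Set X)ᶜ))ᶜ, isClosed_closure.isOpen_compl⟩, ?_,
      isIso_morphismRestrict_of_isIso_resLE f U V₀ _ hUV₀ inf_le_left hVU⟩
    apply dense_of_generic_mem
    intro η hη
    refine ⟨generic_mem_of_dense_open hYfin V₀.2 hVd hη, ?_⟩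
    intro hηC
    obtain ⟨t, ht, hts⟩ := exists_specializes_of_mem_closure_image f _ U.2.isClosed_compl η hηC
    have h1 : f.base t = η := eq_of_specializes_of_mem_irreducibleComponents hη hts
    obtain ⟨ξ, hξ, hξη⟩ := hbij.surjOn hη
    have hξη' : f.base ξ = η := hξη
    have h2 : t = ξ := fibre_eq_of_generic f hbij hiso ξ hξ t (h1.trans hξη'.symm)
    apply ht
    rw [h2]
    exact generic_mem_of_dense_open hXfin U.2 hUd hξ
  · haveI := hsep
    exact ⟨V₀, hVd, isIso_morphismRestrict_of_isIso_resLE f U V₀ V₀ hUV₀ le_rfl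
      (preimage_le_of_isSeparated f U V₀ hUV₀ hUd)⟩

end Groth.Agent.Lib.Helper11.Birat
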