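import Mathlib
import Groth.Agent.Lib.Helper11.Birat4

universe u
open CategoryTheory CategoryTheory.Limits AlgebraicGeometry TopologicalSpace Topology

namespace Groth.Agent.Lib.Helper11.Birat

theorem stalkCongr_hom_eq_eqToHom (S : Scheme.{u}) {s s' : S} (h : s = s')
    (hi : Inseparable s s') :
    (S.presheaf.stalkCongr hi).hom = eqToHom (congrArg S.presheaf.stalk h) := by
  subst h
  simp [TopCat.Presheaf.stalkCongr]

theorem germ_eqToHom (S : Scheme.{u}) {s s' : S} (h : s = s') (W : S.Opens) (hs : s ∈ W)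
    (r : Γ(S, W)) :
    (eqToHom (congrArg S.presheaf.stalk h)).hom (S.presheaf.germ W s hs r) =
      S.presheaf.germ W s' (h ▸ hs) r := by
  subst h
  simp

theorem exists_stalk_iso_of_openImmersions {S X Y U : Scheme.{u}} (sX : X ⟶ S)
    (sY : Y ⟶ S) (i : U ⟶ X) (g : U ⟶ Y) [IsOpenImmersion i] [IsOpenImmersion g]
    (hig : g ≫ sY = i ≫ sX) (u : U) (x : X) (y : Y) (hx : i.base u = x) (hy : g.base u = y) :
    ∃ (hs : sX.base x = sY.base y) (e : X.presheaf.stalk x ≅ Y.presheaf.stalk y),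
      sX.stalkMap x ≫ e.hom = eqToHom (congrArg S.presheaf.stalk hs) ≫ sY.stalkMap y := by
  subst hx hy
  have hs : sX.base (i.base u) = sY.base (g.base u) :=
    congrArg (fun ψ : U ⟶ S => ψ.base u) hig.symm
  refine ⟨hs, asIso (i.stalkMap u) ≪≫ (asIso (g.stalkMap u)).symm, ?_⟩
  have h1 := Scheme.Hom.stalkMap_congr_hom (i ≫ sX) (g ≫ sY) hig.symm u
  rw [Scheme.Hom.stalkMap_comp, Scheme.Hom.stalkMap_comp] at h1
  rw [← cancel_mono (g.stalkMap u)]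
  simp only [Iso.trans_hom, Iso.symm_hom, asIso_hom, asIso_inv, Category.assoc, IsIso.inv_hom_id,
    Category.comp_id]
  refine h1.trans ?_
  exact congrArg (fun z => z ≫ sY.stalkMap (g.base u) ≫ g.stalkMap u)
    (stalkCongr_hom_eq_eqToHom S hs _)

/-- Spreading out an isomorphism of local rings to an isomorphism of open neighbourhoods
(locally of finite presentation). -/
theorem exists_iso_opens_of_stalkIso_lfp {S X Y : Scheme.{u}} (sX : X ⟶ S) (sY : Y ⟶ S)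
    [LocallyOfFinitePresentation sX] [LocallyOfFinitePresentation sY] (x : X) (y : Y)
    (hs : sX.base x = sY.base y) (e : X.presheaf.stalk x ≅ Y.presheaf.stalk y)
    (he : sX.stalkMap x ≫ e.hom = eqToHom (congrArg S.presheaf.stalk hs) ≫ sY.stalkMap y) :
    ∃ (U : X.Opens) (V : Y.Opens) (iso : (U : Scheme) ≅ V), x ∈ U ∧ y ∈ V ∧
      iso.hom ≫ V.ι ≫ sY = U.ι ≫ sX := by
  obtain ⟨W, hW, hsW⟩ : ∃ W : S.Opens, IsAffineOpen W ∧ sX.base x ∈ W := by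
    obtain ⟨_, ⟨W, hW, rfl⟩, hsW, -⟩ :=
      S.isBasis_affineOpens.exists_subset_of_mem_open (Set.mem_univ (sX.base x)) isOpen_univ
    exact ⟨W, hW, hsW⟩
  have hsW' : sY.base y ∈ W := hs ▸ hsW
  obtain ⟨U₀, hU₀, hxU₀, hU₀W⟩ : ∃ U₀ : X.Opens, IsAffineOpen U₀ ∧ x ∈ U₀ ∧ U₀ ≤ sX ⁻¹ᵁ W := by
    obtain ⟨_, ⟨U, hU, rfl⟩, hxU, hUW⟩ :=
      X.isBasis_affineOpens.exists_subset_of_mem_open
        (show x ∈ ((sX ⁻¹ᵁ W : X.Opens) : Set X) from hsW) (sX ⁻¹ᵁ W).2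
    exact ⟨U, hU, hxU, hUW⟩
  obtain ⟨V₀, hV₀, hyV₀, hV₀W⟩ : ∃ V₀ : Y.Opens, IsAffineOpen V₀ ∧ y ∈ V₀ ∧ V₀ ≤ sY ⁻¹ᵁ W := by
    obtain ⟨_, ⟨V, hV, rfl⟩, hyV, hVW⟩ :=
      Y.isBasis_affineOpens.exists_subset_of_mem_open
        (show y ∈ ((sY ⁻¹ᵁ W : Y.Opens) : Set Y) from hsW') (sY ⁻¹ᵁ W).2
    exact ⟨V, hV, hyV, hVW⟩
  letI algRA : Algebra Γ(S, W) Γ(X, U₀) := (sX.appLE W U₀ hU₀W).hom.toAlgebra
  letI algRB : Algebra Γ(S, W) Γ(Y, V₀) := (sY.appLE W V₀ hV₀W).hom.toAlgebra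
  haveI fpA : Algebra.FinitePresentation Γ(S, W) Γ(X, U₀) :=
    sX.finitePresentation_appLE hW hU₀ hU₀W
  haveI fpB : Algebra.FinitePresentation Γ(S, W) Γ(Y, V₀) :=
    sY.finitePresentation_appLE hW hV₀ hV₀W
  haveI hqp : (hU₀.primeIdealOf ⟨x, hxU₀⟩).asIdeal.IsPrime := (hU₀.primeIdealOf ⟨x, hxU₀⟩).isPrime
  haveI hq'p : (hV₀.primeIdealOf ⟨y, hyV₀⟩).asIdeal.IsPrime :=
    (hV₀.primeIdealOf ⟨y, hyV₀⟩).isPrime
  letI algAx := X.presheaf.algebra_section_stalk (⟨x, hxU₀⟩ : U₀)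
  haveI locx := hU₀.isLocalization_stalk ⟨x, hxU₀⟩
  letI algBy := Y.presheaf.algebra_section_stalk (⟨y, hyV₀⟩ : V₀)
  haveI locy := hV₀.isLocalization_stalk ⟨y, hyV₀⟩
  have keyX : ∀ r : Γ(S, W), X.presheaf.germ U₀ x hxU₀ (sX.appLE W U₀ hU₀W r) =
      sX.stalkMap x (S.presheaf.germ W (sX.base x) hsW r) := fun r => by
    have key : sX.appLE W U₀ hU₀W ≫ X.presheaf.germ U₀ x hxU₀ =
        S.presheaf.germ W (sX.base x) hsW ≫ sX.stalkMap x := by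
      rw [Scheme.Hom.appLE, Category.assoc, X.presheaf.germ_res]
      exact (Scheme.Hom.germ_stalkMap sX W x hsW).symm
    exact ConcreteCategory.congr_hom key r
  have keyY : ∀ r : Γ(S, W), Y.presheaf.germ V₀ y hyV₀ (sY.appLE W V₀ hV₀W r) =
      sY.stalkMap y (S.presheaf.germ W (sY.base y) hsW' r) := fun r => by
    have key : sY.appLE W V₀ hV₀W ≫ Y.presheaf.germ V₀ y hyV₀ =
        S.presheaf.germ W (sY.base y) hsW' ≫ sY.stalkMap y := by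
      rw [Scheme.Hom.appLE, Category.assoc, Y.presheaf.germ_res]
      exact (Scheme.Hom.germ_stalkMap sY W y hsW').symm
    exact ConcreteCategory.congr_hom key r
  let α : Localization.AtPrime (hU₀.primeIdealOf ⟨x, hxU₀⟩).asIdeal ≃ₐ[Γ(X, U₀)]
      X.presheaf.stalk x :=
    IsLocalization.algEquiv (hU₀.primeIdealOf ⟨x, hxU₀⟩).asIdeal.primeCompl _ _
  let β : Y.presheaf.stalk y ≃ₐ[Γ(Y, V₀)]
      Localization.AtPrime (hV₀.primeIdealOf ⟨y, hyV₀⟩).asIdeal :=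
    IsLocalization.algEquiv (hV₀.primeIdealOf ⟨y, hyV₀⟩).asIdeal.primeCompl _ _
  let ε₀ : Localization.AtPrime (hU₀.primeIdealOf ⟨x, hxU₀⟩).asIdeal ≃+*
      Localization.AtPrime (hV₀.primeIdealOf ⟨y, hyV₀⟩).asIdeal :=
    α.toRingEquiv.trans (e.commRingCatIsoToRingEquiv.trans β.toRingEquiv)
  have hε₀ : ∀ r : Γ(S, W), ε₀ (algebraMap Γ(S, W) _ r) = algebraMap Γ(S, W) _ r := by
    intro r
    have h1 : algebraMap Γ(S, W) (Localization.AtPrime (hU₀.primeIdealOf ⟨x, hxU₀⟩).asIdeal) r =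
        algebraMap Γ(X, U₀) _ (sX.appLE W U₀ hU₀W r) :=
      IsScalarTower.algebraMap_apply Γ(S, W) Γ(X, U₀) _ r
    have h2 : α (algebraMap Γ(X, U₀) _ (sX.appLE W U₀ hU₀W r)) =
        X.presheaf.germ U₀ x hxU₀ (sX.appLE W U₀ hU₀W r) := α.commutes _
    have h3 : e.hom (sX.stalkMap x (S.presheaf.germ W (sX.base x) hsW r)) =
        sY.stalkMap y (S.presheaf.germ W (sY.base y) hsW' r) := by
      have := ConcreteCategory.congr_hom he (S.presheaf.germ W (sX.base x) hsW r)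
      refine this.trans ?_
      show sY.stalkMap y ((eqToHom (congrArg S.presheaf.stalk hs)).hom
        (S.presheaf.germ W (sX.base x) hsW r)) = _
      rw [germ_eqToHom S hs W hsW r]
    have h4 : β (Y.presheaf.germ V₀ y hyV₀ (sY.appLE W V₀ hV₀W r)) =
        algebraMap Γ(Y, V₀) _ (sY.appLE W V₀ hV₀W r) := β.commutes _
    have h5 : algebraMap Γ(S, W) (Localization.AtPrime (hV₀.primeIdealOf ⟨y, hyV₀⟩).asIdeal) r =
        algebraMap Γ(Y, V₀) _ (sY.appLE W V₀ hV₀W r) :=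
      IsScalarTower.algebraMap_apply Γ(S, W) Γ(Y, V₀) _ r
    show β (e.hom (α (algebraMap Γ(S, W) _ r))) = _
    rw [h1, h2, keyX, h3, ← keyY, h4, ← h5]
  obtain ⟨g, g', hg, hg', ⟨ε₂⟩⟩ := Groth.Agent.S2145.result (R := Γ(S, W)) (S := Γ(X, U₀))
    (S' := Γ(Y, V₀)) (hU₀.primeIdealOf ⟨x, hxU₀⟩).asIdeal (hV₀.primeIdealOf ⟨y, hyV₀⟩).asIdeal
    (AlgEquiv.ofRingEquiv (f := ε₀) hε₀)
  have hU : IsAffineOpen (X.basicOpen g) := hU₀.basicOpen g
  have hV : IsAffineOpen (Y.basicOpen g') := hV₀.basicOpen g'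
  have hxU : x ∈ X.basicOpen g := by
    rw [Scheme.mem_basicOpen X g x hxU₀]
    exact (IsLocalization.AtPrime.isUnit_to_map_iff (X.presheaf.stalk x)
      (hU₀.primeIdealOf ⟨x, hxU₀⟩).asIdeal g).2 hg
  have hyV : y ∈ Y.basicOpen g' := by
    rw [Scheme.mem_basicOpen Y g' y hyV₀]
    exact (IsLocalization.AtPrime.isUnit_to_map_iff (Y.presheaf.stalk y)
      (hV₀.primeIdealOf ⟨y, hyV₀⟩).asIdeal g').2 hg'
  have eU : X.basicOpen g ≤ sX ⁻¹ᵁ W := (X.basicOpen_le g).trans hU₀W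
  have eV : Y.basicOpen g' ≤ sY ⁻¹ᵁ W := (Y.basicOpen_le g').trans hV₀W
  letI algRU : Algebra Γ(S, W) Γ(X, X.basicOpen g) :=
    (sX.appLE W (X.basicOpen g) eU).hom.toAlgebra
  letI algRV : Algebra Γ(S, W) Γ(Y, Y.basicOpen g') :=
    (sY.appLE W (Y.basicOpen g') eV).hom.toAlgebra
  haveI towU : IsScalarTower Γ(S, W) Γ(X, U₀) Γ(X, X.basicOpen g) := by
    refine IsScalarTower.of_algebraMap_eq' ?_
    simp only [RingHom.algebraMap_toAlgebra]
    rw [← CommRingCat.hom_comp, Scheme.Hom.appLE_map]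
  haveI towV : IsScalarTower Γ(S, W) Γ(Y, V₀) Γ(Y, Y.basicOpen g') := by
    refine IsScalarTower.of_algebraMap_eq' ?_
    simp only [RingHom.algebraMap_toAlgebra]
    rw [← CommRingCat.hom_comp, Scheme.Hom.appLE_map]
  haveI locU := hU₀.isLocalization_basicOpen g
  haveI locV := hV₀.isLocalization_basicOpen g'
  let γX : Localization.Away g ≃ₐ[Γ(X, U₀)] Γ(X, X.basicOpen g) :=
    IsLocalization.algEquiv (Submonoid.powers g) _ _
  let γY : Localization.Away g' ≃ₐ[Γ(Y, V₀)] Γ(Y, Y.basicOpen g') :=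
    IsLocalization.algEquiv (Submonoid.powers g') _ _
  let ρ : Γ(Y, Y.basicOpen g') ≃ₐ[Γ(S, W)] Γ(X, X.basicOpen g) :=
    (γY.restrictScalars Γ(S, W)).symm.trans (ε₂.symm.trans (γX.restrictScalars Γ(S, W)))
  let ρiso : Γ(Y, Y.basicOpen g') ≅ Γ(X, X.basicOpen g) := ρ.toRingEquiv.toCommRingCatIso
  have hρ : sY.appLE W (Y.basicOpen g') eV ≫ ρiso.hom = sX.appLE W (X.basicOpen g) eU := by
    ext r
    exact ρ.commutes r
  obtain ⟨isoSpecs, hisoSpecs⟩ : ∃ i : Spec Γ(X, X.basicOpen g) ≅ Spec Γ(Y, Y.basicOpen g'),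
      i.hom = Spec.map ρiso.hom :=
    ⟨⟨Spec.map ρiso.hom, Spec.map ρiso.inv,
      by rw [← Spec.map_comp, ρiso.inv_hom_id, Spec.map_id],
      by rw [← Spec.map_comp, ρiso.hom_inv_id, Spec.map_id]⟩, rfl⟩
  refine ⟨X.basicOpen g, Y.basicOpen g', hU.isoSpec ≪≫ isoSpecs ≪≫ hV.isoSpec.symm, hxU, hyV, ?_⟩
  have hXeq : (X.basicOpen g).ι ≫ sX =
      hU.isoSpec.hom ≫ Spec.map (sX.appLE W (X.basicOpen g) eU) ≫ hW.fromSpec := by
    rw [IsAffineOpen.SpecMap_appLE_fromSpec sX hW hU eU, ← Category.assoc,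
      hU.isoSpec_hom_fromSpec]
  have hYeq : hV.isoSpec.inv ≫ (Y.basicOpen g').ι ≫ sY =
      Spec.map (sY.appLE W (Y.basicOpen g') eV) ≫ hW.fromSpec := by
    rw [IsAffineOpen.SpecMap_appLE_fromSpec sY hW hV eV, ← Category.assoc, hV.isoSpec_inv_ι]
  rw [hXeq]
  calc (hU.isoSpec ≪≫ isoSpecs ≪≫ hV.isoSpec.symm).hom ≫ (Y.basicOpen g').ι ≫ sY
      = hU.isoSpec.hom ≫ Spec.map ρiso.hom ≫ (hV.isoSpec.inv ≫ (Y.basicOpen g').ι ≫ sY) := by
        simp only [Iso.trans_hom, Iso.symm_hom, Category.assoc, hisoSpecs]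
    _ = hU.isoSpec.hom ≫ Spec.map ρiso.hom ≫
          Spec.map (sY.appLE W (Y.basicOpen g') eV) ≫ hW.fromSpec := by rw [hYeq]
    _ = hU.isoSpec.hom ≫ Spec.map (sX.appLE W (X.basicOpen g) eU) ≫ hW.fromSpec := by
        rw [← Spec.map_comp_assoc, hρ]

/-- **S9680**. -/
theorem birationalOver_iff_stalk {S X Y : Scheme.{u}} [IrreducibleSpace ↥X] [IrreducibleSpace ↥Y]
    (sX : X ⟶ S) (sY : Y ⟶ S)
    [LocallyOfFinitePresentation sX] [LocallyOfFinitePresentation sY] :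
    Scheme.BirationalOver sX sY ↔
      ∃ (hs : sX.base (genericPoint ↥X) = sY.base (genericPoint ↥Y))
        (e : X.presheaf.stalk (genericPoint ↥X) ≅ Y.presheaf.stalk (genericPoint ↥Y)),
        sX.stalkMap (genericPoint ↥X) ≫ e.hom =
          eqToHom (congrArg S.presheaf.stalk hs) ≫ sY.stalkMap (genericPoint ↥Y) := by
  constructor
  · rintro ⟨p, hp⟩
    obtain ⟨u, hux, huy⟩ := exists_generic_preimage p
    exact exists_stalk_iso_of_openImmersions sX sY p.source.ι (p.iso.hom ≫ p.target.ι)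
      (by rw [Category.assoc]; exact hp) u _ _ hux huy
  · rintro ⟨hs, e, he⟩
    obtain ⟨U, V, iso, hxU, hyV, hiso⟩ :=
      exists_iso_opens_of_stalkIso_lfp sX sY _ _ hs e he
    exact ⟨⟨U, U.2.dense ⟨_, hxU⟩, V, V.2.dense ⟨_, hyV⟩, iso⟩, hiso⟩

end Groth.Agent.Lib.Helper11.Birat
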