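import Mathlib
import Groth.Agent.Lib.Helper11.Birat8
import Groth.Agent.S4433

universe u
open CategoryTheory CategoryTheory.Limits AlgebraicGeometry TopologicalSpace Topology

namespace Groth.Agent.Lib.Helper11.Birat9

/-- In a Noetherian quasi-sober space, a point in the closure of a locally closed set `U \ O` is a
specialization of a point of that set. -/
theorem exists_specializes_of_mem_closure_diff {β : Type*} [TopologicalSpace β] [NoetherianSpace β]
    [QuasiSober β] {U O : Set β} (hU : IsOpen U) (hO : IsOpen O) {x : β}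
    (hx : x ∈ closure (U \ O)) : ∃ c ∈ U \ O, c ⤳ x := by
  obtain ⟨S, hSf, hSc, hSi, hSU⟩ :=
    NoetherianSpace.exists_finite_set_isClosed_irreducible (isClosed_closure (s := U \ O))
  have hex : ∃ T ∈ S, x ∈ T ∧ (T ∩ U).Nonempty := by
    by_contra hcon
    have hcon' : ∀ T ∈ S, x ∈ T → T ∩ U = ∅ := by
      intro T hT hxT
      by_contra hne
      exact hcon ⟨T, hT, hxT, Set.nonempty_iff_ne_empty.mpr hne⟩
    have hcl : IsClosed (⋃₀ {T ∈ S | x ∉ T}) := by
      rw [Set.sUnion_eq_biUnion]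
      exact (hSf.subset (Set.sep_subset _ _)).isClosed_biUnion (fun T hT => hSc T hT.1)
    have hsub : U \ O ⊆ ⋃₀ {T ∈ S | x ∉ T} := by
      intro c hc
      have hc' : c ∈ closure (U \ O) := subset_closure hc
      rw [hSU] at hc'
      obtain ⟨T, hT, hcT⟩ := hc'
      refine ⟨T, ⟨hT, fun hxT => ?_⟩, hcT⟩
      have h0 := hcon' T hT hxT
      exact (Set.eq_empty_iff_forall_notMem.mp h0 c) ⟨hcT, hc.1⟩
    have hx' : x ∈ ⋃₀ {T ∈ S | x ∉ T} := closure_minimal hsub hcl hx
    obtain ⟨T, ⟨_, hxT⟩, hxT'⟩ := hx'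
    exact hxT hxT'
  obtain ⟨T, hT, hxT, hTU⟩ := hex
  obtain ⟨c, hc⟩ := QuasiSober.sober (hSi T hT) (hSc T hT)
  have hcU : c ∈ U := (hc.mem_open_set_iff hU).mpr hTU
  have hcT : c ∈ T := hc.mem
  have hcO : c ∉ O := by
    intro hcO
    have h1 : c ∈ closure (U \ O) := by rw [hSU]; exact ⟨T, hT, hcT⟩
    have h2 : closure (U \ O) ⊆ Oᶜ := closure_minimal (fun a ha => ha.2) hO.isClosed_compl
    exact h2 h1 hcO
  refine ⟨c, ⟨hcU, hcO⟩, ?_⟩
  rw [specializes_iff_mem_closure, hc.def]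
  exact hxT

/-- Same, for a point having a Noetherian open neighbourhood. -/
theorem exists_specializes_of_mem_closure_diff' {α : Type*} [TopologicalSpace α] [QuasiSober α]
    (X₀ : Opens α) [NoetherianSpace X₀] {U O : Set α} (hU : IsOpen U) (hO : IsOpen O) {x : α}
    (hxX₀ : x ∈ X₀) (hx : x ∈ closure (U \ O)) : ∃ c ∈ U \ O, c ⤳ x := by
  haveI : QuasiSober X₀ := X₀.isOpenEmbedding'.quasiSober
  have hx' : (⟨x, hxX₀⟩ : X₀) ∈ closure ((Subtype.val : X₀ → α) ⁻¹' U \
      (Subtype.val : X₀ → α) ⁻¹' O) := by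
    have h1 : (Subtype.val : X₀ → α) ⁻¹' U \ (Subtype.val : X₀ → α) ⁻¹' O =
        (Subtype.val : X₀ → α) ⁻¹' (U \ O) := rfl
    rw [h1, ← X₀.isOpenEmbedding'.isOpenMap.preimage_closure_eq_closure_preimage
      continuous_subtype_val]
    exact hx
  obtain ⟨c, hc, hcx⟩ := exists_specializes_of_mem_closure_diff
    (hU.preimage continuous_subtype_val) (hO.preimage continuous_subtype_val) hx'
  exact ⟨c.1, hc, hcx.map continuous_subtype_val⟩

/-- A non-maximal prime of a Noetherian local ring is the kernel of a local homomorphism to a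
discrete valuation ring. -/
theorem exists_dvr_of_prime (A : Type u) [CommRing A] [IsNoetherianRing A] [IsLocalRing A]
    (𝔭 : Ideal A) [𝔭.IsPrime] (h𝔭 : 𝔭 ≠ IsLocalRing.maximalIdeal A) :
    ∃ (R : Type u) (_ : CommRing R) (_ : IsDomain R) (_ : IsDiscreteValuationRing R)
      (φ : A →+* R), IsLocalHom φ ∧ ∀ a, φ a = 0 ↔ a ∈ 𝔭 := by
  haveI hloc : IsLocalRing (A ⧸ 𝔭) :=
    IsLocalRing.of_surjective' (Ideal.Quotient.mk 𝔭) Ideal.Quotient.mk_surjective
  have hB : ¬ IsField (A ⧸ 𝔭) := fun hF =>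
    h𝔭 (IsLocalRing.eq_maximalIdeal (Ideal.Quotient.maximal_of_isField _ hF))
  obtain ⟨Rv, hDVR, hmem, hdom⟩ := Groth.Agent.S4433.result (A ⧸ 𝔭) hB
    (FractionRing (A ⧸ 𝔭)) (FractionRing (A ⧸ 𝔭)) (IntermediateField.fg_top _ _)
  have hmem' : ∀ a : A, ((algebraMap (A ⧸ 𝔭) (FractionRing (A ⧸ 𝔭))).comp
      (Ideal.Quotient.mk 𝔭)) a ∈ Rv := fun a => hmem _
  obtain ⟨φ, hφ⟩ : ∃ φ : A →+* Rv, ∀ a, ((φ a : Rv) : FractionRing (A ⧸ 𝔭)) =
      algebraMap (A ⧸ 𝔭) (FractionRing (A ⧸ 𝔭)) (Ideal.Quotient.mk 𝔭 a) :=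
    ⟨((algebraMap (A ⧸ 𝔭) (FractionRing (A ⧸ 𝔭))).comp
      (Ideal.Quotient.mk 𝔭)).codRestrict Rv hmem', fun a => rfl⟩
  have hcm : (IsLocalRing.maximalIdeal (A ⧸ 𝔭)).comap (Ideal.Quotient.mk 𝔭) =
      IsLocalRing.maximalIdeal A :=
    IsLocalRing.eq_maximalIdeal
      (Ideal.comap_isMaximal_of_surjective (Ideal.Quotient.mk 𝔭) Ideal.Quotient.mk_surjective)
  refine ⟨Rv, inferInstance, inferInstance, hDVR, φ, ?_, ?_⟩
  · constructor
    intro a ha
    by_contra hna
    have hmax : a ∈ IsLocalRing.maximalIdeal A := (IsLocalRing.mem_maximalIdeal a).mpr hna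
    have hmk : Ideal.Quotient.mk 𝔭 a ∈ IsLocalRing.maximalIdeal (A ⧸ 𝔭) := by
      rw [← hcm] at hmax; exact hmax
    have hlt := hdom _ hmk
    have h1 : Rv.valuation ((φ a : Rv) : FractionRing (A ⧸ 𝔭)) = 1 :=
      (Rv.valuation_eq_one_iff (φ a)).mp ha
    rw [hφ] at h1
    exact (ne_of_lt hlt) h1
  · intro a
    constructor
    · intro h0
      have h1 : ((φ a : Rv) : FractionRing (A ⧸ 𝔭)) = 0 := congrArg Subtype.val h0
      rw [hφ] at h1
      have h2 : Ideal.Quotient.mk 𝔭 a = 0 :=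
        (IsFractionRing.injective (A ⧸ 𝔭) (FractionRing (A ⧸ 𝔭))) (h1.trans (map_zero _).symm)
      exact Ideal.Quotient.eq_zero_iff_mem.mp h2
    · intro ha
      apply Subtype.ext
      show ((φ a : Rv) : FractionRing (A ⧸ 𝔭)) = 0
      rw [hφ, Ideal.Quotient.eq_zero_iff_mem.mpr ha, map_zero]

/-- **Lemma D**: for a proper specialization `c ⤳ x` in a locally Noetherian scheme there is a
discrete valuation ring `R` and a morphism `Spec R ⟶ X` sending the closed point to `x` and the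
generic point to `c`. -/
theorem exists_dvr_of_specializes {X : Scheme.{u}} [IsLocallyNoetherian X] {c x : X}
    (hcx : c ⤳ x) (hne : c ≠ x) :
    ∃ (R : Type u) (_ : CommRing R) (_ : IsDomain R) (_ : IsDiscreteValuationRing R)
      (u : Spec (CommRingCat.of R) ⟶ X),
      u.base (IsLocalRing.closedPoint R) = x ∧
      ∀ t : Spec (CommRingCat.of (FractionRing R)),
        (Spec.map (CommRingCat.ofHom (algebraMap R (FractionRing R))) ≫ u).base t = c := by
  obtain ⟨𝔭, h𝔭⟩ : ∃ 𝔭 : PrimeSpectrum (X.presheaf.stalk x),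
      (X.fromSpecStalk x).base 𝔭 = c := by
    have : c ∈ Set.range (X.fromSpecStalk x) := by
      rw [Scheme.range_fromSpecStalk]; exact hcx
    exact this
  haveI : 𝔭.asIdeal.IsPrime := 𝔭.isPrime
  have hne' : 𝔭.asIdeal ≠ IsLocalRing.maximalIdeal (X.presheaf.stalk x) := by
    intro hm
    have hcp : 𝔭 = IsLocalRing.closedPoint (X.presheaf.stalk x) := PrimeSpectrum.ext hm
    apply hne
    rw [← h𝔭, hcp]
    exact Scheme.fromSpecStalk_closedPoint
  obtain ⟨R, iR, iD, iV, φ, hloc, hker⟩ :=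
    exists_dvr_of_prime (X.presheaf.stalk x) 𝔭.asIdeal hne'
  haveI := hloc
  refine ⟨R, iR, iD, iV, Spec.map (CommRingCat.ofHom φ) ≫ X.fromSpecStalk x, ?_, ?_⟩
  · have hcl : (Spec.map (CommRingCat.ofHom φ)).base (IsLocalRing.closedPoint R) =
        IsLocalRing.closedPoint (X.presheaf.stalk x) := IsLocalRing.comap_closedPoint φ
    show (X.fromSpecStalk x).base ((Spec.map (CommRingCat.ofHom φ)).base
      (IsLocalRing.closedPoint R)) = x
    rw [hcl]; exact Scheme.fromSpecStalk_closedPoint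
  · intro t
    have h0 : (Spec.map (CommRingCat.ofHom φ)).base
        ((Spec.map (CommRingCat.ofHom (algebraMap R (FractionRing R)))).base t) = 𝔭 := by
      apply PrimeSpectrum.ext
      show Ideal.comap φ (Ideal.comap (algebraMap R (FractionRing R))
        (PrimeSpectrum.asIdeal (R := FractionRing R) t)) = 𝔭.asIdeal
      have ht : PrimeSpectrum.asIdeal (R := FractionRing R) t = ⊥ := Ideal.eq_bot_of_prime _
      rw [ht, Ideal.comap_bot_of_injective _ (IsFractionRing.injective R (FractionRing R))]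
      ext a
      rw [Ideal.mem_comap, Ideal.mem_bot]
      exact hker a
    show (X.fromSpecStalk x).base ((Spec.map (CommRingCat.ofHom φ)).base
        ((Spec.map (CommRingCat.ofHom (algebraMap R (FractionRing R)))).base t)) = c
    rw [h0]; exact h𝔭

/-- **Lemma U**: uniqueness part of the valuative criterion for discrete valuation rings. -/
theorem eq_of_valuative {P X : Scheme.{u}} (p : P ⟶ X) [IsSeparated p] (R : Type u) [CommRing R]
    [IsDomain R] [IsDiscreteValuationRing R] (l₁ l₂ : Spec (CommRingCat.of R) ⟶ P)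
    (h₁ : l₁ ≫ p = l₂ ≫ p)
    (h₂ : Spec.map (CommRingCat.ofHom (algebraMap R (FractionRing R))) ≫ l₁ =
      Spec.map (CommRingCat.ofHom (algebraMap R (FractionRing R))) ≫ l₂) : l₁ = l₂ := by
  have huniq := IsSeparated.valuativeCriterion p
  have w : (Spec.map (CommRingCat.ofHom (algebraMap R (FractionRing R))) ≫ l₁) ≫ p =
      Spec.map (CommRingCat.ofHom (algebraMap R (FractionRing R))) ≫ (l₁ ≫ p) :=
    Category.assoc _ _ _
  have hsub := huniq (@ValuativeCommSq.mk _ _ p R _ inferInstance inferInstance (FractionRing R)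
    _ _ _ (Spec.map (CommRingCat.ofHom (algebraMap R (FractionRing R))) ≫ l₁) (l₁ ≫ p) ⟨w⟩)
  have h3 := hsub.elim ⟨l₁, rfl, rfl⟩ ⟨l₂, h₂.symm, h₁.symm⟩
  exact congrArg CommSq.LiftStruct.l h3

/-- **Lemma L**: a morphism from the spectrum of a local ring whose closed point lands in an open
factors through that open. -/
theorem exists_lift_of_closedPoint_mem {Y : Scheme.{u}} (Y₀ : Y.Opens) (R : Type u) [CommRing R]
    [IsLocalRing R] (g : Spec (CommRingCat.of R) ⟶ Y)
    (hg : g.base (IsLocalRing.closedPoint R) ∈ Y₀) :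
    ∃ g' : Spec (CommRingCat.of R) ⟶ Y₀.toScheme, g' ≫ Y₀.ι = g := by
  have hr : Set.range g ⊆ Set.range Y₀.ι := by
    rintro _ ⟨t, rfl⟩
    rw [Scheme.Opens.range_ι]
    have hsp : g.base t ⤳ g.base (IsLocalRing.closedPoint R) :=
      (IsLocalRing.specializes_closedPoint (R := R) t).map g.continuous
    exact hsp.mem_open Y₀.isOpen hg
  exact ⟨IsOpenImmersion.lift _ _ hr, IsOpenImmersion.lift_fac _ _ hr⟩

/-- **Lemma E**: through any point of the closure of the graph of a rational section lying over a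
point outside the domain of definition passes a discrete valuation ring generically in the graph. -/
theorem exists_dvr_through_graph_closure {X P : Scheme.{u}} [IsLocallyNoetherian X] (p : P ⟶ X)
    [IsSeparated p] [LocallyOfFiniteType p] (U₀ : X.Opens) [IsIntegral U₀.toScheme]
    (γ : U₀.toScheme ⟶ P) (hγp : γ ≫ p = U₀.ι) (z₁ : P) (hz₁ : z₁ ∈ closure (Set.range γ))
    (hz₁U : p.base z₁ ∉ U₀) :
    ∃ (R : Type u) (_ : CommRing R) (_ : IsDomain R) (_ : IsDiscreteValuationRing R)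
      (v : Spec (CommRingCat.of R) ⟶ P)
      (vb : Spec (CommRingCat.of (FractionRing R)) ⟶ U₀.toScheme),
      v.base (IsLocalRing.closedPoint R) = z₁ ∧
      Spec.map (CommRingCat.ofHom (algebraMap R (FractionRing R))) ≫ v = vb ≫ γ := by
  haveI : IsOpenImmersion (γ ≫ p) := by rw [hγp]; infer_instance
  haveI : IsImmersion (γ ≫ p) := inferInstance
  haveI : IsImmersion γ := IsImmersion.of_comp γ p
  haveI hred : IsReduced γ.image := Birat7.isReduced_image_of_isReduced γ
  haveI hoi : IsOpenImmersion γ.toImage := Birat7.isOpenImmersion_toImage_of_isReduced γ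
  have hdense : DenseRange γ.toImage := Birat7.denseRange_toImage_of_isReduced γ
  haveI : IrreducibleSpace γ.image := by
    rw [irreducibleSpace_def]
    convert ((IrreducibleSpace.isIrreducible_univ U₀.toScheme).image _
      γ.toImage.continuous.continuousOn).closure
    simpa using hdense.closure_range.symm
  haveI : IsIntegral γ.image := isIntegral_of_irreducibleSpace_of_isReduced _
  have hfac : γ.toImage ≫ γ.imageι = γ := γ.toImage_imageι
  haveI : LocallyOfFiniteType (γ.imageι ≫ p) := inferInstance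
  haveI : IsLocallyNoetherian γ.image := LocallyOfFiniteType.isLocallyNoetherian (γ.imageι ≫ p)
  have hrange : Set.range γ.imageι = closure (Set.range γ) := Birat7.range_imageι_of_isReduced γ
  obtain ⟨w₁, hw₁⟩ : ∃ w₁ : γ.image, γ.imageι.base w₁ = z₁ := by
    have : z₁ ∈ Set.range γ.imageι := by rw [hrange]; exact hz₁
    exact this
  have hdenseO : Dense (γ.toImage.opensRange : Set γ.image) := hdense
  have hw₁O : w₁ ∉ γ.toImage.opensRange := by
    rintro ⟨a, ha⟩
    apply hz₁U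
    have h0' : (γ.toImage ≫ γ.imageι).base a = γ.base a :=
      congrArg (fun ψ : U₀.toScheme ⟶ P => ψ.base a) hfac
    have h0 : γ.imageι.base (γ.toImage.base a) = γ.base a := h0'
    have h1 : z₁ = γ.base a := by
      rw [← hw₁, ← ha]; exact h0
    have h2 : p.base (γ.base a) = a.1 := congrArg (fun ψ : U₀.toScheme ⟶ X => ψ.base a) hγp
    rw [h1, h2]; exact a.2
  have hc₁O := Birat8.fromSpecStalk_bot_mem_of_dense w₁ γ.toImage.opensRange hdenseO
  obtain ⟨c₁, hc₁⟩ : ∃ c₁ : γ.image, c₁ = (γ.image.fromSpecStalk w₁).base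
      (⟨⊥, Ideal.isPrime_bot⟩ : PrimeSpectrum (γ.image.presheaf.stalk w₁)) := ⟨_, rfl⟩
  rw [← hc₁] at hc₁O
  have hc₁w : c₁ ⤳ w₁ := by
    have : c₁ ∈ Set.range (γ.image.fromSpecStalk w₁) := ⟨_, hc₁.symm⟩
    rwa [Scheme.range_fromSpecStalk] at this
  have hc₁ne : c₁ ≠ w₁ := fun h => hw₁O (h ▸ hc₁O)
  obtain ⟨R, iR, iD, iV, v₀, hv₀c, hv₀g⟩ := exists_dvr_of_specializes hc₁w hc₁ne
  have hr : Set.range (Spec.map (CommRingCat.ofHom (algebraMap R (FractionRing R))) ≫ v₀) ⊆
      Set.range γ.toImage := by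
    rintro _ ⟨t, rfl⟩
    show (Spec.map (CommRingCat.ofHom (algebraMap R (FractionRing R))) ≫ v₀).base t ∈
      Set.range γ.toImage
    rw [hv₀g t]
    exact hc₁O
  obtain ⟨vb, hvb⟩ : ∃ vb : Spec (CommRingCat.of (FractionRing R)) ⟶ U₀.toScheme,
      vb ≫ γ.toImage = Spec.map (CommRingCat.ofHom (algebraMap R (FractionRing R))) ≫ v₀ :=
    ⟨IsOpenImmersion.lift _ _ hr, IsOpenImmersion.lift_fac _ _ hr⟩
  refine ⟨R, iR, iD, iV, v₀ ≫ γ.imageι, vb, ?_, ?_⟩
  · show γ.imageι.base (v₀.base (IsLocalRing.closedPoint R)) = z₁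
    rw [hv₀c, hw₁]
  · rw [← Category.assoc, ← hvb, Category.assoc, hfac]

end Groth.Agent.Lib.Helper11.Birat9
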