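import Mathlib

set_option autoImplicit false
universe u
open CategoryTheory CategoryTheory.Limits AlgebraicGeometry TopologicalSpace

namespace Groth.Agent.Lib.Helper11.MonoLib

theorem spec_field_map_epi (K Ω : Type u) [Field K] [Field Ω] (φ : K →+* Ω) :
    Epi (Spec.map (CommRingCat.ofHom φ)) := by
  haveI : Subsingleton ↥(Spec (CommRingCat.of K)) :=
    inferInstanceAs (Subsingleton (PrimeSpectrum K))
  haveI : Nonempty ↥(Spec (CommRingCat.of Ω)) := inferInstanceAs (Nonempty (PrimeSpectrum Ω))
  haveI : Surjective (Spec.map (CommRingCat.ofHom φ)) :=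
    ⟨fun y => ⟨Classical.arbitrary _, Subsingleton.elim _ _⟩⟩
  exact Flat.epi_of_flat_of_surjective _

/-- A morphism locally of finite type which is formally unramified and universally injective is a
monomorphism. -/
theorem mono_of_unramified_of_universallyInjective {X Y : Scheme.{u}} (f : X ⟶ Y)
    [LocallyOfFiniteType f] [FormallyUnramified f] [UniversallyInjective f] : Mono f := by
  have h2 : Surjective (pullback.diagonal f) := (UniversallyInjective.iff_diagonal f).mp inferInstance
  have h3 : IsIso (pullback.diagonal f) :=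
    (isIso_iff_isOpenImmersion_and_surjective _).mpr ⟨inferInstance, h2⟩
  exact (pullback.isIso_diagonal_iff f).mp h3

theorem universallyInjective_of_algClosed_points {X Y : Scheme.{u}} (f : X ⟶ Y)
    (hinj : ∀ (Ω : Type u) [Field Ω] [IsAlgClosed Ω],
      Function.Injective (fun g : Spec (CommRingCat.of Ω) ⟶ X => g ≫ f)) :
    UniversallyInjective f := by
  refine ((tfae_universallyInjective f).out 0 1).mpr ?_
  intro K _ g₁ g₂ hg
  have hepi := spec_field_map_epi K (AlgebraicClosure K) (algebraMap K (AlgebraicClosure K))
  have h := hinj (AlgebraicClosure K)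
    (a₁ := Spec.map (CommRingCat.ofHom (algebraMap K (AlgebraicClosure K))) ≫ g₁)
    (a₂ := Spec.map (CommRingCat.ofHom (algebraMap K (AlgebraicClosure K))) ≫ g₂)
    (by
      change (_ ≫ g₁) ≫ f = (_ ≫ g₂) ≫ f
      rw [Category.assoc, Category.assoc]
      exact congrArg _ hg)
  exact (cancel_epi _).mp h

theorem isClosedImmersion_of_proper_unramified {X Y : Scheme.{u}} (f : X ⟶ Y)
    [IsProper f] [FormallyUnramified f]
    (hinj : ∀ (Ω : Type u) [Field Ω] [IsAlgClosed Ω],
      Function.Injective (fun g : Spec (CommRingCat.of Ω) ⟶ X => g ≫ f)) :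
    IsClosedImmersion f := by
  rw [IsClosedImmersion.iff_isProper_and_mono]
  haveI := universallyInjective_of_algClosed_points f hinj
  exact ⟨inferInstance, mono_of_unramified_of_universallyInjective f⟩

end Groth.Agent.Lib.Helper11.MonoLib
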