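import Mathlib
import Groth.Agent.Lib.Helper11.MonoLib
import Groth.Agent.Lib.Helper14.StalkEtale

open IsLocalRing

namespace Groth.Agent.Lib.Helper11.MonoStalk

section ring

variable {A B : Type*} [CommRing A] [CommRing B] [IsLocalRing A] [IsLocalRing B]
  (φ : A →+* B) [IsLocalHom φ]

theorem map_maximalIdeal_le : (maximalIdeal A).map φ ≤ maximalIdeal B :=
  ((IsLocalRing.local_hom_TFAE φ).out 0 2).mp ‹_›

theorem quotientMap_injective :
    Function.Injective
      (Ideal.quotientMap ((maximalIdeal A).map φ) φ Ideal.le_comap_map) := by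
  refine Ideal.quotientMap_injective' ?_
  intro a ha
  have h1 : φ a ∈ maximalIdeal B := map_maximalIdeal_le φ (Ideal.mem_comap.mp ha)
  rw [mem_maximalIdeal, mem_nonunits_iff] at h1 ⊢
  exact fun h => h1 (h.map φ)

theorem quotientMap_surjective_iff :
    Function.Surjective
        (Ideal.quotientMap ((maximalIdeal A).map φ) φ Ideal.le_comap_map) ↔
      ((maximalIdeal A).map φ = maximalIdeal B ∧
        Function.Surjective (ResidueField.map φ)) := by
  constructor
  · intro hs
    have hb : Function.Bijective
        (Ideal.quotientMap ((maximalIdeal A).map φ) φ Ideal.le_comap_map) :=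
      ⟨quotientMap_injective φ, hs⟩
    have hA : IsField (A ⧸ maximalIdeal A) :=
      (Ideal.Quotient.maximal_ideal_iff_isField_quotient _).mp (maximalIdeal.isMaximal A)
    have hfield : IsField (B ⧸ (maximalIdeal A).map φ) :=
      MulEquiv.isField hA (RingEquiv.ofBijective _ hb).symm.toMulEquiv
    have hmax : ((maximalIdeal A).map φ).IsMaximal := Ideal.Quotient.maximal_of_isField _ hfield
    have heq : (maximalIdeal A).map φ = maximalIdeal B := IsLocalRing.eq_maximalIdeal hmax
    refine ⟨heq, fun z => ?_⟩
    obtain ⟨b, rfl⟩ := residue_surjective z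
    obtain ⟨w, hw⟩ := hs (Ideal.Quotient.mk _ b)
    obtain ⟨a, rfl⟩ := Ideal.Quotient.mk_surjective w
    refine ⟨residue A a, ?_⟩
    rw [ResidueField.map_residue]
    rw [Ideal.quotientMap_mk, Ideal.Quotient.eq, heq] at hw
    rw [← sub_eq_zero, ← map_sub, residue_eq_zero_iff]
    exact hw
  · rintro ⟨heq, hs⟩ z
    obtain ⟨b, rfl⟩ := Ideal.Quotient.mk_surjective z
    obtain ⟨w, hw⟩ := hs (residue B b)
    obtain ⟨a, rfl⟩ := residue_surjective w
    refine ⟨Ideal.Quotient.mk _ a, ?_⟩
    rw [ResidueField.map_residue, ← sub_eq_zero, ← map_sub, residue_eq_zero_iff] at hw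
    rw [Ideal.quotientMap_mk, Ideal.Quotient.eq, heq]
    exact hw

theorem field_of_surjective (K L : Type*) [Field K] [Field L] [Algebra K L]
    (hs : Function.Surjective (algebraMap K L)) :
    Module.Finite K L ∧ Algebra.IsSeparable K L ∧ IsPurelyInseparable K L := by
  refine ⟨Module.Finite.of_surjective (Algebra.linearMap K L) hs, ⟨fun x => ?_⟩, ?_⟩
  · obtain ⟨a, rfl⟩ := hs x
    exact isSeparable_algebraMap a
  · rw [isPurelyInseparable_iff]
    intro x
    refine ⟨?_, fun _ => hs x⟩
    obtain ⟨a, rfl⟩ := hs x
    exact isIntegral_algebraMap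

end ring

open AlgebraicGeometry CategoryTheory CategoryTheory.Limits

universe u

theorem mono_iff_stalk {X Y : Scheme.{u}} (f : X ⟶ Y) [LocallyOfFiniteType f] :
    Mono f ↔ ∀ x : ↥X,
      (∀ x' : ↥X, f.base x' = f.base x → x' = x) ∧
        Function.Bijective
          (Ideal.quotientMap
            ((IsLocalRing.maximalIdeal ↑(Y.presheaf.stalk (f.base x))).map (f.stalkMap x).hom)
            (f.stalkMap x).hom Ideal.le_comap_map) := by
  constructor
  · intro hm x
    haveI : UniversallyInjective f := inferInstance
    obtain ⟨hinj, hpi⟩ := ((tfae_universallyInjective f).out 0 2).mp ‹_›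
    refine ⟨fun x' h => hinj h, quotientMap_injective _, ?_⟩
    rw [quotientMap_surjective_iff]
    haveI : IsIso (pullback.diagonal f) := inferInstance
    haveI : FormallyUnramified f := inferInstance
    obtain ⟨h1, h2, h3⟩ := (Groth.Agent.Lib.Helper14.stalkMap_formallyUnramified_iff f x).mp
      (FormallyUnramified.stalkMap f x)
    refine ⟨h1, ?_⟩
    have hpx := hpi x
    algebraize [(f.residueFieldMap x).hom]
    haveI : IsPurelyInseparable (Y.residueField (f.base x)) (X.residueField x) := hpx
    exact IsPurelyInseparable.surjective_algebraMap_of_isSeparable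
      (Y.residueField (f.base x)) (X.residueField x)
  · intro h
    have hinj : Function.Injective f := fun x' x hx => (h x).1 x' hx
    have hres : ∀ x, (maximalIdeal _).map (f.stalkMap x).hom = maximalIdeal _ ∧
        Function.Surjective (ResidueField.map (f.stalkMap x).hom) :=
      fun x => (quotientMap_surjective_iff _).mp (h x).2.2
    have hF : ∀ x, letI := (f.residueFieldMap x).hom.toAlgebra
        Module.Finite (Y.residueField (f.base x)) (X.residueField x) ∧
        Algebra.IsSeparable (Y.residueField (f.base x)) (X.residueField x) ∧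
        IsPurelyInseparable (Y.residueField (f.base x)) (X.residueField x) := fun x => by
      letI := (f.residueFieldMap x).hom.toAlgebra
      exact field_of_surjective _ _ (hres x).2
    haveI : FormallyUnramified f := by
      refine HasRingHomProperty.of_stalkMap RingHom.FormallyUnramified.ofLocalizationPrime
        fun x => ?_
      rw [Groth.Agent.Lib.Helper14.stalkMap_formallyUnramified_iff]
      exact ⟨(hres x).1, (hF x).1, (hF x).2.1⟩
    haveI : UniversallyInjective f := by
      have h02 := (tfae_universallyInjective f).out 0 2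
      refine h02.mpr ?_
      exact ⟨hinj, fun x => (hF x).2.2⟩
    exact Groth.Agent.Lib.Helper11.MonoLib.mono_of_unramified_of_universallyInjective f

end Groth.Agent.Lib.Helper11.MonoStalk
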