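import Mathlib
import Groth.Agent.Lib.Helper11.MonoStalk

open AlgebraicGeometry CategoryTheory CategoryTheory.Limits IsLocalRing

namespace Groth.Agent.Lib.Helper11.ClosedImmK

universe u

variable (k : Type u) [Field k] [IsAlgClosed k]

/-- Over an algebraically closed field, the residue field map at a closed point is bijective. -/
theorem residueFieldMap_bijective {X Y : Scheme.{u}} (f : X ⟶ Y)
    (q : Y ⟶ Spec (CommRingCat.of k))
    [LocallyOfFiniteType q] [LocallyOfFiniteType (f ≫ q)] (x : X)
    (hx : IsClosed ({x} : Set X)) (hy : IsClosed ({f.base x} : Set Y)) :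
    Function.Bijective (f.residueFieldMap x).hom := by
  let eX := residueFieldIsoBase (f ≫ q) x hx
  let eY := residueFieldIsoBase q (f.base x) hy
  have h1 : eX.inv = eY.inv ≫ f.residueFieldMap x := by
    apply Spec.map_injective
    rw [Spec.map_comp, SpecMap_residueFieldIsoBase_inv, SpecMap_residueFieldIsoBase_inv,
      Scheme.Hom.SpecMap_residueFieldMap_fromSpecResidueField_assoc]
  have h2 : f.residueFieldMap x = eY.hom ≫ eX.inv := by
    rw [h1, Iso.hom_inv_id_assoc]
  rw [h2]
  exact (ConcreteCategory.isIso_iff_bijective _).mp inferInstance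

theorem isClosedImmersion_of_injOn_closedPoints {X Y : Scheme.{u}} (f : X ⟶ Y)
    (q : Y ⟶ Spec (CommRingCat.of k)) [LocallyOfFiniteType q] [QuasiCompact q]
    [LocallyOfFiniteType (f ≫ q)] [IsProper f]
    (hinj : Set.InjOn f.base {x : X | IsClosed ({x} : Set X)})
    (hT : ∀ x : X, IsClosed ({x} : Set X) →
      Ideal.map (f.stalkMap x).hom (maximalIdeal (Y.presheaf.stalk (f.base x))) ⊔
        maximalIdeal (X.presheaf.stalk x) ^ 2 = maximalIdeal (X.presheaf.stalk x)) :
    IsClosedImmersion f := by
  haveI : LocallyOfFiniteType f := locallyOfFiniteType_of_comp f q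
  haveI : JacobsonSpace ↥Y := LocallyOfFiniteType.jacobsonSpace q
  haveI : JacobsonSpace ↥X := LocallyOfFiniteType.jacobsonSpace (f ≫ q)
  haveI : IsLocallyNoetherian X := LocallyOfFiniteType.isLocallyNoetherian (f ≫ q)
  have hcl : ∀ x : X, IsClosed ({x} : Set X) → IsClosed ({f.base x} : Set Y) := fun x hx => by
    have := f.isClosedMap _ hx
    rwa [Set.image_singleton] at this
  -- Step 1: stalk maps at closed points are formally unramified
  have hst : ∀ x : X, IsClosed ({x} : Set X) → (f.stalkMap x).hom.FormallyUnramified := by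
    intro x hx
    rw [Groth.Agent.Lib.Helper14.stalkMap_formallyUnramified_iff]
    have hb := residueFieldMap_bijective k f q x hx (hcl x hx)
    have hF : letI := (f.residueFieldMap x).hom.toAlgebra
        Module.Finite (Y.residueField (f.base x)) (X.residueField x) ∧
        Algebra.IsSeparable (Y.residueField (f.base x)) (X.residueField x) ∧
        IsPurelyInseparable (Y.residueField (f.base x)) (X.residueField x) := by
      letI := (f.residueFieldMap x).hom.toAlgebra
      exact Groth.Agent.Lib.Helper11.MonoStalk.field_of_surjective _ _ hb.2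
    refine ⟨?_, hF.1, hF.2.1⟩
    apply le_antisymm (Groth.Agent.Lib.Helper11.MonoStalk.map_maximalIdeal_le _)
    refine Submodule.le_of_le_smul_of_le_jacobson_bot (I := maximalIdeal (X.presheaf.stalk x))
      (IsNoetherian.noetherian _) (IsLocalRing.maximalIdeal_le_jacobson ⊥) ?_
    rw [smul_eq_mul, ← pow_two]
    exact (hT x hx).ge
  -- Step 2: `f` is formally unramified
  haveI : FormallyUnramified f := by
    have key : ∀ i : {x : X // IsClosed ({x} : Set X)},
        ∃ V : X.Opens, i.1 ∈ V ∧ FormallyUnramified (V.ι ≫ f) := fun i => by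
      obtain ⟨U, hU, V, hV, hVU, hxV, hfu⟩ :=
        Groth.Agent.Lib.Helper14.exists_formallyUnramified_of_stalk f i.1 (hst i.1 i.2)
      exact ⟨V, hxV,
        Groth.Agent.Lib.Helper14.formallyUnramified_ι_comp_of_appLE f U hU V hV hVU hfu⟩
    choose V hV1 hV2 using key
    refine IsZariskiLocalAtSource.of_iSup_eq_top (P := @FormallyUnramified) V ?_ hV2
    by_contra hne
    have hZ : (((⨆ i, V i : X.Opens) : Set X)ᶜ).Nonempty := by
      rw [Set.nonempty_compl]
      intro h
      exact hne (TopologicalSpace.Opens.ext h)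
    obtain ⟨z, hz1, hz2⟩ := nonempty_inter_closedPoints hZ
      (⨆ i, V i).isOpen.isClosed_compl.isLocallyClosed
    exact hz1 (TopologicalSpace.Opens.mem_iSup.mpr ⟨⟨z, hz2⟩, hV1 ⟨z, hz2⟩⟩)
  -- Step 3: the diagonal is surjective
  haveI : UniversallyInjective f := by
    rw [UniversallyInjective.iff_diagonal]
    let p : pullback f f ⟶ Spec (.of k) := pullback.fst f f ≫ f ≫ q
    haveI : LocallyOfFiniteType p := inferInstance
    haveI : JacobsonSpace ↥(pullback f f) := LocallyOfFiniteType.jacobsonSpace p
    constructor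
    by_contra hns
    have hopen : IsOpen (Set.range (pullback.diagonal f).base) :=
      (pullback.diagonal f).isOpenEmbedding.isOpen_range
    have hZ : ((Set.range (pullback.diagonal f).base)ᶜ).Nonempty := by
      rw [Set.nonempty_compl]
      intro h
      exact hns (Set.range_eq_univ.mp h)
    obtain ⟨z, hz1, hz2⟩ := nonempty_inter_closedPoints hZ hopen.isClosed_compl.isLocallyClosed
    let pz : Spec (.of k) ⟶ pullback f f := pointOfClosedPoint p z hz2
    have hpz : pz ≫ p = 𝟙 _ := pointOfClosedPoint_comp p z hz2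
    let a₁ := pz ≫ pullback.fst f f
    let a₂ := pz ≫ pullback.snd f f
    have ha₁ : a₁ ≫ (f ≫ q) = 𝟙 _ := by simpa [a₁, p] using hpz
    have ha₂ : a₂ ≫ (f ≫ q) = 𝟙 _ := by
      simp only [a₂, Category.assoc]
      rw [← pullback.condition_assoc]
      simpa [p] using hpz
    have hc₁ := (pointEquivClosedPoint (f ≫ q) ⟨a₁, ha₁⟩).2
    have hc₂ := (pointEquivClosedPoint (f ≫ q) ⟨a₂, ha₂⟩).2
    have hf12 : f.base (a₁ (closedPoint k)) = f.base (a₂ (closedPoint k)) := by
      have h : a₁ ≫ f = a₂ ≫ f := by simp [a₁, a₂, pullback.condition]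
      have h' := congr(($h).base (closedPoint k))
      simpa using h'
    have h12 : a₁ (closedPoint k) = a₂ (closedPoint k) := hinj hc₁ hc₂ hf12
    have ha : a₁ = a₂ := ext_of_apply_closedPoint_eq (f ≫ q) ha₁ ha₂ h12
    have hpz' : pz = a₁ ≫ pullback.diagonal f := by
      apply pullback.hom_ext
      · simp [a₁]
      · rw [Category.assoc, pullback.diagonal_snd, Category.comp_id, ha]
    apply hz1
    refine ⟨a₁ (closedPoint k), ?_⟩
    have h3 : pz (closedPoint k) = z := pointOfClosedPoint_apply p z hz2 _
    rw [← h3, hpz']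
    rfl
  rw [IsClosedImmersion.iff_isProper_and_mono]
  exact ⟨inferInstance,
    Groth.Agent.Lib.Helper11.MonoLib.mono_of_unramified_of_universallyInjective f⟩

end Groth.Agent.Lib.Helper11.ClosedImmK
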