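import Mathlib
import Groth.Prelude.Def_AlgGrp
import Groth.Prelude.Def_NonAbH2
import Groth.Agent.Lib.Helper22.ActionPts

/-!
# Core1: the kernel of the action on a homogeneous space (helper11)
-/

set_option autoImplicit false
universe u

open CategoryTheory CategoryTheory.Limits MonoidalCategory CartesianMonoidalCategory MonObj GrpObj
  AlgebraicGeometry
open Groth.Agent.Lib.Helper22

namespace Groth.Agent.Lib.Helper11.Core1

theorem fppf_unpack (X : Scheme.{u}) (R : Presieve X) (hR : R ∈ Scheme.fppfPrecoverage X) :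
    (∀ x : X, ∃ (Y : Scheme.{u}) (f : Y ⟶ X), R f ∧ x ∈ Set.range f) ∧
    ∀ (Y : Scheme.{u}) (f : Y ⟶ X), R f → Flat f := by
  obtain ⟨h1, h2⟩ := hR
  refine ⟨fun x => ?_, fun Y f hf => (h2 hf).1⟩
  rw [Precoverage.mem_comap_iff] at h1
  rw [Types.mem_jointlySurjectivePrecoverage_iff] at h1
  obtain ⟨Z, g, hg, y, hy⟩ := h1 x
  obtain ⟨hf⟩ := hg
  exact ⟨_, _, hf, y, hy⟩

/-- Two morphisms agreeing after composition with a jointly surjective family of flat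
morphisms are equal. -/
theorem eq_of_flat_jointly_surjective {T Z : Scheme.{u}} (a b : T ⟶ Z)
    (h : ∀ t : T, ∃ (W : Scheme.{u}) (p : W ⟶ T), Flat p ∧ t ∈ Set.range p ∧ p ≫ a = p ≫ b) :
    a = b := by
  choose W p hflat hmem hp using h
  let π : (∐ W) ⟶ T := Sigma.desc p
  haveI : Flat π := by
    apply IsZariskiLocalAtSource.of_openCover (P := @Flat) (sigmaOpenCover W)
    intro t
    show Flat (Sigma.ι W t ≫ Sigma.desc p)
    rw [Sigma.ι_desc]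
    exact hflat t
  haveI : Surjective π := by
    refine ⟨fun t => ?_⟩
    obtain ⟨w, hw⟩ := hmem t
    refine ⟨Sigma.ι W t w, ?_⟩
    rw [← Scheme.Hom.comp_apply, Sigma.ι_desc]
    exact hw
  haveI : Epi π := Flat.epi_of_flat_of_surjective π
  rw [← cancel_epi π]
  apply Sigma.hom_ext
  intro t
  rw [← Category.assoc, ← Category.assoc, Sigma.ι_desc]
  exact hp t

variable {S : Scheme.{u}} {G H Q N : Over S} [GrpObj G] [GrpObj H] [GrpObj N]

theorem core_normal (aQ : AlgGrp.Action G Q) (n : N ⟶ G)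
    (hN : ∀ (T : Over S) (g : T ⟶ G),
      (∃ g' : T ⟶ N, g' ≫ n = g) ↔
        ∀ (T' : Over S) (v : T' ⟶ T) (q : T' ⟶ Q), lift (v ≫ g) q ≫ aQ.act = q) :
    AlgGrp.IsNormalHom n := by
  intro T g x
  suffices hh : ∃ g' : T ⟶ N, g' ≫ n = g * (x ≫ n) * g⁻¹ by
    obtain ⟨g', hg'⟩ := hh
    exact ⟨g', hg'.symm⟩
  apply (hN T (g * (x ≫ n) * g⁻¹)).mpr
  intro T' v q
  have hx := (hN T (x ≫ n)).mp ⟨x, rfl⟩
  show smul aQ (v ≫ (g * (x ≫ n) * g⁻¹)) q = q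
  rw [MonObj.comp_mul, MonObj.comp_mul, GrpObj.comp_inv, pt_mul_smul, pt_mul_smul]
  have h1 : smul aQ (v ≫ x ≫ n) (smul aQ (v ≫ g)⁻¹ q) = smul aQ (v ≫ g)⁻¹ q := hx T' v _
  rw [h1, pt_smul_inv_smul]

theorem core_le (i : H ⟶ G) (aQ : AlgGrp.Action G Q) (q₀ : 𝟙_ (Over S) ⟶ Q)
    (hpb : IsPullback (fst G H) ((G ◁ i) ≫ μ[G]) (aQ.orbitMap q₀) (aQ.orbitMap q₀))
    (n : N ⟶ G)
    (hn : ∀ (T' : Over S) (v : T' ⟶ N) (q : T' ⟶ Q), lift (v ≫ n) q ≫ aQ.act = q) :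
    ∃ m : N ⟶ H, m ≫ i = n := by
  have h1 : (1 : N ⟶ G) ≫ aQ.orbitMap q₀ = n ≫ aQ.orbitMap q₀ := by
    rw [comp_orbitMap, comp_orbitMap, pt_one_smul]
    have h2 := hn N (𝟙 N) (toUnit N ≫ q₀)
    rw [Category.id_comp] at h2
    exact h2.symm
  obtain ⟨w, hw1, hw2⟩ : ∃ w : N ⟶ G ⊗ H, w ≫ fst G H = 1 ∧ w ≫ ((G ◁ i) ≫ μ[G]) = n :=
    ⟨hpb.lift _ _ h1, hpb.lift_fst _ _ _, hpb.lift_snd _ _ _⟩
  refine ⟨w ≫ snd G H, ?_⟩
  have hw : w = lift (1 : N ⟶ G) (w ≫ snd G H) := by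
    apply CartesianMonoidalCategory.hom_ext
    · rw [lift_fst, hw1]
    · rw [lift_snd]
  rw [← hw2]
  conv_rhs => rw [hw]
  rw [← Category.assoc, lift_whiskerLeft, ← Hom.mul_def, _root_.one_mul]

theorem core_largest (i : H ⟶ G) (aQ : AlgGrp.Action G Q) (q₀ : 𝟙_ (Over S) ⟶ Q)
    (hpb : IsPullback (fst G H) ((G ◁ i) ≫ μ[G]) (aQ.orbitMap q₀) (aQ.orbitMap q₀))
    (hloc : NonAbH1.IsLocallyTrivialFor Scheme.fppfPrecoverage
      (Over.mk (aQ.orbitMap q₀).left : Over Q.left))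
    {N' : Over S} [GrpObj N'] (n' : N' ⟶ G) (hnorm : AlgGrp.IsNormalHom n')
    (m' : N' ⟶ H) (hm' : m' ≫ i = n')
    (T' : Over S) (v : T' ⟶ N') (q : T' ⟶ Q) : lift (v ≫ n') q ≫ aQ.act = q := by
  obtain ⟨R, hR, hsec⟩ := hloc
  obtain ⟨hsurj, hflat⟩ := fppf_unpack _ R hR
  have hfix : ∀ {W : Over S} (h : W ⟶ H),
      smul aQ (h ≫ i) (toUnit W ≫ q₀) = toUnit W ≫ q₀ := by
    intro W h
    have e2 : lift (1 : W ⟶ G) h ≫ fst G H ≫ aQ.orbitMap q₀ =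
        lift (1 : W ⟶ G) h ≫ ((G ◁ i) ≫ μ[G]) ≫ aQ.orbitMap q₀ := by
      rw [hpb.w]
    rw [← Category.assoc, lift_fst, ← Category.assoc, ← Category.assoc, lift_whiskerLeft,
      ← Hom.mul_def, _root_.one_mul, comp_orbitMap, comp_orbitMap, pt_one_smul] at e2
    exact e2.symm
  apply Over.OverMorphism.ext
  apply eq_of_flat_jointly_surjective
  intro t
  obtain ⟨Y, f, hRf, y, hy⟩ := hsurj (q.left t)
  obtain ⟨s, hs⟩ := hsec f hRf
  haveI := hflat Y f hRf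
  obtain ⟨w, hw1, hw2⟩ := Scheme.Pullback.exists_preimage_pullback (f := q.left) (g := f) t y hy.symm
  refine ⟨pullback q.left f, pullback.fst q.left f, inferInstance, ⟨w, hw1⟩, ?_⟩
  obtain ⟨W, hW⟩ : ∃ W : Over S, W = Over.mk (pullback.fst q.left f ≫ T'.hom) := ⟨_, rfl⟩
  have hs' : s ≫ (aQ.orbitMap q₀).left = f := hs
  have hgw : (pullback.snd q.left f ≫ s) ≫ G.hom = pullback.fst q.left f ≫ T'.hom := by
    rw [← Over.w (aQ.orbitMap q₀), Category.assoc, ← Category.assoc s, hs', ← Category.assoc,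
      ← pullback.condition, Category.assoc, Over.w q]
  subst hW
  let p : Over.mk (pullback.fst q.left f ≫ T'.hom) ⟶ T' := Over.homMk (pullback.fst q.left f) rfl
  let gW : Over.mk (pullback.fst q.left f ≫ T'.hom) ⟶ G :=
    Over.homMk (pullback.snd q.left f ≫ s) hgw
  have hgq : gW ≫ aQ.orbitMap q₀ = p ≫ q := by
    apply Over.OverMorphism.ext
    show (pullback.snd q.left f ≫ s) ≫ (aQ.orbitMap q₀).left = pullback.fst q.left f ≫ q.left
    rw [Category.assoc, hs', pullback.condition]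
  have key : p ≫ smul aQ (v ≫ n') q = p ≫ q := by
    rw [comp_smul, ← hgq, comp_orbitMap, ← pt_mul_smul]
    obtain ⟨n'', hn''⟩ := hnorm _ gW⁻¹ (p ≫ v)
    have e1 : (p ≫ v ≫ n') * gW = gW * (gW⁻¹ * ((p ≫ v) ≫ n') * gW⁻¹⁻¹) := by
      rw [Category.assoc]; group
    rw [e1, pt_mul_smul, hn'', ← hm', ← Category.assoc, hfix]
  exact congrArg (fun z => z.left) key

end Groth.Agent.Lib.Helper11.Core1
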