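import Mathlib
import Groth.Prelude.Def_Grpd
import Groth.Prelude.Def_Desc

/-!
# The groupoid scheme of a descent datum (helper11)

For a descent datum `D` on `V → X` relative to `p : X → Y`, the groupoid `(V, V ×_Y X)` with
`s = pr₁` and `t (v, x₁) = φ_{π v, x₁} v`.
-/

set_option autoImplicit false
universe u

open CategoryTheory CategoryTheory.Limits AlgebraicGeometry

namespace Groth.Agent.Lib.Helper11.DG1

variable {X Y : Scheme.{u}} {p : X ⟶ Y} (D : Desc.SchDD p)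

section tr

variable {T T' : Scheme.{u}}

/-- transport of a `T`-point of `V` over `x₀` to a point over `x₁` -/
noncomputable def trL (x₀ x₁ : T ⟶ X) (h : x₀ ≫ p = x₁ ≫ p) (v : T ⟶ D.obj.left)
    (hv : v ≫ D.obj.hom = x₀) : T ⟶ D.obj.left :=
  (D.φ x₀ x₁ h ⟨v, hv⟩).1

theorem trL_hom (x₀ x₁ : T ⟶ X) (h : x₀ ≫ p = x₁ ≫ p) (v : T ⟶ D.obj.left)
    (hv : v ≫ D.obj.hom = x₀) : trL D x₀ x₁ h v hv ≫ D.obj.hom = x₁ :=
  (D.φ x₀ x₁ h ⟨v, hv⟩).2

theorem trL_congr {x₀ x₀' x₁ x₁' : T ⟶ X} {v v' : T ⟶ D.obj.left} (e₀ : x₀ = x₀')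
    (e₁ : x₁ = x₁') (ev : v = v') (h : x₀ ≫ p = x₁ ≫ p) (hv : v ≫ D.obj.hom = x₀)
    (h' : x₀' ≫ p = x₁' ≫ p) (hv' : v' ≫ D.obj.hom = x₀') :
    trL D x₀ x₁ h v hv = trL D x₀' x₁' h' v' hv' := by
  subst e₀ e₁ ev
  rfl

theorem comp_trL (g : T' ⟶ T) (x₀ x₁ : T ⟶ X) (h : x₀ ≫ p = x₁ ≫ p) (v : T ⟶ D.obj.left)
    (hv : v ≫ D.obj.hom = x₀) (h' : (g ≫ x₀) ≫ p = (g ≫ x₁) ≫ p)
    (hv' : (g ≫ v) ≫ D.obj.hom = g ≫ x₀) :
    g ≫ trL D x₀ x₁ h v hv = trL D (g ≫ x₀) (g ≫ x₁) h' (g ≫ v) hv' :=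
  (D.φ_natural g x₀ x₁ h h' ⟨v, hv⟩ ⟨g ≫ v, hv'⟩ rfl).symm

theorem trL_self (x : T ⟶ X) (v : T ⟶ D.obj.left) (hv : v ≫ D.obj.hom = x) :
    trL D x x rfl v hv = v :=
  congrArg Subtype.val (D.φ_self x ⟨v, hv⟩)

theorem trL_trL (x₀ x₁ x₂ : T ⟶ X) (h₀₁ : x₀ ≫ p = x₁ ≫ p) (h₁₂ : x₁ ≫ p = x₂ ≫ p)
    (v : T ⟶ D.obj.left) (hv : v ≫ D.obj.hom = x₀)
    (hv' : trL D x₀ x₁ h₀₁ v hv ≫ D.obj.hom = x₁) :
    trL D x₁ x₂ h₁₂ (trL D x₀ x₁ h₀₁ v hv) hv' = trL D x₀ x₂ (h₀₁.trans h₁₂) v hv :=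
  congrArg Subtype.val (D.φ_comp x₀ x₁ x₂ h₀₁ h₁₂ ⟨v, hv⟩)

end tr

section grpd

/-- source: first projection of `V ×_Y X` -/
noncomputable def sM : pullback (D.obj.hom ≫ p) p ⟶ D.obj.left := pullback.fst _ _

/-- the `X`-component of an arrow -/
noncomputable def xM : pullback (D.obj.hom ≫ p) p ⟶ X := pullback.snd _ _

theorem cond : (sM D ≫ D.obj.hom) ≫ p = xM D ≫ p := by
  rw [Category.assoc]
  exact pullback.condition

/-- target: the transported point -/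
noncomputable def tM : pullback (D.obj.hom ≫ p) p ⟶ D.obj.left :=
  trL D (sM D ≫ D.obj.hom) (xM D) (cond D) (sM D) rfl

theorem tM_hom : tM D ≫ D.obj.hom = xM D := trL_hom D _ _ _ _ _

variable {T : Scheme.{u}}

/-- the arrow `(v, x)` -/
noncomputable def mkR (v : T ⟶ D.obj.left) (x : T ⟶ X) (h : (v ≫ D.obj.hom) ≫ p = x ≫ p) :
    T ⟶ pullback (D.obj.hom ≫ p) p :=
  pullback.lift v x (by rw [← Category.assoc]; exact h)

theorem mkR_s (v : T ⟶ D.obj.left) (x : T ⟶ X) (h : (v ≫ D.obj.hom) ≫ p = x ≫ p) :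
    mkR D v x h ≫ sM D = v := pullback.lift_fst _ _ _

theorem mkR_x (v : T ⟶ D.obj.left) (x : T ⟶ X) (h : (v ≫ D.obj.hom) ≫ p = x ≫ p) :
    mkR D v x h ≫ xM D = x := pullback.lift_snd _ _ _

theorem R_ext {α β : T ⟶ pullback (D.obj.hom ≫ p) p} (hs : α ≫ sM D = β ≫ sM D)
    (hx : α ≫ xM D = β ≫ xM D) : α = β :=
  pullback.hom_ext hs hx

theorem cond_pt (α : T ⟶ pullback (D.obj.hom ≫ p) p) :
    ((α ≫ sM D) ≫ D.obj.hom) ≫ p = (α ≫ xM D) ≫ p := by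
  have h := congrArg (fun f => α ≫ f) (cond D)
  simpa only [Category.assoc] using h

theorem comp_tM (α : T ⟶ pullback (D.obj.hom ≫ p) p) :
    α ≫ tM D = trL D ((α ≫ sM D) ≫ D.obj.hom) (α ≫ xM D) (cond_pt D α) (α ≫ sM D) rfl := by
  have h' : (α ≫ sM D ≫ D.obj.hom) ≫ p = (α ≫ xM D) ≫ p := by
    rw [← Category.assoc α]; exact cond_pt D α
  exact (comp_trL D α (sM D ≫ D.obj.hom) (xM D) (cond D) (sM D) rfl h'
    (Category.assoc _ _ _)).trans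
    (trL_congr D (Category.assoc _ _ _).symm rfl rfl _ _ _ _)

theorem mkR_t (v : T ⟶ D.obj.left) (x : T ⟶ X) (h : (v ≫ D.obj.hom) ≫ p = x ≫ p) :
    mkR D v x h ≫ tM D = trL D (v ≫ D.obj.hom) x h v rfl :=
  (comp_tM D _).trans
    (trL_congr D (by rw [mkR_s]) (mkR_x D v x h) (mkR_s D v x h) _ _ _ _)

/-- identity arrows -/
noncomputable def eM : D.obj.left ⟶ pullback (D.obj.hom ≫ p) p :=
  mkR D (𝟙 _) D.obj.hom (by rw [Category.id_comp])

theorem i_cond : (tM D ≫ D.obj.hom) ≫ p = (sM D ≫ D.obj.hom) ≫ p := by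
  rw [tM_hom]; exact (cond D).symm

/-- inverse arrows -/
noncomputable def iM : pullback (D.obj.hom ≫ p) p ⟶ pullback (D.obj.hom ≫ p) p :=
  mkR D (tM D) (sM D ≫ D.obj.hom) (i_cond D)

theorem c_cond : ((pullback.snd (sM D) (tM D) ≫ sM D) ≫ D.obj.hom) ≫ p =
    (pullback.fst (sM D) (tM D) ≫ xM D) ≫ p := by
  calc ((pullback.snd (sM D) (tM D) ≫ sM D) ≫ D.obj.hom) ≫ p
      = pullback.snd (sM D) (tM D) ≫ (sM D ≫ D.obj.hom) ≫ p := by
        simp only [Category.assoc]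
    _ = pullback.snd (sM D) (tM D) ≫ xM D ≫ p := by rw [cond D]
    _ = (pullback.snd (sM D) (tM D) ≫ tM D) ≫ D.obj.hom ≫ p := by
        rw [Category.assoc, ← Category.assoc (tM D), tM_hom]
    _ = (pullback.fst (sM D) (tM D) ≫ sM D) ≫ D.obj.hom ≫ p := by rw [pullback.condition]
    _ = pullback.fst (sM D) (tM D) ≫ (sM D ≫ D.obj.hom) ≫ p := by
        simp only [Category.assoc]
    _ = (pullback.fst (sM D) (tM D) ≫ xM D) ≫ p := by rw [cond D, Category.assoc]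

/-- composition `(v', x₂) ∘ (v, x₁) = (v, x₂)` -/
noncomputable def cM : pullback (sM D) (tM D) ⟶ pullback (D.obj.hom ≫ p) p :=
  mkR D (pullback.snd (sM D) (tM D) ≫ sM D) (pullback.fst (sM D) (tM D) ≫ xM D) (c_cond D)

theorem lift_c_s (α β : T ⟶ pullback (D.obj.hom ≫ p) p) (h : α ≫ sM D = β ≫ tM D) :
    (pullback.lift α β h ≫ cM D) ≫ sM D = β ≫ sM D := by
  rw [Category.assoc, cM, mkR_s, pullback.lift_snd_assoc]

theorem lift_c_x (α β : T ⟶ pullback (D.obj.hom ≫ p) p) (h : α ≫ sM D = β ≫ tM D) :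
    (pullback.lift α β h ≫ cM D) ≫ xM D = α ≫ xM D := by
  rw [Category.assoc, cM, mkR_x, pullback.lift_fst_assoc]

theorem eM_s : eM D ≫ sM D = 𝟙 _ := mkR_s D _ _ _

theorem eM_x : eM D ≫ xM D = D.obj.hom := mkR_x D _ _ _

theorem eM_t : eM D ≫ tM D = 𝟙 _ := by
  rw [eM, mkR_t]
  exact (trL_congr D (Category.id_comp _) rfl rfl _ _ rfl (Category.id_comp _)).trans
    (trL_self D _ _ _)

theorem iM_s : iM D ≫ sM D = tM D := mkR_s D _ _ _

theorem iM_x : iM D ≫ xM D = sM D ≫ D.obj.hom := mkR_x D _ _ _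

theorem iM_t : iM D ≫ tM D = sM D := by
  rw [iM, mkR_t]
  have e1 : trL D (tM D ≫ D.obj.hom) (sM D ≫ D.obj.hom) (i_cond D) (tM D) rfl =
      trL D (xM D) (sM D ≫ D.obj.hom) (cond D).symm (tM D) (tM_hom D) :=
    trL_congr D (tM_hom D) rfl rfl _ _ _ _
  rw [e1]
  exact (trL_trL D (sM D ≫ D.obj.hom) (xM D) (sM D ≫ D.obj.hom) (cond D) (cond D).symm (sM D) rfl
    (tM_hom D)).trans (trL_self D _ _ _)

theorem lift_c_t (α β : T ⟶ pullback (D.obj.hom ≫ p) p) (h : α ≫ sM D = β ≫ tM D) :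
    (pullback.lift α β h ≫ cM D) ≫ tM D = α ≫ tM D := by
  have hw : α ≫ sM D =
      trL D ((β ≫ sM D) ≫ D.obj.hom) (β ≫ xM D) (cond_pt D β) (β ≫ sM D) rfl :=
    h.trans (comp_tM D β)
  have e₀ : β ≫ xM D = (α ≫ sM D) ≫ D.obj.hom := by rw [hw, trL_hom]
  have h₁₂ : (β ≫ xM D) ≫ p = (α ≫ xM D) ≫ p := by rw [e₀]; exact cond_pt D α
  rw [comp_tM D (pullback.lift α β h ≫ cM D), comp_tM D α]
  have e1 : trL D ((α ≫ sM D) ≫ D.obj.hom) (α ≫ xM D) (cond_pt D α) (α ≫ sM D) rfl =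
      trL D (β ≫ xM D) (α ≫ xM D) h₁₂
        (trL D ((β ≫ sM D) ≫ D.obj.hom) (β ≫ xM D) (cond_pt D β) (β ≫ sM D) rfl)
        (trL_hom D _ _ _ _ _) :=
    trL_congr D e₀.symm rfl hw _ _ _ _
  rw [e1, trL_trL]
  exact trL_congr D (by rw [lift_c_s]) (lift_c_x D α β h) (lift_c_s D α β h) _ _ _ _

/-- the groupoid scheme of a descent datum -/
noncomputable def grpd : Grpd.GroupoidScheme Y where
  U := D.obj.left
  R := pullback (D.obj.hom ≫ p) p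
  pU := D.obj.hom ≫ p
  pR := sM D ≫ D.obj.hom ≫ p
  s := sM D
  t := tM D
  e := eM D
  i := iM D
  c := cM D
  s_over := rfl
  t_over := by
    rw [← Category.assoc, tM_hom, ← cond D, Category.assoc]
  comp_s := fun α β h => lift_c_s D α β h
  comp_t := fun α β h => lift_c_t D α β h
  assoc := fun α β γ h₁ h₂ => by
    apply R_ext
    · rw [lift_c_s, lift_c_s, lift_c_s]
    · rw [lift_c_x, lift_c_x, lift_c_x]
  e_s := eM_s D
  e_t := eM_t D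
  comp_e := fun α => by
    apply R_ext
    · rw [lift_c_s, Category.assoc, Category.assoc, eM_s, Category.comp_id]
    · rw [lift_c_x]
  e_comp := fun α => by
    apply R_ext
    · rw [lift_c_s]
    · rw [lift_c_x, Category.assoc, Category.assoc, eM_x, tM_hom]
  i_s := iM_s D
  i_t := iM_t D
  comp_i := fun α => by
    apply R_ext
    · rw [lift_c_s, Category.assoc, iM_s, Category.assoc, Category.assoc, eM_s, Category.comp_id]
    · rw [lift_c_x, Category.assoc, Category.assoc, eM_x, tM_hom]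
  i_comp := fun α => by
    apply R_ext
    · rw [lift_c_s, Category.assoc, Category.assoc, eM_s, Category.comp_id]
    · rw [lift_c_x, Category.assoc, iM_x, Category.assoc, Category.assoc, eM_x]

end grpd

end Groth.Agent.Lib.Helper11.DG1
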