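import Mathlib
import Groth.Prelude.Def_QuotSh

/-!
# Separation properties descend along surjective finite morphisms; quotient maps of fppf quotient
sheaves are surjective (helper11)
-/

set_option autoImplicit false
universe u

open CategoryTheory CategoryTheory.Limits AlgebraicGeometry Opposite

namespace Groth.Agent.Lib.Helper11.GQ9

section descent

variable {U M B : Scheme.{u}} (p : U ⟶ M) (h : M ⟶ B)

/-- `p × p` -/
noncomputable abbrev pp : pullback (p ≫ h) (p ≫ h) ⟶ pullback h h :=
  pullback.map (p ≫ h) (p ≫ h) h h p p (𝟙 B) ((Category.comp_id _).trans rfl)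
    ((Category.comp_id _).trans rfl)

theorem diag_pp : pullback.diagonal (p ≫ h) ≫ pp p h = p ≫ pullback.diagonal h := by
  apply pullback.hom_ext
  · simp only [Category.assoc, pullback.lift_fst, pullback.diagonal_fst,
      pullback.diagonal_fst_assoc, Category.comp_id]
  · simp only [Category.assoc, pullback.lift_snd, pullback.diagonal_snd,
      pullback.diagonal_snd_assoc, Category.comp_id]

theorem isSeparated_of_comp_surjective [Surjective p] [UniversallyClosed p]
    [IsSeparated (p ≫ h)] : IsSeparated h := by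
  have hpp : UniversallyClosed (pp p h) :=
    MorphismProperty.pullbackMap (P := @UniversallyClosed) (inferInstance : UniversallyClosed p)
      (inferInstance : UniversallyClosed p) rfl rfl
  haveI : IsClosedImmersion (pullback.diagonal (p ≫ h)) :=
    IsSeparated.isClosedImmersion_diagonal
  have hrange : Set.range (pullback.diagonal h) =
      (pp p h) '' Set.range (pullback.diagonal (p ≫ h)) := by
    ext z
    constructor
    · rintro ⟨m, rfl⟩
      obtain ⟨u, rfl⟩ := p.surjective m
      refine ⟨pullback.diagonal (p ≫ h) u, ⟨u, rfl⟩, ?_⟩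
      rw [← Scheme.Hom.comp_apply, diag_pp, Scheme.Hom.comp_apply]
    · rintro ⟨_, ⟨u, rfl⟩, rfl⟩
      refine ⟨p u, ?_⟩
      rw [← Scheme.Hom.comp_apply, ← diag_pp, Scheme.Hom.comp_apply]
  have hcl : IsClosed (Set.range (pullback.diagonal h)) := by
    rw [hrange]
    exact (pp p h).isClosedMap _ (pullback.diagonal (p ≫ h)).isClosedEmbedding.isClosed_range
  haveI : IsClosedImmersion (pullback.diagonal h) := IsClosedImmersion.of_isPreimmersion _ hcl
  exact ⟨inferInstance⟩

theorem quasiSeparated_of_comp_surjective [Surjective p] [QuasiCompact p]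
    [QuasiSeparated (p ≫ h)] : QuasiSeparated h := by
  have hpp : QuasiCompact (pp p h) :=
    MorphismProperty.pullbackMap (P := @QuasiCompact) (inferInstance : QuasiCompact p)
      (inferInstance : QuasiCompact p) rfl rfl
  refine ⟨⟨fun V hV hVc => ?_⟩⟩
  have h1 : IsCompact ((pp p h) ⁻¹' V) := hpp.isCompact_preimage V hV hVc
  have h1o : IsOpen ((pp p h) ⁻¹' V) := hV.preimage (pp p h).continuous
  have h2 : IsCompact ((pullback.diagonal (p ≫ h)) ⁻¹' ((pp p h) ⁻¹' V)) :=
    QuasiCompact.isCompact_preimage _ h1o h1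
  have h3 : (pullback.diagonal h) ⁻¹' V =
      p '' ((pullback.diagonal (p ≫ h)) ⁻¹' ((pp p h) ⁻¹' V)) := by
    ext m
    constructor
    · intro hm
      obtain ⟨u, rfl⟩ := p.surjective m
      refine ⟨u, ?_, rfl⟩
      show (pp p h) ((pullback.diagonal (p ≫ h)) u) ∈ V
      rw [← Scheme.Hom.comp_apply, diag_pp, Scheme.Hom.comp_apply]
      exact hm
    · rintro ⟨u, hu, rfl⟩
      show (pullback.diagonal h) (p u) ∈ V
      rw [← Scheme.Hom.comp_apply, ← diag_pp, Scheme.Hom.comp_apply]
      exact hu
  rw [h3]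
  exact h2.image p.continuous

end descent

section quot

variable {S : Scheme.{u}}

theorem surjective_of_epi_repMap {U M : Over S} (q : U ⟶ M)
    [Epi (QuotSh.repMap Scheme.fppfPrecoverage q)] : Surjective q.left := by
  have hls : Sheaf.IsLocallySurjective (QuotSh.repMap Scheme.fppfPrecoverage q) :=
    (Sheaf.isLocallySurjective_iff_epi' _ (QuotSh.repMap Scheme.fppfPrecoverage q)).mpr
      inferInstance
  haveI hls' : Presheaf.IsLocallySurjective (QuotSh.J Scheme.fppfPrecoverage S)
      (Functor.whiskerRight (yoneda.map q) uliftFunctor.{u + 1, u}) := by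
    rw [← Presheaf.isLocallySurjective_presheafToSheaf_map_iff]; exact hls
  have hcov : Presheaf.imageSieve (Functor.whiskerRight (yoneda.map q) uliftFunctor.{u + 1, u})
      (U := M) (show ULift.{u + 1, u} (M ⟶ M) from ⟨𝟙 M⟩) ∈
        QuotSh.J Scheme.fppfPrecoverage S M :=
    Presheaf.IsLocallySurjective.imageSieve_mem _
  rw [GrothendieckTopology.mem_over_iff] at hcov
  haveI : (@Flat ⊓ @LocallyOfFinitePresentation : MorphismProperty Scheme.{u}).IsMultiplicative :=
    { id_mem := fun X => ⟨inferInstance, inferInstance⟩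
      comp_mem := fun f g hf hg => ⟨MorphismProperty.comp_mem _ f g hf.1 hg.1,
        MorphismProperty.comp_mem _ f g hf.2 hg.2⟩ }
  obtain ⟨𝒰, h𝒰⟩ := (Scheme.mem_grothendieckTopology_iff
    (P := @Flat ⊓ @LocallyOfFinitePresentation)).mp hcov
  constructor
  intro y
  obtain ⟨i, z, hz⟩ := 𝒰.exists_eq y
  have hmem := h𝒰 _ _ (Presieve.ofArrows.mk i)
  rw [Sieve.overEquiv_iff] at hmem
  obtain ⟨tt, htt⟩ := hmem
  have h1 : tt.down ≫ q = Over.homMk (𝒰.f i) ≫ 𝟙 M := congrArg ULift.down htt
  have h2 : tt.down.left ≫ q.left = 𝒰.f i := by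
    have := congrArg (fun f => f.left) h1
    simpa using this
  refine ⟨tt.down.left z, ?_⟩
  rw [← Scheme.Hom.comp_apply, h2, hz]

theorem surjective_of_isQuotient {R U M : Over S} (s t : R ⟶ U) (q : U ⟶ M)
    (hq : QuotSh.IsQuotient Scheme.fppfPrecoverage s t q) : Surjective q.left := by
  obtain ⟨w, hiso⟩ := hq
  have hπd : QuotSh.quotπ Scheme.fppfPrecoverage s t ≫
      QuotSh.quotDesc Scheme.fppfPrecoverage q w = QuotSh.repMap Scheme.fppfPrecoverage q := by
    unfold QuotSh.quotπ QuotSh.quotDesc
    exact coequalizer.π_desc _ _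
  haveI : Epi (QuotSh.quotπ Scheme.fppfPrecoverage s t) :=
    show Epi (coequalizer.π (QuotSh.repMap Scheme.fppfPrecoverage s)
      (QuotSh.repMap Scheme.fppfPrecoverage t)) from inferInstance
  haveI : Epi (QuotSh.repMap Scheme.fppfPrecoverage q) := by
    rw [← hπd]
    infer_instance
  exact surjective_of_epi_repMap q

end quot

end Groth.Agent.Lib.Helper11.GQ9
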