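import Mathlib
import Groth.Prelude.Def_Grpd
import Groth.Prelude.Def_Desc
import Groth.Agent.Lib.Helper11.DG1
import Groth.Agent.Lib.Helper11.GQ8
import Groth.Agent.Lib.Helper11.GQ9

/-!
# Effectivity of descent data along finite locally free morphisms via groupoid quotients (helper11)
-/

set_option autoImplicit false
universe u

open CategoryTheory CategoryTheory.Limits AlgebraicGeometry
open Groth.Agent.Lib.Helper11.DG1 Groth.Agent.Lib.Helper11.GQ7b Groth.Agent.Lib.Helper11.GQ7e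

namespace Groth.Agent.Lib.Helper11.DG2

variable {X Y : Scheme.{u}} {p : X ⟶ Y}

/-- a morphism of descent data which is an isomorphism of schemes is an isomorphism -/
noncomputable def isoOfIsIso {D D' : Desc.SchDD p} (f : D ⟶ D') [IsIso f.hom] : D ≅ D' where
  hom := f
  inv := ⟨inv f.hom, fun T x₀ x₁ h v w hw => by
    have hv : v.1 = w.1 ≫ f.hom.left := by
      rw [hw, Category.assoc, ← Over.comp_left, IsIso.inv_hom_id, Over.id_left, Category.comp_id]
    have h2 := f.comm x₀ x₁ h w v hv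
    rw [h2, Category.assoc, ← Over.comp_left, IsIso.hom_inv_id, Over.id_left, Category.comp_id]⟩
  hom_inv_id := Desc.SchDD.hom_ext (IsIso.hom_inv_id f.hom)
  inv_hom_id := Desc.SchDD.hom_ext (IsIso.inv_hom_id f.hom)

variable (D : Desc.SchDD p)

theorem mono_aux {T : Scheme.{u}} (α β : T ⟶ pullback (D.obj.hom ≫ p) p)
    (ht' : α ≫ tM D = β ≫ tM D) (hs' : α ≫ sM D = β ≫ sM D) : α = β := by
  apply R_ext D hs'
  calc α ≫ xM D = (α ≫ tM D) ≫ D.obj.hom := by rw [Category.assoc, tM_hom]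
    _ = (β ≫ tM D) ≫ D.obj.hom := by rw [ht']
    _ = β ≫ xM D := by rw [Category.assoc, tM_hom]

theorem mono_j : Mono (grpd D).j :=
  mono_j_of_forall (grpd D) (fun α β ht hs => mono_aux D α β ht hs)

theorem s_props [IsFinite p] [Flat p] [LocallyOfFinitePresentation p] :
    IsFinite (grpd D).s ∧ Flat (grpd D).s ∧ LocallyOfFinitePresentation (grpd D).s :=
  ⟨inferInstanceAs (IsFinite (pullback.fst (D.obj.hom ≫ p) p)),
    inferInstanceAs (Flat (pullback.fst (D.obj.hom ≫ p) p)),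
    inferInstanceAs (LocallyOfFinitePresentation (pullback.fst (D.obj.hom ≫ p) p))⟩

theorem hom_t_apply (r : ↥(pullback (D.obj.hom ≫ p) p)) :
    p (D.obj.hom (tM D r)) = p (D.obj.hom (sM D r)) := by
  have h : tM D ≫ D.obj.hom ≫ p = sM D ≫ D.obj.hom ≫ p := (grpd D).t_over
  have h2 := congrArg (fun f : pullback (D.obj.hom ≫ p) p ⟶ Y => f r) h
  simpa only [Scheme.Hom.comp_apply] using h2

section iso

variable (M : Over Y) (mL : D.obj.left ⟶ M.left) (hmL : D.obj.hom ≫ p = mL ≫ M.hom)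
  (hpb : IsPullback (tM D) (sM D) mL mL)

/-- the comparison `V ⟶ X ×_Y M` -/
noncomputable def ψ : D.obj.left ⟶ pullback p M.hom :=
  pullback.lift D.obj.hom mL hmL

theorem ψ_fst : ψ D M mL hmL ≫ pullback.fst p M.hom = D.obj.hom := pullback.lift_fst _ _ _

theorem ψ_snd : ψ D M mL hmL ≫ pullback.snd p M.hom = mL := pullback.lift_snd _ _ _

local notation "𝐟C" => pullback.fst (pullback.snd p M.hom) mL
local notation "𝐬C" => pullback.snd (pullback.snd p M.hom) mL
local notation "𝐟A" => pullback.fst (pullback.fst (pullback.snd p M.hom) mL) (ψ D M mL hmL)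
local notation "𝐬A" => pullback.snd (pullback.fst (pullback.snd p M.hom) mL) (ψ D M mL hmL)

include hmL in
theorem κ_cond : (𝐬C ≫ D.obj.hom) ≫ p = (𝐟C ≫ pullback.fst p M.hom) ≫ p := by
  calc (𝐬C ≫ D.obj.hom) ≫ p
      = 𝐬C ≫ mL ≫ M.hom := by rw [Category.assoc, hmL]
    _ = (𝐬C ≫ mL) ≫ M.hom := (Category.assoc _ _ _).symm
    _ = (𝐟C ≫ pullback.snd p M.hom) ≫ M.hom := by rw [pullback.condition]
    _ = 𝐟C ≫ pullback.snd p M.hom ≫ M.hom := Category.assoc _ _ _
    _ = 𝐟C ≫ pullback.fst p M.hom ≫ p := by rw [pullback.condition]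
    _ = (𝐟C ≫ pullback.fst p M.hom) ≫ p := (Category.assoc _ _ _).symm

/-- the arrow attached to a point of `(X ×_Y M) ×_M V` -/
noncomputable def ρR : pullback (pullback.snd p M.hom) mL ⟶ pullback (D.obj.hom ≫ p) p :=
  mkR D 𝐬C (𝐟C ≫ pullback.fst p M.hom) (κ_cond D M mL hmL)

include hpb in
theorem κ_ψ : (ρR D M mL hmL ≫ tM D) ≫ ψ D M mL hmL = 𝐟C := by
  apply pullback.hom_ext
  · rw [Category.assoc, ψ_fst, Category.assoc, tM_hom, ρR, mkR_x]
  · calc ((ρR D M mL hmL ≫ tM D) ≫ ψ D M mL hmL) ≫ pullback.snd p M.hom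
        = ρR D M mL hmL ≫ tM D ≫ mL := by rw [Category.assoc, ψ_snd, Category.assoc]
      _ = ρR D M mL hmL ≫ sM D ≫ mL := by rw [hpb.w]
      _ = (ρR D M mL hmL ≫ sM D) ≫ mL := (Category.assoc _ _ _).symm
      _ = 𝐬C ≫ mL := by rw [ρR, mkR_s]
      _ = 𝐟C ≫ pullback.snd p M.hom := pullback.condition.symm

include hpb in
theorem isIso_ψ [Surjective mL] [Flat mL] [QuasiCompact mL] :
    IsIso (ψ D M mL hmL) := by
  have hcov : (@Surjective ⊓ @Flat ⊓ @QuasiCompact : MorphismProperty Scheme.{u}) 𝐟C :=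
    ⟨⟨inferInstance, inferInstance⟩, inferInstance⟩
  suffices h : IsIso 𝐟A from
    MorphismProperty.of_pullback_fst_of_descendsAlong
      (P := MorphismProperty.isomorphisms Scheme.{u})
      (Q := (@Surjective ⊓ @Flat ⊓ @QuasiCompact : MorphismProperty Scheme.{u})) hcov h
  refine ⟨pullback.lift (𝟙 _) (ρR D M mL hmL ≫ tM D)
    ((Category.id_comp _).trans (κ_ψ D M mL hmL hpb).symm), ?_, pullback.lift_fst _ _ _⟩
  apply pullback.hom_ext
  · rw [Category.assoc, pullback.lift_fst, Category.comp_id, Category.id_comp]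
  · rw [Category.assoc, pullback.lift_snd, Category.id_comp]
    -- the two points `v' = snd`, `v = fst ≫ snd_C` of `V` have the same image in `M`
    have hm : 𝐬A ≫ mL = (𝐟A ≫ 𝐬C) ≫ mL := by
      calc 𝐬A ≫ mL = 𝐬A ≫ ψ D M mL hmL ≫ pullback.snd p M.hom := by rw [ψ_snd]
        _ = (𝐬A ≫ ψ D M mL hmL) ≫ pullback.snd p M.hom := (Category.assoc _ _ _).symm
        _ = (𝐟A ≫ 𝐟C) ≫ pullback.snd p M.hom := by rw [pullback.condition]
        _ = 𝐟A ≫ 𝐟C ≫ pullback.snd p M.hom := Category.assoc _ _ _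
        _ = 𝐟A ≫ 𝐬C ≫ mL := by rw [pullback.condition]
        _ = (𝐟A ≫ 𝐬C) ≫ mL := (Category.assoc _ _ _).symm
    obtain ⟨r, hr⟩ : ∃ r, r = hpb.lift _ _ hm := ⟨_, rfl⟩
    have hrt : r ≫ tM D = 𝐬A := by rw [hr]; exact hpb.lift_fst _ _ _
    have hrs : r ≫ sM D = 𝐟A ≫ 𝐬C := by rw [hr]; exact hpb.lift_snd _ _ _
    have hre : 𝐟A ≫ ρR D M mL hmL = r := by
      apply R_ext
      · rw [Category.assoc, ρR, mkR_s, hrs]
      · calc (𝐟A ≫ ρR D M mL hmL) ≫ xM D = 𝐟A ≫ 𝐟C ≫ pullback.fst p M.hom := by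
              rw [Category.assoc, ρR, mkR_x]
          _ = (𝐟A ≫ 𝐟C) ≫ pullback.fst p M.hom := (Category.assoc _ _ _).symm
          _ = (𝐬A ≫ ψ D M mL hmL) ≫ pullback.fst p M.hom := by rw [pullback.condition]
          _ = 𝐬A ≫ D.obj.hom := by rw [Category.assoc, ψ_fst]
          _ = (r ≫ tM D) ≫ D.obj.hom := by rw [hrt]
          _ = r ≫ xM D := by rw [Category.assoc, tM_hom]
    rw [← Category.assoc, hre, hrt]

/-- the comparison as a morphism of descent data -/
noncomputable def Ψ : D ⟶ (Desc.toDD p).obj M where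
  hom := Over.homMk (ψ D M mL hmL) (ψ_fst D M mL hmL)
  comm := fun T x₀ x₁ h v w hw => by
    have hw' : w.1 = v.1 ≫ ψ D M mL hmL := hw
    have hkey : (D.φ x₀ x₁ h v).1 ≫ mL = v.1 ≫ mL := by
      have h' : (v.1 ≫ D.obj.hom) ≫ p = x₁ ≫ p := by rw [v.2]; exact h
      have e1 : mkR D v.1 x₁ h' ≫ tM D = (D.φ x₀ x₁ h v).1 :=
        (mkR_t D v.1 x₁ h').trans (trL_congr D v.2 rfl rfl _ _ h v.2)
      rw [← e1, Category.assoc, hpb.w, ← Category.assoc, mkR_s]
    show (Desc.canMap p M x₀ x₁ h w).1 = (D.φ x₀ x₁ h v).1 ≫ ψ D M mL hmL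
    rw [Desc.canMap_val]
    apply pullback.hom_ext
    · rw [pullback.lift_fst, Category.assoc, ψ_fst]
      exact ((D.φ x₀ x₁ h v).2).symm
    · rw [pullback.lift_snd, Category.assoc, ψ_snd, hkey, hw', Category.assoc, ψ_snd]

end iso

/-- effectivity of a descent datum along a finite locally free surjective morphism, when orbits of
the associated equivalence relation lie in affine opens -/
theorem main [Surjective p] [IsFinite p] [Flat p] [LocallyOfFinitePresentation p]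
    (hV : ∀ v₀ : D.obj.left, ∃ U : D.obj.left.Opens, IsAffineOpen U ∧
      ∀ r : ↥(pullback (D.obj.hom ≫ p) p), sM D r = v₀ → tM D r ∈ U) :
    ∃ W : Over Y, Nonempty ((Desc.toDD p).obj W ≅ D) := by
  haveI : IsFinite (grpd D).s := (s_props D).1
  haveI : Flat (grpd D).s := (s_props D).2.1
  haveI : LocallyOfFinitePresentation (grpd D).s := (s_props D).2.2
  haveI : Mono (grpd D).j := mono_j D
  haveI : HasAffOrbits (grpd D) := by
    constructor
    intro v₀
    obtain ⟨U, hU, hUo⟩ := hV v₀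
    refine ⟨U, hU, ?_⟩
    rintro _ ⟨r, hr, rfl⟩
    exact hUo r hr
  obtain ⟨M, m, hm, hpb, hq⟩ := Groth.Agent.Lib.Helper11.GQ8.main (grpd D)
  obtain ⟨h1, h2, h3⟩ := hm
  have hsurj : Surjective m.left :=
    Groth.Agent.Lib.Helper11.GQ9.surjective_of_isQuotient _ _ m hq
  obtain ⟨mL, hmLdef⟩ : ∃ mL : D.obj.left ⟶ M.left, mL = m.left := ⟨m.left, rfl⟩
  have hmL : D.obj.hom ≫ p = mL ≫ M.hom := by rw [hmLdef]; exact (Over.w m).symm
  haveI : IsFinite mL := by rw [hmLdef]; exact h1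
  haveI : Flat mL := by rw [hmLdef]; exact h2
  haveI : Surjective mL := by rw [hmLdef]; exact hsurj
  have hpb' : IsPullback (tM D) (sM D) mL mL := by rw [hmLdef]; exact hpb
  haveI : IsIso (ψ D M mL hmL) := isIso_ψ D M mL hmL hpb'
  haveI : IsIso ((Over.forget X).map (Ψ D M mL hmL hpb').hom) := by
    show IsIso (ψ D M mL hmL)
    infer_instance
  haveI : IsIso (Ψ D M mL hmL hpb').hom := isIso_of_reflects_iso _ (Over.forget X)
  exact ⟨M, ⟨(isoOfIsIso (Ψ D M mL hmL hpb')).symm⟩⟩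

end Groth.Agent.Lib.Helper11.DG2
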