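import Mathlib
import Groth.Prelude.Def_Grpd
import Groth.Prelude.Def_Desc
import Groth.Agent.Lib.Helper11.DG1
import Groth.Agent.Lib.Helper11.DG2

/-!
# Descent groupoid: bounding orbits by geometric fibre cardinality (helper11)
-/

set_option autoImplicit false
universe u

open CategoryTheory CategoryTheory.Limits AlgebraicGeometry
open Groth.Agent.Lib.Helper11.DG1 Groth.Agent.Lib.Helper11.DG2

namespace Groth.Agent.Lib.Helper11.DG3

variable {X Y : Scheme.{u}} {p : X ⟶ Y} (D : Desc.SchDD p)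

/-- a finite scheme over an algebraically closed field: every point is rational -/
theorem exists_section_of_finite {k : Type u} [Field k] [IsAlgClosed k] {Z : Scheme.{u}}
    (f : Z ⟶ Spec (CommRingCat.of k)) [IsFinite f] (z : Z) :
    ∃ σ : Spec (CommRingCat.of k) ⟶ Z, σ ≫ f = 𝟙 _ ∧ ∀ a, σ a = z := by
  have hdisc : DiscreteTopology Z := by
    rw [← isDiscrete_univ_iff]
    have h := f.isDiscrete_preimage_singleton (IsLocalRing.closedPoint k)
    have huniv : (f ⁻¹' {IsLocalRing.closedPoint k} : Set Z) = Set.univ := by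
      ext w
      simp only [Set.mem_preimage, Set.mem_univ, iff_true]
      exact Subsingleton.elim _ _
    exact huniv ▸ h
  have hz : IsClosed ({z} : Set Z) := isClosed_discrete _
  exact ⟨pointOfClosedPoint f z hz, pointOfClosedPoint_comp f z hz,
    fun a => pointOfClosedPoint_apply f z hz a⟩

variable [IsFinite p]

instance : IsFinite (sM D) := inferInstanceAs (IsFinite (pullback.fst (D.obj.hom ≫ p) p))

/-- geometric lifts of the points of the source fibre -/
theorem exists_geom_lift {k : Type u} [Field k] [IsAlgClosed k]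
    (ξ : Spec (CommRingCat.of k) ⟶ D.obj.left) (r : ↥(pullback (D.obj.hom ≫ p) p))
    (hr : sM D r = ξ (IsLocalRing.closedPoint k)) :
    ∃ ρ : Spec (CommRingCat.of k) ⟶ pullback (D.obj.hom ≫ p) p,
      ρ ≫ sM D = ξ ∧ ρ (IsLocalRing.closedPoint k) = r := by
  obtain ⟨z, -, hz2⟩ := Scheme.Pullback.exists_preimage_pullback (f := ξ) (g := sM D)
    (IsLocalRing.closedPoint k) r hr.symm
  obtain ⟨σ, hσ1, hσ2⟩ := exists_section_of_finite (pullback.fst ξ (sM D)) z
  refine ⟨σ ≫ pullback.snd ξ (sM D), ?_, ?_⟩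
  · rw [Category.assoc, ← pullback.condition, ← Category.assoc, hσ1, Category.id_comp]
  · rw [Scheme.Hom.comp_apply, hσ2, hz2]

theorem encard_fibre_le (d : ℕ)
    (hfib : ∀ (k : Type u) [Field k] [IsAlgClosed k] (y : Spec (CommRingCat.of k) ⟶ Y),
      Set.encard {x : Spec (CommRingCat.of k) ⟶ X | x ≫ p = y} ≤ d)
    (v₀ : D.obj.left) : ((sM D) ⁻¹' {v₀}).encard ≤ d := by
  let K := D.obj.left.residueField v₀
  let k := AlgebraicClosure K
  let ξ : Spec (CommRingCat.of k) ⟶ D.obj.left :=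
    Spec.map (CommRingCat.ofHom (algebraMap K k)) ≫ D.obj.left.fromSpecResidueField v₀
  have hξ : ∀ a, ξ a = v₀ := by
    intro a
    rw [Scheme.Hom.comp_apply, Scheme.fromSpecResidueField_apply]
  have hex : ∀ r : ↥(pullback (D.obj.hom ≫ p) p), sM D r = v₀ →
      ∃ ρ : Spec (CommRingCat.of k) ⟶ pullback (D.obj.hom ≫ p) p,
        ρ ≫ sM D = ξ ∧ ρ (IsLocalRing.closedPoint k) = r :=
    fun r hr => exists_geom_lift D ξ r (hr.trans (hξ _).symm)
  classical
  let F : ↥(pullback (D.obj.hom ≫ p) p) → (Spec (CommRingCat.of k) ⟶ X) := fun r =>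
    if hr : sM D r = v₀ then (hex r hr).choose ≫ xM D else ξ ≫ D.obj.hom
  refine le_trans (Set.encard_le_encard_of_injOn (f := F)
    (t := {x : Spec (CommRingCat.of k) ⟶ X | x ≫ p = ξ ≫ D.obj.hom ≫ p}) ?_ ?_)
    (hfib k (ξ ≫ D.obj.hom ≫ p))
  · intro r hr
    have hr' : sM D r = v₀ := hr
    show F r ≫ p = ξ ≫ D.obj.hom ≫ p
    simp only [F, dif_pos hr']
    obtain ⟨h1, -⟩ := (hex r hr').choose_spec
    calc ((hex r hr').choose ≫ xM D) ≫ p = (hex r hr').choose ≫ xM D ≫ p := Category.assoc _ _ _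
      _ = (hex r hr').choose ≫ (sM D ≫ D.obj.hom) ≫ p := by rw [cond D]
      _ = ((hex r hr').choose ≫ sM D) ≫ D.obj.hom ≫ p := by simp only [Category.assoc]
      _ = ξ ≫ D.obj.hom ≫ p := by rw [h1]
  · intro r hr r' hr' hF
    have hr1 : sM D r = v₀ := hr
    have hr1' : sM D r' = v₀ := hr'
    simp only [F, dif_pos hr1, dif_pos hr1'] at hF
    obtain ⟨h1, h2⟩ := (hex r hr1).choose_spec
    obtain ⟨h1', h2'⟩ := (hex r' hr1').choose_spec
    have heq : (hex r hr1).choose = (hex r' hr1').choose :=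
      R_ext D (h1.trans h1'.symm) hF
    rw [← h2, ← h2', heq]

/-- enumerating a set with at most `d` elements -/
theorem exists_enum {α : Type*} (O : Set α) (hO : O.Finite) (d : ℕ) (hd : O.encard ≤ d) (a₀ : α) :
    ∃ v : Fin d → α, (∀ i, v i ∈ O ∨ v i = a₀) ∧ ∀ o ∈ O, ∃ i, v i = o := by
  classical
  have hcard : hO.toFinset.card ≤ d := by
    rw [hO.encard_eq_coe_toFinset_card] at hd
    exact_mod_cast hd
  let l := hO.toFinset.toList
  have hl : l.length ≤ d := by rw [Finset.length_toList]; exact hcard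
  refine ⟨fun i => l.getD i.val a₀, fun i => ?_, fun o ho => ?_⟩
  · by_cases hi : i.val < l.length
    · left
      have h1 : l.getD i.val a₀ = l[i.val] := List.getD_eq_getElem _ _ hi
      have hmem : l[i.val] ∈ l := List.getElem_mem hi
      have h2 := Finset.mem_toList.mp hmem
      show l.getD i.val a₀ ∈ O
      rw [h1]
      exact hO.mem_toFinset.mp h2
    · right
      show l.getD i.val a₀ = a₀
      exact List.getD_eq_default _ _ (not_lt.mp hi)
  · have hmem : o ∈ l := Finset.mem_toList.mpr (hO.mem_toFinset.mpr ho)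
    obtain ⟨n, hn, hno⟩ := List.getElem_of_mem hmem
    refine ⟨⟨n, lt_of_lt_of_le hn hl⟩, ?_⟩
    show l.getD n a₀ = o
    rw [List.getD_eq_getElem _ _ hn, hno]

end Groth.Agent.Lib.Helper11.DG3
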