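import Mathlib

/-!
# The homology functors on the derived category are linear

`DerivedCategory.homologyFunctor C i` sends `a • 𝟙 K` to `a • 𝟙 (H^i K)`, and more generally is
`A`-linear when `C` is an `A`-linear abelian category.
-/

namespace Groth.Agent.Lib.Helper11

open CategoryTheory Limits

theorem complex_homologyMap_smul {A : Type*} [Ring A] {C : Type*} [Category C] [Abelian C]
    [Linear A C] {ι : Type*} {c : ComplexShape ι} {K L : HomologicalComplex C c} (φ : K ⟶ L)
    (a : A) (i : ι) :
    HomologicalComplex.homologyMap (a • φ) i = a • HomologicalComplex.homologyMap φ i := by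
  have h : (HomologicalComplex.shortComplexFunctor C c i).map (a • φ) =
      a • (HomologicalComplex.shortComplexFunctor C c i).map φ := by
    ext <;> rfl
  change ShortComplex.homologyMap ((HomologicalComplex.shortComplexFunctor C c i).map (a • φ)) = _
  rw [h, ShortComplex.homologyMap_smul]
  rfl

theorem derivedCategory_homologyFunctor_map_smul_id {A : Type*} [Ring A] {C : Type*} [Category C]
    [Abelian C] [Linear A C] [HasDerivedCategory C] (K : DerivedCategory C) (a : A) (i : ℤ) :
    (DerivedCategory.homologyFunctor C i).map (a • 𝟙 K) =
      a • 𝟙 ((DerivedCategory.homologyFunctor C i).obj K) := by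
  let X := (DerivedCategory.Q (C := C)).objPreimage K
  let e : DerivedCategory.Q.obj X ≅ K := (DerivedCategory.Q (C := C)).objObjPreimageIso K
  have h1 : a • 𝟙 K = e.inv ≫ DerivedCategory.Q.map (a • 𝟙 X) ≫ e.hom := by
    rw [Functor.map_smul, CategoryTheory.Functor.map_id]
    simp
  have h2 : (DerivedCategory.homologyFunctor C i).map (DerivedCategory.Q.map (a • 𝟙 X)) =
      a • 𝟙 _ := by
    have nat := DerivedCategory.homologyFunctorFactors_hom_naturality (a • 𝟙 X) i
    rw [complex_homologyMap_smul, HomologicalComplex.homologyMap_id] at nat
    erw [Linear.comp_smul, Category.comp_id] at nat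
    apply (cancel_mono ((DerivedCategory.homologyFunctorFactors C i).hom.app X)).mp
    refine nat.trans ?_
    erw [Linear.smul_comp, Category.id_comp]
    rfl
  rw [h1, Functor.map_comp, Functor.map_comp, h2, Linear.smul_comp, Linear.comp_smul,
    Category.id_comp, ← Functor.map_comp, e.inv_hom_id, CategoryTheory.Functor.map_id]

end Groth.Agent.Lib.Helper11
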