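import Mathlib
import Groth.Agent.Lib.Helper11.ActA
import Groth.Agent.Lib.Helper11.GrpE
import Groth.Agent.Lib.Helper11.KPts
import Groth.Agent.Lib.Helper11.NC1

/-!
# DS1: over an algebraically closed field, the orbit of the neutral component of a rational point
with surjective orbit map meets every dense open (helper11)
-/

set_option autoImplicit false
universe u

open CategoryTheory CategoryTheory.Limits MonoidalCategory CartesianMonoidalCategory MonObj GrpObj
  AlgebraicGeometry TopologicalSpace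
open Groth.Agent.Lib.Helper11.ActA Groth.Agent.Lib.Helper11.NC1

namespace Groth.Agent.Lib.Helper11.DS1

section Top

/-- a nonempty locally noetherian scheme has a point whose closure has nonempty interior -/
theorem exists_point_closure_interior (Y : Scheme.{u}) [IsLocallyNoetherian Y] [Nonempty Y] :
    ∃ (ζ : Y) (Ω : Set Y), IsOpen Ω ∧ Ω.Nonempty ∧ Ω ⊆ closure {ζ} := by
  obtain ⟨y⟩ := ‹Nonempty Y›
  obtain ⟨N, hN, hyN, -⟩ := exists_isAffineOpen_mem_and_subset (x := y) (U := ⊤) trivial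
  haveI : IsNoetherianRing Γ(Y, N) := IsLocallyNoetherian.component_noetherian ⟨N, hN⟩
  haveI : NoetherianSpace {w : Y // w ∈ N} := noetherianSpace_of_isAffineOpen N hN
  haveI : QuasiSober {w : Y // w ∈ N} := N.isOpen.isOpenEmbedding_subtypeVal.quasiSober
  let y' : {w : Y // w ∈ N} := ⟨y, hyN⟩
  have hZ := irreducibleComponent_mem_irreducibleComponents y'
  obtain ⟨o, ho, hne, hoZ⟩ :=
    NoetherianSpace.exists_isOpen_nonempty_subset_irreducibleComponent _ hZ
  obtain ⟨ζ', hζ'⟩ := QuasiSober.sober (isIrreducible_irreducibleComponent (x := y'))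
    isClosed_irreducibleComponent
  refine ⟨ζ'.1, Subtype.val '' o, N.isOpen.isOpenMap_subtype_val _ ho, hne.image _, ?_⟩
  rintro _ ⟨w, hw, rfl⟩
  have h1 : w ∈ closure {ζ'} := by rw [hζ'.def]; exact hoZ hw
  rw [closure_subtype, Set.image_singleton] at h1
  exact h1

end Top

section Abstract

variable {S : Scheme.{u}} {G X : Over S} [GrpObj G] (a : AlgGrp.Action G X)

/-- left translation by a rational point -/
noncomputable def Lt (c : 𝟙_ (Over S) ⟶ G) : G ⟶ G := (toUnit G ≫ c) * 𝟙 G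

/-- translation by a rational point of the group on the space -/
noncomputable def tau (c : 𝟙_ (Over S) ⟶ G) : X ⟶ X := actT a (toUnit X ≫ c) (𝟙 X)

/-- the orbit map of a rational point -/
noncomputable def orbm (x : 𝟙_ (Over S) ⟶ X) : G ⟶ X := actT a (𝟙 G) (toUnit G ≫ x)

theorem Lt_Lt (c c' : 𝟙_ (Over S) ⟶ G) : Lt c ≫ Lt c' = Lt (c' * c) := by
  have h : Lt c ≫ Lt c' = (toUnit G ≫ c') * ((toUnit G ≫ c) * 𝟙 G) := by
    unfold Lt
    rw [MonObj.comp_mul, Category.comp_id, comp_toUnit_assoc]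
  rw [h, ← _root_.mul_assoc, ← MonObj.comp_mul]
  rfl

theorem Lt_one : Lt (1 : 𝟙_ (Over S) ⟶ G) = 𝟙 G := by
  unfold Lt
  rw [MonObj.comp_one, _root_.one_mul]

theorem pt_Lt (c c' : 𝟙_ (Over S) ⟶ G) : c ≫ Lt c' = c' * c := by
  unfold Lt
  rw [MonObj.comp_mul, Category.comp_id, comp_toUnit_assoc, toUnit_unit, Category.id_comp]

theorem tau_tau (c c' : 𝟙_ (Over S) ⟶ G) : tau a c ≫ tau a c' = tau a (c' * c) := by
  have h : tau a c ≫ tau a c' = actT a (toUnit X ≫ c') (actT a (toUnit X ≫ c) (𝟙 X)) := by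
    show tau a c ≫ actT a (toUnit X ≫ c') (𝟙 X) = _
    rw [comp_actT, Category.comp_id, comp_toUnit_assoc]
    rfl
  rw [h, ← mul_actT, ← MonObj.comp_mul]
  rfl

theorem tau_one : tau a (1 : 𝟙_ (Over S) ⟶ G) = 𝟙 X := by
  unfold tau
  rw [MonObj.comp_one, one_actT]

theorem Lt_orbm (c : 𝟙_ (Over S) ⟶ G) (x : 𝟙_ (Over S) ⟶ X) :
    Lt c ≫ orbm a x = orbm a x ≫ tau a c := by
  have h1 : Lt c ≫ orbm a x = actT a (toUnit G ≫ c) (orbm a x) := by
    show Lt c ≫ actT a (𝟙 G) (toUnit G ≫ x) = _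
    rw [comp_actT, Category.comp_id, comp_toUnit_assoc]
    show actT a ((toUnit G ≫ c) * 𝟙 G) _ = _
    rw [mul_actT]
    rfl
  have h2 : orbm a x ≫ tau a c = actT a (toUnit G ≫ c) (orbm a x) := by
    show orbm a x ≫ actT a (toUnit X ≫ c) (𝟙 X) = _
    rw [comp_actT, Category.comp_id, comp_toUnit_assoc]
  rw [h1, h2]

theorem Lt_Lt_inv_apply (c : 𝟙_ (Over S) ⟶ G) (g : G.left) :
    (Lt c).left ((Lt c⁻¹).left g) = g := by
  have h : Lt c⁻¹ ≫ Lt c = 𝟙 G := by rw [Lt_Lt, mul_inv_cancel, Lt_one]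
  have := apply_congr (congrArg Over.Hom.left h) g
  simp only [Over.comp_left, Scheme.Hom.comp_apply, Over.id_left] at this
  exact this

theorem tau_tau_inv_apply (c : 𝟙_ (Over S) ⟶ G) (w : X.left) :
    (tau a c).left ((tau a c⁻¹).left w) = w := by
  have h : tau a c⁻¹ ≫ tau a c = 𝟙 X := by rw [tau_tau, mul_inv_cancel, tau_one]
  have := apply_congr (congrArg Over.Hom.left h) w
  simp only [Over.comp_left, Scheme.Hom.comp_apply, Over.id_left] at this
  exact this

theorem tau_inv_tau_apply (c : 𝟙_ (Over S) ⟶ G) (w : X.left) :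
    (tau a c⁻¹).left ((tau a c).left w) = w := by
  have h : tau a c ≫ tau a c⁻¹ = 𝟙 X := by rw [tau_tau, inv_mul_cancel, tau_one]
  have := apply_congr (congrArg Over.Hom.left h) w
  simp only [Over.comp_left, Scheme.Hom.comp_apply, Over.id_left] at this
  exact this

end Abstract

section Field

variable {K : Type u} [Field K] [IsAlgClosed K]

variable {G X : Over (Spec (CommRingCat.of K))} [GrpObj G] (a : AlgGrp.Action G X)

omit [IsAlgClosed K] in
theorem algebraMap_self_spec : Spec.map (CommRingCat.ofHom (algebraMap K K)) = 𝟙 _ := by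
  rw [Algebra.algebraMap_self]
  exact Spec.map_id _

/-- the orbit of the neutral component meets every dense open -/
theorem exists_mem_unitComp [LocallyOfFiniteType G.hom] [LocallyOfFiniteType X.hom]
    (pt : ↥(Spec (CommRingCat.of K))) (Z : Set ↥G.left) (hZ : Z ∈ irreducibleComponents ↥G.left)
    (he : η[G].left pt ∈ Z) (x : 𝟙_ (Over (Spec (CommRingCat.of K))) ⟶ X)
    (hsurj : Function.Surjective ⇑(orbm a x).left) (D : Set ↥X.left) (hDo : IsOpen D)
    (hDd : Dense D) : ∃ gm ∈ Z, (orbm a x).left gm ∈ D := by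
  by_contra hcon
  push Not at hcon
  haveI : IsLocallyNoetherian X.left := LocallyOfFiniteType.isLocallyNoetherian X.hom
  haveI : Nonempty ↥X.left := ⟨x.left pt⟩
  obtain ⟨ζ, Ω, hΩo, hΩne, hΩ⟩ := exists_point_closure_interior X.left
  obtain ⟨gm, hgm⟩ := hsurj ζ
  haveI : JacobsonSpace ↥G.left := LocallyOfFiniteType.jacobsonSpace G.hom
  obtain ⟨c₀, hc₀gm, hc₀cl⟩ := nonempty_inter_closedPoints (X := ↥G.left) (Z := closure {gm})
    ⟨gm, subset_closure (Set.mem_singleton gm)⟩ isClosed_closure.isLocallyClosed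
  obtain ⟨p, hp1, hp2⟩ := KPts.exists_point_of_isClosed K K G.hom c₀ hc₀cl
  let c : 𝟙_ (Over (Spec (CommRingCat.of K))) ⟶ G := Over.homMk p (by rw [hp1, algebraMap_self_spec]; rfl)
  have hc : c.left pt = c₀ := hp2 pt
  have hgm' : (Lt c⁻¹).left gm ⤳ η[G].left pt := by
    have h1 : gm ⤳ c₀ := specializes_iff_mem_closure.mpr hc₀gm
    have h2 := h1.map (Lt c⁻¹).left.continuous
    have h3 : (Lt c⁻¹).left c₀ = η[G].left pt := by
      rw [← hc]
      have e : c ≫ Lt c⁻¹ = η[G] := by rw [pt_Lt, inv_mul_cancel]; rfl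
      have := apply_congr (congrArg Over.Hom.left e) pt
      simpa only [Over.comp_left, Scheme.Hom.comp_apply] using this
    rwa [h3] at h2
  have hgmZ := GrpE.mem_of_specializes_unit G pt Z hZ he hgm'
  have hζ : ζ = (tau a c).left ((orbm a x).left ((Lt c⁻¹).left gm)) := by
    have := apply_congr (congrArg Over.Hom.left (Lt_orbm a c x)) ((Lt c⁻¹).left gm)
    simp only [Over.comp_left, Scheme.Hom.comp_apply] at this
    rw [← this, Lt_Lt_inv_apply, hgm]
  have hwD := hcon _ hgmZ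
  have hFcl : IsClosed (⇑(tau a c⁻¹).left ⁻¹' Dᶜ) :=
    hDo.isClosed_compl.preimage (tau a c⁻¹).left.continuous
  have hζF : ζ ∈ ⇑(tau a c⁻¹).left ⁻¹' Dᶜ := by
    show (tau a c⁻¹).left ζ ∈ Dᶜ
    rw [hζ, tau_inv_tau_apply]
    exact hwD
  have hΩF : Ω ⊆ ⇑(tau a c⁻¹).left ⁻¹' Dᶜ :=
    hΩ.trans (closure_minimal (Set.singleton_subset_iff.mpr hζF) hFcl)
  obtain ⟨ω, hω⟩ := hΩne
  have hmem : (tau a c⁻¹).left ω ∈ ⇑(tau a c).left ⁻¹' Ω := by
    show (tau a c).left ((tau a c⁻¹).left ω) ∈ Ω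
    rw [tau_tau_inv_apply]; exact hω
  have hopen : IsOpen (⇑(tau a c).left ⁻¹' Ω) := hΩo.preimage (tau a c).left.continuous
  obtain ⟨d, hd1, hd2⟩ := hDd.inter_open_nonempty _ hopen ⟨_, hmem⟩
  have h4 : (tau a c⁻¹).left ((tau a c).left d) ∈ Dᶜ := hΩF hd1
  rw [tau_inv_tau_apply] at h4
  exact h4 hd2

/-- the orbits of the neutral component through two rational points meet a dense open at a common
group element -/
theorem exists_mem_unitComp₂ [LocallyOfFiniteType G.hom] [LocallyOfFiniteType X.hom]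
    (pt : ↥(Spec (CommRingCat.of K))) (Z : Set ↥G.left) (hZ : Z ∈ irreducibleComponents ↥G.left)
    (he : η[G].left pt ∈ Z) (x y : 𝟙_ (Over (Spec (CommRingCat.of K))) ⟶ X)
    (hx : Function.Surjective ⇑(orbm a x).left) (hy : Function.Surjective ⇑(orbm a y).left)
    (D : Set ↥X.left) (hDo : IsOpen D) (hDd : Dense D) :
    ∃ gm ∈ Z, (orbm a x).left gm ∈ D ∧ (orbm a y).left gm ∈ D := by
  obtain ⟨gm₁, h1, h1'⟩ := exists_mem_unitComp a pt Z hZ he x hx D hDo hDd
  obtain ⟨gm₂, h2, h2'⟩ := exists_mem_unitComp a pt Z hZ he y hy D hDo hDd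
  obtain ⟨gm, hgmZ, hgm1, hgm2⟩ := hZ.1.isPreirreducible (⇑(orbm a x).left ⁻¹' D)
    (⇑(orbm a y).left ⁻¹' D) (hDo.preimage (orbm a x).left.continuous)
    (hDo.preimage (orbm a y).left.continuous) ⟨gm₁, h1, h1'⟩ ⟨gm₂, h2, h2'⟩
  exact ⟨gm, hgmZ, hgm1, hgm2⟩

end Field

end Groth.Agent.Lib.Helper11.DS1
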