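import Groth.Agent.Lib.Helper11.FBaseLib

/-!
# Helper11 FX1: a connected `k`-scheme with a `k`-rational point is geometrically connected
-/

set_option autoImplicit false

namespace Groth.Agent.Lib.Helper11.FX1

open CategoryTheory CategoryTheory.Limits AlgebraicGeometry

universe u

section

variable (k : Type u) [Field k] {X : Scheme.{u}} (f : X ⟶ Spec (CommRingCat.of k))

/-- base change to the algebraic closure -/
noncomputable abbrev jbar : Spec (CommRingCat.of (AlgebraicClosure k)) ⟶ Spec (CommRingCat.of k) :=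
  Spec.map (CommRingCat.ofHom (algebraMap k (AlgebraicClosure k)))

instance : Surjective (jbar k) := by
  haveI : Nonempty ↥(Spec (CommRingCat.of (AlgebraicClosure k))) :=
    inferInstanceAs (Nonempty (PrimeSpectrum (AlgebraicClosure k)))
  exact ⟨fun y => ⟨Classical.arbitrary _, Subsingleton.elim _ _⟩⟩

instance : IsIntegralHom (jbar k) := by
  rw [IsIntegralHom.SpecMap_iff]
  exact algebraMap_isIntegral_iff.mpr inferInstance

theorem connectedSpace_bar [ConnectedSpace X] (σ : Spec (CommRingCat.of k) ⟶ X)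
    (hσ : σ ≫ f = 𝟙 _) : ConnectedSpace ↥(pullback f (jbar k)) := by
  let p := pullback.fst f (jbar k)
  have hsurj : Function.Surjective p := (inferInstance : Surjective p).surj
  have hopen : IsOpenMap p := p.isOpenMap
  have hclosed : IsClosedMap p := p.isClosedMap
  let pt : ↥(Spec (CommRingCat.of k)) := Classical.arbitrary _
  -- the fibre over the rational point is a single point
  have hfib : ∀ z₁ z₂ : ↥(pullback f (jbar k)), p z₁ = σ pt → p z₂ = σ pt → z₁ = z₂ := by
    intro z₁ z₂ h₁ h₂
    obtain ⟨w₁, -, hw₁⟩ := Scheme.Pullback.exists_preimage_pullback (f := σ) (g := p) pt z₁ h₁.symm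
    obtain ⟨w₂, -, hw₂⟩ := Scheme.Pullback.exists_preimage_pullback (f := σ) (g := p) pt z₂ h₂.symm
    have hiso : IsIso (pullback.snd (σ ≫ f) (jbar k)) := by rw [hσ]; infer_instance
    let e := (pullbackRightPullbackFstIso f (jbar k) σ).hom ≫ pullback.snd (σ ≫ f) (jbar k)
    haveI : IsIso e := inferInstance
    have hinj : Function.Injective e := e.homeomorph.injective
    have : w₁ = w₂ := hinj (Subsingleton.elim _ _)
    rw [← hw₁, ← hw₂, this]
  haveI : Nonempty ↥(pullback f (jbar k)) := by
    obtain ⟨z, -⟩ := hsurj (σ pt)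
    exact ⟨z⟩
  haveI : PreconnectedSpace ↥(pullback f (jbar k)) := by
    rw [preconnectedSpace_iff_clopen]
    intro U hU
    by_contra hne
    push_neg at hne
    obtain ⟨h1, h2⟩ := hne
    have hUne : U.Nonempty := h1
    have hUcne : Uᶜ.Nonempty := by
      rw [Set.nonempty_iff_ne_empty]
      intro h
      exact h2 (Set.compl_empty_iff.mp h)
    have hpU : IsClopen (p '' U) := ⟨hclosed _ hU.1, hopen _ hU.2⟩
    have hpUc : IsClopen (p '' Uᶜ) := ⟨hclosed _ hU.compl.1, hopen _ hU.compl.2⟩
    have e1 : p '' U = Set.univ := (isClopen_iff.mp hpU).resolve_left (hUne.image _).ne_empty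
    have e2 : p '' Uᶜ = Set.univ := (isClopen_iff.mp hpUc).resolve_left (hUcne.image _).ne_empty
    obtain ⟨z₁, hz₁U, hz₁⟩ : σ pt ∈ p '' U := by rw [e1]; trivial
    obtain ⟨z₂, hz₂U, hz₂⟩ : σ pt ∈ p '' Uᶜ := by rw [e2]; trivial
    exact hz₂U (hfib z₁ z₂ hz₁ hz₂ ▸ hz₁U)
  exact ⟨inferInstance⟩

theorem geometricallyConnected_of_section [ConnectedSpace X] (σ : Spec (CommRingCat.of k) ⟶ X)
    (hσ : σ ≫ f = 𝟙 _) : GeometricallyConnected f := by
  haveI := connectedSpace_bar k f σ hσ
  have hgc : GeometricallyConnected (pullback.snd f (jbar k)) :=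
    FBaseLib.geometricallyConnected_of_connectedSpace _
  refine ⟨geometrically_iff_of_isClosedUnderIsomorphisms.mpr fun K _ y => ?_⟩
  obtain ⟨φ, rfl⟩ := Spec.map_surjective y
  let θ : k →+* AlgebraicClosure K := (algebraMap K (AlgebraicClosure K)).comp φ.hom
  algebraize [θ]
  let ψ : AlgebraicClosure k →ₐ[k] AlgebraicClosure K := IsAlgClosed.lift
  let g' : Spec (CommRingCat.of (AlgebraicClosure K)) ⟶ Spec (CommRingCat.of K) :=
    Spec.map (CommRingCat.ofHom (algebraMap K (AlgebraicClosure K)))
  have h1 : ConnectedSpace ↥(pullback (pullback.snd f (jbar k))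
      (Spec.map (CommRingCat.ofHom ψ.toRingHom))) :=
    pullback_of_geometrically hgc.1 (AlgebraicClosure K) _
  have e : Spec.map (CommRingCat.ofHom ψ.toRingHom) ≫ jbar k = g' ≫ Spec.map φ := by
    rw [← Spec.map_comp, ← Spec.map_comp]
    congr 1
    ext x
    exact ψ.commutes x
  have h2 : ConnectedSpace ↥(pullback f (Spec.map (CommRingCat.ofHom ψ.toRingHom) ≫ jbar k)) := by
    let i := pullbackLeftPullbackSndIso f (jbar k) (Spec.map (CommRingCat.ofHom ψ.toRingHom))
    exact i.hom.homeomorph.surjective.connectedSpace i.hom.continuous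
  rw [e] at h2
  have h3 : ConnectedSpace ↥(pullback (pullback.snd f (Spec.map φ)) g') := by
    let i := pullbackLeftPullbackSndIso f (Spec.map φ) g'
    exact i.inv.homeomorph.surjective.connectedSpace i.inv.continuous
  haveI : Surjective g' := by
    haveI : Nonempty ↥(Spec (CommRingCat.of (AlgebraicClosure K))) :=
      inferInstanceAs (Nonempty (PrimeSpectrum (AlgebraicClosure K)))
    exact ⟨fun y => ⟨Classical.arbitrary _, Subsingleton.elim _ _⟩⟩
  have hs : Function.Surjective (pullback.fst (pullback.snd f (Spec.map φ)) g') :=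
    (inferInstance : Surjective (pullback.fst (pullback.snd f (Spec.map φ)) g')).surj
  exact hs.connectedSpace (pullback.fst (pullback.snd f (Spec.map φ)) g').continuous

end

end Groth.Agent.Lib.Helper11.FX1
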