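import Mathlib
import Groth.Agent.Lib.Helper11.NC1
import Groth.Agent.Lib.Helper11.FBaseLib2
import Groth.Agent.Lib.Helper11.FX1

/-!
# The neutral components of the fibres commute with base change (helper11)
-/

set_option autoImplicit false
universe u

open CategoryTheory CategoryTheory.Limits MonoidalCategory CartesianMonoidalCategory MonObj GrpObj
  AlgebraicGeometry
open Groth.Agent.Lib.Helper11.NC1

namespace Groth.Agent.Lib.Helper11.NC2

variable {S S' : Scheme.{u}} (f : S' ⟶ S) (G : Over S) [GrpObj G]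

theorem neutralSet_bc_subset :
    SGA3x.neutralSet (Red.bc f G) ⊆ ⇑(prj f G) ⁻¹' SGA3x.neutralSet G := by
  intro x' hx'
  obtain ⟨p', hp'⟩ := Set.mem_iUnion.mp hx'
  change x' ∈ connectedComponentIn (⇑(Red.bc f G).hom ⁻¹' {(𝟙_ (Over S')).hom p'})
    (η[Red.bc f G].left p') at hp'
  refine Set.mem_iUnion.mpr ⟨u1 f p', ?_⟩
  change prj f G x' ∈ connectedComponentIn (⇑G.hom ⁻¹' {(𝟙_ (Over S)).hom (u1 f p')})
    (η[G].left (u1 f p'))
  have hp : (𝟙_ (Over S)).hom (u1 f p') = f ((𝟙_ (Over S')).hom p') := by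
    have h2 := apply_congr (u1_hom f) p'
    simpa only [Scheme.Hom.comp_apply] using h2
  have hun : prj f G (η[Red.bc f G].left p') = η[G].left (u1 f p') := prj_unit f G p' _ hp
  have h1 := (prj f G).continuous.continuousOn.image_connectedComponentIn_subset
    (s := ⇑(Red.bc f G).hom ⁻¹' {(𝟙_ (Over S')).hom p'}) (a := η[Red.bc f G].left p')
    (hom_unit (Red.bc f G) p')
  have h2 : ⇑(prj f G) '' (⇑(Red.bc f G).hom ⁻¹' {(𝟙_ (Over S')).hom p'}) ⊆
      ⇑G.hom ⁻¹' {(𝟙_ (Over S)).hom (u1 f p')} := by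
    rintro _ ⟨y, hy, rfl⟩
    show G.hom (prj f G y) = _
    have h3 := apply_congr (prj_hom f G) y
    simp only [Scheme.Hom.comp_apply] at h3
    rw [h3, hp, show (Red.bc f G).hom y = _ from hy]
  have h4 := connectedComponentIn_mono (η[G].left (u1 f p')) h2
  rw [hun] at h1
  exact h4 (h1 ⟨x', hp', rfl⟩)

theorem neutralSet_bc_superset :
    ⇑(prj f G) ⁻¹' SGA3x.neutralSet G ⊆ SGA3x.neutralSet (Red.bc f G) := by
  intro x' hx'
  obtain ⟨p, hp⟩ := Set.mem_iUnion.mp hx'
  change prj f G x' ∈ connectedComponentIn (⇑G.hom ⁻¹' {(𝟙_ (Over S)).hom p}) (η[G].left p) at hp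
  obtain ⟨s', hs'⟩ : ∃ s' : S', s' = (Red.bc f G).hom x' := ⟨_, rfl⟩
  have hps : (𝟙_ (Over S)).hom p = f s' := by
    have h1 : prj f G x' ∈ ⇑G.hom ⁻¹' {(𝟙_ (Over S)).hom p} := connectedComponentIn_subset _ _ hp
    have h3 := apply_congr (prj_hom f G) x'
    simp only [Scheme.Hom.comp_apply] at h3
    rw [hs', ← h3]; exact h1.symm
  refine Set.mem_iUnion.mpr ⟨(show ↥(𝟙_ (Over S')).left from s'), ?_⟩
  change x' ∈ connectedComponentIn (⇑(Red.bc f G).hom ⁻¹' {s'})
    (η[Red.bc f G].left (show ↥(𝟙_ (Over S')).left from s'))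
  rw [hps] at hp
  -- the fibre group over the residue field of `f s'`
  let t : Spec (CommRingCat.of (S.residueField (f s'))) ⟶ S := S.fromSpecResidueField (f s')
  let t' : Spec (CommRingCat.of (S'.residueField s')) ⟶ S' := S'.fromSpecResidueField s'
  let pt : ↥(Spec (CommRingCat.of (S.residueField (f s')))) :=
    IsLocalRing.closedPoint (S.residueField (f s'))
  let j : (Red.bc t G).left ⟶ G.left := prj t G
  have hjemb : Topology.IsEmbedding ⇑j := (G.hom.fiberι (f s')).isEmbedding
  have hjrange : Set.range ⇑j = ⇑G.hom ⁻¹' {f s'} := G.hom.range_fiberι (f s')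
  have hp0 : (𝟙_ (Over S)).hom p =
      t ((𝟙_ (Over (Spec (CommRingCat.of (S.residueField (f s')))))).hom pt) := by
    rw [hps]
    exact (Scheme.fromSpecResidueField_apply (f s') _).symm
  have hju : j (η[Red.bc t G].left pt) = η[G].left p := prj_unit t G pt p hp0
  have himg : ⇑j '' connectedComponent (η[Red.bc t G].left pt) =
      connectedComponentIn (⇑G.hom ⁻¹' {f s'}) (η[G].left p) := by
    rw [image_connectedComponent_of_isEmbedding hjemb, hjrange, hju]
  rw [← himg] at hp
  -- the base change of the fibre to the residue field of `s'`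
  letI : Algebra (S.residueField (f s')) (S'.residueField s') :=
    (f.residueFieldMap s').hom.toAlgebra
  let a : Spec (CommRingCat.of (S'.residueField s')) ⟶
      Spec (CommRingCat.of (S.residueField (f s'))) :=
    Spec.map (CommRingCat.ofHom (algebraMap (S.residueField (f s')) (S'.residueField s')))
  have hat : a ≫ t = t' ≫ f := Scheme.Hom.SpecMap_residueFieldMap_fromSpecResidueField f s'
  let bπ := FBase.bcπ (Red.bc t G).hom (S'.residueField s')
  let bs := FBase.bcStr (Red.bc t G).hom (S'.residueField s')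
  have hb : IsPullback bπ bs (Red.bc t G).hom a :=
    FBaseLib2.isPullback_bc (Red.bc t G).hom (S'.residueField s')
  have hr : IsPullback j (Red.bc t G).hom G.hom t := IsPullback.of_hasPullback G.hom t
  have houter : IsPullback (bπ ≫ j) bs G.hom (a ≫ t) := hb.paste_horiz hr
  have hcond : (bπ ≫ j) ≫ G.hom = (bs ≫ t') ≫ f := by
    rw [houter.w, Category.assoc, hat]
  let θ : FBase.bc (Red.bc t G).hom (S'.residueField s') ⟶ (Red.bc f G).left :=
    pullback.lift (bπ ≫ j) (bs ≫ t') hcond
  have hθ1 : θ ≫ prj f G = bπ ≫ j := pullback.lift_fst _ _ _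
  have hθ2 : θ ≫ (Red.bc f G).hom = bs ≫ t' := pullback.lift_snd _ _ _
  have hleft : IsPullback θ bs (Red.bc f G).hom t' := by
    refine IsPullback.of_right ?_ hθ2 (IsPullback.of_hasPullback G.hom f)
    rw [hθ1, ← hat]
    exact houter
  have hrangeθ : Set.range ⇑θ = ⇑(Red.bc f G).hom ⁻¹' {s'} := by
    have h1 : hleft.isoPullback.hom ≫ pullback.fst (Red.bc f G).hom t' = θ :=
      hleft.isoPullback_hom_fst
    have hsurj : Function.Surjective ⇑hleft.isoPullback.hom :=
      hleft.isoPullback.hom.homeomorph.surjective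
    rw [← h1, Scheme.Hom.comp_base, TopCat.coe_comp, Set.range_comp,
      Set.range_eq_univ.mpr hsurj, Set.image_univ]
    exact (Red.bc f G).hom.range_fiberι s'
  -- the connected preimage of the neutral component
  haveI : GeometricallyConnected (𝟙 (Spec (CommRingCat.of (S.residueField (f s'))))) :=
    FX1.geometricallyConnected_of_section (S.residueField (f s')) (𝟙 _) (𝟙 _) (by simp)
  have hD := FBaseLib2.isConnected_preimage_connectedComponent_of_geometricallyConnected
    (Red.bc t G).hom (S'.residueField s') (𝟙 _) η[Red.bc t G].left (Over.w η[Red.bc t G]) pt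
  have hDsub : ⇑θ '' (⇑bπ ⁻¹' connectedComponent (η[Red.bc t G].left pt)) ⊆
      ⇑(Red.bc f G).hom ⁻¹' {s'} := by
    rw [← hrangeθ]
    rintro _ ⟨w, -, rfl⟩
    exact ⟨w, rfl⟩
  have hprθ : ∀ w, prj f G (θ w) = j (bπ w) := fun w => by
    have := apply_congr hθ1 w
    simpa only [Scheme.Hom.comp_apply] using this
  -- the unit point
  have hunit : η[Red.bc f G].left (show ↥(𝟙_ (Over S')).left from s') ∈
      ⇑θ '' (⇑bπ ⁻¹' connectedComponent (η[Red.bc t G].left pt)) := by
    have h1 : η[Red.bc f G].left (show ↥(𝟙_ (Over S')).left from s') ∈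
        ⇑(Red.bc f G).hom ⁻¹' {s'} := hom_unit (Red.bc f G) _
    rw [← hrangeθ] at h1
    obtain ⟨w₀, hw₀⟩ := h1
    refine ⟨w₀, ?_, hw₀⟩
    have h2 : j (bπ w₀) = j (η[Red.bc t G].left pt) := by
      rw [← hprθ, hw₀, hju]
      exact prj_unit f G _ p hps
    show bπ w₀ ∈ connectedComponent (η[Red.bc t G].left pt)
    rw [hjemb.injective h2]
    exact mem_connectedComponent
  have hsubcc := (hD.isPreconnected.image _ θ.continuous.continuousOn).subset_connectedComponentIn
    hunit hDsub
  apply hsubcc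
  have h1 : x' ∈ ⇑(Red.bc f G).hom ⁻¹' {s'} := hs'.symm
  rw [← hrangeθ] at h1
  obtain ⟨w, rfl⟩ := h1
  refine ⟨w, ?_, rfl⟩
  rw [hprθ] at hp
  obtain ⟨g, hg, hgw⟩ := hp
  show bπ w ∈ connectedComponent (η[Red.bc t G].left pt)
  rw [← hjemb.injective hgw]
  exact hg

theorem neutralSet_bc :
    SGA3x.neutralSet (Red.bc f G) = (pullback.fst G.hom f).base ⁻¹' SGA3x.neutralSet G :=
  Set.Subset.antisymm (neutralSet_bc_subset f G) (neutralSet_bc_superset f G)

end Groth.Agent.Lib.Helper11.NC2
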