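import Groth.Agent.Lib.Helper11.UD2

/-!
# Helper11 UD3: the locus where two morphisms into an étale scheme agree
-/

set_option autoImplicit false

namespace Groth.Agent.Lib.Helper11.UD3

open CategoryTheory CategoryTheory.Limits AlgebraicGeometry

universe u

section eqLocus

variable {Z Y S : Scheme.{u}} (q : Y ⟶ S) [Etale q] (a b : Z ⟶ Y) (hab : a ≫ q = b ≫ q)

/-- the locus where `a` and `b` agree -/
def E : Set Z := (pullback.lift a b hab) ⁻¹' Set.range (pullback.diagonal q)

theorem isOpen_E : IsOpen (E q a b hab) := by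
  haveI : IsOpenImmersion (pullback.diagonal q) := inferInstance
  exact (pullback.diagonal q).isOpenEmbedding.isOpen_range.preimage (pullback.lift a b hab).continuous

theorem lift_fst_apply (z : Z) : pullback.fst q q (pullback.lift a b hab z) = a z := by
  rw [← Scheme.Hom.comp_apply, pullback.lift_fst]

theorem lift_snd_apply (z : Z) : pullback.snd q q (pullback.lift a b hab z) = b z := by
  rw [← Scheme.Hom.comp_apply, pullback.lift_snd]

theorem diag_fst_apply (y : Y) : pullback.fst q q (pullback.diagonal q y) = y := by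
  rw [← Scheme.Hom.comp_apply, pullback.diagonal_fst]; rfl

theorem diag_snd_apply (y : Y) : pullback.snd q q (pullback.diagonal q y) = y := by
  rw [← Scheme.Hom.comp_apply, pullback.diagonal_snd]; rfl

theorem apply_eq_of_mem_E {z : Z} (hz : z ∈ E q a b hab) : a z = b z := by
  obtain ⟨y, hy⟩ := hz
  rw [← lift_fst_apply q a b hab, ← lift_snd_apply q a b hab, ← hy, diag_fst_apply, diag_snd_apply]

theorem eq_of_E_eq_univ (h : E q a b hab = Set.univ) : a = b := by
  haveI : IsOpenImmersion (pullback.diagonal q) := inferInstance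
  have hw : Set.range (pullback.lift a b hab) ⊆ Set.range (pullback.diagonal q) := by
    rintro _ ⟨z, rfl⟩
    have : z ∈ E q a b hab := by rw [h]; trivial
    exact this
  have e := IsOpenImmersion.lift_fac (pullback.diagonal q) (pullback.lift a b hab) hw
  have e₁ := congrArg (· ≫ pullback.fst q q) e
  have e₂ := congrArg (· ≫ pullback.snd q q) e
  simp only [Category.assoc, pullback.diagonal_fst, pullback.diagonal_snd, Category.comp_id] at e₁ e₂
  have e₃ := e₁.symm.trans e₂
  rw [pullback.lift_fst, pullback.lift_snd] at e₃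
  exact e₃

theorem range_subset_E {Z₀ : Scheme.{u}} (c : Z₀ ⟶ Z) (hc : c ≫ a = c ≫ b) :
    Set.range c ⊆ E q a b hab := by
  rintro _ ⟨z₀, rfl⟩
  refine ⟨(c ≫ a) z₀, ?_⟩
  have e : (c ≫ a) ≫ pullback.diagonal q = c ≫ pullback.lift a b hab := by
    apply pullback.hom_ext
    · rw [Category.assoc, pullback.diagonal_fst, Category.comp_id, Category.assoc, pullback.lift_fst]
    · rw [Category.assoc, pullback.diagonal_snd, Category.comp_id, Category.assoc, pullback.lift_snd, hc]
  rw [← Scheme.Hom.comp_apply, ← Scheme.Hom.comp_apply, e]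

theorem exists_nhd_disjoint {z₁ : Z} (hz₁ : z₁ ∉ E q a b hab) (U : Y.Opens) (hU : IsAffineOpen U)
    (ha : a z₁ ∈ U) (hb : b z₁ ∈ U) :
    ∃ N : Set Z, IsOpen N ∧ z₁ ∈ N ∧ Disjoint N (E q a b hab) := by
  haveI : IsAffine U := hU
  haveI : IsSeparated (U.ι ≫ q) := inferInstance
  let m : pullback (U.ι ≫ q) (U.ι ≫ q) ⟶ pullback q q :=
    pullback.map (U.ι ≫ q) (U.ι ≫ q) q q U.ι U.ι (𝟙 S) (by simp) (by simp)
  haveI : IsOpenImmersion m := inferInstance
  have hm₁ : m ≫ pullback.fst q q = pullback.fst _ _ ≫ U.ι := pullback.lift_fst _ _ _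
  have hm₂ : m ≫ pullback.snd q q = pullback.snd _ _ ≫ U.ι := pullback.lift_snd _ _ _
  have hmΔ : pullback.diagonal (U.ι ≫ q) ≫ m = U.ι ≫ pullback.diagonal q := by
    apply pullback.hom_ext
    · rw [Category.assoc, hm₁, pullback.diagonal_fst_assoc, Category.assoc, pullback.diagonal_fst,
        Category.comp_id]
    · rw [Category.assoc, hm₂, pullback.diagonal_snd_assoc, Category.assoc, pullback.diagonal_snd,
        Category.comp_id]
  have hrange : Set.range m = pullback.fst q q ⁻¹' (U : Set Y) ∩ pullback.snd q q ⁻¹' (U : Set Y) := by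
    have := Scheme.Pullback.range_map (U.ι ≫ q) (U.ι ≫ q) q q U.ι U.ι (𝟙 S) (by simp) (by simp)
    rw [Scheme.Opens.range_ι] at this
    exact this
  have hC : IsClosed (Set.range (pullback.diagonal (U.ι ≫ q))) :=
    (pullback.diagonal (U.ι ≫ q)).isClosedEmbedding.isClosed_range
  refine ⟨(pullback.lift a b hab) ⁻¹' (m '' (Set.range (pullback.diagonal (U.ι ≫ q)))ᶜ),
    (m.isOpenEmbedding.isOpenMap _ hC.isOpen_compl).preimage (pullback.lift a b hab).continuous, ?_, ?_⟩
  · have hmem : pullback.lift a b hab z₁ ∈ Set.range m := by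
      rw [hrange]
      refine ⟨?_, ?_⟩
      · show pullback.fst q q (pullback.lift a b hab z₁) ∈ U
        rw [lift_fst_apply]; exact ha
      · show pullback.snd q q (pullback.lift a b hab z₁) ∈ U
        rw [lift_snd_apply]; exact hb
    obtain ⟨w, hw⟩ := hmem
    refine ⟨w, ?_, hw⟩
    rintro ⟨y', rfl⟩
    apply hz₁
    refine ⟨U.ι y', ?_⟩
    rw [← hw, ← Scheme.Hom.comp_apply, ← Scheme.Hom.comp_apply, hmΔ]
  · rw [Set.disjoint_left]
    rintro z ⟨w, hw, hwz⟩ ⟨y, hy⟩
    apply hw
    refine ⟨pullback.fst (U.ι ≫ q) (U.ι ≫ q) w, ?_⟩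
    apply m.isOpenEmbedding.injective
    rw [← Scheme.Hom.comp_apply, hmΔ, Scheme.Hom.comp_apply, hwz, ← hy]
    congr 1
    have : pullback.fst q q (m w) = pullback.fst q q (pullback.diagonal q y) := by rw [hwz, hy]
    rw [diag_fst_apply, ← Scheme.Hom.comp_apply, hm₁, Scheme.Hom.comp_apply] at this
    exact this

theorem subset_E_of_isPreconnected (Φ : Set Z) (hΦ : _root_.IsPreconnected Φ) (y₀ : Y)
    (hy₀ : ∀ z ∈ Φ, a z = y₀) (hne : (Φ ∩ E q a b hab).Nonempty) : Φ ⊆ E q a b hab := by
  by_contra hnot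
  obtain ⟨z₁, hz₁Φ, hz₁E⟩ := Set.not_subset.mp hnot
  -- the union of neighbourhoods of points of Φ \ E disjoint from Φ ∩ E
  let v : Set Z := ⋃ (N : Set Z) (_ : IsOpen N ∧ Disjoint N (Φ ∩ E q a b hab)), N
  have hv : IsOpen v := isOpen_iUnion fun N => isOpen_iUnion fun hN => hN.1
  have hcover : Φ ⊆ E q a b hab ∪ v := by
    intro z hzΦ
    by_cases hzE : z ∈ E q a b hab
    · exact Or.inl hzE
    · right
      obtain ⟨_, ⟨U, hU, rfl⟩, hbU, -⟩ := Y.isBasis_affineOpens.exists_subset_of_mem_open
        (Set.mem_univ (b z)) isOpen_univ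
      by_cases hyU : y₀ ∈ U
      · obtain ⟨N, hN, hzN, hdisj⟩ := exists_nhd_disjoint q a b hab hzE U hU
          (by rw [hy₀ z hzΦ]; exact hyU) hbU
        exact Set.mem_iUnion₂.mpr ⟨N, ⟨hN, hdisj.mono_right Set.inter_subset_right⟩, hzN⟩
      · refine Set.mem_iUnion₂.mpr ⟨b ⁻¹' (U : Set Y), ⟨U.2.preimage b.continuous, ?_⟩, hbU⟩
        rw [Set.disjoint_left]
        rintro z' hz'U ⟨hz'Φ, hz'E⟩
        apply hyU
        have : b z' = y₀ := by rw [← apply_eq_of_mem_E q a b hab hz'E, hy₀ z' hz'Φ]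
        rw [← this]
        exact hz'U
  obtain ⟨z, hzΦ, hzE, hzv⟩ := hΦ _ _ (isOpen_E q a b hab) hv hcover hne
    ⟨z₁, hz₁Φ, (hcover hz₁Φ).resolve_left hz₁E⟩
  obtain ⟨N, ⟨-, hdisj⟩, hzN⟩ := Set.mem_iUnion₂.mp hzv
  exact Set.disjoint_left.mp hdisj hzN ⟨hzΦ, hzE⟩

end eqLocus

section fibres

variable {S S' : Scheme.{u}} (g : S' ⟶ S)
  (hconn : ∀ (K : Type u) [Field K] [IsAlgClosed K] (ξ : Spec (CommRingCat.of K) ⟶ S),
    ConnectedSpace ↑(pullback g ξ))

include hconn in
theorem isConnected_fibre {T T' : Scheme.{u}} (h : T' ⟶ T) (b : T' ⟶ S') (c : T ⟶ S)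
    (sq : IsPullback h b c g) (t : T) : _root_.IsConnected (h ⁻¹' {t}) := by
  let K := AlgebraicClosure (T.residueField t)
  let ξ₀ : Spec (CommRingCat.of K) ⟶ T :=
    Spec.map (CommRingCat.ofHom (algebraMap (T.residueField t) K)) ≫ T.fromSpecResidueField t
  have hr : Set.range ξ₀ = {t} := by
    apply Set.Subset.antisymm
    · rintro _ ⟨x, rfl⟩
      have : (T.fromSpecResidueField t) (Spec.map (CommRingCat.ofHom
          (algebraMap (T.residueField t) K)) x) ∈ Set.range (T.fromSpecResidueField t) := ⟨_, rfl⟩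
      rw [Scheme.range_fromSpecResidueField] at this
      exact this
    · intro t₀ ht₀
      rw [Set.mem_singleton_iff] at ht₀
      rw [ht₀]
      have x : ↥(Spec (CommRingCat.of K)) := (⊥ : PrimeSpectrum K)
      refine ⟨x, ?_⟩
      have : (T.fromSpecResidueField t) (Spec.map (CommRingCat.ofHom
          (algebraMap (T.residueField t) K)) x) ∈ Set.range (T.fromSpecResidueField t) := ⟨_, rfl⟩
      rw [Scheme.range_fromSpecResidueField] at this
      exact this
  have hpb : IsPullback (pullback.fst h ξ₀ ≫ b) (pullback.snd h ξ₀) g (ξ₀ ≫ c) :=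
    ((IsPullback.of_hasPullback h ξ₀).flip.paste_vert sq).flip
  haveI := hconn K (ξ₀ ≫ c)
  haveI : ConnectedSpace ↥(pullback h ξ₀) :=
    (Scheme.homeoOfIso hpb.isoPullback).symm.surjective.connectedSpace
      (Scheme.homeoOfIso hpb.isoPullback).symm.continuous
  have : h ⁻¹' {t} = Set.range (pullback.fst h ξ₀) := by
    rw [Scheme.Pullback.range_fst, hr]
  rw [this]
  exact isConnected_range (pullback.fst h ξ₀).continuous

include hconn in
theorem cocycle_of_connected {X Y : Scheme.{u}} (p : X ⟶ S) (q : Y ⟶ S) [Etale q]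
    (tau : pullback p g ⟶ Y) (htau : tau ≫ q = pullback.fst p g ≫ p) :
    pullback.fst (pullback.fst p g) (pullback.fst p g) ≫ tau =
      pullback.snd (pullback.fst p g) (pullback.fst p g) ≫ tau := by
  have hab : (pullback.fst (pullback.fst p g) (pullback.fst p g) ≫ tau) ≫ q =
      (pullback.snd (pullback.fst p g) (pullback.fst p g) ≫ tau) ≫ q := by
    rw [Category.assoc, Category.assoc, htau, ← Category.assoc, ← Category.assoc, pullback.condition]
  apply eq_of_E_eq_univ q _ _ hab
  rw [Set.eq_univ_iff_forall]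
  intro z
  have sq : IsPullback (pullback.fst (pullback.fst p g) (pullback.fst p g))
      (pullback.snd (pullback.fst p g) (pullback.fst p g) ≫ pullback.snd p g)
      (pullback.fst p g ≫ p) g :=
    (IsPullback.of_hasPullback (pullback.fst p g) (pullback.fst p g)).paste_vert
      (IsPullback.of_hasPullback p g)
  have hΦ := isConnected_fibre g hconn _ _ _ sq
    (pullback.fst (pullback.fst p g) (pullback.fst p g) z)
  refine subset_E_of_isPreconnected q _ _ hab
    (pullback.fst (pullback.fst p g) (pullback.fst p g) ⁻¹'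
      {pullback.fst (pullback.fst p g) (pullback.fst p g) z}) hΦ.isPreconnected
    (tau (pullback.fst (pullback.fst p g) (pullback.fst p g) z)) ?_ ?_ rfl
  · intro z' hz'
    rw [Scheme.Hom.comp_apply]
    exact congrArg _ hz'
  · refine ⟨pullback.diagonal (pullback.fst p g)
      (pullback.fst (pullback.fst p g) (pullback.fst p g) z), ?_, ?_⟩
    · show pullback.fst (pullback.fst p g) (pullback.fst p g) _ = _
      rw [← Scheme.Hom.comp_apply, pullback.diagonal_fst]
      rfl
    · apply range_subset_E q _ _ hab (pullback.diagonal (pullback.fst p g))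
      · rw [pullback.diagonal_fst_assoc, pullback.diagonal_snd_assoc]
      · exact ⟨_, rfl⟩

include hconn in
theorem connectedSpace_of_connected (hquot : Topology.IsQuotientMap g) [ConnectedSpace S] :
    ConnectedSpace S' := by
  have hfib : ∀ s : S, _root_.IsConnected (g ⁻¹' {s}) :=
    fun s => isConnected_fibre g hconn g (𝟙 S') (𝟙 S) (IsPullback.id_vert g) s
  have := hquot.isCoinducing.isConnected_preimage_of_isClosed hfib isClosed_univ isConnected_univ
  rw [Set.preimage_univ] at this
  exact connectedSpace_iff_univ.mpr this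

end fibres

end Groth.Agent.Lib.Helper11.UD3
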