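import Groth.Agent.Lib.Helper11.FX1
import Groth.Agent.Lib.Helper11.UD3
import Groth.Agent.Lib.Helper11.ActA

/-!
# Helper11 FX2: group schemes with connected fibres are geometrically connected; étale equivariant
morphisms reflect fixed points
-/

set_option autoImplicit false

namespace Groth.Agent.Lib.Helper11.FX2

open CategoryTheory CategoryTheory.Limits MonoidalCategory CartesianMonoidalCategory MonObj GrpObj
  AlgebraicGeometry
open Groth.Agent.Lib.Helper11.ActA Groth.Agent.Lib.Helper11.GrpA

universe u

theorem geometricallyConnected_of_grpObj (S : Scheme.{u}) (G : Over S) [GrpObj G]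
    (hconn : ∀ s : S, ConnectedSpace (G.hom.fiber s)) : GeometricallyConnected G.hom := by
  rw [GeometricallyConnected.iff_geometricallyConnected_fiber]
  intro s
  haveI := hconn s
  have he : η[G].left ≫ G.hom = 𝟙 S := Over.w η[G]
  let σ : Spec (S.residueField s) ⟶ G.hom.fiber s :=
    pullback.lift (S.fromSpecResidueField s ≫ η[G].left) (𝟙 _) (by
      rw [Category.assoc, he, Category.comp_id, Category.id_comp])
  exact FX1.geometricallyConnected_of_section (S.residueField s)
    (G.hom.fiberToSpecResidueField s) σ (pullback.lift_snd _ _ _)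

variable {S : Scheme.{u}} {G X Y : Over S} [GrpObj G]

theorem fixed_reflect (hconn : ∀ s : S, ConnectedSpace (G.hom.fiber s))
    (a : AlgGrp.Action G X) (b : AlgGrp.Action G Y) (f : X ⟶ Y) [Etale f.left]
    (hf : a.act ≫ f = (G ◁ f) ≫ b.act) (T : Over S) (x : T ⟶ X)
    (hx : ∀ (T' : Over S) (t : T' ⟶ T) (g : T' ⟶ G), lift g (t ≫ x ≫ f) ≫ b.act = t ≫ x ≫ f)
    (T' : Over S) (t : T' ⟶ T) (g : T' ⟶ G) : lift g (t ≫ x) ≫ a.act = t ≫ x := by
  haveI : GeometricallyConnected G.hom := geometricallyConnected_of_grpObj S G hconn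
  let x' : T' ⟶ X := t ≫ x
  let α : G ⊗ T' ⟶ X := (G ◁ x') ≫ a.act
  let β : G ⊗ T' ⟶ X := snd G T' ≫ x'
  have hαβ : β ≫ f = α ≫ f := by
    have h1 := hx (G ⊗ T') (snd G T' ≫ t) (fst G T')
    simp only [Category.assoc] at h1
    have h2 : α ≫ f = lift (fst G T') (snd G T' ≫ t ≫ x ≫ f) ≫ b.act := by
      simp only [α, x', Category.assoc]
      rw [hf, ← MonoidalCategory.whiskerLeft_comp_assoc]
      congr 1
    rw [h2, h1]
    simp only [β, x', Category.assoc]
  have hαβ' : β.left ≫ f.left = α.left ≫ f.left := by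
    rw [← Over.comp_left, ← Over.comp_left, hαβ]
  -- unit section
  have hunit : tpt T' (1 : T' ⟶ G) ≫ β = tpt T' (1 : T' ⟶ G) ≫ α := by
    simp only [α, β]
    rw [← Category.assoc, tpt_snd, Category.id_comp]
    have : tpt T' (1 : T' ⟶ G) ≫ (G ◁ x') = lift (1 : T' ⟶ G) x' := by
      unfold tpt
      rw [lift_whiskerLeft, Category.id_comp]
    rw [← Category.assoc, this]
    exact (one_actT a x').symm
  have hE : UD3.E f.left β.left α.left hαβ' = Set.univ := by
    ext z
    simp only [Set.mem_univ, iff_true]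
    let τ := (snd G T').left z
    haveI : GeometricallyConnected (snd G T').left := by
      show GeometricallyConnected (pullback.snd G.hom T'.hom)
      infer_instance
    have hΦ : _root_.IsPreconnected ((snd G T').left ⁻¹' {τ}) :=
      ((snd G T').left.isConnected_preimage_singleton τ).isPreconnected
    refine UD3.subset_E_of_isPreconnected f.left β.left α.left hαβ' ((snd G T').left ⁻¹' {τ}) hΦ
      (x'.left τ) ?_ ?_ rfl
    · intro z' hz'
      show (snd G T' ≫ x').left z' = x'.left τ
      rw [Over.comp_left, Scheme.Hom.comp_apply]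
      exact congrArg x'.left hz'
    · refine ⟨(tpt T' (1 : T' ⟶ G)).left τ, ?_, ?_⟩
      · show (snd G T').left ((tpt T' (1 : T' ⟶ G)).left τ) = τ
        rw [← Scheme.Hom.comp_apply, ← Over.comp_left, tpt_snd]
        rfl
      · apply UD3.range_subset_E f.left β.left α.left hαβ' (tpt T' (1 : T' ⟶ G)).left
        · rw [← Over.comp_left, ← Over.comp_left, hunit]
        · exact ⟨τ, rfl⟩
  have hab : β = α := by
    apply Over.OverMorphism.ext
    exact UD3.eq_of_E_eq_univ f.left β.left α.left hαβ' hE
  have e1 : lift g (t ≫ x) = tpt T' g ≫ (G ◁ x') := by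
    unfold tpt
    rw [lift_whiskerLeft, Category.id_comp]
  rw [e1, Category.assoc]
  show tpt T' g ≫ α = t ≫ x
  rw [← hab]
  simp only [β]
  rw [← Category.assoc, tpt_snd, Category.id_comp]

end Groth.Agent.Lib.Helper11.FX2
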