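import Mathlib
import Groth.Agent.Lib.Helper11.NC1
import Groth.Agent.Lib.Helper11.ActA
import Groth.Agent.Lib.Helper11.FX2

/-!
# Homogeneous spaces under universally open group schemes with connected fibres are separated
(helper11)
-/

set_option autoImplicit false
universe u

open CategoryTheory CategoryTheory.Limits MonoidalCategory CartesianMonoidalCategory MonObj GrpObj
  AlgebraicGeometry
open Groth.Agent.Lib.Helper11.NC1 Groth.Agent.Lib.Helper11.ActA

namespace Groth.Agent.Lib.Helper11.SEP1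

variable {S : Scheme.{u}} {G X : Over S} [GrpObj G] (a : AlgGrp.Action G X)

/-! ### categorical part -/

/-- the diagonal action on `X ⊗ X` -/
noncomputable def A : G ⊗ (X ⊗ X) ⟶ X ⊗ X :=
  lift (actT a (fst G (X ⊗ X)) (snd G (X ⊗ X) ≫ fst X X))
    (actT a (fst G (X ⊗ X)) (snd G (X ⊗ X) ≫ snd X X))

theorem lift_A {T : Over S} (g : T ⟶ G) (y y' : T ⟶ X) :
    lift g (lift y y') ≫ A a = lift (actT a g y) (actT a g y') := by
  unfold A
  rw [comp_lift, comp_actT, comp_actT, lift_fst, lift_snd_assoc, lift_snd_assoc, lift_fst,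
    lift_snd]

/-- `(h, y, y') ↦ (h⁻¹, h y, h y')` -/
noncomputable def B : G ⊗ (X ⊗ X) ⟶ G ⊗ (X ⊗ X) := lift ((fst G (X ⊗ X))⁻¹) (A a)

theorem B_fst : B a ≫ fst G (X ⊗ X) = (fst G (X ⊗ X))⁻¹ := lift_fst _ _

theorem B_snd : B a ≫ snd G (X ⊗ X) = A a := lift_snd _ _

theorem B_A : B a ≫ A a = snd G (X ⊗ X) := by
  have h : B a = lift ((fst G (X ⊗ X))⁻¹)
      (lift (actT a (fst G (X ⊗ X)) (snd G (X ⊗ X) ≫ fst X X))
        (actT a (fst G (X ⊗ X)) (snd G (X ⊗ X) ≫ snd X X))) := rfl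
  rw [h, lift_A, inv_actT_actT, inv_actT_actT, ← comp_lift, lift_fst_snd, Category.comp_id]

theorem B_B : B a ≫ B a = 𝟙 _ := by
  apply CartesianMonoidalCategory.hom_ext
  · rw [Category.assoc, B_fst, GrpObj.comp_inv, B_fst, _root_.inv_inv, Category.id_comp]
  · rw [Category.assoc, B_snd, B_A, Category.id_comp]

theorem whiskerLeft_delta_A :
    (G ◁ lift (𝟙 X) (𝟙 X)) ≫ A a = a.act ≫ lift (𝟙 X) (𝟙 X) := by
  have h : G ◁ lift (𝟙 X) (𝟙 X) = lift (fst G X) (lift (snd G X) (snd G X)) := by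
    apply CartesianMonoidalCategory.hom_ext
    · rw [whiskerLeft_fst, lift_fst]
    · rw [whiskerLeft_snd, lift_snd, comp_lift, Category.comp_id]
  have h2 : actT a (fst G X) (snd G X) = a.act := by
    rw [actT, lift_fst_snd, Category.id_comp]
  rw [h, lift_A, comp_lift, Category.comp_id, h2]

/-- `(h, h', y) ↦ (h, h' y, h⁻¹ y)` -/
noncomputable def Th : G ⊗ (G ⊗ X) ⟶ G ⊗ (X ⊗ X) :=
  lift (fst G (G ⊗ X))
    (lift (actT a (snd G (G ⊗ X) ≫ fst G X) (snd G (G ⊗ X) ≫ snd G X))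
      (actT a (fst G (G ⊗ X))⁻¹ (snd G (G ⊗ X) ≫ snd G X)))

theorem lift_Th {T : Over S} (g₁ g₂ : T ⟶ G) (y : T ⟶ X) :
    lift g₁ (lift g₂ y) ≫ Th a = lift g₁ (lift (actT a g₂ y) (actT a g₁⁻¹ y)) := by
  unfold Th
  rw [comp_lift, comp_lift, comp_actT, comp_actT, lift_fst, lift_snd_assoc, lift_snd_assoc,
    lift_fst, lift_snd, GrpObj.comp_inv, lift_fst]

/-- `(h, y) ↦ h⁻¹ y` -/
noncomputable def invact : G ⊗ X ⟶ X := actT a (fst G X)⁻¹ (snd G X)

theorem lift_invact {T : Over S} (g : T ⟶ G) (y : T ⟶ X) :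
    lift g y ≫ invact a = actT a g⁻¹ y := by
  unfold invact
  rw [comp_actT, GrpObj.comp_inv, lift_fst, lift_snd]

theorem lift_Phi {T : Over S} (g : T ⟶ G) (y : T ⟶ X) :
    lift g y ≫ lift a.act (snd G X) = lift (actT a g y) y := by
  rw [comp_lift, lift_snd]
  rfl

theorem T1 {T : Over S} (g₁ g₂ : T ⟶ G) (y : T ⟶ X) :
    lift g₁ (lift g₂ y) ≫ Th a ≫ A a = lift (g₁ * g₂) y ≫ lift a.act (snd G X) := by
  rw [← Category.assoc, lift_Th, lift_A, lift_Phi, ← mul_actT, actT_inv_actT]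

theorem T2 {T : Over S} (g₁ g₂ : T ⟶ G) (y : T ⟶ X) :
    lift g₁ (lift g₂ y) ≫ Th a ≫ snd G (X ⊗ X) ≫ fst X X = lift g₂ y ≫ a.act := by
  rw [← Category.assoc, lift_Th, lift_snd_assoc, lift_fst]
  rfl

theorem T3 {T : Over S} (g₁ g₂ : T ⟶ G) (y : T ⟶ X) :
    lift g₁ (lift g₂ y) ≫ Th a ≫ snd G (X ⊗ X) ≫ snd X X = lift g₁ y ≫ invact a := by
  rw [← Category.assoc, lift_Th, lift_snd_assoc, lift_snd, lift_invact]

/-! ### topological part -/

/-- the diagonal as a set -/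
def Dg (X : Over S) : Set ↥(X ⊗ X).left := Set.range ⇑(lift (𝟙 X) (𝟙 X)).left

theorem snd_mem_imp_A_mem (q : ↥(G ⊗ (X ⊗ X)).left)
    (h : (snd G (X ⊗ X)).left q ∈ Dg X) : (A a).left q ∈ Dg X := by
  have hq : q ∈ Set.range ⇑(G ◁ lift (𝟙 X) (𝟙 X)).left := by
    rw [Over.whiskerLeft_left, Scheme.Pullback.range_map]
    refine ⟨⟨_, rfl⟩, h⟩
  obtain ⟨w, rfl⟩ := hq
  have := apply_congr (congrArg Over.Hom.left (whiskerLeft_delta_A a)) w
  simp only [Over.comp_left, Scheme.Hom.comp_apply] at this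
  rw [this]
  exact ⟨_, rfl⟩

theorem A_mem_imp_snd_mem (q : ↥(G ⊗ (X ⊗ X)).left)
    (h : (A a).left q ∈ Dg X) : (snd G (X ⊗ X)).left q ∈ Dg X := by
  have h1 : (snd G (X ⊗ X)).left ((B a).left q) ∈ Dg X := by
    have := apply_congr (congrArg Over.Hom.left (B_snd a)) q
    simp only [Over.comp_left, Scheme.Hom.comp_apply] at this
    rw [this]; exact h
  have h2 := snd_mem_imp_A_mem a _ h1
  have := apply_congr (congrArg Over.Hom.left (B_A a)) q
  simp only [Over.comp_left, Scheme.Hom.comp_apply] at this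
  rw [this] at h2; exact h2

omit [GrpObj G] in
theorem isOpenMap_snd [UniversallyOpen G.hom] (Y : Over S) : IsOpenMap ⇑(snd G Y).left := by
  haveI : UniversallyOpen (pullback.snd G.hom Y.hom) := inferInstance
  exact (pullback.snd G.hom Y.hom).isOpenMap

theorem isOpenMap_A [UniversallyOpen G.hom] : IsOpenMap ⇑(A a).left := by
  haveI : IsIso (B a) := ⟨⟨B a, B_B a, B_B a⟩⟩
  haveI : IsIso (B a).left := inferInstanceAs (IsIso ((Over.forget S).map (B a)))
  have hB : IsOpenMap ⇑(B a).left := (B a).left.homeomorph.isOpenMap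
  have h : ⇑(A a).left = ⇑(snd G (X ⊗ X)).left ∘ ⇑(B a).left := by
    funext q
    have := apply_congr (congrArg Over.Hom.left (B_snd a)) q
    simp only [Over.comp_left, Scheme.Hom.comp_apply] at this
    exact this.symm
  rw [h]
  exact (isOpenMap_snd _).comp hB

theorem snd_mem_closure [UniversallyOpen G.hom] (q : ↥(G ⊗ (X ⊗ X)).left)
    (h : (A a).left q ∈ closure (Dg X)) : (snd G (X ⊗ X)).left q ∈ closure (Dg X) := by
  have h1 : q ∈ ⇑(A a).left ⁻¹' closure (Dg X) := h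
  rw [(isOpenMap_A a).preimage_closure_eq_closure_preimage (A a).left.continuous] at h1
  have h2 : ⇑(A a).left ⁻¹' Dg X ⊆ ⇑(snd G (X ⊗ X)).left ⁻¹' Dg X :=
    fun w hw => A_mem_imp_snd_mem a w hw
  have h3 := closure_mono h2 h1
  exact ((snd G (X ⊗ X)).left.continuous.closure_preimage_subset _) h3

theorem mem_Dg_of_mem_closure (U : X.left.Opens) (hU : IsAffineOpen U) (z : ↥(X ⊗ X).left)
    (hz : z ∈ closure (Dg X)) (h1 : (fst X X).left z ∈ U) (h2 : (snd X X).left z ∈ U) :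
    z ∈ Dg X := by
  haveI : IsAffine U.toScheme := hU
  let j := pullback.map (U.ι ≫ X.hom) (U.ι ≫ X.hom) X.hom X.hom U.ι U.ι (𝟙 S) (by simp) (by simp)
  haveI : IsOpenImmersion j := inferInstance
  have hrange : Set.range ⇑j = ⇑(pullback.fst X.hom X.hom) ⁻¹' (U : Set X.left) ∩
      ⇑(pullback.snd X.hom X.hom) ⁻¹' (U : Set X.left) := by
    rw [Scheme.Pullback.range_map, Scheme.Opens.range_ι]
  let dU := pullback.diagonal (U.ι ≫ X.hom)
  haveI : IsSeparated (U.ι ≫ X.hom) := inferInstance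
  have hdUcl : IsClosed (Set.range ⇑dU) := dU.isClosedEmbedding.isClosed_range
  have hcomp : dU ≫ j = U.ι ≫ (lift (𝟙 X) (𝟙 X)).left := by
    apply pullback.hom_ext
    · simp only [dU, j, pullback.map, Category.assoc, pullback.lift_fst,
        pullback.diagonal_fst_assoc, Over.lift_left, Over.id_left, Category.comp_id]
    · simp only [dU, j, pullback.map, Category.assoc, pullback.lift_snd,
        pullback.diagonal_snd_assoc, Over.lift_left, Over.id_left, Category.comp_id]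
  have hd1 : (lift (𝟙 X) (𝟙 X)).left ≫ pullback.fst X.hom X.hom = 𝟙 _ := by
    rw [Over.lift_left, pullback.lift_fst]; rfl
  have hDj : Dg X ∩ Set.range ⇑j = ⇑j '' Set.range ⇑dU := by
    ext w; constructor
    · rintro ⟨⟨x, rfl⟩, hw⟩
      rw [hrange] at hw
      have hxU : x ∈ U := by
        have e : pullback.fst X.hom X.hom ((lift (𝟙 X) (𝟙 X)).left x) = x := apply_congr hd1 x
        have := hw.1
        rw [Set.mem_preimage, e] at this
        exact this
      obtain ⟨u, rfl⟩ : x ∈ Set.range ⇑U.ι := by rw [Scheme.Opens.range_ι]; exact hxU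
      refine ⟨dU u, ⟨u, rfl⟩, ?_⟩
      have := apply_congr hcomp u
      simpa only [Scheme.Hom.comp_apply] using this
    · rintro ⟨_, ⟨u, rfl⟩, rfl⟩
      have := apply_congr hcomp u
      simp only [Scheme.Hom.comp_apply] at this
      exact ⟨⟨U.ι u, this.symm⟩, ⟨_, rfl⟩⟩
  have hzj : z ∈ Set.range ⇑j := by rw [hrange]; exact ⟨h1, h2⟩
  have hopen : IsOpen (Set.range ⇑j) := j.isOpenEmbedding.isOpen_range
  have hz2 : z ∈ closure (Dg X ∩ Set.range ⇑j) := by
    have := hopen.inter_closure (t := Dg X) ⟨hzj, hz⟩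
    rwa [Set.inter_comm] at this
  rw [hDj] at hz2
  obtain ⟨v, rfl⟩ := hzj
  have hv : v ∈ closure (Set.range ⇑dU) := by
    rw [j.isOpenEmbedding.isEmbedding.isInducing.closure_eq_preimage_closure_image]
    exact hz2
  rw [hdUcl.closure_eq] at hv
  obtain ⟨u, rfl⟩ := hv
  have := apply_congr hcomp u
  simp only [Scheme.Hom.comp_apply] at this
  exact ⟨U.ι u, this.symm⟩

end Groth.Agent.Lib.Helper11.SEP1
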