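import Mathlib
import Groth.Agent.Lib.Helper11.NC1

/-!
# The locus where a homomorphism of group schemes is universally open is an open subgroup (helper11)
-/

set_option autoImplicit false
universe u

open CategoryTheory CategoryTheory.Limits MonoidalCategory CartesianMonoidalCategory MonObj GrpObj
  AlgebraicGeometry
open Groth.Agent.Lib.Helper11.NC1 Groth.Agent.Lib.Helper11.GrpA

namespace Groth.Agent.Lib.Helper11.UO1

/-- a morphism is universally open as soon as its composite with a surjection is -/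
theorem universallyOpen_of_comp_surjective {P W H : Scheme.{u}} (f : P ⟶ W) (g : W ⟶ H)
    [Surjective f] [UniversallyOpen (f ≫ g)] : UniversallyOpen g := by
  refine ⟨fun W' T' i₁ i₂ g' hsq => ?_⟩
  have h1 : IsPullback (pullback.snd f i₁) (pullback.fst f i₁) i₁ f :=
    (IsPullback.of_hasPullback f i₁).flip
  have h2 : IsPullback (pullback.snd f i₁ ≫ g') (pullback.fst f i₁) i₂ (f ≫ g) :=
    h1.paste_horiz hsq
  have h3 : IsOpenMap ⇑(pullback.snd f i₁ ≫ g') :=
    (UniversallyOpen.universally_isOpenMap (f := f ≫ g)) _ _ _ h2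
  intro U hU
  have hs : Function.Surjective ⇑(pullback.snd f i₁) := (pullback.snd f i₁).surjective
  have : ⇑g' '' U = ⇑(pullback.snd f i₁ ≫ g') '' (⇑(pullback.snd f i₁) ⁻¹' U) := by
    rw [Scheme.Hom.comp_base, TopCat.coe_comp, Set.image_comp, Set.image_preimage_eq _ hs]
  rw [this]
  exact h3 _ (hU.preimage (pullback.snd f i₁).continuous)

variable {S : Scheme.{u}}

theorem universallyOpen_whiskerRight_left {A B : Over S} (f : A ⟶ B) (Y : Over S)
    [UniversallyOpen f.left] : UniversallyOpen (f ▷ Y).left := by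
  have hr : IsPullback (pullback.snd B.hom Y.hom) (pullback.fst B.hom Y.hom) Y.hom B.hom :=
    (IsPullback.of_hasPullback B.hom Y.hom).flip
  have ho : IsPullback ((f ▷ Y).left ≫ pullback.snd B.hom Y.hom) (pullback.fst A.hom Y.hom)
      Y.hom (f.left ≫ B.hom) := by
    rw [Over.whiskerRight_left_snd, Over.w f]
    exact (IsPullback.of_hasPullback A.hom Y.hom).flip
  have hl : IsPullback (f ▷ Y).left (pullback.fst A.hom Y.hom) (pullback.fst B.hom Y.hom)
      f.left := IsPullback.of_right ho (Over.whiskerRight_left_fst f) hr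
  exact MorphismProperty.of_isPullback (P := @UniversallyOpen) hl.flip inferInstance

section mul

variable {K : Over S} [GrpObj K] (T : Over S) (c : T ⟶ K)

/-- right multiplication by a `T`-point is universally open when `T` is universally open -/
theorem universallyOpen_rho_fst [UniversallyOpen T.hom] :
    UniversallyOpen ((rhoIso T c).hom ≫ fst K T).left := by
  rw [Over.comp_left]
  haveI : IsIso (rhoIso T c).hom.left :=
    inferInstanceAs (IsIso ((Over.forget S).map (rhoIso T c).hom))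
  haveI : UniversallyOpen (fst K T).left :=
    inferInstanceAs (UniversallyOpen (pullback.fst K.hom T.hom))
  infer_instance

end mul

section main

variable {G H : Over S} [GrpObj G] [GrpObj H] (u : G ⟶ H) [IsMonHom u]
variable (V : G.left.Opens)

/-- `V` as an object over `S` -/
noncomputable def Vo : Over S := Over.mk (V.ι ≫ G.hom)

/-- the inclusion of `V` -/
noncomputable def iV : Vo V ⟶ G := Over.homMk V.ι rfl

omit [GrpObj G] [GrpObj H] [IsMonHom u] in
theorem universallyOpen_Vo_hom (hG : UniversallyOpen G.hom ∨ UniversallyOpen H.hom)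
    [hV : UniversallyOpen (V.ι ≫ u.left)] : UniversallyOpen (Vo V).hom := by
  show UniversallyOpen (V.ι ≫ G.hom)
  rcases hG with h | h
  · infer_instance
  · have : V.ι ≫ G.hom = (V.ι ≫ u.left) ≫ H.hom := by rw [Category.assoc, Over.w u]
    rw [this]; infer_instance

/-- the product map `V ×_S V ⟶ G` -/
noncomputable def m₁ : Vo V ⊗ Vo V ⟶ G :=
  (fst (Vo V) (Vo V) ≫ iV V) * (snd (Vo V) (Vo V) ≫ iV V)

theorem m₁_eq_rho :
    m₁ V = (iV V ▷ Vo V) ≫ (rhoIso (Vo V) (iV V)).hom ≫ fst G (Vo V) := by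
  rw [rhoIso_hom_fst, MonObj.comp_mul, whiskerRight_fst, whiskerRight_snd_assoc]
  rfl

theorem m₁_comp_eq_rho :
    m₁ V ≫ u = ((iV V ≫ u) ▷ Vo V) ≫ (rhoIso (Vo V) (iV V ≫ u)).hom ≫ fst H (Vo V) := by
  rw [rhoIso_hom_fst, MonObj.comp_mul, whiskerRight_fst, whiskerRight_snd_assoc]
  unfold m₁
  rw [MonObj.mul_comp, Category.assoc, Category.assoc]

theorem m₁_eq_tensor : m₁ V = (iV V ⊗ₘ iV V) ≫ μ[G] := by
  unfold m₁
  rw [Hom.mul_def]
  congr 1

theorem universallyOpen_m₁ [UniversallyOpen (Vo V).hom] : UniversallyOpen (m₁ V).left := by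
  rw [m₁_eq_rho, Over.comp_left]
  haveI : UniversallyOpen (iV V).left := inferInstanceAs (UniversallyOpen V.ι)
  haveI := universallyOpen_whiskerRight_left (iV V) (Vo V)
  haveI := universallyOpen_rho_fst (Vo V) (iV V)
  infer_instance

theorem universallyOpen_m₁_comp [UniversallyOpen (Vo V).hom]
    [hV : UniversallyOpen (V.ι ≫ u.left)] : UniversallyOpen (m₁ V ≫ u).left := by
  rw [m₁_comp_eq_rho, Over.comp_left]
  haveI : UniversallyOpen (iV V ≫ u).left := hV
  haveI := universallyOpen_whiskerRight_left (iV V ≫ u) (Vo V)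
  haveI := universallyOpen_rho_fst (Vo V) (iV V ≫ u)
  infer_instance

theorem range_m₁_le [UniversallyOpen (Vo V).hom] [hV : UniversallyOpen (V.ι ≫ u.left)]
    (hmax : ∀ W : G.left.Opens, UniversallyOpen (W.ι ≫ u.left) → W ≤ V) :
    Set.range ⇑(m₁ V).left ⊆ (V : Set G.left) := by
  haveI := universallyOpen_m₁ V
  have hopen : IsOpen (Set.range ⇑(m₁ V).left) := (m₁ V).left.isOpenMap.isOpen_range
  let W' : G.left.Opens := ⟨Set.range ⇑(m₁ V).left, hopen⟩
  have hsub : Set.range ⇑(m₁ V).left ⊆ Set.range ⇑W'.ι := by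
    rw [Scheme.Opens.range_ι]; exact subset_rfl
  let q : (Vo V ⊗ Vo V).left ⟶ W'.toScheme := IsOpenImmersion.lift W'.ι (m₁ V).left hsub
  have hq : q ≫ W'.ι = (m₁ V).left := IsOpenImmersion.lift_fac _ _ _
  haveI : Surjective q := by
    constructor
    intro w
    have hw : W'.ι w ∈ Set.range ⇑(m₁ V).left := by
      have : W'.ι w ∈ Set.range ⇑W'.ι := ⟨w, rfl⟩
      rw [Scheme.Opens.range_ι] at this
      exact this
    obtain ⟨z, hz⟩ := hw
    refine ⟨z, W'.ι.isOpenEmbedding.injective ?_⟩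
    rw [← hz, ← hq]
    rfl
  haveI : UniversallyOpen (q ≫ (W'.ι ≫ u.left)) := by
    rw [← Category.assoc, hq, ← Over.comp_left]
    exact universallyOpen_m₁_comp u V
  have hW' : UniversallyOpen (W'.ι ≫ u.left) := universallyOpen_of_comp_surjective q _
  exact hmax W' hW'

theorem mul_mem [UniversallyOpen (Vo V).hom] [hV : UniversallyOpen (V.ι ≫ u.left)]
    (hmax : ∀ W : G.left.Opens, UniversallyOpen (W.ι ≫ u.left) → W ≤ V)
    (z : ↥(G ⊗ G).left) (h1 : (fst G G).left z ∈ V) (h2 : (snd G G).left z ∈ V) :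
    μ[G].left z ∈ V := by
  have hz : z ∈ Set.range ⇑(iV V ⊗ₘ iV V).left := by
    rw [Over.tensorHom_left, Scheme.Pullback.range_map]
    refine ⟨?_, ?_⟩
    · show (fst G G).left z ∈ Set.range ⇑V.ι
      rw [Scheme.Opens.range_ι]; exact h1
    · show (snd G G).left z ∈ Set.range ⇑V.ι
      rw [Scheme.Opens.range_ι]; exact h2
  obtain ⟨z', rfl⟩ := hz
  apply range_m₁_le u V hmax
  refine ⟨z', ?_⟩
  have := apply_congr (congrArg Over.Hom.left (m₁_eq_tensor V)) z'
  rw [this]
  rfl

theorem inv_mem [hV : UniversallyOpen (V.ι ≫ u.left)]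
    (hmax : ∀ W : G.left.Opens, UniversallyOpen (W.ι ≫ u.left) → W ≤ V)
    (g : G.left) (hg : g ∈ V) : ι[G].left g ∈ V := by
  haveI : IsIso ι[G] := ⟨⟨ι[G], GrpObj.inv_comp_inv G, GrpObj.inv_comp_inv G⟩⟩
  haveI : IsIso ι[G].left := inferInstanceAs (IsIso ((Over.forget S).map ι[G]))
  haveI : IsIso ι[H] := ⟨⟨ι[H], GrpObj.inv_comp_inv H, GrpObj.inv_comp_inv H⟩⟩
  haveI : IsIso ι[H].left := inferInstanceAs (IsIso ((Over.forget S).map ι[H]))
  have e : (ι[G].left ⁻¹ᵁ V).ι ≫ u.left = (ι[G].left ∣_ V) ≫ (V.ι ≫ u.left) ≫ ι[H].left := by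
    rw [← Category.assoc (ι[G].left ∣_ V), ← Category.assoc (ι[G].left ∣_ V),
      morphismRestrict_ι, Category.assoc, Category.assoc, ← Over.comp_left, ← Over.comp_left,
      GrpObj.inv_hom_assoc, GrpObj.inv_comp_inv, Category.comp_id]
  have hW : UniversallyOpen ((ι[G].left ⁻¹ᵁ V).ι ≫ u.left) := by
    rw [e]; infer_instance
  have hle := hmax _ hW
  have h2 : ι[G].left g ∈ ι[G].left ⁻¹ᵁ V := by
    show ι[G].left (ι[G].left g) ∈ V
    have := apply_congr (congrArg Over.Hom.left (GrpObj.inv_comp_inv G)) g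
    rw [Over.comp_left, Scheme.Hom.comp_apply] at this
    rw [this]; exact hg
  exact hle h2

theorem main (hG : UniversallyOpen G.hom ∨ UniversallyOpen H.hom)
    (hV : UniversallyOpen (V.ι ≫ u.left))
    (hmax : ∀ W : G.left.Opens, UniversallyOpen (W.ι ≫ u.left) → W ≤ V) :
    IsOpen (G.hom.base '' (V : Set G.left)) ∧
    (∀ g ∈ V, ∀ p : ↥(𝟙_ (Over S)).left, (𝟙_ (Over S)).hom.base p = G.hom.base g →
      η[G].left.base p ∈ V) ∧
    (∀ g ∈ V, ι[G].left.base g ∈ V) ∧
    (∀ z : ↥(G ⊗ G).left, (fst G G).left.base z ∈ V → (snd G G).left.base z ∈ V →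
      μ[G].left.base z ∈ V) := by
  haveI := hV
  haveI hVS : UniversallyOpen (Vo V).hom := universallyOpen_Vo_hom u V hG
  have h3 : ∀ g ∈ V, ι[G].left.base g ∈ V := fun g hg => inv_mem u V hmax g hg
  have h4 : ∀ z : ↥(G ⊗ G).left, (fst G G).left.base z ∈ V → (snd G G).left.base z ∈ V →
      μ[G].left.base z ∈ V := fun z h1 h2 => mul_mem u V hmax z h1 h2
  refine ⟨?_, ?_, h3, h4⟩
  · have : G.hom.base '' (V : Set G.left) = Set.range ⇑(V.ι ≫ G.hom) := by
      rw [Scheme.Hom.comp_base, TopCat.coe_comp, Set.range_comp, Scheme.Opens.range_ι]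
    rw [this]
    exact (Scheme.Hom.isOpenMap (f := (Vo V).hom)).isOpen_range
  · intro g hg p hp
    have hz1 : (fst G G).left.base ((lift (𝟙 G) ι[G]).left g) ∈ V := by
      have := apply_congr (congrArg Over.Hom.left (lift_fst (𝟙 G) ι[G])) g
      rw [Over.comp_left, Scheme.Hom.comp_apply] at this
      change (fst G G).left ((lift (𝟙 G) ι[G]).left g) ∈ V
      rw [this]; exact hg
    have hz2 : (snd G G).left.base ((lift (𝟙 G) ι[G]).left g) ∈ V := by
      have := apply_congr (congrArg Over.Hom.left (lift_snd (𝟙 G) ι[G])) g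
      rw [Over.comp_left, Scheme.Hom.comp_apply] at this
      change (snd G G).left ((lift (𝟙 G) ι[G]).left g) ∈ V
      rw [this]; exact h3 g hg
    have hz3 := h4 _ hz1 hz2
    have e := apply_congr (congrArg Over.Hom.left (GrpObj.right_inv G)) g
    rw [Over.comp_left, Scheme.Hom.comp_apply, Over.comp_left, Scheme.Hom.comp_apply] at e
    change μ[G].left ((lift (𝟙 G) ι[G]).left g) ∈ V at hz3
    rw [e] at hz3
    have hpe : p = (toUnit G).left g := by
      apply unit_hom_injective
      have := apply_congr (Over.w (toUnit G)) g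
      rw [Scheme.Hom.comp_apply] at this
      rw [this]; exact hp
    rw [hpe]; exact hz3

end main

end Groth.Agent.Lib.Helper11.UO1
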