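import Mathlib
import Groth.Agent.Lib.Helper11.DS1
import Groth.Agent.Lib.Helper11.SEP1
import Groth.Agent.Lib.Helper11.NC2
import Groth.Agent.Lib.Helper11.UO1
import Groth.Prelude.Def_ActBC
import Groth.Prelude.Def_AutSch

/-!
# DS2: bridge between an action over `S` and its base change to a geometric point (helper11)
-/

set_option autoImplicit false
universe u

open CategoryTheory CategoryTheory.Limits MonoidalCategory CartesianMonoidalCategory MonObj GrpObj
  AlgebraicGeometry
open Groth.Agent.Lib.Helper11.ActA Groth.Agent.Lib.Helper11.NC1 Groth.Agent.Lib.Helper11.DS1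
  Groth.Agent.Lib.Helper11.SEP1

namespace Groth.Agent.Lib.Helper11.DS2

variable {S S' : Scheme.{u}} (t : S' ⟶ S)

/-- `S'` as an object over `S` -/
noncomputable abbrev TT : Over S := Over.mk t

/-- the total space of the base change as an object over `S` -/
noncomputable abbrev tot (Y : Over S) : Over S := Over.mk ((Red.bc t Y).hom ≫ t)

/-- the projection as a morphism over `S` -/
noncomputable def cnt (Y : Over S) : tot t Y ⟶ Y := Over.homMk (prj t Y) (prj_hom t Y)

/-- the structure morphism as a morphism over `S` -/
noncomputable def str (Y : Over S) : tot t Y ⟶ TT t := Over.homMk (Red.bc t Y).hom rfl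

theorem cnt_left (Y : Over S) : (cnt t Y).left = prj t Y := rfl

theorem str_left (Y : Over S) : (str t Y).left = (Red.bc t Y).hom := rfl

/-- the `S'`-point of the base change defined by an `S'`-valued point -/
noncomputable def xK {X : Over S} (x : TT t ⟶ X) : 𝟙_ (Over S') ⟶ Red.bc t X :=
  Over.homMk (pullback.lift x.left (𝟙 S') (by rw [Over.w x]; exact (Category.id_comp t).symm))
    (pullback.lift_snd _ _ _)

theorem xK_left_prj {X : Over S} (x : TT t ⟶ X) : (xK t x).left ≫ prj t X = x.left :=
  pullback.lift_fst _ _ _

variable {G X : Over S} [GrpObj G] (a : AlgGrp.Action G X)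

variable (G X) in
/-- the comparison of the products -/
noncomputable def m2X : (Red.bc t G ⊗ Red.bc t X).left ⟶ (G ⊗ X).left :=
  (Functor.LaxMonoidal.μ (Over.pullback t) G X).left ≫ prj t (G ⊗ X)

omit [GrpObj G] in
lemma m2X_fst : m2X t G X ≫ (fst G X).left = (fst (Red.bc t G) (Red.bc t X)).left ≫ prj t G := by
  unfold m2X
  rw [Category.assoc, ← map_left_prj, ← Category.assoc, ← Over.comp_left,
    Functor.Monoidal.μ_fst]

omit [GrpObj G] in
lemma m2X_snd : m2X t G X ≫ (snd G X).left = (snd (Red.bc t G) (Red.bc t X)).left ≫ prj t X := by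
  unfold m2X
  rw [Category.assoc, ← map_left_prj, ← Category.assoc, ← Over.comp_left,
    Functor.Monoidal.μ_snd]

lemma m2X_act : m2X t G X ≫ a.act.left = (a.bc t).act.left ≫ prj t X := by
  unfold m2X
  rw [Category.assoc, ← map_left_prj, ← Category.assoc, ← Over.comp_left]
  rfl

omit [GrpObj G] in
theorem lift_m2X (x : TT t ⟶ X) :
    (lift (𝟙 (Red.bc t G)) (toUnit (Red.bc t G) ≫ xK t x)).left ≫ m2X t G X =
      (lift (cnt t G) (str t G ≫ x)).left := by
  refine pullback.hom_ext (f := G.hom) (g := X.hom) ?_ ?_
  · have e1 : (lift (cnt t G) (str t G ≫ x)).left ≫ pullback.fst G.hom X.hom = prj t G := by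
      have := congrArg Over.Hom.left (lift_fst (cnt t G) (str t G ≫ x))
      rw [Over.comp_left] at this
      exact this
    have e2 : m2X t G X ≫ pullback.fst G.hom X.hom =
        (fst (Red.bc t G) (Red.bc t X)).left ≫ prj t G := m2X_fst t
    rw [Category.assoc, e2, ← Category.assoc, ← Over.comp_left, lift_fst, e1]
    exact Category.id_comp _
  · have e1 : (lift (cnt t G) (str t G ≫ x)).left ≫ pullback.snd G.hom X.hom =
        (Red.bc t G).hom ≫ x.left := by
      have := congrArg Over.Hom.left (lift_snd (cnt t G) (str t G ≫ x))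
      rw [Over.comp_left] at this
      exact this
    have e2 : m2X t G X ≫ pullback.snd G.hom X.hom =
        (snd (Red.bc t G) (Red.bc t X)).left ≫ prj t X := m2X_snd t
    rw [Category.assoc, e2, ← Category.assoc, ← Over.comp_left, lift_snd, e1, Over.comp_left,
      Category.assoc, xK_left_prj, Over.toUnit_left]

/-- the orbit map of the base change, followed by the projection -/
theorem orbm_prj (x : TT t ⟶ X) :
    (orbm (a.bc t) (xK t x)).left ≫ prj t X = (actT a (cnt t G) (str t G ≫ x)).left := by
  show (lift (𝟙 (Red.bc t G)) (toUnit (Red.bc t G) ≫ xK t x) ≫ (a.bc t).act).left ≫ prj t X =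
    (lift (cnt t G) (str t G ≫ x) ≫ a.act).left
  rw [Over.comp_left, Category.assoc, ← m2X_act, ← Category.assoc, lift_m2X, Over.comp_left]

/-- the orbit maps of the base change are surjective -/
theorem surjective_orbm (hΦ : Surjective (lift a.act (snd G X)).left) (x : TT t ⟶ X) :
    Function.Surjective ⇑(orbm (a.bc t) (xK t x)).left := by
  intro w
  let ω : tot t X ⟶ X ⊗ X := lift (cnt t X) (str t X ≫ x)
  obtain ⟨ξ, hξ⟩ := hΦ.surj (ω.left w)
  obtain ⟨p, hp1, hp2⟩ := Scheme.Pullback.exists_preimage_pullback
    (f := (lift a.act (snd G X)).left) (g := ω.left) ξ w hξ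
  have hω1 : ω.left ≫ (fst X X).left = prj t X := by
    have := congrArg Over.Hom.left (lift_fst (cnt t X) (str t X ≫ x))
    rw [Over.comp_left] at this
    exact this
  have hω2 : ω.left ≫ (snd X X).left = (Red.bc t X).hom ≫ x.left := by
    have := congrArg Over.Hom.left (lift_snd (cnt t X) (str t X ≫ x))
    rw [Over.comp_left] at this
    exact this
  have hΦ1 : (lift a.act (snd G X)).left ≫ (fst X X).left = a.act.left := by
    rw [← Over.comp_left, lift_fst]
  have hΦ2 : (lift a.act (snd G X)).left ≫ (snd X X).left = (snd G X).left := by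
    rw [← Over.comp_left, lift_snd]
  have hcond := pullback.condition (f := (lift a.act (snd G X)).left) (g := ω.left)
  have hw : pullback.fst (lift a.act (snd G X)).left ω.left ≫ (fst G X).left ≫ G.hom =
      (pullback.snd (lift a.act (snd G X)).left ω.left ≫ (Red.bc t X).hom) ≫ t := by
    rw [Over.w (fst G X), ← Over.w (lift a.act (snd G X)), ← Category.assoc, hcond,
      Category.assoc, Over.w ω, Category.assoc]
    rfl
  let ρ : pullback (lift a.act (snd G X)).left ω.left ⟶ (Red.bc t G).left :=
    pullback.lift (pullback.fst _ _ ≫ (fst G X).left) (pullback.snd _ _ ≫ (Red.bc t X).hom)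
      (by rw [Category.assoc]; exact hw)
  have hρ1 : ρ ≫ prj t G = pullback.fst _ _ ≫ (fst G X).left := pullback.lift_fst _ _ _
  have hρ2 : ρ ≫ (Red.bc t G).hom = pullback.snd _ _ ≫ (Red.bc t X).hom :=
    pullback.lift_snd _ _ _
  have hρ3 : ρ ≫ (lift (cnt t G) (str t G ≫ x)).left =
      pullback.fst (lift a.act (snd G X)).left ω.left := by
    refine pullback.hom_ext (f := G.hom) (g := X.hom) ?_ ?_
    · have e1 : (lift (cnt t G) (str t G ≫ x)).left ≫ pullback.fst G.hom X.hom = prj t G := by
        have := congrArg Over.Hom.left (lift_fst (cnt t G) (str t G ≫ x))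
        rw [Over.comp_left] at this
        exact this
      rw [Category.assoc, e1, hρ1]
      rfl
    · have e1 : (lift (cnt t G) (str t G ≫ x)).left ≫ pullback.snd G.hom X.hom =
          (Red.bc t G).hom ≫ x.left := by
        have := congrArg Over.Hom.left (lift_snd (cnt t G) (str t G ≫ x))
        rw [Over.comp_left] at this
        exact this
      have e3 : pullback.fst (lift a.act (snd G X)).left ω.left ≫ pullback.snd G.hom X.hom =
          pullback.fst (lift a.act (snd G X)).left ω.left ≫ (snd G X).left := rfl
      have e6 : pullback.fst (lift a.act (snd G X)).left ω.left ≫ (snd G X).left =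
          pullback.snd (lift a.act (snd G X)).left ω.left ≫ (Red.bc t X).hom ≫ x.left := by
        rw [← hΦ2, ← Category.assoc, hcond, Category.assoc, hω2]
      rw [Category.assoc, e1, ← Category.assoc, hρ2, e3, e6, Category.assoc]
  have key : ρ ≫ (orbm (a.bc t) (xK t x)).left =
      pullback.snd (lift a.act (snd G X)).left ω.left := by
    refine pullback.hom_ext (f := X.hom) (g := t) ?_ ?_
    · have e0 : (orbm (a.bc t) (xK t x)).left ≫ pullback.fst X.hom t =
          (actT a (cnt t G) (str t G ≫ x)).left := orbm_prj t a x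
      have e4 : (actT a (cnt t G) (str t G ≫ x)).left =
          (lift (cnt t G) (str t G ≫ x)).left ≫ a.act.left := by
        show (lift (cnt t G) (str t G ≫ x) ≫ a.act).left = _
        rw [Over.comp_left]
      have e5 : pullback.snd (lift a.act (snd G X)).left ω.left ≫ pullback.fst X.hom t =
          pullback.snd (lift a.act (snd G X)).left ω.left ≫ prj t X := rfl
      have e7 : pullback.fst (lift a.act (snd G X)).left ω.left ≫ a.act.left =
          pullback.snd (lift a.act (snd G X)).left ω.left ≫ prj t X := by
        rw [← hΦ1, ← Category.assoc, hcond, Category.assoc, hω1]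
      rw [Category.assoc, e0, e4, ← Category.assoc, hρ3, e7, e5]
    · have e0 : (orbm (a.bc t) (xK t x)).left ≫ pullback.snd X.hom t = (Red.bc t G).hom :=
        Over.w (orbm (a.bc t) (xK t x))
      rw [Category.assoc, e0, hρ2]
      rfl
  refine ⟨ρ p, ?_⟩
  have := apply_congr key p
  simp only [Scheme.Hom.comp_apply] at this
  rw [this, hp2]

end Groth.Agent.Lib.Helper11.DS2
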