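import Mathlib
import Groth.Agent.Lib.Helper11.DS2

/-!
# DS3: separatedness of a homogeneous space from dense separated opens in the fibres (helper11)
-/

set_option autoImplicit false
universe u

open CategoryTheory CategoryTheory.Limits MonoidalCategory CartesianMonoidalCategory MonObj GrpObj
  AlgebraicGeometry
open Groth.Agent.Lib.Helper11.ActA Groth.Agent.Lib.Helper11.NC1 Groth.Agent.Lib.Helper11.DS1
  Groth.Agent.Lib.Helper11.SEP1 Groth.Agent.Lib.Helper11.DS2

namespace Groth.Agent.Lib.Helper11.DS3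

variable {S : Scheme.{u}}

section fibre

variable {T : Scheme.{u}} (t : T ⟶ S) (s : S) (e : T ⟶ Spec (S.residueField s))
  (he : e ≫ S.fromSpecResidueField s = t) (X : Over S)

include he in
theorem exists_isPullback_fiber :
    ∃ q : pullback X.hom t ⟶ X.hom.fiber s,
      q ≫ pullback.fst X.hom (S.fromSpecResidueField s) = pullback.fst X.hom t ∧
      IsPullback q (pullback.snd X.hom t) (X.hom.fiberToSpecResidueField s) e := by
  let q : pullback X.hom t ⟶ X.hom.fiber s :=
    pullback.lift (pullback.fst X.hom t) (pullback.snd X.hom t ≫ e)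
      (by rw [Category.assoc, he, pullback.condition])
  have hq1 : q ≫ pullback.fst X.hom (S.fromSpecResidueField s) = pullback.fst X.hom t :=
    pullback.lift_fst _ _ _
  have hq2 : q ≫ pullback.snd X.hom (S.fromSpecResidueField s) = pullback.snd X.hom t ≫ e :=
    pullback.lift_snd _ _ _
  refine ⟨q, hq1, ?_⟩
  refine IsPullback.of_right ?_ hq2 (IsPullback.of_hasPullback X.hom (S.fromSpecResidueField s))
  rw [hq1, he]
  exact IsPullback.of_hasPullback X.hom t

include he in
theorem locallyOfFiniteType_bc (hft : LocallyOfFiniteType (X.hom.fiberToSpecResidueField s)) :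
    LocallyOfFiniteType (Red.bc t X).hom := by
  obtain ⟨q, -, hpb⟩ := exists_isPullback_fiber t s e he X
  exact MorphismProperty.of_isPullback (P := @LocallyOfFiniteType) hpb hft

include he in
theorem dense_preimage [UniversallyOpen e] (U : X.left.Opens)
    (hU : X.hom.base ⁻¹' {s} ⊆ closure ((U : Set X.left) ∩ X.hom.base ⁻¹' {s})) :
    Dense (⇑(prj t X) ⁻¹' (U : Set X.left)) := by
  obtain ⟨q, hq1, hpb⟩ := exists_isPullback_fiber t s e he X
  haveI : UniversallyOpen q := MorphismProperty.of_isPullback (P := @UniversallyOpen) hpb.flip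
    inferInstance
  have hqo : IsOpenMap ⇑q := q.isOpenMap
  have hdF : Dense (⇑(X.hom.fiberι s) ⁻¹' (U : Set X.left)) := by
    intro f
    have hemb := (X.hom.fiberι s).isEmbedding
    rw [hemb.isInducing.closure_eq_preimage_closure_image]
    have h1 : X.hom.fiberι s f ∈ ⇑X.hom ⁻¹' {s} := by
      rw [← X.hom.range_fiberι s]; exact ⟨f, rfl⟩
    have h2 := hU h1
    show X.hom.fiberι s f ∈ closure (⇑(X.hom.fiberι s) '' (⇑(X.hom.fiberι s) ⁻¹' (U : Set X.left)))
    rw [Set.image_preimage_eq_inter_range, X.hom.range_fiberι s]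
    exact h2
  have h3 := hdF.preimage hqo
  have heq : ⇑q ⁻¹' (⇑(X.hom.fiberι s) ⁻¹' (U : Set X.left)) =
      ⇑(prj t X) ⁻¹' (U : Set X.left) := by
    ext w
    have := apply_congr hq1 w
    simp only [Scheme.Hom.comp_apply] at this
    show X.hom.fiberι s (q w) ∈ U ↔ prj t X w ∈ U
    rw [← this]
    rfl
  rwa [heq] at h3

end fibre

section V

variable {G X : Over S} [GrpObj G] (a : AlgGrp.Action G X)

theorem exists_V (W : G.left.Opens)
    (hW1 : ∀ p : ↥(𝟙_ (Over S)).left, η[G].left.base p ∈ W)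
    (hW2 : UniversallyOpen (W.ι ≫ G.hom)) :
    ∃ V : G.left.Opens, SGA3x.neutralSet G ⊆ (V : Set G.left) ∧
      UniversallyOpen (V.ι ≫ G.hom) := by
  haveI : UniversallyOpen (UO1.Vo W).hom := hW2
  haveI := UO1.universallyOpen_m₁ W
  have hopen : IsOpen (Set.range ⇑(UO1.m₁ W).left) := (UO1.m₁ W).left.isOpenMap.isOpen_range
  let W' : G.left.Opens := ⟨Set.range ⇑(UO1.m₁ W).left, hopen⟩
  refine ⟨W', ?_, ?_⟩
  · intro x hx
    obtain ⟨p, hp⟩ := Set.mem_iUnion.mp hx
    obtain ⟨ζ, h1, h2, h3⟩ := KL G p x hp W (hW1 p)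
    have hζ : ζ ∈ Set.range ⇑(UO1.iV W ⊗ₘ UO1.iV W).left := by
      rw [Over.tensorHom_left, Scheme.Pullback.range_map]
      refine ⟨?_, ?_⟩
      · show (fst G G).left ζ ∈ Set.range ⇑W.ι
        rw [Scheme.Opens.range_ι]; exact h1
      · show (snd G G).left ζ ∈ Set.range ⇑W.ι
        rw [Scheme.Opens.range_ι]; exact h2
    obtain ⟨ζ', rfl⟩ := hζ
    refine ⟨ζ', ?_⟩
    have := apply_congr (congrArg Over.Hom.left (UO1.m₁_eq_tensor W)) ζ'
    rw [this, ← h3]
    rfl
  · have hsub : Set.range ⇑(UO1.m₁ W).left ⊆ Set.range ⇑W'.ι := by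
      rw [Scheme.Opens.range_ι]; exact subset_rfl
    let q : (UO1.Vo W ⊗ UO1.Vo W).left ⟶ W'.toScheme :=
      IsOpenImmersion.lift W'.ι (UO1.m₁ W).left hsub
    have hq : q ≫ W'.ι = (UO1.m₁ W).left := IsOpenImmersion.lift_fac _ _ _
    haveI : Surjective q := by
      constructor
      intro w
      have hw : W'.ι w ∈ Set.range ⇑(UO1.m₁ W).left := by
        have : W'.ι w ∈ Set.range ⇑W'.ι := ⟨w, rfl⟩
        rw [Scheme.Opens.range_ι] at this
        exact this
      obtain ⟨z, hz⟩ := hw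
      refine ⟨z, W'.ι.isOpenEmbedding.injective ?_⟩
      rw [← hz, ← hq]
      rfl
    haveI : UniversallyOpen (q ≫ (W'.ι ≫ G.hom)) := by
      rw [← Category.assoc, hq, Over.w (UO1.m₁ W)]
      show UniversallyOpen (pullback.fst (UO1.Vo W).hom (UO1.Vo W).hom ≫ (UO1.Vo W).hom)
      infer_instance
    exact UO1.universallyOpen_of_comp_surjective q _

/-- transfer of the closure of the diagonal along the diagonal action on a universally open
part of the group -/
theorem A_mem_closure (V : G.left.Opens) [UniversallyOpen (V.ι ≫ G.hom)]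
    (q : ↥(G ⊗ (X ⊗ X)).left) (hq : (fst G (X ⊗ X)).left q ∈ V)
    (h : (snd G (X ⊗ X)).left q ∈ closure (Dg X)) : (A a).left q ∈ closure (Dg X) := by
  rw [mem_closure_iff]
  intro N hN hqN
  haveI : UniversallyOpen (UO1.Vo V).hom := ‹UniversallyOpen (V.ι ≫ G.hom)›
  have hopen_snd : IsOpenMap ⇑(snd (UO1.Vo V) (X ⊗ X)).left := isOpenMap_snd (X ⊗ X)
  have hw : (UO1.iV V ▷ (X ⊗ X)) ≫ snd G (X ⊗ X) = snd (UO1.Vo V) (X ⊗ X) :=
    whiskerRight_snd _ _
  have hw' : ∀ r, (snd G (X ⊗ X)).left ((UO1.iV V ▷ (X ⊗ X)).left r) =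
      (snd (UO1.Vo V) (X ⊗ X)).left r := by
    intro r
    have := apply_congr (congrArg Over.Hom.left hw) r
    simpa only [Over.comp_left, Scheme.Hom.comp_apply] using this
  have hqr : q ∈ Set.range ⇑(UO1.iV V ▷ (X ⊗ X)).left := by
    rw [Over.whiskerRight_left, Scheme.Pullback.range_map]
    refine ⟨?_, ?_⟩
    · show (fst G (X ⊗ X)).left q ∈ Set.range ⇑V.ι
      rw [Scheme.Opens.range_ι]; exact hq
    · exact ⟨_, rfl⟩
  obtain ⟨q', rfl⟩ := hqr
  have hO' : IsOpen (⇑(UO1.iV V ▷ (X ⊗ X)).left ⁻¹' (⇑(A a).left ⁻¹' N)) :=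
    (hN.preimage (A a).left.continuous).preimage (UO1.iV V ▷ (X ⊗ X)).left.continuous
  have hsO := hopen_snd _ hO'
  have hmem : (snd G (X ⊗ X)).left ((UO1.iV V ▷ (X ⊗ X)).left q') ∈
      ⇑(snd (UO1.Vo V) (X ⊗ X)).left ''
        (⇑(UO1.iV V ▷ (X ⊗ X)).left ⁻¹' (⇑(A a).left ⁻¹' N)) :=
    ⟨q', hqN, (hw' q').symm⟩
  obtain ⟨d, hd1, hd2⟩ := mem_closure_iff.mp h _ hsO hmem
  obtain ⟨q'', hq''O, rfl⟩ := hd1
  refine ⟨(A a).left ((UO1.iV V ▷ (X ⊗ X)).left q''), hq''O, ?_⟩
  apply snd_mem_imp_A_mem a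
  rw [hw']
  exact hd2

omit [GrpObj G] in
/-- points of the closure of the diagonal whose two coordinates lie in an open separated over the
base lie on the diagonal -/
theorem mem_Dg_of_mem_closure' (U : X.left.Opens) [IsSeparated (U.ι ≫ X.hom)]
    (z : ↥(X ⊗ X).left)
    (hz : z ∈ closure (Dg X)) (h1 : (fst X X).left z ∈ U) (h2 : (snd X X).left z ∈ U) :
    z ∈ Dg X := by
  let j := pullback.map (U.ι ≫ X.hom) (U.ι ≫ X.hom) X.hom X.hom U.ι U.ι (𝟙 S) (by simp) (by simp)
  haveI : IsOpenImmersion j := inferInstance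
  have hrange : Set.range ⇑j = ⇑(pullback.fst X.hom X.hom) ⁻¹' (U : Set X.left) ∩
      ⇑(pullback.snd X.hom X.hom) ⁻¹' (U : Set X.left) := by
    rw [Scheme.Pullback.range_map, Scheme.Opens.range_ι]
  let dU := pullback.diagonal (U.ι ≫ X.hom)
  have hdUcl : IsClosed (Set.range ⇑dU) := dU.isClosedEmbedding.isClosed_range
  have hcomp : dU ≫ j = U.ι ≫ (lift (𝟙 X) (𝟙 X)).left := by
    apply pullback.hom_ext
    · simp only [dU, j, pullback.map, Category.assoc, pullback.lift_fst,
        pullback.diagonal_fst_assoc, Over.lift_left, Over.id_left, Category.comp_id]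
    · simp only [dU, j, pullback.map, Category.assoc, pullback.lift_snd,
        pullback.diagonal_snd_assoc, Over.lift_left, Over.id_left, Category.comp_id]
  have hd1 : (lift (𝟙 X) (𝟙 X)).left ≫ pullback.fst X.hom X.hom = 𝟙 _ := by
    rw [Over.lift_left, pullback.lift_fst]; rfl
  have hDj : Dg X ∩ Set.range ⇑j = ⇑j '' Set.range ⇑dU := by
    ext w; constructor
    · rintro ⟨⟨x, rfl⟩, hw⟩
      rw [hrange] at hw
      have hxU : x ∈ U := by
        have e : pullback.fst X.hom X.hom ((lift (𝟙 X) (𝟙 X)).left x) = x := apply_congr hd1 x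
        have := hw.1
        rw [Set.mem_preimage, e] at this
        exact this
      obtain ⟨u, rfl⟩ : x ∈ Set.range ⇑U.ι := by rw [Scheme.Opens.range_ι]; exact hxU
      refine ⟨dU u, ⟨u, rfl⟩, ?_⟩
      have := apply_congr hcomp u
      simpa only [Scheme.Hom.comp_apply] using this
    · rintro ⟨_, ⟨u, rfl⟩, rfl⟩
      have := apply_congr hcomp u
      simp only [Scheme.Hom.comp_apply] at this
      exact ⟨⟨U.ι u, this.symm⟩, ⟨_, rfl⟩⟩
  have hzj : z ∈ Set.range ⇑j := by rw [hrange]; exact ⟨h1, h2⟩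
  have hopen : IsOpen (Set.range ⇑j) := j.isOpenEmbedding.isOpen_range
  have hz2 : z ∈ closure (Dg X ∩ Set.range ⇑j) := by
    have := hopen.inter_closure (t := Dg X) ⟨hzj, hz⟩
    rwa [Set.inter_comm] at this
  rw [hDj] at hz2
  obtain ⟨v, rfl⟩ := hzj
  have hv : v ∈ closure (Set.range ⇑dU) := by
    rw [j.isOpenEmbedding.isEmbedding.isInducing.closure_eq_preimage_closure_image]
    exact hz2
  rw [hdUcl.closure_eq] at hv
  obtain ⟨u, rfl⟩ := hv
  have := apply_congr hcomp u
  simp only [Scheme.Hom.comp_apply] at this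
  exact ⟨U.ι u, this.symm⟩

end V

section main

variable {G X : Over S} [GrpObj G] (a : AlgGrp.Action G X)

theorem mem_Dg_aux (V : G.left.Opens) [UniversallyOpen (V.ι ≫ G.hom)]
    (hV : SGA3x.neutralSet G ⊆ (V : Set G.left)) [LocallyOfFiniteType G.hom]
    (hΦ : Surjective (lift a.act (snd G X)).left)
    (z : ↥(X ⊗ X).left) (hz : z ∈ closure (Dg X))
    (hft : LocallyOfFiniteType (X.hom.fiberToSpecResidueField ((X ⊗ X).hom z)))
    (U : X.left.Opens) [IsSeparated (U.ι ≫ X.hom)]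
    (hUd : X.hom.base ⁻¹' {(X ⊗ X).hom z} ⊆
      closure ((U : Set X.left) ∩ X.hom.base ⁻¹' {(X ⊗ X).hom z}))
    (K : Type u) [Field K] [IsAlgClosed K] (ζ₀ : Spec (CommRingCat.of K) ⟶ (X ⊗ X).left)
    (hζ₀ : ∀ r, ζ₀ r = z) (e : Spec (CommRingCat.of K) ⟶ Spec (S.residueField ((X ⊗ X).hom z)))
    (he : e ≫ S.fromSpecResidueField ((X ⊗ X).hom z) = ζ₀ ≫ (X ⊗ X).hom) : z ∈ Dg X := by
  obtain ⟨t, ht⟩ : ∃ t : Spec (CommRingCat.of K) ⟶ S, t = ζ₀ ≫ (X ⊗ X).hom := ⟨_, rfl⟩
  rw [← ht] at he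
  let ζ : TT t ⟶ X ⊗ X := Over.homMk ζ₀ ht.symm
  haveI : Subsingleton ↥(Spec (S.residueField ((X ⊗ X).hom z))) :=
    inferInstanceAs (Subsingleton (PrimeSpectrum (S.residueField ((X ⊗ X).hom z))))
  haveI : IsIntegral (Spec (S.residueField ((X ⊗ X).hom z))) := inferInstance
  haveI : UniversallyOpen e := inferInstance
  haveI hXK : LocallyOfFiniteType (Red.bc t X).hom := locallyOfFiniteType_bc t _ e he X hft
  haveI hGK : LocallyOfFiniteType (Red.bc t G).hom := by
    show LocallyOfFiniteType (pullback.snd G.hom t)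
    infer_instance
  let x : TT t ⟶ X := ζ ≫ snd X X
  let y : TT t ⟶ X := ζ ≫ fst X X
  have hDd := dense_preimage t _ e he X U hUd
  have hDo : IsOpen (⇑(prj t X) ⁻¹' (U : Set X.left)) := U.isOpen.preimage (prj t X).continuous
  let pt : ↥(Spec (CommRingCat.of K)) := IsLocalRing.closedPoint K
  have hZ := irreducibleComponent_mem_irreducibleComponents (η[Red.bc t G].left pt)
  obtain ⟨gm, hgmZ, hgx, hgy⟩ := exists_mem_unitComp₂ (a.bc t) pt _ hZ mem_irreducibleComponent
    (xK t x) (xK t y) (surjective_orbm t a hΦ x) (surjective_orbm t a hΦ y) _ hDo hDd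
  have hgn : prj t G gm ∈ SGA3x.neutralSet G := by
    have h1 : gm ∈ SGA3x.neutralSet (Red.bc t G) := by
      rw [AutSch.neutralSet_eq_connectedComponent]
      have := GrpE.connectedComponent_unit_eq (Red.bc t G) pt _ hZ mem_irreducibleComponent
      show gm ∈ connectedComponent (η[Red.bc t G].left pt)
      rw [this]; exact hgmZ
    rw [NC2.neutralSet_bc] at h1
    exact h1
  obtain ⟨θ, hθ⟩ : ∃ θ : ↥(G ⊗ (X ⊗ X)).left, θ = (lift (cnt t G) (str t G ≫ ζ)).left gm :=
    ⟨_, rfl⟩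
  have hθ1 : (fst G (X ⊗ X)).left θ = prj t G gm := by
    have := apply_congr (congrArg Over.Hom.left (lift_fst (cnt t G) (str t G ≫ ζ))) gm
    simp only [Over.comp_left, Scheme.Hom.comp_apply] at this
    rw [hθ, this]; rfl
  have hθ2 : (snd G (X ⊗ X)).left θ = z := by
    have := apply_congr (congrArg Over.Hom.left (lift_snd (cnt t G) (str t G ≫ ζ))) gm
    simp only [Over.comp_left, Scheme.Hom.comp_apply] at this
    rw [hθ, this]; exact hζ₀ _
  have hζl : str t G ≫ ζ = lift (str t G ≫ y) (str t G ≫ x) := by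
    apply CartesianMonoidalCategory.hom_ext
    · rw [lift_fst, Category.assoc]
    · rw [lift_snd, Category.assoc]
  have hA : lift (cnt t G) (str t G ≫ ζ) ≫ A a =
      lift (actT a (cnt t G) (str t G ≫ y)) (actT a (cnt t G) (str t G ≫ x)) := by
    rw [hζl, lift_A]
  have hAθ1 : (fst X X).left ((A a).left θ) =
      prj t X ((orbm (a.bc t) (xK t y)).left gm) := by
    have e1 : lift (cnt t G) (str t G ≫ ζ) ≫ A a ≫ fst X X =
        actT a (cnt t G) (str t G ≫ y) := by
      rw [← Category.assoc, hA, lift_fst]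
    have := apply_congr (congrArg Over.Hom.left e1) gm
    simp only [Over.comp_left, Scheme.Hom.comp_apply] at this
    rw [hθ, this, ← orbm_prj]
    rfl
  have hAθ2 : (snd X X).left ((A a).left θ) =
      prj t X ((orbm (a.bc t) (xK t x)).left gm) := by
    have e1 : lift (cnt t G) (str t G ≫ ζ) ≫ A a ≫ snd X X =
        actT a (cnt t G) (str t G ≫ x) := by
      rw [← Category.assoc, hA, lift_snd]
    have := apply_congr (congrArg Over.Hom.left e1) gm
    simp only [Over.comp_left, Scheme.Hom.comp_apply] at this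
    rw [hθ, this, ← orbm_prj]
    rfl
  have h5 : (A a).left θ ∈ closure (Dg X) :=
    A_mem_closure a V θ (by rw [hθ1]; exact hV hgn) (by rw [hθ2]; exact hz)
  have h6 : (A a).left θ ∈ Dg X :=
    mem_Dg_of_mem_closure' U _ h5 (by rw [hAθ1]; exact hgy) (by rw [hAθ2]; exact hgx)
  have h7 := A_mem_imp_snd_mem a θ h6
  rwa [hθ2] at h7

theorem main [LocallyOfFinitePresentation G.hom]
    (hGo : ∃ W : G.left.Opens, (∀ p : ↥(𝟙_ (Over S)).left, η[G].left.base p ∈ W) ∧
      UniversallyOpen (W.ι ≫ G.hom))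
    (hΦ : Surjective (lift a.act (snd G X)).left)
    (hft : ∀ s : S, LocallyOfFiniteType (X.hom.fiberToSpecResidueField s))
    (hU : ∀ s : S, ∃ U : X.left.Opens, IsSeparated (U.ι ≫ X.hom) ∧
      X.hom.base ⁻¹' {s} ⊆ closure ((U : Set X.left) ∩ X.hom.base ⁻¹' {s})) :
    IsSeparated X.hom := by
  obtain ⟨W, hW1, hW2⟩ := hGo
  obtain ⟨V, hV1, hV2⟩ := exists_V W hW1 hW2
  haveI := hV2
  have hcl : IsClosed (Dg X) := by
    rw [← closure_subset_iff_isClosed]
    intro z hz
    obtain ⟨U, hUsep, hUd⟩ := hU ((X ⊗ X).hom z)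
    haveI := hUsep
    refine mem_Dg_aux a V hV1 hΦ z hz (hft _) U hUd
      (AlgebraicClosure ((X ⊗ X).left.residueField z))
      (Spec.map (CommRingCat.ofHom (algebraMap ((X ⊗ X).left.residueField z)
        (AlgebraicClosure ((X ⊗ X).left.residueField z)))) ≫
        (X ⊗ X).left.fromSpecResidueField z) ?_
      (Spec.map (CommRingCat.ofHom (algebraMap ((X ⊗ X).left.residueField z)
        (AlgebraicClosure ((X ⊗ X).left.residueField z)))) ≫
        Spec.map ((X ⊗ X).hom.residueFieldMap z)) ?_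
    · intro r
      rw [Scheme.Hom.comp_apply]
      exact Scheme.fromSpecResidueField_apply z _
    · rw [Category.assoc, Scheme.Hom.SpecMap_residueFieldMap_fromSpecResidueField,
        Category.assoc]
  have hcl' : IsClosed (Set.range ⇑(pullback.diagonal X.hom)) := hcl
  exact ⟨IsClosedImmersion.of_isPreimmersion _ hcl'⟩

end main

end Groth.Agent.Lib.Helper11.DS3
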