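import Mathlib

/-!
# DescOpen: a quasi-compact open of `X ×_k Spec A` descends to a finitely generated subalgebra
(helper11)
-/

set_option autoImplicit false
universe u

open CategoryTheory CategoryTheory.Limits AlgebraicGeometry TensorProduct

namespace Groth.Agent.Lib.Helper11.DescOpen

section alg
variable {k R A : Type*} [CommRing k] [CommRing R] [CommRing A] [Algebra k R] [Algebra k A]

/-- the base change map `R ⊗ A' → R ⊗ A` -/
noncomputable def bc (R : Type*) [CommRing R] [Algebra k R] (A' : Subalgebra k A) :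
    R ⊗[k] A' →ₐ[k] R ⊗[k] A :=
  Algebra.TensorProduct.map (AlgHom.id k R) A'.val

lemma range_mono {A₁ A₂ : Subalgebra k A} (h : A₁ ≤ A₂) :
    Set.range (bc (k := k) R A₁) ⊆ Set.range (bc (k := k) R A₂) := by
  rintro _ ⟨x, rfl⟩
  refine ⟨Algebra.TensorProduct.map (AlgHom.id k R) (Subalgebra.inclusion h) x, ?_⟩
  simp only [bc]
  rw [← AlgHom.comp_apply, ← Algebra.TensorProduct.map_comp]
  rfl

lemma exists_fg_mem_range (g : R ⊗[k] A) :
    ∃ A' : Subalgebra k A, A'.FG ∧ g ∈ Set.range (bc (k := k) R A') := by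
  classical
  induction g using TensorProduct.induction_on with
  | zero => exact ⟨⊥, Subalgebra.fg_bot, 0, map_zero _⟩
  | tmul r a =>
    refine ⟨Algebra.adjoin k (({a} : Finset A) : Set A), Subalgebra.fg_adjoin_finset _,
      r ⊗ₜ ⟨a, Algebra.subset_adjoin (by simp)⟩, ?_⟩
    simp [bc]
  | add x y hx hy =>
    obtain ⟨A₁, h1, hx1⟩ := hx
    obtain ⟨A₂, h2, hy2⟩ := hy
    refine ⟨A₁ ⊔ A₂, h1.sup h2, ?_⟩
    obtain ⟨x', hx'⟩ := range_mono (R := R) (le_sup_left : A₁ ≤ A₁ ⊔ A₂) hx1
    obtain ⟨y', hy'⟩ := range_mono (R := R) (le_sup_right : A₂ ≤ A₁ ⊔ A₂) hy2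
    exact ⟨x' + y', by rw [map_add, hx', hy']⟩

lemma exists_fg_forall_mem_range {ι : Type*} (t : Finset ι) (Rf : ι → Type*)
    [∀ i, CommRing (Rf i)] [∀ i, Algebra k (Rf i)] (g : ∀ i, Rf i ⊗[k] A) :
    ∃ A' : Subalgebra k A, A'.FG ∧ ∀ i ∈ t, g i ∈ Set.range (bc (k := k) (Rf i) A') := by
  classical
  induction t using Finset.induction_on with
  | empty => exact ⟨⊥, Subalgebra.fg_bot, by simp⟩
  | insert i t hi ih =>
    obtain ⟨A₁, h1, hA₁⟩ := ih
    obtain ⟨A₂, h2, hA₂⟩ := exists_fg_mem_range (k := k) (g i)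
    refine ⟨A₁ ⊔ A₂, h1.sup h2, ?_⟩
    intro j hj
    rcases Finset.mem_insert.mp hj with rfl | hj
    · exact range_mono le_sup_right hA₂
    · exact range_mono le_sup_left (hA₁ j hj)

end alg

variable {k : Type u} [Field k] {X : Scheme.{u}} (f : X ⟶ Spec (CommRingCat.of k))

/-- an affine chart of `X` over `k` -/
structure Chart where
  R : Type u
  [cr : CommRing R]
  [alg : Algebra k R]
  u : Spec (CommRingCat.of R) ⟶ X
  [oi : IsOpenImmersion u]
  hu : u ≫ f = Spec.map (CommRingCat.ofHom (algebraMap k R))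

attribute [instance] Chart.cr Chart.alg Chart.oi

variable {f}

lemma exists_chart (x : X) : ∃ c : Chart f, x ∈ Set.range c.u.base := by
  obtain ⟨y, hy⟩ := X.affineOpenCover.openCover.covers x
  exact ⟨@Chart.mk k _ X f (X.affineOpenCover.X (X.affineOpenCover.openCover.idx x)) _
    (Spec.preimage (X.affineOpenCover.f (X.affineOpenCover.openCover.idx x) ≫ f)).hom.toAlgebra
    (X.affineOpenCover.f (X.affineOpenCover.openCover.idx x))
    (X.affineOpenCover.openCover.map_prop _) (Spec.map_preimage _).symm, ⟨y, hy⟩⟩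

namespace Chart

variable (c : Chart f) (B : Type u) [CommRing B] [Algebra k B]

/-- the chart of the base change -/
noncomputable def chart :
    Spec (CommRingCat.of (c.R ⊗[k] B)) ⟶
      pullback f (Spec.map (CommRingCat.ofHom (algebraMap k B))) :=
  (pullbackSpecIso k c.R B).inv ≫
    pullback.map (Spec.map (CommRingCat.ofHom (algebraMap k c.R)))
      (Spec.map (CommRingCat.ofHom (algebraMap k B))) f
      (Spec.map (CommRingCat.ofHom (algebraMap k B))) c.u (𝟙 _) (𝟙 _)
      (by rw [Category.comp_id, c.hu]) (by simp)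

lemma chart_fst : c.chart B ≫ pullback.fst _ _ =
    Spec.map (CommRingCat.ofHom Algebra.TensorProduct.includeLeftRingHom) ≫ c.u := by
  rw [chart, Category.assoc, pullback.lift_fst, ← Category.assoc, pullbackSpecIso_inv_fst]

lemma chart_snd : c.chart B ≫ pullback.snd _ _ =
    Spec.map (CommRingCat.ofHom (R := B) (S := c.R ⊗[k] B)
      (Algebra.TensorProduct.includeRight).toRingHom) := by
  rw [chart, Category.assoc, pullback.lift_snd, Category.comp_id, pullbackSpecIso_inv_snd]
  rfl

instance : IsOpenImmersion (c.chart B) := by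
  rw [chart]; infer_instance

lemma range_chart : Set.range (c.chart B).base =
    (pullback.fst f (Spec.map (CommRingCat.ofHom (algebraMap k B)))).base ⁻¹'
      Set.range c.u.base := by
  have hs : Function.Surjective ⇑(pullbackSpecIso k c.R B).inv :=
    (pullbackSpecIso k c.R B).inv.homeomorph.surjective
  rw [chart, Scheme.Hom.comp_base, TopCat.coe_comp, Set.range_comp,
    Set.range_eq_univ.mpr hs, Set.image_univ, Scheme.Pullback.range_map]
  ext x
  simp

/-- a basic open piece -/
def piece (g : c.R ⊗[k] B) :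
    Set ↥(pullback f (Spec.map (CommRingCat.ofHom (algebraMap k B)))) :=
  (c.chart B).base '' (PrimeSpectrum.basicOpen g : Set (PrimeSpectrum (c.R ⊗[k] B)))

lemma isOpen_piece (g : c.R ⊗[k] B) : IsOpen (c.piece B g) :=
  (c.chart B).isOpenEmbedding.isOpenMap _ (PrimeSpectrum.basicOpen g).2

lemma isCompact_piece (g : c.R ⊗[k] B) : IsCompact (c.piece B g) :=
  (PrimeSpectrum.isCompact_basicOpen g).image (c.chart B).continuous

end Chart

lemma exists_piece (B : Type u) [CommRing B] [Algebra k B]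
    (V : Set ↥(pullback f (Spec.map (CommRingCat.ofHom (algebraMap k B))))) (hV : IsOpen V)
    (v : ↥(pullback f (Spec.map (CommRingCat.ofHom (algebraMap k B))))) (hv : v ∈ V) :
    ∃ (c : Chart f) (g : c.R ⊗[k] B), v ∈ c.piece B g ∧ c.piece B g ⊆ V := by
  obtain ⟨c, hc⟩ := exists_chart (f := f) ((pullback.fst f _).base v)
  have hvr : v ∈ Set.range (c.chart B).base := by rw [c.range_chart]; exact hc
  obtain ⟨w, rfl⟩ := hvr
  have hW : IsOpen ((c.chart B).base ⁻¹' V) := hV.preimage (c.chart B).continuous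
  obtain ⟨_, ⟨_, ⟨g, rfl⟩, rfl⟩, hwg, hgV⟩ :=
    PrimeSpectrum.isBasis_basic_opens.exists_subset_of_mem_open
      (show w ∈ (c.chart B).base ⁻¹' V from hv) hW
  refine ⟨c, g, ⟨w, hwg, rfl⟩, ?_⟩
  rintro _ ⟨w', hw', rfl⟩
  exact hgV hw'

lemma preimage_piece (A : Type u) [CommRing A] [Algebra k A] (A' : Subalgebra k A)
    (π : pullback f (Spec.map (CommRingCat.ofHom (algebraMap k A))) ⟶
      pullback f (Spec.map (CommRingCat.ofHom (algebraMap k ↥A'))))
    (h1 : π ≫ pullback.fst _ _ = pullback.fst _ _)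
    (h2 : π ≫ pullback.snd _ _ = pullback.snd _ _ ≫ Spec.map (CommRingCat.ofHom A'.val.toRingHom))
    (c : Chart f) (g' : c.R ⊗[k] A') :
    π.base ⁻¹' (c.piece A' g') = c.piece A (bc c.R A' g') := by
  have hsq : c.chart A ≫ π =
      Spec.map (CommRingCat.ofHom (bc c.R A').toRingHom) ≫ c.chart A' := by
    apply pullback.hom_ext
    · rw [Category.assoc, h1, c.chart_fst, Category.assoc, c.chart_fst, ← Category.assoc,
        ← Spec.map_comp]
      congr 2
    · rw [Category.assoc, h2, ← Category.assoc, c.chart_snd, Category.assoc, c.chart_snd,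
        ← Spec.map_comp, ← Spec.map_comp]
      congr 1
  have hcomap : ∀ w : PrimeSpectrum (c.R ⊗[k] A),
      (Spec.map (CommRingCat.ofHom (bc c.R A').toRingHom)).base w ∈
        (PrimeSpectrum.basicOpen g' : Set (PrimeSpectrum (c.R ⊗[k] A'))) ↔
      w ∈ (PrimeSpectrum.basicOpen (bc c.R A' g') : Set (PrimeSpectrum (c.R ⊗[k] A))) := by
    intro w
    rfl
  ext x
  constructor
  · rintro ⟨w', hw', hw'x⟩
    have hx : x ∈ Set.range (c.chart A).base := by
      rw [c.range_chart]
      have e : (pullback.fst f _).base x = (pullback.fst f _).base (π.base x) := by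
        have := congrArg (fun q => q.base x) h1
        simpa using this.symm
      rw [Set.mem_preimage, e, ← hw'x]
      have e2 := congrArg (fun q => q.base w') (c.chart_fst A')
      simp only [Scheme.Hom.comp_base, TopCat.comp_app] at e2
      rw [e2]; exact ⟨_, rfl⟩
    obtain ⟨w, rfl⟩ := hx
    have e3 : (c.chart A').base ((Spec.map (CommRingCat.ofHom (bc c.R A').toRingHom)).base w) =
        (c.chart A').base w' := by
      have := congrArg (fun q => q.base w) hsq
      simp only [Scheme.Hom.comp_base, TopCat.comp_app] at this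
      rw [← this, hw'x]
    have e4 := (c.chart A').isOpenEmbedding.injective e3
    refine ⟨w, (hcomap w).mp (e4 ▸ hw'), rfl⟩
  · rintro ⟨w, hw, rfl⟩
    refine ⟨(Spec.map (CommRingCat.ofHom (bc c.R A').toRingHom)).base w, (hcomap w).mpr hw, ?_⟩
    have := congrArg (fun q => q.base w) hsq
    simp only [Scheme.Hom.comp_base, TopCat.comp_app] at this
    exact this.symm

theorem main (A : Type u) [CommRing A] [Algebra k A]
    (V : Set ↥(pullback f (Spec.map (CommRingCat.ofHom (algebraMap k A))))) (hV : IsOpen V)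
    (hVc : IsCompact V) :
    ∃ (A' : Subalgebra k A), A'.FG ∧
      ∃ (V' : Set ↥(pullback f (Spec.map (CommRingCat.ofHom (algebraMap k ↥A'))))),
        IsOpen V' ∧ IsCompact V' ∧
        ∀ π : pullback f (Spec.map (CommRingCat.ofHom (algebraMap k A))) ⟶
            pullback f (Spec.map (CommRingCat.ofHom (algebraMap k ↥A'))),
          π ≫ pullback.fst _ _ = pullback.fst _ _ →
          π ≫ pullback.snd _ _ =
            pullback.snd _ _ ≫ Spec.map (CommRingCat.ofHom A'.val.toRingHom) →
            π.base ⁻¹' V' = V := by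
  classical
  choose c g hvg hgV using fun v : V => exists_piece (f := f) A V hV v.1 v.2
  obtain ⟨t, ht⟩ := hVc.elim_finite_subcover (fun v : V => (c v).piece A (g v))
    (fun v => (c v).isOpen_piece A (g v)) (fun v hv => Set.mem_iUnion.mpr ⟨⟨v, hv⟩, hvg ⟨v, hv⟩⟩)
  obtain ⟨A', hA', hmem⟩ := exists_fg_forall_mem_range (k := k) t (fun v => (c v).R) g
  choose! g' hg' using hmem
  refine ⟨A', hA', ⋃ v ∈ t, (c v).piece A' (g' v), ?_, ?_, ?_⟩
  · exact isOpen_biUnion fun v _ => (c v).isOpen_piece A' (g' v)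
  · exact t.isCompact_biUnion fun v _ => (c v).isCompact_piece A' (g' v)
  · intro π h1 h2
    rw [Set.preimage_iUnion₂]
    apply subset_antisymm
    · intro x hx
      obtain ⟨v, hv, hxv⟩ := Set.mem_iUnion₂.mp hx
      rw [preimage_piece A A' π h1 h2, hg' v hv] at hxv
      exact hgV v hxv
    · intro x hx
      obtain ⟨v, hv, hxv⟩ := Set.mem_iUnion₂.mp (ht hx)
      refine Set.mem_iUnion₂.mpr ⟨v, hv, ?_⟩
      rw [preimage_piece A A' π h1 h2, hg' v hv]
      exact hxv

end Groth.Agent.Lib.Helper11.DescOpen
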