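import Mathlib
import Groth.Prelude
import Groth.Agent.Lib.Helper11.DualDegA
import Groth.Agent.Lib.Helper17.CurveDualB
import Groth.Agent.Lib.Helper23.AmpleCurve6
import Groth.Agent.Lib.Helper23.Sat
import Groth.Agent.Lib.Helper23.GeomCurve
import Groth.Agent.Lib.Helper22.SmoothRed

/-!
# DualDegB: the degree of a dualizing module on a proper integral curve of genus zero with
`H⁰(O) = k` is `-1` or `-2`; an odd degree invertible module then yields one of degree one (helper11)
-/

set_option autoImplicit false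
set_option linter.style.haveILetI false
set_option linter.unusedSectionVars false
set_option linter.unusedVariables false
universe u
open CategoryTheory CategoryTheory.Limits AlgebraicGeometry TopologicalSpace Opposite
open Scheme.Modules

noncomputable section

namespace Groth.Agent.Lib.Helper11.DualDegB

open Groth.Agent.Lib.Helper3 Groth.Agent.Lib.Helper3.QCSec Groth.Agent.Lib.Helper3.InvGen
open Groth.Agent.Lib.Helper23.T2 Groth.Agent.Lib.Helper23.Curve Groth.Agent.Lib.Helper7.CurvePair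
  Groth.Agent.Lib.Helper23 Groth.Agent.Lib.Helper23.GlobFun Groth.Agent.Lib.Helper7.TwFun
  Groth.Agent.Lib.Helper11.DualDegA

variable (k : Type u) [Field k] {X : Scheme.{u}} [X.Over (Spec (CommRingCat.of k))]
  [IsIntegral X] [IsProper (X ↘ Spec (CommRingCat.of k))]

/-- smooth morphisms are geometrically reduced -/
theorem geomRed_of_smooth {X Y : Scheme.{u}} (f : X ⟶ Y) [Smooth f] : GeometricallyReduced f := by
  refine ⟨fun K _ y Z fst snd h => ?_⟩
  haveI : Smooth snd := MorphismProperty.of_isPullback (P := @Smooth) h inferInstance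
  exact Groth.Agent.Lib.Helper22.SmoothRed.isReduced_of_smooth snd

/-- `h¹(ω) ≤ 1` for an invertible dualizing module when `H⁰(O) = k`. -/
theorem finrank_h1_le_one (h0 : Module.finrank k (Coh.HH X (Coh.structureModule X) 0) = 1)
    {ω : X.Modules} (hωc : Coh.IsCoh ω) (hωi : PicF.IsInvertible ω)
    (t : Coh.HH X ω 1 →ₗ[k] k)
    (hd : ∀ F : X.Modules, Coh.IsCoh F → ∀ ψ : Coh.HH X F 1 →ₗ[k] k,
        ∃! φ : F ⟶ ω, ∀ x : Coh.HH X F 1,
          ψ x = t (Sheaf.H.map ((SheafOfModules.toSheaf X.ringCatSheaf).map φ) 1 x)) :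
    Module.finrank k (Coh.HH X ω 1) ≤ 1 := by
  haveI := isNoetherian_of_isProper k X
  haveI := finite_HH k ω hωc 1
  rw [← Subspace.dual_finrank_eq]
  refine finrank_le_one t (fun ψ => ?_)
  obtain ⟨φ, hφ, -⟩ := hd ω hωc ψ
  obtain ⟨r, hr⟩ := exists_eq_smulModΓ hωi φ
  obtain ⟨c, hc⟩ := Groth.Agent.Lib.Helper11.LinSerB.exists_const_of_h0_eq_one k h0 r
  refine ⟨c, ?_⟩
  ext x
  rw [hφ x, hr]
  have h1 : Sheaf.H.map ((SheafOfModules.toSheaf X.ringCatSheaf).map (Formal.smulModΓ ω r)) 1 x =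
      c • x := by
    rw [hc]
    rfl
  rw [h1, LinearMap.smul_apply, t.map_smul]

/-- `H⁰(ω) = 0` when `H¹(O) = 0`. -/
theorem subsingleton_h0 (h1 : Subsingleton (Coh.HH X (Coh.structureModule X) 1))
    {ω : X.Modules} (t : Coh.HH X ω 1 →ₗ[k] k)
    (hd : ∀ F : X.Modules, Coh.IsCoh F → ∀ ψ : Coh.HH X F 1 →ₗ[k] k,
        ∃! φ : F ⟶ ω, ∀ x : Coh.HH X F 1,
          ψ x = t (Sheaf.H.map ((SheafOfModules.toSheaf X.ringCatSheaf).map φ) 1 x)) :
    Subsingleton (Coh.HH X ω 0) := by
  haveI := isNoetherian_of_isProper k X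
  by_contra hne
  rw [not_subsingleton_iff_nontrivial] at hne
  obtain ⟨s, hs⟩ := exists_section_of_nontrivial ω hne
  exact Groth.Agent.Lib.Helper17.CurveDualB.not_subsingleton_of_hom_ne_zero t hd
    (T2.isCoh_structureModule X) s hs h1

/-- the degree of a dualizing module on a curve with `h⁰(O) = 1`, `h¹(O) = 0` is `-1` or `-2`. -/
theorem deg_dualizing (hdim : topologicalKrullDim X ≤ 1)
    (h0 : Module.finrank k (Coh.HH X (Coh.structureModule X) 0) = 1)
    (hg : Curv2.genus k X = 0)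
    {ω : X.Modules} (hωc : Coh.IsCoh ω) (hωi : PicF.IsInvertible ω)
    (t : Coh.HH X ω 1 →ₗ[k] k)
    (hd : ∀ F : X.Modules, Coh.IsCoh F → ∀ ψ : Coh.HH X F 1 →ₗ[k] k,
        ∃! φ : F ⟶ ω, ∀ x : Coh.HH X F 1,
          ψ x = t (Sheaf.H.map ((SheafOfModules.toSheaf X.ringCatSheaf).map φ) 1 x)) :
    Curv2.deg k X ω 1 = -1 ∨ Curv2.deg k X ω 1 = -2 := by
  have h1 := subsingleton_h1_of_genus_zero k hg
  haveI := subsingleton_h0 k h1 t hd
  have hle := finrank_h1_le_one k h0 hωc hωi t hd
  have hrr := riemann_roch k hdim h0 hωi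
  rw [hg, Module.finrank_zero_of_subsingleton] at hrr
  push_cast at hrr
  have hcases : Module.finrank k (Coh.HH X ω 1) = 0 ∨ Module.finrank k (Coh.HH X ω 1) = 1 := by
    omega
  rcases hcases with h | h
  · left
    rw [h] at hrr
    push_cast at hrr
    linarith
  · right
    rw [h] at hrr
    push_cast at hrr
    linarith

/-- degree of `L ⊗ N^{⊗m}` -/
theorem deg_tensor_pow (hdim : topologicalKrullDim X ≤ 1) {L N : X.Modules}
    (hL : PicF.IsInvertible L) (hN : PicF.IsInvertible N) (m : ℕ) :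
    Curv2.deg k X (CohB1.tensorMod L (CohB1.tensorPow N m)) 1 =
      Curv2.deg k X L 1 + m * Curv2.deg k X N 1 := by
  have h := DegTensor.deg_tw k hdim (isFinLocFreeOfRank_one_of_isInvertible hL)
    (InvTensor.isInvertible_tensorPow hN m)
  rw [h, AmpleCurve.deg_tensorPow k hdim hN m]
  push_cast
  ring

/-- the inverse has the opposite degree -/
theorem deg_inverse (hdim : topologicalKrullDim X ≤ 1) {L M : X.Modules}
    (hL : PicF.IsInvertible L) (hM : PicF.IsInvertible M) (e : ClSub.IsInverseOf L M) :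
    Curv2.deg k X M 1 = - Curv2.deg k X L 1 := by
  obtain ⟨e⟩ := e
  have h := DegTensor.deg_tw k hdim (isFinLocFreeOfRank_one_of_isInvertible hL) hM
  have h2 := Sat.deg_eq_of_iso k hdim e
    (isFinLocFreeOfRank_one_of_isInvertible (InvTensor.isInvertible_tensorMod hL hM))
  rw [h, DegTensor.deg_structureModule_one] at h2
  push_cast at h2
  linarith

/-- on a genus zero curve with a dualizing module, an invertible module of odd degree yields one
of degree one -/
theorem exists_deg_one (hdim : topologicalKrullDim X ≤ 1)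
    (h0 : Module.finrank k (Coh.HH X (Coh.structureModule X) 0) = 1)
    (hg : Curv2.genus k X = 0)
    {ω : X.Modules} (hωc : Coh.IsCoh ω) (hωi : PicF.IsInvertible ω)
    (t : Coh.HH X ω 1 →ₗ[k] k)
    (hd : ∀ F : X.Modules, Coh.IsCoh F → ∀ ψ : Coh.HH X F 1 →ₗ[k] k,
        ∃! φ : F ⟶ ω, ∀ x : Coh.HH X F 1,
          ψ x = t (Sheaf.H.map ((SheafOfModules.toSheaf X.ringCatSheaf).map φ) 1 x))
    {L : X.Modules} (hL : PicF.IsInvertible L) (hodd : Odd (Curv2.deg k X L 1)) :
    ∃ M : X.Modules, PicF.IsInvertible M ∧ Curv2.deg k X M 1 = 1 := by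
  obtain ⟨ω', hω'i, hinv⟩ := Inverse.exists_isInverseOf hωi
  have hdω' := deg_inverse k hdim hωi hω'i hinv
  rcases deg_dualizing k hdim h0 hg hωc hωi t hd with hdω | hdω
  · exact ⟨ω', hω'i, by rw [hdω', hdω]; norm_num⟩
  · obtain ⟨j, hj⟩ := hodd
    rcases le_or_gt 0 j with hj0 | hj0
    · refine ⟨CohB1.tensorMod L (CohB1.tensorPow ω j.toNat),
        InvTensor.isInvertible_tensorMod hL (InvTensor.isInvertible_tensorPow hωi _), ?_⟩
      rw [deg_tensor_pow k hdim hL hωi, hdω, hj]
      have : ((j.toNat : ℕ) : ℤ) = j := Int.toNat_of_nonneg hj0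
      rw [this]
      ring
    · refine ⟨CohB1.tensorMod L (CohB1.tensorPow ω' (-j).toNat),
        InvTensor.isInvertible_tensorMod hL (InvTensor.isInvertible_tensorPow hω'i _), ?_⟩
      rw [deg_tensor_pow k hdim hL hω'i, hdω', hdω, hj]
      have : (((-j).toNat : ℕ) : ℤ) = -j := Int.toNat_of_nonneg (by omega)
      rw [this]
      ring

end Groth.Agent.Lib.Helper11.DualDegB
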