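import Mathlib
import Groth.Prelude.Def_Grpd

/-!
# A groupoid scheme from a monomorphic equivalence relation (helper11)
-/

set_option autoImplicit false
universe u

open CategoryTheory CategoryTheory.Limits AlgebraicGeometry

namespace Groth.Agent.Lib.Helper11.ER1

variable {S X R : Scheme.{u}} (pU : X ⟶ S) (ι : R ⟶ pullback pU pU)

theorem cond_c : (pullback.fst (ι ≫ pullback.snd pU pU) (ι ≫ pullback.fst pU pU) ≫ ι ≫
      pullback.fst pU pU) ≫ pU =
    (pullback.snd (ι ≫ pullback.snd pU pU) (ι ≫ pullback.fst pU pU) ≫ ι ≫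
      pullback.snd pU pU) ≫ pU := by
  have h := pullback.condition (f := ι ≫ pullback.snd pU pU) (g := ι ≫ pullback.fst pU pU)
  simp only [Category.assoc]
  rw [pullback.condition (f := pU) (g := pU)]
  rw [← Category.assoc ι, ← Category.assoc (pullback.fst _ _), h]
  simp only [Category.assoc]
  rw [pullback.condition (f := pU) (g := pU)]

/-- reflexivity, symmetry and transitivity of a relation `ι : R ⟶ X ×_S X` -/
structure EqvData where
  e : X ⟶ R
  he : e ≫ ι = pullback.lift (𝟙 X) (𝟙 X) rfl
  i : R ⟶ R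
  hi : i ≫ ι = ι ≫ pullback.lift (pullback.snd pU pU) (pullback.fst pU pU)
    pullback.condition.symm
  c : pullback (ι ≫ pullback.snd pU pU) (ι ≫ pullback.fst pU pU) ⟶ R
  hc : c ≫ ι = pullback.lift
    (pullback.fst (ι ≫ pullback.snd pU pU) (ι ≫ pullback.fst pU pU) ≫ ι ≫ pullback.fst pU pU)
    (pullback.snd (ι ≫ pullback.snd pU pU) (ι ≫ pullback.fst pU pU) ≫ ι ≫ pullback.snd pU pU)
    (cond_c pU ι)

variable {pU ι} (D : EqvData pU ι)

namespace EqvData

@[reassoc]
theorem e_fst : D.e ≫ ι ≫ pullback.fst pU pU = 𝟙 X := by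
  rw [← Category.assoc, D.he, pullback.lift_fst]

@[reassoc]
theorem e_snd : D.e ≫ ι ≫ pullback.snd pU pU = 𝟙 X := by
  rw [← Category.assoc, D.he, pullback.lift_snd]

@[reassoc]
theorem i_fst : D.i ≫ ι ≫ pullback.fst pU pU = ι ≫ pullback.snd pU pU := by
  rw [← Category.assoc, D.hi, Category.assoc, pullback.lift_fst]

@[reassoc]
theorem i_snd : D.i ≫ ι ≫ pullback.snd pU pU = ι ≫ pullback.fst pU pU := by
  rw [← Category.assoc, D.hi, Category.assoc, pullback.lift_snd]

@[reassoc]
theorem c_fst : D.c ≫ ι ≫ pullback.fst pU pU =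
    pullback.fst (ι ≫ pullback.snd pU pU) (ι ≫ pullback.fst pU pU) ≫ ι ≫ pullback.fst pU pU := by
  rw [← Category.assoc, D.hc, pullback.lift_fst]

@[reassoc]
theorem c_snd : D.c ≫ ι ≫ pullback.snd pU pU =
    pullback.snd (ι ≫ pullback.snd pU pU) (ι ≫ pullback.fst pU pU) ≫ ι ≫ pullback.snd pU pU := by
  rw [← Category.assoc, D.hc, pullback.lift_snd]

end EqvData

theorem ext_R [Mono ι] {T : Scheme.{u}} (a b : T ⟶ R)
    (h1 : a ≫ ι ≫ pullback.fst pU pU = b ≫ ι ≫ pullback.fst pU pU)
    (h2 : a ≫ ι ≫ pullback.snd pU pU = b ≫ ι ≫ pullback.snd pU pU) : a = b := by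
  rw [← cancel_mono ι]
  apply pullback.hom_ext
  · simpa only [Category.assoc] using h1
  · simpa only [Category.assoc] using h2

open EqvData in
/-- the groupoid scheme of an equivalence relation -/
noncomputable abbrev toGrpd [Mono ι] : Grpd.GroupoidScheme S where
  U := X
  R := R
  pU := pU
  pR := ι ≫ pullback.fst pU pU ≫ pU
  s := ι ≫ pullback.snd pU pU
  t := ι ≫ pullback.fst pU pU
  e := D.e
  i := D.i
  c := D.c
  s_over := by rw [Category.assoc, pullback.condition]
  t_over := by rw [Category.assoc]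
  comp_s := fun α β h => by
    simp only [Category.assoc, c_snd, pullback.lift_snd_assoc]
  comp_t := fun α β h => by
    simp only [Category.assoc, c_fst, pullback.lift_fst_assoc]
  assoc := fun α β γ h₁ h₂ => by
    apply ext_R (pU := pU) (ι := ι)
    · simp only [Category.assoc, c_fst, pullback.lift_fst_assoc]
    · simp only [Category.assoc, c_snd, pullback.lift_snd_assoc]
  e_s := e_snd D
  e_t := e_fst D
  comp_e := fun α => by
    apply ext_R (pU := pU) (ι := ι)
    · simp only [Category.assoc, c_fst, pullback.lift_fst_assoc]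
    · simp only [Category.assoc, c_snd, pullback.lift_snd_assoc, e_snd, Category.comp_id]
  e_comp := fun α => by
    apply ext_R (pU := pU) (ι := ι)
    · simp only [Category.assoc, c_fst, pullback.lift_fst_assoc, e_fst, Category.comp_id]
    · simp only [Category.assoc, c_snd, pullback.lift_snd_assoc]
  i_s := i_snd D
  i_t := i_fst D
  comp_i := fun α => by
    apply ext_R (pU := pU) (ι := ι)
    · simp only [Category.assoc, c_fst, pullback.lift_fst_assoc, e_fst, Category.comp_id]
    · simp only [Category.assoc, c_snd, pullback.lift_snd_assoc, i_snd, e_snd, Category.comp_id]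
  i_comp := fun α => by
    apply ext_R (pU := pU) (ι := ι)
    · simp only [Category.assoc, c_fst, pullback.lift_fst_assoc, i_fst, e_fst, Category.comp_id]
    · simp only [Category.assoc, c_snd, pullback.lift_snd_assoc, e_snd, Category.comp_id]

theorem toGrpd_j [Mono ι] : (toGrpd D).j = ι := by
  apply pullback.hom_ext
  · exact pullback.lift_fst _ _ _
  · exact pullback.lift_snd _ _ _

instance mono_j [h : Mono ι] : Mono (toGrpd D).j := by
  rw [toGrpd_j]; exact h

end Groth.Agent.Lib.Helper11.ER1
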