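import Mathlib
import Groth.Agent.Lib.Helper11.ER1

/-!
# The union of the graphs of a finite group acting on a scheme with open diagonal (helper11)
-/

set_option autoImplicit false
universe u

open CategoryTheory CategoryTheory.Limits AlgebraicGeometry TopologicalSpace

namespace Groth.Agent.Lib.Helper11.ER2

variable {X Y : Scheme.{u}} {G : Type u} [Group G] (ρ : G →* Aut X) (f : X ⟶ Y)
  (hρ : ∀ g : G, (ρ g).hom ≫ f = f)

theorem ρ_mul_hom (g h : G) : (ρ (g * h)).hom = (ρ h).hom ≫ (ρ g).hom := by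
  rw [map_mul]; rfl

theorem ρ_one_hom : (ρ 1).hom = 𝟙 X := by
  rw [map_one]; rfl

theorem ρ_inv_hom (g : G) : (ρ g).hom ≫ (ρ g⁻¹).hom = 𝟙 X := by
  rw [← ρ_mul_hom, inv_mul_cancel, ρ_one_hom]

/-- the graph of `g` -/
noncomputable def γ (g : G) : X ⟶ pullback f f :=
  pullback.lift (ρ g).hom (𝟙 X) (by rw [hρ g, Category.id_comp])

@[reassoc (attr := simp)]
theorem γ_fst (g : G) : γ ρ f hρ g ≫ pullback.fst f f = (ρ g).hom := pullback.lift_fst _ _ _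

@[reassoc (attr := simp)]
theorem γ_snd (g : G) : γ ρ f hρ g ≫ pullback.snd f f = 𝟙 X := pullback.lift_snd _ _ _

theorem γ_eq (g : G) : γ ρ f hρ g = pullback.diagonal f ≫
    pullback.map f f f f (ρ g).hom (𝟙 X) (𝟙 Y) (by rw [Category.comp_id, hρ g]) (by simp) := by
  apply pullback.hom_ext
  · rw [γ_fst, Category.assoc, pullback.lift_fst, ← Category.assoc, pullback.diagonal_fst,
      Category.id_comp]
  · rw [γ_snd, Category.assoc, pullback.lift_snd, ← Category.assoc, pullback.diagonal_snd,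
      Category.id_comp]

/-- the swap of the two factors -/
noncomputable def swap : pullback f f ⟶ pullback f f :=
  pullback.lift (pullback.snd f f) (pullback.fst f f) pullback.condition.symm

theorem γ_swap (g : G) : γ ρ f hρ g ≫ swap f = (ρ g).hom ≫ γ ρ f hρ g⁻¹ := by
  apply pullback.hom_ext
  · rw [swap, Category.assoc, pullback.lift_fst, γ_snd, Category.assoc, γ_fst, ρ_inv_hom]
  · rw [swap, Category.assoc, pullback.lift_snd, γ_fst, Category.assoc, γ_snd, Category.comp_id]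

theorem γ_one : γ ρ f hρ 1 = pullback.lift (𝟙 X) (𝟙 X) rfl := by
  apply pullback.hom_ext
  · rw [γ_fst, pullback.lift_fst, ρ_one_hom]
  · rw [γ_snd, pullback.lift_snd]

variable [hd : IsOpenImmersion (pullback.diagonal f)]

instance isOpenImmersion_γ (g : G) : IsOpenImmersion (γ ρ f hρ g) := by
  rw [γ_eq]; infer_instance

/-- the union of the graphs -/
noncomputable def R : (pullback f f).Opens := ⨆ g : G, (γ ρ f hρ g).opensRange

theorem mem_R_iff (z : ↥(pullback f f)) :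
    z ∈ R ρ f hρ ↔ ∃ g : G, z ∈ Set.range (γ ρ f hρ g) := by
  rw [R, Opens.mem_iSup]; exact Iff.rfl

/-- a point of `X ×_Y X` lies in the union of the graphs -/
def InR {T : Scheme.{u}} (a : T ⟶ pullback f f) : Prop :=
  ∀ x : T, ∃ g : G, a x ∈ Set.range (γ ρ f hρ g)

/-- lifting to the union of the graphs -/
noncomputable def liftR {T : Scheme.{u}} (a : T ⟶ pullback f f) (ha : InR ρ f hρ a) :
    T ⟶ (R ρ f hρ).toScheme :=
  IsOpenImmersion.lift (R ρ f hρ).ι a (by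
    rintro _ ⟨x, rfl⟩
    rw [Scheme.Opens.range_ι]
    exact (mem_R_iff ρ f hρ _).mpr (ha x))

@[reassoc (attr := simp)]
theorem liftR_ι {T : Scheme.{u}} (a : T ⟶ pullback f f) (ha : InR ρ f hρ a) :
    liftR ρ f hρ a ha ≫ (R ρ f hρ).ι = a := IsOpenImmersion.lift_fac _ _ _

theorem inR_ι {T : Scheme.{u}} (a : T ⟶ (R ρ f hρ).toScheme) :
    InR ρ f hρ (a ≫ (R ρ f hρ).ι) := by
  intro x
  apply (mem_R_iff ρ f hρ _).mp
  rw [Scheme.Hom.comp_apply]
  exact (a x).2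

theorem exists_local {T : Scheme.{u}} (a : T ⟶ pullback f f) (ha : InR ρ f hρ a) (x : T) :
    ∃ (g : G) (W : T.Opens) (u : W.toScheme ⟶ X), x ∈ W ∧ W.ι ≫ a = u ≫ γ ρ f hρ g := by
  obtain ⟨g, hg⟩ := ha x
  refine ⟨g, a ⁻¹ᵁ (γ ρ f hρ g).opensRange,
    IsOpenImmersion.lift (γ ρ f hρ g) ((a ⁻¹ᵁ (γ ρ f hρ g).opensRange).ι ≫ a) ?_, hg,
    (IsOpenImmersion.lift_fac _ _ _).symm⟩
  rintro _ ⟨y, rfl⟩
  rw [Scheme.Hom.comp_apply]
  exact y.2

theorem inR_of_local {T : Scheme.{u}} (a : T ⟶ pullback f f)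
    (h : ∀ x : T, ∃ (g : G) (W : T.Opens) (u : W.toScheme ⟶ X),
      x ∈ W ∧ W.ι ≫ a = u ≫ γ ρ f hρ g) : InR ρ f hρ a := by
  intro x
  obtain ⟨g, W, u, hx, hu⟩ := h x
  refine ⟨g, u ⟨x, hx⟩, ?_⟩
  have h2 : (u ≫ γ ρ f hρ g) ⟨x, hx⟩ = (W.ι ≫ a) ⟨x, hx⟩ := by rw [hu]
  rw [Scheme.Hom.comp_apply, Scheme.Hom.comp_apply] at h2
  exact h2

theorem inR_swap {T : Scheme.{u}} (a : T ⟶ pullback f f) (ha : InR ρ f hρ a) :
    InR ρ f hρ (a ≫ swap f) := by
  apply inR_of_local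
  intro x
  obtain ⟨g, W, u, hx, hu⟩ := exists_local ρ f hρ a ha x
  exact ⟨g⁻¹, W, u ≫ (ρ g).hom, hx, by
    rw [← Category.assoc, hu, Category.assoc, γ_swap, Category.assoc]⟩

theorem inR_trans {T : Scheme.{u}} (a b : T ⟶ (R ρ f hρ).toScheme)
    (hab : a ≫ (R ρ f hρ).ι ≫ pullback.snd f f = b ≫ (R ρ f hρ).ι ≫ pullback.fst f f)
    (h : (a ≫ (R ρ f hρ).ι ≫ pullback.fst f f) ≫ f =
      (b ≫ (R ρ f hρ).ι ≫ pullback.snd f f) ≫ f) :
    InR ρ f hρ (pullback.lift (a ≫ (R ρ f hρ).ι ≫ pullback.fst f f)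
      (b ≫ (R ρ f hρ).ι ≫ pullback.snd f f) h) := by
  apply inR_of_local
  intro x
  obtain ⟨g, Wa, ua, hxa, hua⟩ := exists_local ρ f hρ _ (inR_ι ρ f hρ a) x
  obtain ⟨k, Wb, ub, hxb, hub⟩ := exists_local ρ f hρ _ (inR_ι ρ f hρ b) x
  let W : T.Opens := Wa ⊓ Wb
  let u : W.toScheme ⟶ X := T.homOfLE (inf_le_left : W ≤ Wa) ≫ ua
  let v : W.toScheme ⟶ X := T.homOfLE (inf_le_right : W ≤ Wb) ≫ ub
  have e1 : W.ι ≫ a ≫ (R ρ f hρ).ι = u ≫ γ ρ f hρ g := by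
    rw [← T.homOfLE_ι (inf_le_left : W ≤ Wa), Category.assoc, hua, ← Category.assoc]
  have e2 : W.ι ≫ b ≫ (R ρ f hρ).ι = v ≫ γ ρ f hρ k := by
    rw [← T.homOfLE_ι (inf_le_right : W ≤ Wb), Category.assoc, hub, ← Category.assoc]
  have e3 : u = v ≫ (ρ k).hom := by
    calc u = u ≫ γ ρ f hρ g ≫ pullback.snd f f := by rw [γ_snd, Category.comp_id]
      _ = W.ι ≫ a ≫ (R ρ f hρ).ι ≫ pullback.snd f f := by
          rw [← Category.assoc u, ← e1]; simp only [Category.assoc]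
      _ = W.ι ≫ b ≫ (R ρ f hρ).ι ≫ pullback.fst f f := by rw [hab]
      _ = (v ≫ γ ρ f hρ k) ≫ pullback.fst f f := by rw [← e2]; simp only [Category.assoc]
      _ = v ≫ (ρ k).hom := by rw [Category.assoc, γ_fst]
  refine ⟨g * k, W, v, ⟨hxa, hxb⟩, ?_⟩
  apply pullback.hom_ext
  · rw [Category.assoc, pullback.lift_fst, Category.assoc, γ_fst, ρ_mul_hom, ← Category.assoc v,
      ← e3]
    calc W.ι ≫ a ≫ (R ρ f hρ).ι ≫ pullback.fst f f
        = (W.ι ≫ a ≫ (R ρ f hρ).ι) ≫ pullback.fst f f := by simp only [Category.assoc]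
      _ = u ≫ (ρ g).hom := by rw [e1, Category.assoc, γ_fst]
  · rw [Category.assoc, pullback.lift_snd, Category.assoc, γ_snd, Category.comp_id]
    calc W.ι ≫ b ≫ (R ρ f hρ).ι ≫ pullback.snd f f
        = (W.ι ≫ b ≫ (R ρ f hρ).ι) ≫ pullback.snd f f := by simp only [Category.assoc]
      _ = v := by rw [e2, Category.assoc, γ_snd, Category.comp_id]

/-- the equivalence relation data of the union of the graphs -/
noncomputable def data : ER1.EqvData f (R ρ f hρ).ι where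
  e := liftR ρ f hρ (γ ρ f hρ 1) (fun x => ⟨1, x, rfl⟩)
  he := by rw [liftR_ι, γ_one]
  i := liftR ρ f hρ ((R ρ f hρ).ι ≫ swap f) (inR_swap ρ f hρ _ (by
    simpa using inR_ι ρ f hρ (𝟙 (R ρ f hρ).toScheme)))
  hi := liftR_ι ρ f hρ _ _
  c := liftR ρ f hρ _ (inR_trans ρ f hρ
    (pullback.fst ((R ρ f hρ).ι ≫ pullback.snd f f) ((R ρ f hρ).ι ≫ pullback.fst f f))
    (pullback.snd ((R ρ f hρ).ι ≫ pullback.snd f f) ((R ρ f hρ).ι ≫ pullback.fst f f))
    pullback.condition (ER1.cond_c f (R ρ f hρ).ι))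
  hc := liftR_ι ρ f hρ _ _

/-- the groupoid scheme of the union of the graphs -/
noncomputable abbrev grpd : Grpd.GroupoidScheme Y := ER1.toGrpd (data ρ f hρ)

instance : Mono (grpd ρ f hρ).j := ER1.mono_j (data ρ f hρ)

theorem grpd_s : (grpd ρ f hρ).s = (R ρ f hρ).ι ≫ pullback.snd f f := rfl

theorem grpd_t : (grpd ρ f hρ).t = (R ρ f hρ).ι ≫ pullback.fst f f := rfl

/-- the graph of `g` as a map to the union of the graphs -/
noncomputable def γ' (g : G) : X ⟶ (R ρ f hρ).toScheme :=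
  liftR ρ f hρ (γ ρ f hρ g) (fun x => ⟨g, x, rfl⟩)

@[reassoc (attr := simp)]
theorem γ'_ι (g : G) : γ' ρ f hρ g ≫ (R ρ f hρ).ι = γ ρ f hρ g := liftR_ι ρ f hρ _ _

instance isOpenImmersion_γ' (g : G) : IsOpenImmersion (γ' ρ f hρ g) := by
  haveI : IsOpenImmersion (γ' ρ f hρ g ≫ (R ρ f hρ).ι) := by rw [γ'_ι]; infer_instance
  exact IsOpenImmersion.of_comp _ (R ρ f hρ).ι

theorem γ'_s (g : G) : γ' ρ f hρ g ≫ (R ρ f hρ).ι ≫ pullback.snd f f = 𝟙 X := by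
  rw [γ'_ι_assoc, γ_snd]

theorem γ'_t (g : G) : γ' ρ f hρ g ≫ (R ρ f hρ).ι ≫ pullback.fst f f = (ρ g).hom := by
  rw [γ'_ι_assoc, γ_fst]

theorem γ'_cover (r : (R ρ f hρ).toScheme) : ∃ (g : G) (x : X), γ' ρ f hρ g x = r := by
  obtain ⟨g, x, hx⟩ := (mem_R_iff ρ f hρ r.1).mp r.2
  refine ⟨g, x, ?_⟩
  apply (R ρ f hρ).ι.isOpenEmbedding.injective
  rw [← Scheme.Hom.comp_apply, γ'_ι]
  exact hx

/-- the open cover of the union of the graphs by the graphs -/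
noncomputable def cover : (R ρ f hρ).toScheme.OpenCover :=
  Scheme.Cover.mkOfCovers G (fun _ => X) (γ' ρ f hρ) (γ'_cover ρ f hρ)

theorem hom_ext_R {Z : Scheme.{u}} (a b : (R ρ f hρ).toScheme ⟶ Z)
    (h : ∀ g : G, γ' ρ f hρ g ≫ a = γ' ρ f hρ g ≫ b) : a = b :=
  Scheme.Cover.hom_ext (cover ρ f hρ) a b h

end Groth.Agent.Lib.Helper11.ER2
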