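import Mathlib

set_option autoImplicit false

namespace Groth.Agent.Lib.Helper11.SD1

open CategoryTheory CategoryTheory.Limits AlgebraicGeometry

universe u

/-- A finite coproduct of finite morphisms is finite. -/
theorem isFinite_sigmaDesc_aux (ι : Type u) [Finite ι] :
    ∀ (Y : ι → Scheme.{u}) (X : Scheme.{u}) (f : ∀ i, Y i ⟶ X),
      (∀ i, IsFinite (f i)) → IsFinite (Sigma.desc f) := by
  refine Finite.induction_empty_option
    (P := fun ι : Type u => ∀ (Y : ι → Scheme.{u}) (X : Scheme.{u}) (f : ∀ i, Y i ⟶ X),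
      (∀ i, IsFinite (f i)) → IsFinite (Sigma.desc f)) ?_ ?_ ?_ ι
  · intro α β e ih Y X f hf
    have h1 : IsFinite (Sigma.desc fun a => f (e a)) :=
      ih (fun a => Y (e a)) X (fun a => f (e a)) (fun a => hf _)
    have h2 : (Sigma.reindex e Y).hom ≫ Sigma.desc f = Sigma.desc fun a => f (e a) := by
      refine Sigma.hom_ext _ _ fun a => ?_
      rw [Sigma.ι_reindex_hom_assoc, Sigma.ι_desc, Sigma.ι_desc]
    have h3 : IsFinite ((Sigma.reindex e Y).hom ≫ Sigma.desc f) := by
      rw [h2]; exact h1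
    exact (MorphismProperty.cancel_left_of_respectsIso @IsFinite _ _).mp h3
  · intro Y X f hf
    have : IsEmpty ↥(∐ Y) := by
      refine ⟨fun x => ?_⟩
      obtain ⟨i, _⟩ := (sigmaOpenCover Y).exists_eq x
      exact i.elim
    infer_instance
  · intro α _ ih Y X f hf
    have h1 : IsFinite (Sigma.desc fun a => f (some a)) :=
      ih (fun a => Y (some a)) X (fun a => f (some a)) (fun a => hf _)
    have h0 : IsFinite (f none) := hf none
    let fwd : (∐ fun a => Y (some a)) ⨿ Y none ⟶ ∐ Y :=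
      coprod.desc (Sigma.desc fun a => Sigma.ι Y (some a)) (Sigma.ι Y none)
    let bc : ∀ o : Option α, Y o ⟶ (∐ fun a => Y (some a)) ⨿ Y none := fun o =>
      match o with
        | some a => Sigma.ι (fun a => Y (some a)) a ≫ coprod.inl
        | none => coprod.inr
    let bwd : ∐ Y ⟶ (∐ fun a => Y (some a)) ⨿ Y none := Sigma.desc bc
    have hbf : bwd ≫ fwd = 𝟙 _ := by
      refine Sigma.hom_ext _ _ fun o => ?_
      cases o with
      | none =>
        have : bc none = coprod.inr := rfl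
        simp only [bwd, fwd, Sigma.ι_desc_assoc, this, coprod.inr_desc, Category.comp_id]
      | some a =>
        have : bc (some a) = Sigma.ι (fun a => Y (some a)) a ≫ coprod.inl := rfl
        simp only [bwd, fwd, Sigma.ι_desc_assoc, this, Category.assoc, coprod.inl_desc,
          Sigma.ι_desc, Category.comp_id]
    have h2 : fwd ≫ Sigma.desc f = coprod.desc (Sigma.desc fun a => f (some a)) (f none) := by
      refine coprod.hom_ext ?_ ?_
      · refine Sigma.hom_ext _ _ fun a => ?_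
        simp only [fwd, coprod.inl_desc_assoc, coprod.inl_desc, Sigma.ι_desc_assoc, Sigma.ι_desc]
      · simp only [fwd, coprod.inr_desc_assoc, coprod.inr_desc, Sigma.ι_desc]
    have h3 : Sigma.desc f = bwd ≫ coprod.desc (Sigma.desc fun a => f (some a)) (f none) := by
      rw [← h2, reassoc_of% hbf]
    have hfb : fwd ≫ bwd = 𝟙 _ := by
      refine coprod.hom_ext ?_ ?_
      · refine Sigma.hom_ext _ _ fun a => ?_
        have : bc (some a) = Sigma.ι (fun a => Y (some a)) a ≫ coprod.inl := rfl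
        simp only [bwd, fwd, coprod.inl_desc_assoc, Sigma.ι_desc_assoc, Sigma.ι_desc, this,
          Category.comp_id]
      · have : bc none = coprod.inr := rfl
        simp only [bwd, fwd, coprod.inr_desc_assoc, Sigma.ι_desc, this, Category.comp_id]
    have : IsIso bwd := ⟨fwd, hbf, hfb⟩
    have h4 : IsFinite (coprod.desc (Sigma.desc fun a => f (some a)) (f none)) := inferInstance
    rw [h3]
    exact (MorphismProperty.cancel_left_of_respectsIso @IsFinite _ _).mpr h4

theorem isFinite_sigmaDesc {ι : Type u} [Finite ι] {Y : ι → Scheme.{u}} {X : Scheme.{u}}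
    (f : ∀ i, Y i ⟶ X) [∀ i, IsFinite (f i)] : IsFinite (Sigma.desc f) :=
  isFinite_sigmaDesc_aux ι Y X f inferInstance

theorem main' {X S Y : Scheme.{u}} (q : X ⟶ S) [IsFinite q] {G : Type u} [Group G] [Finite G]
    (ρ : G →* Aut X)
    (htrans : ∀ (Ω : Type u) [Field Ω] [IsAlgClosed Ω] (τ₁ τ₂ : Spec (CommRingCat.of Ω) ⟶ X),
      τ₁ ≫ q = τ₂ ≫ q → ∃ g : G, τ₁ ≫ (ρ g).hom = τ₂)
    (r : Y ⟶ X) (p : Y ⟶ S) (hp : r ≫ q = p) (υ : (∐ fun _ : G => Y) ⟶ pullback p q)
    (hυ₁ : ∀ σ : G, Sigma.ι (fun _ : G => Y) σ ≫ υ ≫ pullback.fst p q = 𝟙 Y)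
    (hυ₂ : ∀ σ : G, Sigma.ι (fun _ : G => Y) σ ≫ υ ≫ pullback.snd p q = r ≫ (ρ σ).hom) :
    IsFinite υ ∧ Surjective υ := by
  constructor
  · have h1 : υ ≫ pullback.fst p q = Sigma.desc (fun _ : G => 𝟙 Y) := by
      refine Sigma.hom_ext _ _ fun σ => ?_
      rw [hυ₁, Sigma.ι_desc]
    have h2 : IsFinite (υ ≫ pullback.fst p q) := by
      rw [h1]
      exact isFinite_sigmaDesc_aux G _ _ _ (fun _ => inferInstance)
    exact IsFinite.of_comp υ (pullback.fst p q)
  · refine ⟨fun z => ?_⟩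
    let K := (pullback p q).residueField z
    let Ω := AlgebraicClosure K
    let τ : Spec (CommRingCat.of Ω) ⟶ pullback p q :=
      Spec.map (CommRingCat.ofHom (algebraMap K Ω)) ≫
        (pullback p q).fromSpecResidueField z
    obtain ⟨g, hg⟩ := htrans Ω (τ ≫ pullback.fst _ _ ≫ r) (τ ≫ pullback.snd _ _) (by
      simp only [Category.assoc]; rw [hp, pullback.condition])
    have h3 : τ = (τ ≫ pullback.fst _ _) ≫ Sigma.ι (fun _ : G => Y) g ≫ υ := by
      refine pullback.hom_ext ?_ ?_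
      · simp only [Category.assoc]; rw [hυ₁, Category.comp_id]
      · simp only [Category.assoc]; rw [hυ₂, ← hg]; simp only [Category.assoc]
    let pt : Spec (CommRingCat.of Ω) := IsLocalRing.closedPoint Ω
    refine ⟨((τ ≫ pullback.fst _ _) ≫ Sigma.ι (fun _ : G => Y) g) pt, ?_⟩
    have h4 : τ pt = z := by
      change ((pullback p q).fromSpecResidueField z) _ = z
      exact Scheme.fromSpecResidueField_apply z _
    have h5 : υ (((τ ≫ pullback.fst _ _) ≫ Sigma.ι (fun _ : G => Y) g) pt) = τ pt := by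
      conv_rhs => rw [h3]
      rw [← Scheme.Hom.comp_apply]
      simp only [Category.assoc]
    exact h5.trans h4

theorem main {X S Y : Scheme.{u}} (q : X ⟶ S) [IsFinite q] {G : Type u} [Group G] [Finite G]
    (ρ : G →* Aut X)
    (htrans : ∀ (Ω : Type u) [Field Ω] [IsAlgClosed Ω] (τ₁ τ₂ : Spec (CommRingCat.of Ω) ⟶ X),
      τ₁ ≫ q = τ₂ ≫ q → ∃ g : G, τ₁ ≫ (ρ g).hom = τ₂)
    (r : Y ⟶ X) (υ : (∐ fun _ : G => Y) ⟶ pullback (r ≫ q) q)
    (hυ₁ : ∀ σ : G, Sigma.ι (fun _ : G => Y) σ ≫ υ ≫ pullback.fst (r ≫ q) q = 𝟙 Y)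
    (hυ₂ : ∀ σ : G, Sigma.ι (fun _ : G => Y) σ ≫ υ ≫ pullback.snd (r ≫ q) q = r ≫ (ρ σ).hom) :
    IsFinite υ ∧ Surjective υ :=
  main' q ρ htrans r (r ≫ q) rfl υ hυ₁ hυ₂

end Groth.Agent.Lib.Helper11.SD1
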