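import Mathlib
import Groth.Agent.Lib.Helper11.ER2
import Groth.Agent.Lib.Helper11.GQ7e
import Groth.Agent.Lib.Helper11.SD1
import Groth.Agent.Lib.Helper5.GroupQuot

/-!
# The quotient of an étale separated scheme by a finite group: the quotient map is étale (helper11)
-/

set_option autoImplicit false
universe u

open CategoryTheory CategoryTheory.Limits AlgebraicGeometry TopologicalSpace
open Groth.Agent.Lib.Helper11.GQ2 Groth.Agent.Lib.Helper11.GQ3 Groth.Agent.Lib.Helper11.GQ7b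
  Groth.Agent.Lib.Helper11.ER2 Groth.Agent.Lib.Helper5

namespace Groth.Agent.Lib.Helper11.ER3

theorem appLE_congr_hom' {X Y : Scheme.{u}} {f f' : X ⟶ Y} (h : f = f') (U : Y.Opens) (V : X.Opens)
    (e : V ≤ f ⁻¹ᵁ U) (e' : V ≤ f' ⁻¹ᵁ U) : f.appLE U V e = f'.appLE U V e' := by
  subst h; rfl

theorem id_appLE_self {X : Scheme.{u}} (W : X.Opens) (e : W ≤ (𝟙 X) ⁻¹ᵁ W) :
    (𝟙 X : X ⟶ X).appLE W W e = 𝟙 _ := by
  show (𝟙 X : X ⟶ X).app W ≫ X.presheaf.map (homOfLE e).op = 𝟙 _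
  rw [Scheme.Hom.id_app]
  exact (Category.id_comp _).trans (X.presheaf.map_id _)

variable {X Y X' : Scheme.{u}} {G : Type u} [Group G] [Finite G] (ρ : G →* Aut X) (f : X ⟶ Y)
  (hρ : ∀ g : G, (ρ g).hom ≫ f = f) [Etale f] [IsSeparated f]

theorem etale_s : Etale (grpd ρ f hρ).s := by
  show Etale ((R ρ f hρ).ι ≫ pullback.snd f f)
  infer_instance

theorem etale_t : Etale (grpd ρ f hρ).t := by
  show Etale ((R ρ f hρ).ι ≫ pullback.fst f f)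
  infer_instance

theorem isFinite_s : IsFinite (grpd ρ f hρ).s := by
  show IsFinite ((R ρ f hρ).ι ≫ pullback.snd f f)
  set s := (R ρ f hρ).ι ≫ pullback.snd f f with hs
  let Υ : (∐ fun _ : G => X) ⟶ (R ρ f hρ).toScheme := Sigma.desc (γ' ρ f hρ)
  have hΥs : Υ ≫ s = Sigma.desc (fun _ : G => 𝟙 X) := by
    apply Sigma.hom_ext
    intro g
    rw [← Category.assoc, Sigma.ι_desc, Sigma.ι_desc]
    exact γ'_s ρ f hρ g
  have hsurj : Surjective Υ := ⟨fun r => by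
    obtain ⟨g, x, hx⟩ := γ'_cover ρ f hρ r
    refine ⟨(Sigma.ι (fun _ : G => X) g) x, ?_⟩
    rw [← Scheme.Hom.comp_apply, Sigma.ι_desc]
    exact hx⟩
  haveI : IsFinite (Sigma.desc (fun _ : G => 𝟙 X)) := SD1.isFinite_sigmaDesc _
  haveI : UniversallyClosed (Υ ≫ s) := by rw [hΥs]; infer_instance
  haveI : UniversallyClosed s := UniversallyClosed.of_comp_surjective Υ s
  haveI : Etale s := inferInstance
  haveI : IsSeparated s := inferInstance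
  haveI : LocallyOfFiniteType s := inferInstance
  haveI : IsProper s := {}
  haveI : LocallyQuasiFinite s := by
    refine LocallyQuasiFinite.of_finite_preimage_singleton s (fun x => ?_)
    refine (Set.finite_range (fun g : G => γ' ρ f hρ g x)).subset ?_
    intro r hr
    obtain ⟨g, x', hx'⟩ := γ'_cover ρ f hρ r
    refine ⟨g, ?_⟩
    have h1 : s r = x := hr
    rw [← hx', ← Scheme.Hom.comp_apply, γ'_s] at h1
    have h2 : x' = x := h1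
    rw [← h2]
    exact hx'
  exact IsFinite.of_isProper_of_locallyQuasiFinite s

theorem γ'_s' (g : G) : γ' ρ f hρ g ≫ (grpd ρ f hρ).s = 𝟙 X := γ'_s ρ f hρ g

theorem γ'_t' (g : G) : γ' ρ f hρ g ≫ (grpd ρ f hρ).t = (ρ g).hom := γ'_t ρ f hρ g

variable (p : X ⟶ X')

theorem w (hinv : ∀ g : G, (ρ g).hom ≫ p = p) :
    (grpd ρ f hρ).t ≫ p = (grpd ρ f hρ).s ≫ p := by
  apply hom_ext_R ρ f hρ
  intro g
  calc γ' ρ f hρ g ≫ (grpd ρ f hρ).t ≫ p = (γ' ρ f hρ g ≫ (grpd ρ f hρ).t) ≫ p :=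
        (Category.assoc _ _ _).symm
    _ = (ρ g).hom ≫ p := by rw [γ'_t']
    _ = p := hinv g
    _ = 𝟙 X ≫ p := (Category.id_comp p).symm
    _ = (γ' ρ f hρ g ≫ (grpd ρ f hρ).s) ≫ p := by rw [γ'_s']
    _ = γ' ρ f hρ g ≫ (grpd ρ f hρ).s ≫ p := Category.assoc _ _ _

theorem hasAffOrbits [IsAffineHom p] (hinv : ∀ g : G, (ρ g).hom ≫ p = p) :
    HasAffOrbits (grpd ρ f hρ) := ⟨fun x => by
  obtain ⟨_, ⟨V, hV, rfl⟩, hxV, -⟩ := X'.isBasis_affineOpens.exists_subset_of_mem_open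
    (Set.mem_univ (p x)) isOpen_univ
  refine ⟨p ⁻¹ᵁ V, IsAffineOpen.preimage hV p, ?_⟩
  rintro _ ⟨r, hr, rfl⟩
  show p ((grpd ρ f hρ).t r) ∈ V
  rw [← Scheme.Hom.comp_apply, w ρ f hρ p hinv, Scheme.Hom.comp_apply]
  rw [show (grpd ρ f hρ).s r = x from hr]
  exact hxV⟩

theorem isOpenMap_p (hp : SGA1.IsQuot ρ p) : IsOpenMap p.base := by
  intro W hW
  rw [← (GroupQuot.isQuotientMap hp).isOpen_preimage]
  have : p.base ⁻¹' (p.base '' W) = ⋃ g : G, (ρ g).hom.base '' W := by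
    ext x
    simp only [Set.mem_preimage, Set.mem_image, Set.mem_iUnion]
    constructor
    · rintro ⟨y, hy, hxy⟩
      obtain ⟨g, hg⟩ := GroupQuot.exists_smul_eq_of_map_eq hp y x hxy
      exact ⟨g, y, hy, hg⟩
    · rintro ⟨g, y, hy, rfl⟩
      exact ⟨y, hy, (GroupQuot.map_smul_eq hp g y).symm⟩
  rw [this]
  exact isOpen_iUnion fun g => (ρ g).hom.isOpenEmbedding.isOpenMap W hW

theorem isColimit (hp : SGA1.IsQuot ρ p) :
    Nonempty (IsColimit (Cofork.ofπ p (w ρ f hρ p hp.inv))) := by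
  refine isColimit_of_geometric (grpd ρ f hρ) p (w ρ f hρ p hp.inv) (GroupQuot.surjective hp)
    (isOpenMap_p ρ p hp) ?_ Set.univ ?_ (fun V _ => hp.injective V) ?_
  · intro x y hxy
    obtain ⟨g, hg⟩ := GroupQuot.exists_smul_eq_of_map_eq hp y x hxy.symm
    refine ⟨γ' ρ f hρ g y, ?_, ?_⟩
    · rw [← Scheme.Hom.comp_apply, γ'_t']; exact hg
    · rw [← Scheme.Hom.comp_apply, γ'_s']; rfl
  · rw [Opens.isBasis_iff_nbhd]
    intro U x hx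
    exact ⟨U, Set.mem_univ _, hx, le_rfl⟩
  · intro V _ a ha
    refine (hp.range_iff V a).mpr (fun g => ?_)
    have hW := isInv_preimage (G := grpd ρ f hρ) p (w ρ f hρ p hp.inv) V
    have ha' := (mem_invOn_iff hW a).mp ha
    have e₀ : p ⁻¹ᵁ V ≤ (γ' ρ f hρ g) ⁻¹ᵁ ((grpd ρ f hρ).s ⁻¹ᵁ (p ⁻¹ᵁ V)) := by
      intro z hz
      show (grpd ρ f hρ).s (γ' ρ f hρ g z) ∈ p ⁻¹ᵁ V
      rw [← Scheme.Hom.comp_apply, γ'_s']
      exact hz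
    have eL : (grpd ρ f hρ).s.appLE (p ⁻¹ᵁ V) ((grpd ρ f hρ).s ⁻¹ᵁ (p ⁻¹ᵁ V)) le_rfl ≫
        (γ' ρ f hρ g).appLE ((grpd ρ f hρ).s ⁻¹ᵁ (p ⁻¹ᵁ V)) (p ⁻¹ᵁ V) e₀ = 𝟙 _ := by
      rw [Scheme.Hom.appLE_comp_appLE]
      rw [appLE_congr_hom' (γ'_s' ρ f hρ g) (p ⁻¹ᵁ V) (p ⁻¹ᵁ V) _ le_rfl]
      exact id_appLE_self _ _
    have eR : (grpd ρ f hρ).t.appLE (p ⁻¹ᵁ V) ((grpd ρ f hρ).s ⁻¹ᵁ (p ⁻¹ᵁ V)) (le_of_eq hW) ≫
        (γ' ρ f hρ g).appLE ((grpd ρ f hρ).s ⁻¹ᵁ (p ⁻¹ᵁ V)) (p ⁻¹ᵁ V) e₀ =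
        (ρ g).hom.appLE (p ⁻¹ᵁ V) (p ⁻¹ᵁ V) (SGA1.preimage_le_of_inv ρ p hp.inv g V) := by
      rw [Scheme.Hom.appLE_comp_appLE]
      exact appLE_congr_hom' (γ'_t' ρ f hρ g) _ _ _ _
    have h1 := congrArg (fun b => ((γ' ρ f hρ g).appLE ((grpd ρ f hρ).s ⁻¹ᵁ (p ⁻¹ᵁ V))
      (p ⁻¹ᵁ V) e₀).hom b) ha'
    have l1 : ((γ' ρ f hρ g).appLE ((grpd ρ f hρ).s ⁻¹ᵁ (p ⁻¹ᵁ V)) (p ⁻¹ᵁ V) e₀).hom
        (((grpd ρ f hρ).s.appLE (p ⁻¹ᵁ V) ((grpd ρ f hρ).s ⁻¹ᵁ (p ⁻¹ᵁ V)) le_rfl).hom a) = a :=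
      congrArg (fun φ => φ.hom a) eL
    have l2 : ((γ' ρ f hρ g).appLE ((grpd ρ f hρ).s ⁻¹ᵁ (p ⁻¹ᵁ V)) (p ⁻¹ᵁ V) e₀).hom
        (((grpd ρ f hρ).t.appLE (p ⁻¹ᵁ V) ((grpd ρ f hρ).s ⁻¹ᵁ (p ⁻¹ᵁ V)) (le_of_eq hW)).hom a) =
        ((ρ g).hom.appLE (p ⁻¹ᵁ V) (p ⁻¹ᵁ V) (SGA1.preimage_le_of_inv ρ p hp.inv g V)).hom a :=
      congrArg (fun φ => φ.hom a) eR
    exact l2.symm.trans (h1.symm.trans l1)

theorem main (hp : SGA1.IsQuot ρ p) :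
    IsPullback ((R ρ f hρ).ι ≫ pullback.fst f f) ((R ρ f hρ).ι ≫ pullback.snd f f) p p ∧
      IsFinite p ∧ Flat p ∧ LocallyOfFinitePresentation p := by
  haveI := hp.affine
  haveI : IsFinite (grpd ρ f hρ).s := isFinite_s ρ f hρ
  haveI : Flat (grpd ρ f hρ).s := (Etale.iff_flat_and_formallyUnramified.mp (etale_s ρ f hρ)).1
  haveI : LocallyOfFinitePresentation (grpd ρ f hρ).s :=
    (Etale.iff_flat_and_formallyUnramified.mp (etale_s ρ f hρ)).2.2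
  haveI : HasAffOrbits (grpd ρ f hρ) := hasAffOrbits ρ f hρ p hp.inv
  obtain ⟨hc⟩ := isColimit ρ f hρ p hp
  exact GQ7e.main (grpd ρ f hρ) p (w ρ f hρ p hp.inv) hc

include hρ in
theorem etale_p (hp : SGA1.IsQuot ρ p) : Etale p := by
  obtain ⟨hpb, hfin, hflat, hlfp⟩ := main ρ f hρ p hp
  haveI : Surjective p := ⟨GroupQuot.surjective hp⟩
  haveI : Etale ((R ρ f hρ).ι ≫ pullback.fst f f) := inferInstance
  exact MorphismProperty.of_isPullback_of_descendsAlong (P := @Etale)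
    (Q := @Surjective ⊓ @Flat ⊓ @QuasiCompact) hpb ⟨⟨inferInstance, hflat⟩, inferInstance⟩
    inferInstance

end Groth.Agent.Lib.Helper11.ER3
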