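import Mathlib
import Groth.Agent.Lib.Helper11.ER3

/-!
# The quotient of an étale separated scheme by a finite group is étale over the base (helper11)
-/

set_option autoImplicit false
universe u

open CategoryTheory CategoryTheory.Limits AlgebraicGeometry TopologicalSpace TensorProduct
open Groth.Agent.Lib.Helper11.ER2 Groth.Agent.Lib.Helper5

namespace Groth.Agent.Lib.Helper11.ER4

/-- flatness descends through a faithfully flat extension of the target -/
theorem flat_of_faithfullyFlat_tower (A B C : Type u) [CommRing A] [CommRing B] [CommRing C]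
    [Algebra A B] [Algebra B C] [Algebra A C] [IsScalarTower A B C]
    [Module.Flat A C] [Module.FaithfullyFlat B C] : Module.Flat A B := by
  rw [Module.Flat.iff_lTensor_preserves_injective_linearMap]
  intro N P _ _ _ _ L hL
  let φB : B ⊗[A] N →ₗ[B] B ⊗[A] P := AlgebraTensorModule.lTensor B B L
  have hφ : ⇑(L.lTensor B) = ⇑φB := rfl
  rw [hφ, ← Module.FaithfullyFlat.lTensor_injective_iff_injective B C]
  have hnat := AlgebraTensorModule.lTensor_comp_cancelBaseChange (R := A) (A := B) (B := B)
    (M := C) (N := N) (Q := P) L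
  have hinj : Function.Injective (AlgebraTensorModule.lTensor B C L) := by
    have h0 : ⇑(AlgebraTensorModule.lTensor B C L) = ⇑(L.lTensor C) := rfl
    rw [h0]
    exact Module.Flat.lTensor_preserves_injective_linearMap L hL
  intro z z' hz
  have hz' : (AlgebraTensorModule.lTensor B C (AlgebraTensorModule.lTensor B B L)) z =
      (AlgebraTensorModule.lTensor B C (AlgebraTensorModule.lTensor B B L)) z' := hz
  apply (AlgebraTensorModule.cancelBaseChange A B B C N).injective
  apply hinj
  have e1 := LinearMap.congr_fun hnat z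
  have e2 := LinearMap.congr_fun hnat z'
  simp only [LinearMap.comp_apply, LinearEquiv.coe_coe] at e1 e2
  rw [e1, e2, hz']

theorem ringHom_flat_of_comp {A B C : Type u} [CommRing A] [CommRing B] [CommRing C]
    (φ : A →+* B) (ψ : B →+* C) (h1 : (ψ.comp φ).Flat) (h2 : ψ.FaithfullyFlat) : φ.Flat := by
  letI := φ.toAlgebra
  letI := ψ.toAlgebra
  letI := (ψ.comp φ).toAlgebra
  haveI : IsScalarTower A B C := IsScalarTower.of_algebraMap_eq (fun _ => rfl)
  haveI : Module.Flat A C := h1
  haveI : Module.FaithfullyFlat B C := h2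
  exact flat_of_faithfullyFlat_tower A B C

variable {X Y X' : Scheme.{u}}

theorem flat_of_comp (p : X ⟶ X') (q : X' ⟶ Y) [Flat p] [Surjective p] [Flat (p ≫ q)] :
    Flat q := by
  rw [Flat.iff_flat_stalkMap]
  intro x'
  obtain ⟨x, rfl⟩ := p.surjective x'
  have h1 : ((p ≫ q).stalkMap x).hom.Flat := Flat.stalkMap (p ≫ q) x
  have h2 : (p.stalkMap x).hom.Flat := Flat.stalkMap p x
  rw [Scheme.Hom.stalkMap_comp] at h1
  have h3 : (p.stalkMap x).hom.FaithfullyFlat := by
    letI := (p.stalkMap x).hom.toAlgebra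
    haveI : Module.Flat (X'.presheaf.stalk (p x)) (X.presheaf.stalk x) := h2
    haveI : IsLocalHom (algebraMap (X'.presheaf.stalk (p x)) (X.presheaf.stalk x)) :=
      inferInstanceAs (IsLocalHom (p.stalkMap x).hom)
    exact Module.FaithfullyFlat.of_flat_of_isLocalHom
  exact ringHom_flat_of_comp _ _ h1 h3

theorem isOpenImmersion_diagonal_of_comp (p : X ⟶ X') (q : X' ⟶ Y) [Surjective p] [Flat p]
    [QuasiCompact p]
    (hm₁ : IsOpenImmersion (pullback.map p p (p ≫ q) (p ≫ q) (𝟙 X) (𝟙 X) q
      (Category.id_comp _).symm (Category.id_comp _).symm)) :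
    IsOpenImmersion (pullback.diagonal q) := by
  have h := (pullback_map_diagonal_isPullback p p q).flip
  refine MorphismProperty.of_isPullback_of_descendsAlong (P := @IsOpenImmersion)
    (Q := @Surjective ⊓ @Flat ⊓ @QuasiCompact) h ?_ hm₁
  exact MorphismProperty.pullbackMap (P := @Surjective ⊓ @Flat ⊓ @QuasiCompact)
    ⟨⟨‹_›, ‹_›⟩, ‹_›⟩ ⟨⟨‹_›, ‹_›⟩, ‹_›⟩ rfl rfl

variable {G : Type u} [Group G] [Finite G] (ρ : G →* Aut X) (p : X ⟶ X') (q : X' ⟶ Y)
  (hρ : ∀ g : G, (ρ g).hom ≫ p ≫ q = p ≫ q) [Etale (p ≫ q)] [IsSeparated (p ≫ q)]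

include hρ in
theorem etale_q [IsLocallyNoetherian Y] (hp : SGA1.IsQuot ρ p) : Etale q := by
  obtain ⟨hpb, hfin, hflat, hlfp⟩ := ER3.main ρ (p ≫ q) hρ p hp
  haveI : Surjective p := ⟨GroupQuot.surjective hp⟩
  haveI : LocallyOfFiniteType q := GroupQuot.locallyOfFiniteType_of_comp hp q
  haveI : LocallyOfFinitePresentation q := inferInstance
  haveI : Flat q := flat_of_comp p q
  haveI : IsOpenImmersion (pullback.diagonal q) := by
    apply isOpenImmersion_diagonal_of_comp p q
    have e1 : hpb.isoPullback.hom ≫ pullback.map p p (p ≫ q) (p ≫ q) (𝟙 X) (𝟙 X) q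
        (Category.id_comp _).symm (Category.id_comp _).symm = (R ρ (p ≫ q) hρ).ι := by
      apply pullback.hom_ext
      · rw [Category.assoc, pullback.lift_fst, Category.comp_id, hpb.isoPullback_hom_fst]
      · rw [Category.assoc, pullback.lift_snd, Category.comp_id, hpb.isoPullback_hom_snd]
    have e2 : pullback.map p p (p ≫ q) (p ≫ q) (𝟙 X) (𝟙 X) q
        (Category.id_comp _).symm (Category.id_comp _).symm =
        hpb.isoPullback.inv ≫ (R ρ (p ≫ q) hρ).ι := (Iso.eq_inv_comp _).mpr e1
    rw [e2]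
    infer_instance
  exact Etale.of_formallyUnramified_of_flat (f := q)

include hρ in
theorem isFinite_q [IsLocallyNoetherian Y] (hp : SGA1.IsQuot ρ p) [IsFinite (p ≫ q)] :
    IsFinite q := by
  haveI : Surjective p := ⟨GroupQuot.surjective hp⟩
  haveI : IsSeparated q := GroupQuot.isSeparated_of_comp hp q
  haveI : UniversallyClosed q := UniversallyClosed.of_comp_surjective p q
  haveI : LocallyOfFiniteType q := GroupQuot.locallyOfFiniteType_of_comp hp q
  haveI : IsProper q := {}
  haveI : LocallyQuasiFinite q := by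
    refine LocallyQuasiFinite.of_finite_preimage_singleton q (fun y => ?_)
    refine ((Scheme.Hom.finite_preimage_singleton (p ≫ q) y).image p.base).subset ?_
    intro x' hx'
    obtain ⟨x, rfl⟩ := p.surjective x'
    exact ⟨x, hx', rfl⟩
  exact IsFinite.of_isProper_of_locallyQuasiFinite q

end Groth.Agent.Lib.Helper11.ER4
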