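import Mathlib

/-!
# Flatness of a closed subscheme over an affine base, checked on affine quotients (helper11, for helper9/helper18)
-/

set_option autoImplicit false
universe u
open CategoryTheory CategoryTheory.Limits AlgebraicGeometry

namespace Groth.Agent.Lib.Helper11.EmbR3F2

/-- F2 (schemes, Mathlib only): flatness of a closed subscheme over an affine base can be checked
on the quotients `Γ(Y, W) ⧸ I(W)`, `W` affine open in `Y`. -/
theorem flat_subschemeι_comp {Y : Scheme.{u}} {R : CommRingCat.{u}} (f : Y ⟶ Spec R)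
    (I : Y.IdealSheafData)
    (H : ∀ W : Y.affineOpens, ((Ideal.Quotient.mk (I.ideal W)).comp
      ((Scheme.ΓSpecIso R).inv ≫ f.appLE ⊤ W.1 le_top).hom).Flat) :
    Flat (I.subschemeι ≫ f) := by
  let U : Y.affineOpens → I.subscheme.affineOpens := fun W =>
    ⟨I.subschemeι ⁻¹ᵁ W.1, W.2.preimage I.subschemeι⟩
  have hU : ⨆ W, (U W : I.subscheme.Opens) = ⊤ := by
    have h1 : ⨆ W : Y.affineOpens, (W : Y.Opens) = ⊤ := iSup_affineOpens_eq_top Y
    change ⨆ W : Y.affineOpens, I.subschemeι ⁻¹ᵁ W.1 = ⊤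
    rw [← Scheme.Hom.preimage_iSup, h1]
    rfl
  rw [HasRingHomProperty.iff_of_iSup_eq_top (P := @Flat) U hU]
  intro W
  have e1 : ((I.subschemeι ≫ f).appLE ⊤ (U W).1 le_top) =
      f.appLE ⊤ W.1 le_top ≫ I.subschemeι.app W.1 := by
    rw [Scheme.Hom.app_eq_appLE, Scheme.Hom.appLE_comp_appLE]
  rw [e1, I.subschemeι_app W]
  have h2 := H W
  have hiso1 : ((Scheme.ΓSpecIso R).hom).hom.Flat :=
    RingHom.Flat.of_bijective (ConcreteCategory.bijective_of_isIso _)
  have hiso2 : ((I.subschemeObjIso W).inv).hom.Flat :=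
    RingHom.Flat.of_bijective (ConcreteCategory.bijective_of_isIso _)
  have h3 := (hiso1.comp h2).comp hiso2
  convert h3 using 1
  ext x
  simp

end Groth.Agent.Lib.Helper11.EmbR3F2
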