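import Mathlib

/-!
# Top exterior power of a free module: determinants and generators (helper11)
-/

set_option autoImplicit false
open Module

namespace Groth.Agent.Lib.Helper11.ExtPowAlg

variable {R M : Type*} [CommRing R] [AddCommGroup M] [Module R M] {r : ℕ}

theorem li_span_of_bij {t : Fin r → M}
    (hB : Function.Bijective (fun a : Fin r → R => ∑ i, a i • t i)) :
    LinearIndependent R t ∧ ⊤ ≤ Submodule.span R (Set.range t) := by
  constructor
  · rw [linearIndependent_iff_injective_fintypeLinearCombination]
    intro a b hab
    apply hB.1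
    simpa only [Fintype.linearCombination_apply] using hab
  · rw [← Fintype.range_linearCombination R t]
    intro m _
    obtain ⟨a, ha⟩ := hB.2 m
    exact ⟨a, by rw [Fintype.linearCombination_apply]; exact ha⟩

theorem bij_of_li_span {t : Fin r → M} (h1 : LinearIndependent R t)
    (h2 : Submodule.span R (Set.range t) = ⊤) :
    Function.Bijective (fun a : Fin r → R => ∑ i, a i • t i) := by
  constructor
  · rw [linearIndependent_iff_injective_fintypeLinearCombination] at h1
    intro a b hab
    apply h1
    simpa only [Fintype.linearCombination_apply] using hab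
  · intro m
    have hm : m ∈ LinearMap.range (Fintype.linearCombination R t) := by
      rw [Fintype.range_linearCombination, h2]; trivial
    obtain ⟨a, ha⟩ := hm
    exact ⟨a, by rw [Fintype.linearCombination_apply] at ha; exact ha⟩

/-- the basis defined by a family whose coordinate map is bijective. -/
noncomputable def basisOfBij (e : Fin r → M)
    (hB : Function.Bijective (fun a : Fin r → R => ∑ i, a i • e i)) : Basis (Fin r) R M :=
  Basis.mk (li_span_of_bij hB).1 (li_span_of_bij hB).2

theorem coe_basisOfBij (e : Fin r → M)
    (hB : Function.Bijective (fun a : Fin r → R => ∑ i, a i • e i)) :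
    ⇑(basisOfBij e hB) = e := Basis.coe_mk _ _

/-- the determinant functional on the top exterior power. -/
noncomputable def detLin (b : Basis (Fin r) R M) : ↥(⋀[R]^r M) →ₗ[R] R :=
  exteriorPower.alternatingMapLinearEquiv b.det

theorem detLin_ιMulti (b : Basis (Fin r) R M) (v : Fin r → M) :
    detLin b (exteriorPower.ιMulti R r v) = b.det v :=
  exteriorPower.alternatingMapLinearEquiv_apply_ιMulti _ _

/-- if the wedge of a basis is a multiple of the wedge of `t`, then `t` is a basis. -/
theorem bij_of_wedge_eq_smul {e t : Fin r → M}
    (hB : Function.Bijective (fun a : Fin r → R => ∑ i, a i • e i)) (a : R)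
    (h : exteriorPower.ιMulti R r e = a • exteriorPower.ιMulti R r t) :
    Function.Bijective (fun a : Fin r → R => ∑ i, a i • t i) := by
  let b := basisOfBij e hB
  have hb : ⇑b = e := coe_basisOfBij e hB
  have h1 := congrArg (detLin b) h
  rw [map_smul, detLin_ιMulti, detLin_ιMulti, ← hb, Basis.det_self, smul_eq_mul] at h1
  have hu : IsUnit (b.det t) := IsUnit.of_mul_eq_one a (by rw [mul_comm]; exact h1.symm)
  obtain ⟨h2, h3⟩ := (Basis.is_basis_iff_det b).mpr hu
  exact bij_of_li_span h2 h3

/-- if `s` spans a free module of rank `r` over a nontrivial ring, some `r`-fold wedge of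
members of `s` is non-zero. -/
theorem exists_wedge_ne_zero [Nontrivial R] {e : Fin r → M}
    (hB : Function.Bijective (fun a : Fin r → R => ∑ i, a i • e i)) {N : ℕ} (s : Fin N → M)
    (hs : ∀ m : M, ∃ a : Fin N → R, m = ∑ j, a j • s j) :
    ∃ J : Fin r → Fin N, exteriorPower.ιMulti R r (fun i => s (J i)) ≠ 0 := by
  by_contra hcon
  push Not at hcon
  let b := basisOfBij e hB
  have hb : ⇑b = e := coe_basisOfBij e hB
  have hspan : Submodule.span R (Set.range s) = ⊤ := by
    rw [eq_top_iff]
    intro m _
    obtain ⟨a, ha⟩ := hs m
    rw [ha]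
    exact Submodule.sum_mem _ fun j _ =>
      Submodule.smul_mem _ _ (Submodule.subset_span (Set.mem_range_self j))
  have h1 := exteriorPower.ιMulti_span_of_span R r M hspan
  have h2 : Submodule.span R (exteriorPower.ιMulti R r '' {a | Set.range a ⊆ Set.range s}) ≤ ⊥ := by
    rw [Submodule.span_le]
    rintro _ ⟨v, hv, rfl⟩
    have hv' : ∀ i, ∃ j, s j = v i := fun i => hv (Set.mem_range_self i)
    choose J hJ using hv'
    have : v = fun i => s (J i) := funext fun i => (hJ i).symm
    rw [this, hcon J]
    exact Submodule.zero_mem _
  rw [h1] at h2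
  have h3 : exteriorPower.ιMulti R r e = 0 := by
    have : exteriorPower.ιMulti R r e ∈ (⊥ : Submodule R ↥(⋀[R]^r M)) := h2 trivial
    exact (Submodule.mem_bot R).mp this
  have h4 := congrArg (detLin b) h3
  rw [detLin_ιMulti, map_zero, ← hb, Basis.det_self] at h4
  exact one_ne_zero h4

end Groth.Agent.Lib.Helper11.ExtPowAlg
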