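import Mathlib
import Groth.Prelude.Def_ExtPow2
import Groth.Agent.Lib.Helper11.ExtPowAlg
import Groth.Agent.Lib.Helper3.FreeBasis
import Groth.Agent.Lib.Helper3.InvAmple
import Groth.Agent.Lib.Helper3.LocFreeCrit
import Groth.Agent.Lib.Helper17.ExtPowCoh
import Groth.Agent.Lib.Helper17.BaseChangeAff

/-!
# A globally generated vector bundle with trivial determinant is trivial
(when non-zero global functions are units) — helper11
-/

set_option autoImplicit false
set_option linter.style.haveILetI false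
set_option linter.unusedSectionVars false
universe u
open CategoryTheory CategoryTheory.Limits AlgebraicGeometry TopologicalSpace Opposite
open Scheme.Modules

namespace Groth.Agent.Lib.Helper11.ExtPowTriv

open Groth.Agent.Lib.Helper3 Groth.Agent.Lib.Helper3.QCSec Groth.Agent.Lib.Helper3.InvGen
  Groth.Agent.Lib.Helper3.FreeBasis

variable {X : Scheme.{u}}

section wedge

variable {r : ℕ} {E L : X.Modules}
  (φ : ∀ U : X.affineOpens, Γ(L, U.1) ≃ₗ[Γ(X, U.1)] ↥(⋀[Γ(X, U.1)]^r Γ(E, U.1)))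
  (hφ : ∀ (U V : X.affineOpens) (h : V.1 ≤ U.1) (e : Fin r → Γ(E, U.1)),
    res L h ((φ U).symm (exteriorPower.ιMulti _ r e)) =
      (φ V).symm (exteriorPower.ιMulti _ r (fun j => res E h (e j))))

include hφ in
/-- the wedge of `r` global sections of `E`, as a global section of `L = Λ^r E`. -/
theorem exists_wedge (t : Fin r → Γ(E, ⊤)) :
    ∃ w : Γ(L, ⊤), ∀ U : X.affineOpens,
      φ U (res L le_top w) = exteriorPower.ιMulti _ r (fun i => res E le_top (t i)) := by
  let a : ∀ U : X.affineOpens, Γ(L, U.1) := fun U =>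
    (φ U).symm (exteriorPower.ιMulti _ r (fun i => res E le_top (t i)))
  have hres : ∀ (U V : X.affineOpens) (h : V.1 ≤ U.1), res L h (a U) = a V := by
    intro U V h
    change res L h ((φ U).symm _) = _
    rw [hφ U V h]
    simp only [res_res]
    rfl
  have hcov : (⊤ : X.Opens) ≤ ⨆ U : X.affineOpens, U.1 := by
    intro x hx
    obtain ⟨V, hV, hxV, -⟩ := Opens.isBasis_iff_nbhd.mp X.isBasis_affineOpens hx
    exact Opens.mem_iSup.mpr ⟨⟨V, hV⟩, hxV⟩
  have hcompat : ∀ U V : X.affineOpens, res L (inf_le_left : U.1 ⊓ V.1 ≤ U.1) (a U) =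
      res L (inf_le_right : U.1 ⊓ V.1 ≤ V.1) (a V) := by
    intro U V
    apply sec_eq_of_locally_eq L (fun A : {A : X.affineOpens // A.1 ≤ U.1 ⊓ V.1} => A.1.1)
      (U.1 ⊓ V.1) (fun A => A.2)
    · intro x hx
      obtain ⟨A, hA, hxA, hAUV⟩ := Opens.isBasis_iff_nbhd.mp X.isBasis_affineOpens hx
      exact Opens.mem_iSup.mpr ⟨⟨⟨A, hA⟩, hAUV⟩, hxA⟩
    · intro A
      rw [res_res, res_res, hres U A.1, hres V A.1]
  obtain ⟨w, hw⟩ := sec_glue L (fun U : X.affineOpens => U.1) ⊤ (fun _ => le_top) hcov a hcompat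
  exact ⟨w, fun U => by rw [hw U]; exact (φ U).apply_symm_apply _⟩

end wedge

/-- a morphism out of `O^n` mapping the standard basis to a basis is bijective on sections. -/
theorem bijective_app_of_isBasisAt {M : X.Modules} {n : ℕ} (ψ : FlatMod.freeMod X n ⟶ M)
    (V : X.Opens) (h : IsBasisAt M V (fun i => ψ.app V (bsec n i V))) :
    Function.Bijective (ψ.app V) := by
  have h1 := isBasisAt_bsec (X := X) n V
  have h3 : (fun a : Fin n → Γ(X, V) => ∑ i, a i • ψ.app V (bsec n i V)) =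
      (ψ.app V) ∘ (fun a : Fin n → Γ(X, V) => ∑ i, a i • bsec n i V) := by
    funext a
    change _ = ψ.app V (∑ i, a i • bsec n i V)
    rw [app_sum]
    simp only [Scheme.Modules.Hom.app_smul]
  unfold IsBasisAt at h1 h
  rw [h3] at h
  exact (Function.Bijective.of_comp_iff _ h1).mp h

/-- the morphism `O^n ⟶ M` defined by `n` global sections. -/
noncomputable def homOfGlobalSecs (M : X.Modules) {n : ℕ} (t : Fin n → Γ(M, ⊤)) :
    FlatMod.freeMod X n ⟶ M :=
  Sigma.desc (fun i => InvAmple.globalHom M (t i))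

theorem homOfGlobalSecs_bsec (M : X.Modules) {n : ℕ} (t : Fin n → Γ(M, ⊤)) (i : Fin n)
    (V : X.Opens) : (homOfGlobalSecs M t).app V (bsec n i V) = res M le_top (t i) := by
  unfold bsec
  rw [← sec_comp]
  have h : inj X n i ≫ homOfGlobalSecs M t = InvAmple.globalHom M (t i) := Sigma.ι_desc _ _
  rw [h, InvAmple.sec_globalHom]

/-- **Main theorem**: on a scheme whose non-zero global functions are units, a finite locally free
module of rank `r` which is globally generated and whose `r`-th exterior power is trivial is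
free. -/
theorem nonempty_iso_free (hfield : ∀ f : Γ(X, ⊤), f ≠ 0 → IsUnit f) {r : ℕ} (E : X.Modules)
    (hE : FlatMod.IsFinLocFreeOfRank r E) {N : ℕ} (φ₀ : FlatMod.freeMod X N ⟶ E) [Epi φ₀]
    (L : X.Modules) (hL : ExtPow.IsExtPow r E L) (lam : L ≅ Coh.structureModule X) :
    Nonempty (E ≅ FlatMod.freeMod X r) := by
  have hE' : FlatMod.IsFinLocFree E := fun x => by
    obtain ⟨U, hxU, h⟩ := hE x
    exact ⟨U, r, hxU, h⟩
  haveI : E.IsQuasicoherent := LocFreeCrit.isQuasicoherent_of_isFinLocFree hE'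
  haveI : (FlatMod.freeMod X N).IsQuasicoherent := SecLoc.isQuasicoherent_flatFreeMod X N
  haveI : (FlatMod.freeMod X r).IsQuasicoherent := SecLoc.isQuasicoherent_flatFreeMod X r
  obtain ⟨φ, hφ⟩ := Groth.Agent.Lib.Helper17.ExtPowCoh.exists_phi hL
  -- local bases on small affine opens
  have hloc : ∀ (W : X.Opens) (x : X), x ∈ W → ∃ (V : X.Opens) (e : Fin r → Γ(E, V)),
      IsAffineOpen V ∧ x ∈ V ∧ V ≤ W ∧ IsBasisAt E V e := by
    intro W x hx
    obtain ⟨U, e, hxU, he⟩ := FreeBasis.isFinLocFreeOfRank_iff.mp hE x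
    obtain ⟨V, hV, hxV, hVUW⟩ := Opens.isBasis_iff_nbhd.mp X.isBasis_affineOpens
      (show x ∈ U ⊓ W from ⟨hxU, hx⟩)
    exact ⟨V, _, hV, hxV, hVUW.trans inf_le_right, he V (hVUW.trans inf_le_left)⟩
  by_cases hX : Nonempty X
  swap
  · have : IsIso (0 : E ⟶ FlatMod.freeMod X r) := by
      apply Groth.Agent.Lib.Helper17.UnitBC.isIso_of_bijective_on_basis
      intro W x _
      exact (hX ⟨x⟩).elim
    exact ⟨asIso (0 : E ⟶ FlatMod.freeMod X r)⟩
  obtain ⟨x₀⟩ := hX
  obtain ⟨U₀, e₀, hU₀, hxU₀, -, he₀⟩ := hloc ⊤ x₀ trivial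
  -- the generating sections
  let s : Fin N → Γ(E, ⊤) := fun j => φ₀.app ⊤ (bsec N j ⊤)
  have hs_res : ∀ (V : X.Opens) (j : Fin N), res E le_top (s j) = φ₀.app V (bsec N j V) := by
    intro V j
    change res E le_top (φ₀.app ⊤ (bsec N j ⊤)) = _
    rw [← QCExact.app_res', res_bsec]
  have hspan : ∀ (V : X.Opens), IsAffineOpen V → ∀ m : Γ(E, V),
      ∃ a : Fin N → Γ(X, V), m = ∑ j, a j • res E le_top (s j) := by
    intro V hV m
    obtain ⟨p, hp⟩ := (QCExact.epi_iff_surjective_on_affines φ₀).mp inferInstance V hV m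
    refine ⟨fun j => toFun V ((proj X N j).app V p), ?_⟩
    rw [← hp]
    conv_lhs => rw [eq_sum_bsec N V p]
    rw [app_sum]
    simp only [Scheme.Modules.Hom.app_smul, hs_res]
  -- the wedge sections
  have hw' := fun J : Fin r → Fin N => exists_wedge φ hφ (fun i => s (J i))
  choose w hw using hw'
  -- some wedge is non-zero
  haveI : Nonempty U₀ := ⟨⟨x₀, hxU₀⟩⟩
  haveI : Nontrivial Γ(X, U₀) := X.component_nontrivial U₀
  obtain ⟨J, hJ⟩ := ExtPowAlg.exists_wedge_ne_zero he₀ (fun j => res E le_top (s j))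
    (hspan U₀ hU₀)
  -- the corresponding constant is a unit
  have hinv : ∀ (V : X.Opens) (y : Γ(L, V)), lam.inv.app V (lam.hom.app V y) = y := by
    intro V y
    have := congrArg (fun f : L ⟶ L => f.app V y) lam.hom_inv_id
    exact this
  have hc0 : toFun ⊤ (lam.hom.app ⊤ (w J)) ≠ 0 := by
    intro h0
    have h1 : lam.hom.app ⊤ (w J) = 0 := h0
    have h2 : w J = 0 := by
      rw [← hinv ⊤ (w J), h1, map_zero]
    apply hJ
    rw [← hw J ⟨U₀, hU₀⟩, h2, res_zero, map_zero]
  have hcu := hfield _ hc0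
  -- the morphism
  let t : Fin r → Γ(E, ⊤) := fun i => s (J i)
  haveI : IsIso (homOfGlobalSecs E t) := by
    apply Groth.Agent.Lib.Helper17.UnitBC.isIso_of_bijective_on_basis
    intro W x hx
    obtain ⟨V, e, hV, hxV, hVW, he⟩ := hloc W x hx
    refine ⟨V, hV, hxV, hVW, ?_⟩
    apply bijective_app_of_isBasisAt
    simp only [homOfGlobalSecs_bsec]
    obtain ⟨v, hv⟩ := (rres_isUnit (le_top : V ≤ ⊤) hcu).exists_left_inv
    obtain ⟨y₀, hy₀⟩ : ∃ y₀ : Γ(L, V), y₀ = (φ ⟨V, hV⟩).symm (exteriorPower.ιMulti _ r e) :=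
      ⟨_, rfl⟩
    have hlw : lam.hom.app V (res L le_top (w J)) =
        ofFun V (rres X le_top (toFun ⊤ (lam.hom.app ⊤ (w J)))) := by
      rw [QCExact.app_res']
      rfl
    have hinj : ∀ y y' : Γ(L, V), lam.hom.app V y = lam.hom.app V y' → y = y' :=
      fun y y' h => by rw [← hinv V y, h, hinv]
    have hy : y₀ = (toFun V (lam.hom.app V y₀) * v) • res L le_top (w J) := by
      apply hinj
      rw [Scheme.Modules.Hom.app_smul, hlw, smul_ofFun, mul_assoc, hv, mul_one]
      rfl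
    refine ExtPowAlg.bij_of_wedge_eq_smul he (toFun V (lam.hom.app V y₀) * v) ?_
    have h5 := congrArg (φ ⟨V, hV⟩) hy
    rw [hy₀, LinearEquiv.apply_symm_apply, _root_.map_smul, hw J ⟨V, hV⟩] at h5
    rw [← hy₀] at h5
    exact h5
  exact ⟨(asIso (homOfGlobalSecs E t)).symm⟩

end Groth.Agent.Lib.Helper11.ExtPowTriv
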