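import Mathlib
import Groth.Prelude
import Groth.Agent.Lib.Helper7.RankTwoC

/-!
# Uniqueness of extensions of `O` with proportional classes (helper11)

* `exists_section_of_Hδ_eq_zero`: a short exact sequence `0 → A → E → O → 0` whose connecting map
  kills the unit class has a section.
* `pushoutSC_shortExact`: for a mono `i' : A ⟶ E'` with cokernel `p'` and any `i : A ⟶ E`, the
  sequence `0 → E → E ⊔_A E' → B → 0` is short exact.
* `nonempty_iso_of_Hmap_Hδ_eq_zero`: two extensions `E`, `E'` of `O` by `A`, with `E'` non-split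
  (`δ'(1) ≠ 0`) and `H¹(i)(δ'(1)) = 0`, are isomorphic provided every non-zero endomorphism of `O`
  is an isomorphism.
-/

set_option autoImplicit false
set_option linter.style.haveILetI false
set_option linter.unusedSectionVars false
universe u
open CategoryTheory CategoryTheory.Limits AlgebraicGeometry TopologicalSpace Opposite
open Scheme.Modules

noncomputable section

namespace Groth.Agent.Lib.Helper11.ExtUniqA

open Groth.Agent.Lib.Helper3 Groth.Agent.Lib.Helper3.QCSec Groth.Agent.Lib.Helper3.InvGen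
open Groth.Agent.Lib.Helper23.T2 Groth.Agent.Lib.Helper23.Curve Groth.Agent.Lib.Helper7.CurvePair
  Groth.Agent.Lib.Helper23 Groth.Agent.Lib.Helper7.RankTwo

variable {X : Scheme.{u}}

/-- the unit class in `H⁰(O)` -/
def unitClass (X : Scheme.{u}) : Coh.HH X (Coh.structureModule X) 0 :=
  (H0equiv (Coh.structureModule X)).symm (ofFun ⊤ 1)

/-- a section of `g` from a lift of the unit class -/
theorem exists_section_of_lift {E : X.Modules} (g : E ⟶ Coh.structureModule X)
    (y : Coh.HH X E 0) (hy : Hmap g 0 y = unitClass X) :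
    ∃ σ : Coh.structureModule X ⟶ E, σ ≫ g = 𝟙 _ := by
  let t : Γ(E, ⊤) := H0equiv E y
  have ht : g.app ⊤ t = ofFun ⊤ 1 := by
    have h2 := H0equiv_naturality g y
    rw [hy] at h2
    have h4 : H0equiv (Coh.structureModule X) (unitClass X) = ofFun ⊤ 1 :=
      LinearEquiv.apply_symm_apply _ _
    exact h2.symm.trans h4
  refine ⟨InvAmple.globalHom _ t, ?_⟩
  apply hom_ext_sec
  rw [sec_comp, sec_globalHom_top]
  exact ht

theorem exists_section_of_Hδ_eq_zero {A E : X.Modules} (f : A ⟶ E)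
    (g : E ⟶ Coh.structureModule X) (w : f ≫ g = 0)
    (hS : (ShortComplex.mk f g w).ShortExact)
    (h : Hδ (ShortComplex.mk f g w) hS 0 (unitClass X) = 0) :
    ∃ σ : Coh.structureModule X ⟶ E, σ ≫ g = 𝟙 _ := by
  obtain ⟨y, hy⟩ := exact₃ (ShortComplex.mk f g w) hS 0 (unitClass X) h
  exact exists_section_of_lift g y hy

section Pushout

variable {𝒞 : Type*} [Category 𝒞] [Abelian 𝒞]

/-- the map `E ⊔_A E' ⟶ B` -/
def pushoutDesc {A E E' B : 𝒞} (i : A ⟶ E) (i' : A ⟶ E') (p' : E' ⟶ B) (w' : i' ≫ p' = 0) :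
    pushout i i' ⟶ B :=
  pushout.desc 0 p' (by rw [comp_zero, w'])

theorem pushoutSC_shortExact {A E E' B : 𝒞} (i : A ⟶ E) (i' : A ⟶ E') (p' : E' ⟶ B)
    (w' : i' ≫ p' = 0) (hS' : (ShortComplex.mk i' p' w').ShortExact) :
    (ShortComplex.mk (pushout.inl i i') (pushoutDesc i i' p' w')
      (by unfold pushoutDesc; rw [pushout.inl_desc])).ShortExact := by
  haveI := hS'.mono_f
  haveI := hS'.epi_g
  have hinr : pushout.inr i i' ≫ pushoutDesc i i' p' w' = p' := by
    unfold pushoutDesc; rw [pushout.inr_desc]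
  have hinl : pushout.inl i i' ≫ pushoutDesc i i' p' w' = 0 := by
    unfold pushoutDesc; rw [pushout.inl_desc]
  haveI : Mono (pushout.inl i i') := inferInstance
  haveI : Epi (pushoutDesc i i' p' w') := by
    have : Epi (pushout.inr i i' ≫ pushoutDesc i i' p' w') := by rw [hinr]; infer_instance
    exact epi_of_epi (pushout.inr i i') _
  have key : ∀ {T : 𝒞} (t : pushout i i' ⟶ T) (_ : pushout.inl i i' ≫ t = 0),
      ∃ d : B ⟶ T, pushoutDesc i i' p' w' ≫ d = t := by
    intro T t ht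
    have h0 : i' ≫ pushout.inr i i' ≫ t = 0 := by
      rw [← Category.assoc, ← pushout.condition, Category.assoc, ht, comp_zero]
    let d := hS'.gIsCokernel.desc (CokernelCofork.ofπ (pushout.inr i i' ≫ t) h0)
    have h1 : p' ≫ d = pushout.inr i i' ≫ t := hS'.gIsCokernel.fac _ WalkingParallelPair.one
    refine ⟨d, ?_⟩
    apply pushout.hom_ext
    · exact (Category.assoc _ _ _).symm.trans
        ((congrArg (fun z => z ≫ d) hinl).trans (zero_comp.trans ht.symm))
    · exact (Category.assoc _ _ _).symm.trans ((congrArg (fun z => z ≫ d) hinr).trans h1)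
  refine ShortComplex.ShortExact.mk' ?_ inferInstance inferInstance
  apply ShortComplex.exact_of_g_is_cokernel
  exact CokernelCofork.IsColimit.ofπ _ _
    (fun {T} t ht => (key t ht).choose)
    (fun {T} t ht => (key t ht).choose_spec)
    (fun {T} t ht m hm => (cancel_epi (pushoutDesc i i' p' w')).mp
      (hm.trans (key t ht).choose_spec.symm))

end Pushout

/-- two extensions of `O` by `A`: if `E'` is non-split and `H¹(i)` kills its class, then
`E' ≅ E` (given that non-zero endomorphisms of `O` are isomorphisms). -/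
theorem nonempty_iso_of_Hmap_Hδ_eq_zero {A E E' : X.Modules}
    (i : A ⟶ E) (p : E ⟶ Coh.structureModule X) (w : i ≫ p = 0)
    (hS : (ShortComplex.mk i p w).ShortExact)
    (i' : A ⟶ E') (p' : E' ⟶ Coh.structureModule X) (w' : i' ≫ p' = 0)
    (hS' : (ShortComplex.mk i' p' w').ShortExact)
    (hkey : Hmap i 1 (Hδ (ShortComplex.mk i' p' w') hS' 0 (unitClass X)) = 0)
    (hne : Hδ (ShortComplex.mk i' p' w') hS' 0 (unitClass X) ≠ 0)
    (hend : ∀ θ : Coh.structureModule X ⟶ Coh.structureModule X, θ ≠ 0 → IsIso θ) :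
    Nonempty (E' ≅ E) := by
  have w₃ : pushout.inl i i' ≫ pushoutDesc i i' p' w' = 0 := by
    unfold pushoutDesc; rw [pushout.inl_desc]
  have hS₃ : (ShortComplex.mk (pushout.inl i i') (pushoutDesc i i' p' w') w₃).ShortExact :=
    pushoutSC_shortExact i i' p' w' hS'
  have hinr : pushout.inr i i' ≫ pushoutDesc i i' p' w' = p' := by
    unfold pushoutDesc; rw [pushout.inr_desc]
  let φ₃ : ShortComplex.mk i' p' w' ⟶
      ShortComplex.mk (pushout.inl i i') (pushoutDesc i i' p' w') w₃ :=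
    { τ₁ := i
      τ₂ := pushout.inr i i'
      τ₃ := 𝟙 _
      comm₁₂ := pushout.condition
      comm₂₃ := by
        change pushout.inr i i' ≫ pushoutDesc i i' p' w' = p' ≫ 𝟙 _
        rw [hinr, Category.comp_id] }
  have h3 := Hδ_naturality hS' hS₃ φ₃ 0 (unitClass X)
  have h4 : Hδ _ hS₃ 0 (unitClass X) = 0 := by
    have h5 : Hmap φ₃.τ₃ 0 (unitClass X) = unitClass X := Hmap_id _ _ _
    rw [h5] at h3
    exact h3.symm.trans hkey
  obtain ⟨σ, hσ⟩ := exists_section_of_Hδ_eq_zero _ _ w₃ hS₃ h4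
  let sp := ShortComplex.Splitting.ofExactOfSection
    (ShortComplex.mk (pushout.inl i i') (pushoutDesc i i' p' w') w₃) hS₃.exact σ hσ hS₃.mono_f
  let ρ : pushout i i' ⟶ E := sp.r
  have hρ : pushout.inl i i' ≫ ρ = 𝟙 E := sp.f_r
  let ψ : E' ⟶ E := pushout.inr i i' ≫ ρ
  have hψ : i' ≫ ψ = i := by
    change i' ≫ pushout.inr i i' ≫ ρ = i
    rw [← Category.assoc, ← pushout.condition, Category.assoc, hρ, Category.comp_id]
  have hψp : i' ≫ ψ ≫ p = 0 := by rw [← Category.assoc, hψ, w]
  let θ : Coh.structureModule X ⟶ Coh.structureModule X :=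
    hS'.gIsCokernel.desc (CokernelCofork.ofπ (ψ ≫ p) hψp)
  have hθ : p' ≫ θ = ψ ≫ p := hS'.gIsCokernel.fac _ WalkingParallelPair.one
  let Ψ : ShortComplex.mk i' p' w' ⟶ ShortComplex.mk i p w :=
    { τ₁ := 𝟙 A
      τ₂ := ψ
      τ₃ := θ
      comm₁₂ := by
        change 𝟙 A ≫ i = i' ≫ ψ
        rw [Category.id_comp, hψ]
      comm₂₃ := hθ.symm }
  have h5 := Hδ_naturality hS' hS Ψ 0 (unitClass X)
  have hθ0 : θ ≠ 0 := by
    intro h0
    apply hne
    have h6 : Hmap Ψ.τ₁ 1 (Hδ (ShortComplex.mk i' p' w') hS' 0 (unitClass X)) =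
        Hδ (ShortComplex.mk i' p' w') hS' 0 (unitClass X) := Hmap_id _ _ _
    have h7 : Hmap Ψ.τ₃ 0 (unitClass X) = 0 := by
      change Hmap θ 0 (unitClass X) = 0
      rw [h0, Hmap_zero]
    rw [h6, h7, map_zero] at h5
    exact h5
  haveI : IsIso θ := hend θ hθ0
  haveI : IsIso Ψ.τ₁ := (inferInstance : IsIso (𝟙 A))
  haveI : IsIso Ψ.τ₃ := (inferInstance : IsIso θ)
  haveI : IsIso ψ := ShortComplex.isIso₂_of_shortExact_of_isIso₁₃ Ψ hS' hS
  exact ⟨asIso ψ⟩

end Groth.Agent.Lib.Helper11.ExtUniqA
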