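import Mathlib
import Groth.Prelude
import Groth.Agent.Lib.Helper11.ExtUniqA
import Groth.Agent.Lib.Helper7.RankTwoD
import Groth.Agent.Lib.Helper23.FBC5
import Groth.Agent.S12430
import Groth.Agent.Lib.Helper7.TorsFree

/-!
# Normalized indecomposable rank two bundles of degree zero on a curve of genus one (helper11)

* `exists_ses_of_normalized`: such an `E` is an extension `0 → O → E → O → 0`.
* `nonempty_iso_of_ses`: two non-split extensions of `O` by `O` on a curve of genus one are
  isomorphic.
-/

set_option autoImplicit false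
set_option linter.style.haveILetI false
set_option linter.unusedSectionVars false
universe u
open CategoryTheory CategoryTheory.Limits AlgebraicGeometry TopologicalSpace Opposite
open Scheme.Modules

noncomputable section

namespace Groth.Agent.Lib.Helper11.ExtUniqB

open Groth.Agent.Lib.Helper3 Groth.Agent.Lib.Helper3.QCSec Groth.Agent.Lib.Helper3.InvGen
  Groth.Agent.Lib.Helper3.InvMonoidal Groth.Agent.Lib.Helper3.InvTensor
open Groth.Agent.Lib.Helper23.T2 Groth.Agent.Lib.Helper23.Curve Groth.Agent.Lib.Helper7.CurvePair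
  Groth.Agent.Lib.Helper23 Groth.Agent.Lib.Helper7.RankTwo Groth.Agent.Lib.Helper23.Inverse
  Groth.Agent.Lib.Helper7.CohFinite
open Groth.Agent.Lib.Helper11.ExtUniqA

variable {C : Scheme.{u}}
variable (k : Type u) [Field k] [IsAlgClosed k] [C.Over (Spec (CommRingCat.of k))]
  [IsIntegral C] [IsProper (C ↘ Spec (CommRingCat.of k))]

theorem exists_ses_of_normalized (hdim : topologicalKrullDim C = 1)
    (hreg : ∀ x : C, IsRegularLocalRing (C.presheaf.stalk x)) (hg : Curv2.genus k C = 1)
    (E : C.Modules) (hE : FlatMod.IsFinLocFreeOfRank 2 E)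
    (hE0 : Nontrivial (Coh.HH C E 0))
    (hEneg : ∀ M : C.Modules, PicF.IsInvertible M → Curv2.deg k C M 1 < 0 →
      Subsingleton (Coh.HH C (CohB1.tensorMod E M) 0))
    (hEind : ∀ L₁ L₂ : C.Modules, PicF.IsInvertible L₁ → PicF.IsInvertible L₂ →
      IsEmpty (E ≅ L₁ ⊞ L₂))
    (hEdeg : Curv2.deg k C E 2 = 0) :
    ∃ (s : Coh.structureModule C ⟶ E) (p : E ⟶ Coh.structureModule C) (w : s ≫ p = 0),
      (ShortComplex.mk s p w).ShortExact := by
  haveI := isNoetherian_of_isProper k C
  haveI : Nonempty C := inferInstance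
  have hOinv : PicF.IsInvertible (Coh.structureModule C) := isInvertible_structureModule C
  have hO1 := isFinLocFreeOfRank_one_of_isInvertible hOinv
  obtain ⟨s, hs⟩ := exists_section_of_nontrivial E hE0
  have hLinv : PicF.IsInvertible (cokernel s) :=
    Groth.Agent.S12430.result k C hdim hreg E hE hE0 hEneg s hs
  haveI : Mono s := Groth.Agent.Lib.Helper7.TorsFree.mono_of_ne_zero hO1 hE s hs
  have hS := cokerSC_shortExact s
  have hL1 := isFinLocFreeOfRank_one_of_isInvertible hLinv
  have hdeg := deg_additive k C (cokerSC s) hS 1 2 1 hO1 hE hL1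
  have hdL : Curv2.deg k C (cokernel s) 1 = 0 := by
    have h1 : Curv2.deg k C (Coh.structureModule C) 1 = 0 := deg_structureModule k
    change Curv2.deg k C E 2 = Curv2.deg k C (Coh.structureModule C) 1 +
      Curv2.deg k C (cokernel s) 1 at hdeg
    rw [hEdeg, h1] at hdeg
    linarith
  obtain ⟨N, hN, hLN⟩ := exists_isInverseOf hLinv
  have hdN := DegTensor.deg_of_isInverseOf k hdim.le hLinv hN hLN
  rw [hdL, neg_zero] at hdN
  obtain ⟨e'⟩ := hLN
  have hNO : Nonempty (N ≅ Coh.structureModule C) := by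
    by_contra hno
    have hN0 : Subsingleton (Coh.HH C N 0) := by
      by_contra hns
      rw [not_subsingleton_iff_nontrivial] at hns
      obtain ⟨t, ht⟩ := exists_section_of_nontrivial N hns
      haveI := (deg_nonneg_of_section k hdim.le hN t ht).2 (le_of_eq hdN)
      exact hno ⟨(asIso t).symm⟩
    have h0 := GeomH0.finrank_H0_eq_one_of_isAlgClosed k C
    have hrr := riemann_roch k hdim.le h0 hN
    have hcohN := isCoh_of_isInvertible hN
    haveI : Module.Finite k (Coh.HH C N 1) := finite_HH k N hcohN 1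
    have hf0 : Module.finrank k (Coh.HH C N 0) = 0 := Module.finrank_zero_of_subsingleton
    rw [hf0, hdN, hg] at hrr
    have hf1 : Module.finrank k (Coh.HH C N 1) = 0 := by
      have : (Module.finrank k (Coh.HH C N 1) : ℤ) = 0 := by push_cast at hrr; linarith
      exact_mod_cast this
    have hN1 : Subsingleton (Coh.HH C N 1) := Module.finrank_zero_iff.mp hf1
    have hM1 : Subsingleton (Coh.HH C (CohB1.tensorMod (Coh.structureModule C) N) 1) :=
      (HmapEquiv (unitorL N) 1).toEquiv.subsingleton
    obtain ⟨iso⟩ := exists_iso_biprod_of_h1 s (cokernel.π s) (cokernel.condition s) hS hN e' hM1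
    exact (hEind _ _ (isInvertible_tensorMod (isInvertible_tensorMod hOinv hN) hLinv)
      (isInvertible_tensorMod (isInvertible_tensorMod hLinv hN) hLinv)).false iso
  obtain ⟨eN⟩ := hNO
  let eL : cokernel s ≅ Coh.structureModule C :=
    (SecTwist.unitorR (cokernel s)).symm ≪≫ tensorMapIso (Iso.refl _) eN.symm ≪≫ e'
  have w : s ≫ cokernel.π s ≫ eL.hom = 0 := by
    rw [← Category.assoc, cokernel.condition, zero_comp]
  refine ⟨s, cokernel.π s ≫ eL.hom, w, ?_⟩
  have iso : cokerSC s ≅ ShortComplex.mk s (cokernel.π s ≫ eL.hom) w :=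
    ShortComplex.isoMk (Iso.refl _) (Iso.refl _) eL (by simp) (by simp)
  exact ShortComplex.shortExact_of_iso iso hS

theorem nonempty_iso_of_ses (hdim : topologicalKrullDim C = 1) (hg : Curv2.genus k C = 1)
    {E E' : C.Modules}
    (hEind : IsEmpty (E ≅ Coh.structureModule C ⊞ Coh.structureModule C))
    (hEind' : IsEmpty (E' ≅ Coh.structureModule C ⊞ Coh.structureModule C))
    (s : Coh.structureModule C ⟶ E) (p : E ⟶ Coh.structureModule C) (w : s ≫ p = 0)
    (hS : (ShortComplex.mk s p w).ShortExact)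
    (s' : Coh.structureModule C ⟶ E') (p' : E' ⟶ Coh.structureModule C) (w' : s' ≫ p' = 0)
    (hS' : (ShortComplex.mk s' p' w').ShortExact) :
    Nonempty (E' ≅ E) := by
  haveI := isNoetherian_of_isProper k C
  have hOinv : PicF.IsInvertible (Coh.structureModule C) := isInvertible_structureModule C
  have hns : ∀ {F : C.Modules} (_ : IsEmpty (F ≅ Coh.structureModule C ⊞ Coh.structureModule C))
      (t : Coh.structureModule C ⟶ F) (q : F ⟶ Coh.structureModule C) (v : t ≫ q = 0)
      (hT : (ShortComplex.mk t q v).ShortExact),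
      Hδ (ShortComplex.mk t q v) hT 0 (unitClass C) ≠ 0 := by
    intro F hF t q v hT h0
    obtain ⟨σ, hσ⟩ := exists_section_of_Hδ_eq_zero t q v hT h0
    let sp := ShortComplex.Splitting.ofExactOfSection (ShortComplex.mk t q v) hT.exact σ hσ
      hT.mono_f
    exact hF.false sp.isoBinaryBiproduct
  have hne := hns hEind s p w hS
  have hne' := hns hEind' s' p' w' hS'
  have h1 : Module.finrank k (Coh.HH C (Coh.structureModule C) 1) = 1 := hg
  obtain ⟨c, hc⟩ := (finrank_eq_one_iff_of_nonzero' _ hne).mp h1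
    (Hδ (ShortComplex.mk s' p' w') hS' 0 (unitClass C))
  have hkey : Hmap s 1 (Hδ (ShortComplex.mk s' p' w') hS' 0 (unitClass C)) = 0 := by
    rw [← hc]
    have h2 : c • Hδ (ShortComplex.mk s p w) hS 0 (unitClass C) =
        Hδ (ShortComplex.mk s p w) hS 0 (c • unitClass C) :=
      ((FBC.HδK k (ShortComplex.mk s p w) hS 0).map_smul c (unitClass C)).symm
    rw [h2]
    exact Hmap_f_Hδ (ShortComplex.mk s p w) hS 0 _
  have hend : ∀ θ : Coh.structureModule C ⟶ Coh.structureModule C, θ ≠ 0 → IsIso θ :=
    fun θ hθ => (deg_le_of_map k hdim.le hOinv hOinv θ hθ).2 rfl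
  exact nonempty_iso_of_Hmap_Hδ_eq_zero s p w hS s' p' w' hS' hkey hne' hend

end Groth.Agent.Lib.Helper11.ExtUniqB
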