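import Mathlib

/-!
# Helper11 FB1: invariants commute with flat base change (commutative algebra)
-/

set_option autoImplicit false

namespace Groth.Agent.Lib.Helper11.FB1

open TensorProduct

universe u v

variable {A B A' : Type u} [CommRing A] [CommRing B] [CommRing A'] [Algebra A B] [Algebra A A']
  {G : Type v}

/-- `b ↦ (g b - b)_g` -/
noncomputable def δ (σ : G → (B →ₐ[A] B)) : B →ₗ[A] (G → B) :=
  LinearMap.pi (fun g => (σ g).toLinearMap - LinearMap.id)

theorem exact_δ (σ : G → (B →ₐ[A] B))
    (hinv : ∀ b : B, (∀ g, σ g b = b) → b ∈ Set.range (algebraMap A B)) :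
    Function.Exact (Algebra.linearMap A B) (δ σ) := by
  intro b
  constructor
  · intro h
    obtain ⟨a, ha⟩ := hinv b (fun g => by
      have := congrFun h g
      simpa [δ, sub_eq_zero] using this)
    exact ⟨a, ha⟩
  · rintro ⟨a, rfl⟩
    ext g
    simp [δ]

theorem piLeft_δ [Fintype G] [DecidableEq G] (σ : G → (B →ₐ[A] B)) (z : B ⊗[A] A') (g : G) :
    TensorProduct.piLeft A A' (fun _ : G => B) ((δ σ).rTensor A' z) g =
      Algebra.TensorProduct.map (σ g) (AlgHom.id A A') z - z := by
  induction z using TensorProduct.induction_on with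
  | zero => simp
  | tmul b a' => simp [δ, TensorProduct.sub_tmul]
  | add x y hx hy =>
    simp only [map_add, Pi.add_apply, hx, hy]
    abel

theorem main [Module.Flat A A'] [Finite G] (σ : G → (B →ₐ[A] B))
    (hinj : Function.Injective (algebraMap A B))
    (hinv : ∀ b : B, (∀ g, σ g b = b) → b ∈ Set.range (algebraMap A B)) :
    Function.Injective (Algebra.TensorProduct.includeRight : A' →ₐ[A] B ⊗[A] A') ∧
    ∀ z : B ⊗[A] A', (∀ g, Algebra.TensorProduct.map (σ g) (AlgHom.id A A') z = z) →
      z ∈ Set.range (Algebra.TensorProduct.includeRight : A' →ₐ[A] B ⊗[A] A') := by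
  classical
  cases nonempty_fintype G
  have hι : Function.Injective ((Algebra.linearMap A B).rTensor A') :=
    Module.Flat.rTensor_preserves_injective_linearMap _ hinj
  have hfac : ∀ a' : A', (Algebra.TensorProduct.includeRight : A' →ₐ[A] B ⊗[A] A') a' =
      (Algebra.linearMap A B).rTensor A' ((1 : A) ⊗ₜ a') := by
    intro a'; simp
  constructor
  · intro a b hab
    rw [hfac, hfac] at hab
    have h1 := congrArg (TensorProduct.lid A A') (hι hab)
    simpa using h1
  · intro z hz
    have h0 : (δ σ).rTensor A' z = 0 := by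
      apply (TensorProduct.piLeft A A' (fun _ : G => B)).injective
      rw [map_zero]
      ext1 g
      rw [piLeft_δ, hz g, sub_self]; rfl
    obtain ⟨w, hw⟩ := (Module.Flat.rTensor_exact A' (exact_δ σ hinv) z).mp h0
    refine ⟨TensorProduct.lid A A' w, ?_⟩
    rw [hfac, ← hw, ← TensorProduct.lid_symm_apply, LinearEquiv.symm_apply_apply]

end Groth.Agent.Lib.Helper11.FB1
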