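import Mathlib
import Groth.Prelude.Def_SGA1
import Groth.Agent.Lib.Helper5.GroupQuot

/-!
# Quotients by finite groups: the sections condition can be checked on a basis (helper11)
-/

set_option autoImplicit false
universe u

open CategoryTheory AlgebraicGeometry TopologicalSpace Opposite
open Groth.Agent.Lib.Helper5.GroupQuot

namespace Groth.Agent.Lib.Helper11.IQ1

variable {X Y : Scheme.{u}} {G : Type u} [Group G] (ρ : G →* Aut X) (p : X ⟶ Y)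
  (hinv : ∀ g : G, (ρ g).hom ≫ p = p)

/-- restriction of sections of `O_Y` -/
noncomputable def rY {U W : Y.Opens} (h : W ≤ U) : Γ(Y, U) →+* Γ(Y, W) :=
  (Y.presheaf.map (homOfLE h).op).hom

/-- restriction of sections of `O_X` -/
noncomputable def rX {O O' : X.Opens} (h : O' ≤ O) : Γ(X, O) →+* Γ(X, O') :=
  (X.presheaf.map (homOfLE h).op).hom

theorem rY_rY {U V W : Y.Opens} (h₁ : W ≤ V) (h₂ : V ≤ U) (a : Γ(Y, U)) :
    rY h₁ (rY h₂ a) = rY (h₁.trans h₂) a := by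
  unfold rY
  rw [← CommRingCat.comp_apply, ← Functor.map_comp]
  rfl

theorem rX_rX {O O' O'' : X.Opens} (h₁ : O'' ≤ O') (h₂ : O' ≤ O) (a : Γ(X, O)) :
    rX h₁ (rX h₂ a) = rX (h₁.trans h₂) a := by
  unfold rX
  rw [← CommRingCat.comp_apply, ← Functor.map_comp]
  rfl

theorem app_res {U W : Y.Opens} (h : W ≤ U) (a : Γ(Y, U)) :
    rX (p.preimage_mono h) ((p.app U).hom a) = (p.app W).hom (rY h a) := by
  have h1 := p.naturality (homOfLE h).op
  have h2 := congrArg (fun f => f.hom a) h1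
  simp only [CommRingCat.comp_apply] at h2
  exact h2.symm

/-- invariance of a section over `p⁻¹U` -/
def IsInvSec (U : Y.Opens) (s : Γ(X, p ⁻¹ᵁ U)) : Prop :=
  ∀ g : G, ((ρ g).hom.appLE (p ⁻¹ᵁ U) (p ⁻¹ᵁ U)
    (SGA1.preimage_le_of_inv ρ p hinv g U)).hom s = s

theorem inv_res {U W : Y.Opens} (h : W ≤ U) (s : Γ(X, p ⁻¹ᵁ U)) (hs : IsInvSec ρ p hinv U s) :
    IsInvSec ρ p hinv W (rX (p.preimage_mono h) s) := by
  intro g
  have e1 := Scheme.Hom.map_appLE (ρ g).hom (SGA1.preimage_le_of_inv ρ p hinv g W)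
    (homOfLE (p.preimage_mono h)).op
  have e2 := Scheme.Hom.appLE_map (ρ g).hom (SGA1.preimage_le_of_inv ρ p hinv g U)
    (homOfLE (p.preimage_mono h)).op
  have e3 := congrArg (fun f => f.hom s) (e1.trans e2.symm)
  simp only [CommRingCat.comp_apply] at e3
  unfold rX
  rw [e3, hs g]

theorem app_inv (U : Y.Opens) (a : Γ(Y, U)) : IsInvSec ρ p hinv U ((p.app U).hom a) :=
  fun g => sigma_app_of_inv ρ p hinv U g a

/-- `U` is good: `O_Y(U)` is exactly the ring of invariant sections over `p⁻¹U` -/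
def Good (U : Y.Opens) : Prop :=
  Function.Injective (p.app U).hom ∧
    ∀ s : Γ(X, p ⁻¹ᵁ U), IsInvSec ρ p hinv U s → s ∈ Set.range (p.app U).hom

variable {p} in
theorem le_iSup_basis {𝓑 : Set Y.Opens} (hB : Opens.IsBasis 𝓑) (U : Y.Opens) :
    U ≤ ⨆ i : {V : Y.Opens // V ∈ 𝓑 ∧ V ≤ U}, i.1 := by
  intro x hx
  obtain ⟨V, hV𝓑, hxV, hVU⟩ := Opens.isBasis_iff_nbhd.mp hB hx
  exact Opens.mem_iSup.mpr ⟨⟨V, hV𝓑, hVU⟩, hxV⟩

theorem eq_of_res_eq {𝓑 : Set Y.Opens} (hB : Opens.IsBasis 𝓑) (U : Y.Opens) (a b : Γ(Y, U))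
    (h : ∀ V (_ : V ∈ 𝓑) (hVU : V ≤ U), rY hVU a = rY hVU b) : a = b :=
  Y.sheaf.eq_of_locally_eq' (fun i : {V : Y.Opens // V ∈ 𝓑 ∧ V ≤ U} => i.1) U
    (fun i => homOfLE i.2.2) (le_iSup_basis hB U) a b (fun i => h i.1 i.2.1 i.2.2)

theorem eq_of_resX_eq {𝓑 : Set Y.Opens} (hB : Opens.IsBasis 𝓑) (U : Y.Opens)
    (a b : Γ(X, p ⁻¹ᵁ U))
    (h : ∀ V (_ : V ∈ 𝓑) (hVU : V ≤ U), rX (p.preimage_mono hVU) a = rX (p.preimage_mono hVU) b) :
    a = b := by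
  refine X.sheaf.eq_of_locally_eq' (fun i : {V : Y.Opens // V ∈ 𝓑 ∧ V ≤ U} => p ⁻¹ᵁ i.1)
    (p ⁻¹ᵁ U) (fun i => homOfLE (p.preimage_mono i.2.2)) ?_ a b (fun i => h i.1 i.2.1 i.2.2)
  rw [← Scheme.Hom.preimage_iSup]
  exact p.preimage_mono (le_iSup_basis hB U)

theorem good_of_basis {𝓑 : Set Y.Opens} (hB : Opens.IsBasis 𝓑)
    (hgood : ∀ U ∈ 𝓑, Good ρ p hinv U) (U : Y.Opens) : Good ρ p hinv U := by
  have hinj : ∀ W : Y.Opens, Function.Injective (p.app W).hom := by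
    intro W a b hab
    apply eq_of_res_eq hB W a b
    intro V hV hVW
    apply (hgood V hV).1
    rw [← app_res, ← app_res, hab]
  refine ⟨hinj U, fun s hs => ?_⟩
  -- local sections
  have hloc : ∀ i : {V : Y.Opens // V ∈ 𝓑 ∧ V ≤ U}, ∃ a : Γ(Y, i.1),
      (p.app i.1).hom a = rX (p.preimage_mono i.2.2) s :=
    fun i => (hgood i.1 i.2.1).2 _ (inv_res ρ p hinv i.2.2 s hs)
  choose sf hsf using hloc
  have hcompat : TopCat.Presheaf.IsCompatible Y.sheaf.1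
      (fun i : {V : Y.Opens // V ∈ 𝓑 ∧ V ≤ U} => i.1) sf := by
    intro i j
    show rY (inf_le_left : i.1 ⊓ j.1 ≤ i.1) (sf i) = rY (inf_le_right : i.1 ⊓ j.1 ≤ j.1) (sf j)
    apply hinj
    rw [← app_res, ← app_res, hsf i, hsf j, rX_rX, rX_rX]
  obtain ⟨a, ha, -⟩ := Y.sheaf.existsUnique_gluing'
    (fun i : {V : Y.Opens // V ∈ 𝓑 ∧ V ≤ U} => i.1) U (fun i => homOfLE i.2.2)
    (le_iSup_basis hB U) sf hcompat
  refine ⟨a, ?_⟩
  apply eq_of_resX_eq p hB U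
  intro V hV hVU
  have ha' : rY hVU a = sf ⟨V, hV, hVU⟩ := ha ⟨V, hV, hVU⟩
  rw [app_res p hVU, ha', hsf ⟨V, hV, hVU⟩]

/-- the sections condition for a quotient can be checked on a basis -/
theorem isQuot_of_basis [IsAffineHom p] {𝓑 : Set Y.Opens} (hB : Opens.IsBasis 𝓑)
    (hgood : ∀ U ∈ 𝓑, Good ρ p hinv U) : SGA1.IsQuot ρ p := by
  refine ⟨inferInstance, hinv, fun U => (good_of_basis ρ p hinv hB hgood U).1, fun U s => ⟨?_, ?_⟩⟩
  · rintro ⟨a, rfl⟩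
    exact app_inv ρ p hinv U a
  · exact fun hs => (good_of_basis ρ p hinv hB hgood U).2 s hs

end Groth.Agent.Lib.Helper11.IQ1
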