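import Mathlib
import Groth.Prelude.Def_SGA1
import Groth.Agent.Lib.Helper5.GroupQuot
import Groth.Agent.Lib.Helper11.IQ1

/-!
# Quotients by finite groups: goodness passes to basic opens of affine opens (helper11)
-/

set_option autoImplicit false
universe u

open CategoryTheory AlgebraicGeometry TopologicalSpace Opposite
open Groth.Agent.Lib.Helper5.GroupQuot Groth.Agent.Lib.Helper11.IQ1

namespace Groth.Agent.Lib.Helper11.IQ2

theorem away_facts {R S : Type*} [CommRing R] [CommRing S] (r : R →+* S) (f : R)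
    (h : @IsLocalization.Away R _ f S _ r.toAlgebra) :
    IsUnit (r f) ∧ (∀ x : S, ∃ (n : ℕ) (c : R), x * r f ^ n = r c) ∧
      (∀ c : R, r c = 0 → ∃ n : ℕ, f ^ n * c = 0) := by
  letI := r.toAlgebra
  haveI := h
  refine ⟨IsLocalization.Away.algebraMap_isUnit f, fun x => ?_, fun c hc => ?_⟩
  · exact IsLocalization.Away.surj f x
  · obtain ⟨⟨_, n, rfl⟩, hm⟩ := (IsLocalization.map_eq_zero_iff (Submonoid.powers f) S c).mp hc
    exact ⟨n, hm⟩

/-- invariants commute with localization at an invariant element (finite group) -/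
theorem loc_good {C A C' A' : Type*} [CommRing C] [CommRing A] [CommRing C'] [CommRing A']
    {G : Type*} [Group G] [Finite G]
    (φ : C →+* A) (φ' : C' →+* A') (rC : C →+* C') (rA : A →+* A')
    (hcomm : ∀ c, φ' (rC c) = rA (φ c)) (f : C)
    (L1 : IsUnit (rC f)) (L2 : ∀ x : C', ∃ (n : ℕ) (c : C), x * rC f ^ n = rC c)
    (M2 : ∀ t : A', ∃ (n : ℕ) (a : A), t * rA (φ f) ^ n = rA a)
    (M3 : ∀ a : A, rA a = 0 → ∃ n : ℕ, φ f ^ n * a = 0)
    (σ : G → A →+* A) (σ' : G → A' →+* A') (hσ : ∀ g a, σ' g (rA a) = rA (σ g a))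
    (hσφ : ∀ g c, σ g (φ c) = φ c)
    (hinj : Function.Injective φ) (hrange : ∀ a, (∀ g, σ g a = a) → a ∈ Set.range φ) :
    Function.Injective φ' ∧ ∀ t, (∀ g, σ' g t = t) → t ∈ Set.range φ' := by
  have hunitA : IsUnit (rA (φ f)) := by
    rw [← hcomm]; exact L1.map φ'
  constructor
  · rw [injective_iff_map_eq_zero]
    intro x hx
    obtain ⟨n, c, hxc⟩ := L2 x
    have h1 : rA (φ c) = 0 := by rw [← hcomm, ← hxc, map_mul, hx, zero_mul]
    obtain ⟨m, hm⟩ := M3 _ h1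
    have h2 : f ^ m * c = 0 := by
      apply hinj
      rw [map_mul, map_pow, hm, map_zero]
    have h3 : rC f ^ m * rC c = 0 := by rw [← map_pow, ← map_mul, h2, map_zero]
    have h4 : rC c = 0 := (L1.pow m).mul_right_eq_zero.mp h3
    rw [h4] at hxc
    exact (L1.pow n).mul_left_eq_zero.mp hxc
  · intro t ht
    obtain ⟨n, a, hta⟩ := M2 t
    have hga : ∀ g, rA (σ g a - a) = 0 := by
      intro g
      rw [map_sub, ← hσ, ← hta, map_mul, map_pow, ht g, hσ, hσφ, sub_self]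
    choose mg hmg using fun g => M3 _ (hga g)
    cases nonempty_fintype G
    let m := ∑ g, mg g
    have hm : ∀ g, φ f ^ m * (σ g a - a) = 0 := by
      intro g
      have hle : mg g ≤ m := Finset.single_le_sum (fun _ _ => Nat.zero_le _) (Finset.mem_univ g)
      obtain ⟨k, hk⟩ := Nat.exists_eq_add_of_le hle
      rw [hk, pow_add, mul_comm (φ f ^ mg g), mul_assoc, hmg g, mul_zero]
    have hinva : ∀ g, σ g (φ f ^ m * a) = φ f ^ m * a := by
      intro g
      rw [map_mul, map_pow, hσφ]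
      have := hm g
      rw [mul_sub, sub_eq_zero] at this
      exact this
    obtain ⟨c, hc⟩ := hrange _ hinva
    have hkey : t * rA (φ f) ^ (n + m) = φ' (rC c) := by
      rw [hcomm, hc, map_mul, map_pow, pow_add, ← mul_assoc, hta, mul_comm]
    obtain ⟨u, hu⟩ := L1
    refine ⟨rC c * ((u⁻¹ : C'ˣ) : C') ^ (n + m), ?_⟩
    have hunit : IsUnit (rA (φ f) ^ (n + m)) := hunitA.pow _
    apply hunit.mul_left_injective
    show φ' (rC c * ((u⁻¹ : C'ˣ) : C') ^ (n + m)) * rA (φ f) ^ (n + m) =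
      t * rA (φ f) ^ (n + m)
    rw [hkey, ← hcomm, ← map_pow, ← map_mul, mul_assoc, ← mul_pow, ← hu, Units.inv_mul, one_pow,
      mul_one]

variable {X Y : Scheme.{u}} {G : Type u} [Group G] (ρ : G →* Aut X) (p : X ⟶ Y)
  (hinv : ∀ g : G, (ρ g).hom ≫ p = p)

theorem act_res {U W : Y.Opens} (h : W ≤ U) (g : G) (s : Γ(X, p ⁻¹ᵁ U)) :
    ((ρ g).hom.appLE (p ⁻¹ᵁ W) (p ⁻¹ᵁ W) (SGA1.preimage_le_of_inv ρ p hinv g W)).hom
      (rX (p.preimage_mono h) s) =
    rX (p.preimage_mono h) (((ρ g).hom.appLE (p ⁻¹ᵁ U) (p ⁻¹ᵁ U)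
      (SGA1.preimage_le_of_inv ρ p hinv g U)).hom s) := by
  have e1 := Scheme.Hom.map_appLE (ρ g).hom (SGA1.preimage_le_of_inv ρ p hinv g W)
    (homOfLE (p.preimage_mono h)).op
  have e2 := Scheme.Hom.appLE_map (ρ g).hom (SGA1.preimage_le_of_inv ρ p hinv g U)
    (homOfLE (p.preimage_mono h)).op
  have e3 := congrArg (fun f => f.hom s) (e1.trans e2.symm)
  simp only [CommRingCat.comp_apply] at e3
  exact e3

/-- goodness passes from an affine open to its basic opens -/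
theorem good_basicOpen [Finite G] [IsAffineHom p] {V : Y.Opens} (hV : IsAffineOpen V)
    (hgV : Good ρ p hinv V) (f : Γ(Y, V)) : Good ρ p hinv (Y.basicOpen f) := by
  have hO : IsAffineOpen (p ⁻¹ᵁ V) := hV.preimage p
  have hle : Y.basicOpen f ≤ V := Y.basicOpen_le f
  obtain ⟨L1, L2, -⟩ := away_facts (rY hle) f
    (hV.isLocalization_of_eq_basicOpen f (homOfLE hle) rfl)
  obtain ⟨-, M2, M3⟩ := away_facts (rX (p.preimage_mono hle)) ((p.app V).hom f)
    (hO.isLocalization_of_eq_basicOpen ((p.app V).hom f) (homOfLE (p.preimage_mono hle))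
      (Scheme.Hom.preimage_basicOpen p f))
  have key := loc_good (G := G) (p.app V).hom (p.app (Y.basicOpen f)).hom (rY hle)
    (rX (p.preimage_mono hle)) (fun c => (app_res p hle c).symm) f L1 L2 M2 M3
    (fun g => ((ρ g).hom.appLE (p ⁻¹ᵁ V) (p ⁻¹ᵁ V)
      (SGA1.preimage_le_of_inv ρ p hinv g V)).hom)
    (fun g => ((ρ g).hom.appLE (p ⁻¹ᵁ (Y.basicOpen f)) (p ⁻¹ᵁ (Y.basicOpen f))
      (SGA1.preimage_le_of_inv ρ p hinv g (Y.basicOpen f))).hom)
    (fun g a => act_res ρ p hinv hle g a)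
    (fun g c => app_inv ρ p hinv V c g) hgV.1 (fun a ha => hgV.2 a ha)
  exact ⟨key.1, fun s hs => key.2 s hs⟩

/-- a quotient criterion: an affine open cover of `Y` by good opens -/
theorem isQuot_of_affine_cover [Finite G] [IsAffineHom p] (𝒱 : Set Y.Opens)
    (haff : ∀ V ∈ 𝒱, IsAffineOpen V) (hcov : ∀ y : Y, ∃ V ∈ 𝒱, y ∈ V)
    (hgood : ∀ V ∈ 𝒱, Good ρ p hinv V) : SGA1.IsQuot ρ p := by
  let 𝓑 : Set Y.Opens := {D | ∃ V ∈ 𝒱, ∃ f : Γ(Y, V), D = Y.basicOpen f}
  have hB : Opens.IsBasis 𝓑 := by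
    rw [Opens.isBasis_iff_nbhd]
    intro U y hy
    obtain ⟨V, hV, hyV⟩ := hcov y
    obtain ⟨f, hfle, hyf⟩ := (haff V hV).exists_basicOpen_le ⟨y, hy⟩ hyV
    exact ⟨Y.basicOpen f, ⟨V, hV, f, rfl⟩, hyf, hfle⟩
  apply isQuot_of_basis ρ p hinv hB
  rintro _ ⟨V, hV, f, rfl⟩
  exact good_basicOpen ρ p hinv (haff V hV) (hgood V hV) f

end Groth.Agent.Lib.Helper11.IQ2
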