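import Groth.Agent.Lib.Helper11.FB1
import Groth.Agent.Lib.Helper11.IQ2
import Groth.Agent.Lib.Helper11.PQ3

/-!
# Helper11 FB2: quotients by finite groups commute with flat base change
-/

set_option autoImplicit false

namespace Groth.Agent.Lib.Helper11.FB2

open CategoryTheory CategoryTheory.Limits AlgebraicGeometry TensorProduct
open Groth.Agent.Lib.Helper11.IQ1

universe u

variable {X Y X' Y' : Scheme.{u}} {G : Type u} [Group G] [Finite G]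

theorem good_chart (ρ : G →* Aut X) (p : X ⟶ Y) (hp : SGA1.IsQuot ρ p) (f : Y' ⟶ Y) [Flat f]
    (pX : X' ⟶ X) (p' : X' ⟶ Y') (hX : IsPullback pX p' p f)
    (ρ' : G →* Aut X') (hρ₁ : ∀ g : G, (ρ' g).hom ≫ pX = pX ≫ (ρ g).hom)
    (hρ₂ : ∀ g : G, (ρ' g).hom ≫ p' = p')
    (V : Y.Opens) (hV : IsAffineOpen V) (V' : Y'.Opens) (hV' : IsAffineOpen V')
    (hVV' : V' ≤ f ⁻¹ᵁ V) :
    Good ρ' p' hρ₂ V' := by
  have hO : IsAffineOpen (p ⁻¹ᵁ V) := by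
    haveI := hp.affine
    exact hV.preimage p
  letI algB : Algebra Γ(Y, V) Γ(X, p ⁻¹ᵁ V) := (p.app V).hom.toAlgebra
  letI algA' : Algebra Γ(Y, V) Γ(Y', V') := (f.appLE V V' hVV').hom.toAlgebra
  haveI flat : Module.Flat Γ(Y, V) Γ(Y', V') :=
    HasRingHomProperty.appLE (P := @Flat) f ‹_› ⟨V, hV⟩ ⟨V', hV'⟩ hVV'
  let σ : G → (Γ(X, p ⁻¹ᵁ V) →ₐ[Γ(Y, V)] Γ(X, p ⁻¹ᵁ V)) := fun g =>
    { ((ρ g).hom.appLE (p ⁻¹ᵁ V) (p ⁻¹ᵁ V) (SGA1.preimage_le_of_inv ρ p hp.inv g V)).hom with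
      commutes' := fun a => (hp.range_iff V _).mp ⟨a, rfl⟩ g }
  obtain ⟨hinj, hrange⟩ := FB1.main (A' := Γ(Y', V')) σ (hp.injective V)
    (fun b hb => (hp.range_iff V b).mpr hb)
  have e₁ : Spec.map (CommRingCat.ofHom (algebraMap Γ(Y, V) Γ(X, p ⁻¹ᵁ V))) ≫ hV.fromSpec =
      hO.fromSpec ≫ p := by
    have h := IsAffineOpen.SpecMap_appLE_fromSpec p hV hO le_rfl
    rw [← Scheme.Hom.app_eq_appLE] at h
    exact h
  have e₂ : Spec.map (CommRingCat.ofHom (algebraMap Γ(Y, V) Γ(Y', V'))) ≫ hV.fromSpec =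
      hV'.fromSpec ≫ f :=
    IsAffineOpen.SpecMap_appLE_fromSpec f hV hV' hVV'
  let m := pullback.map _ _ p f hO.fromSpec hV'.fromSpec hV.fromSpec e₁ e₂
  have hm₁ : m ≫ pullback.fst p f = pullback.fst _ _ ≫ hO.fromSpec := pullback.lift_fst _ _ _
  have hm₂ : m ≫ pullback.snd p f = pullback.snd _ _ ≫ hV'.fromSpec := pullback.lift_snd _ _ _
  let jX : Spec (CommRingCat.of (Γ(X, p ⁻¹ᵁ V) ⊗[Γ(Y, V)] Γ(Y', V'))) ⟶ X' :=
    (pullbackSpecIso Γ(Y, V) Γ(X, p ⁻¹ᵁ V) Γ(Y', V')).inv ≫ m ≫ hX.isoPullback.inv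
  haveI : IsOpenImmersion jX := by
    haveI : IsOpenImmersion m := inferInstance
    infer_instance
  let ιL : Γ(X, p ⁻¹ᵁ V) ⟶ CommRingCat.of (Γ(X, p ⁻¹ᵁ V) ⊗[Γ(Y, V)] Γ(Y', V')) :=
    CommRingCat.ofHom Algebra.TensorProduct.includeLeftRingHom
  let θ : Γ(Y', V') ⟶ CommRingCat.of (Γ(X, p ⁻¹ᵁ V) ⊗[Γ(Y, V)] Γ(Y', V')) :=
    CommRingCat.ofHom (RingHomClass.toRingHom
      (Algebra.TensorProduct.includeRight : Γ(Y', V') →ₐ[Γ(Y, V)] _))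
  have hjX₁ : jX ≫ pX = Spec.map ιL ≫ hO.fromSpec := by
    simp only [jX, Category.assoc, hX.isoPullback_inv_fst]
    rw [hm₁, pullbackSpecIso_inv_fst_assoc]
  have hθ : jX ≫ p' = Spec.map θ ≫ hV'.fromSpec := by
    simp only [jX, Category.assoc, hX.isoPullback_inv_snd]
    rw [hm₂, pullbackSpecIso_inv_snd_assoc]
  have hjX : jX.opensRange = p' ⁻¹ᵁ V' := by
    ext x'
    constructor
    · rintro ⟨t, rfl⟩
      change p' (jX t) ∈ V'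
      rw [← Scheme.Hom.comp_apply, hθ, Scheme.Hom.comp_apply]
      have : hV'.fromSpec ((Spec.map θ) t) ∈ Set.range hV'.fromSpec := ⟨_, rfl⟩
      rw [hV'.range_fromSpec] at this
      exact this
    · intro hx'
      have hx'' : p' x' ∈ V' := hx'
      have h1 : hX.isoPullback.hom x' ∈ Set.range m := by
        rw [Scheme.Pullback.range_map]
        refine ⟨?_, ?_⟩
        · change pullback.fst p f (hX.isoPullback.hom x') ∈ Set.range hO.fromSpec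
          rw [← Scheme.Hom.comp_apply, hX.isoPullback_hom_fst, hO.range_fromSpec]
          change p (pX x') ∈ V
          rw [← Scheme.Hom.comp_apply, hX.w, Scheme.Hom.comp_apply]
          exact hVV' hx''
        · change pullback.snd p f (hX.isoPullback.hom x') ∈ Set.range hV'.fromSpec
          rw [← Scheme.Hom.comp_apply, hX.isoPullback_hom_snd, hV'.range_fromSpec]
          exact hx''
      obtain ⟨t, ht⟩ := h1
      refine ⟨(pullbackSpecIso Γ(Y, V) Γ(X, p ⁻¹ᵁ V) Γ(Y', V')).hom t, ?_⟩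
      change ((pullbackSpecIso Γ(Y, V) Γ(X, p ⁻¹ᵁ V) Γ(Y', V')).inv ≫ m ≫ hX.isoPullback.inv)
        ((pullbackSpecIso Γ(Y, V) Γ(X, p ⁻¹ᵁ V) Γ(Y', V')).hom t) = x'
      rw [← Scheme.Hom.comp_apply, Iso.hom_inv_id_assoc, Scheme.Hom.comp_apply, ht,
        ← Scheme.Hom.comp_apply, Iso.hom_inv_id]
      rfl
  let θg : G → (CommRingCat.of (Γ(X, p ⁻¹ᵁ V) ⊗[Γ(Y, V)] Γ(Y', V')) ⟶
      CommRingCat.of (Γ(X, p ⁻¹ᵁ V) ⊗[Γ(Y, V)] Γ(Y', V'))) := fun g =>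
    CommRingCat.ofHom (RingHomClass.toRingHom
      (Algebra.TensorProduct.map (σ g) (AlgHom.id Γ(Y, V) Γ(Y', V'))))
  have hθg : ∀ g, jX ≫ (ρ' g).hom = Spec.map (θg g) ≫ jX := by
    intro g
    apply hX.hom_ext
    · rw [Category.assoc, hρ₁, reassoc_of% hjX₁, Category.assoc, hjX₁,
        ← IsAffineOpen.SpecMap_appLE_fromSpec (ρ g).hom hO hO
          (SGA1.preimage_le_of_inv ρ p hp.inv g V), ← Spec.map_comp_assoc, ← Spec.map_comp_assoc]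
      congr 2
    · rw [Category.assoc, hρ₂, hθ, Category.assoc, hθ, ← Spec.map_comp_assoc]
      congr 2
      ext a'
      change (1 : Γ(X, p ⁻¹ᵁ V)) ⊗ₜ[Γ(Y, V)] a' =
        Algebra.TensorProduct.map (σ g) (AlgHom.id Γ(Y, V) Γ(Y', V')) (1 ⊗ₜ a')
      rw [Algebra.TensorProduct.map_tmul, map_one]; rfl
  exact PQ3.good_of_chart ρ' p' hρ₂ V' hV'.fromSpec hV'.opensRange_fromSpec jX hjX θ hθ θg hθg
    (fun a b h => hinj h) (fun y hy => hrange y hy)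

theorem isQuot_baseChange (ρ : G →* Aut X) (p : X ⟶ Y) (hp : SGA1.IsQuot ρ p) (f : Y' ⟶ Y) [Flat f]
    (pX : X' ⟶ X) (p' : X' ⟶ Y') (hX : IsPullback pX p' p f)
    (ρ' : G →* Aut X') (hρ₁ : ∀ g : G, (ρ' g).hom ≫ pX = pX ≫ (ρ g).hom)
    (hρ₂ : ∀ g : G, (ρ' g).hom ≫ p' = p') : SGA1.IsQuot ρ' p' := by
  haveI : IsAffineHom p' := MorphismProperty.of_isPullback (P := @IsAffineHom) hX hp.affine
  refine IQ2.isQuot_of_affine_cover ρ' p' hρ₂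
    {V' | IsAffineOpen V' ∧ ∃ V : Y.Opens, IsAffineOpen V ∧ V' ≤ f ⁻¹ᵁ V} (fun V' h => h.1) ?_ ?_
  · intro y'
    obtain ⟨V, hV, hyV⟩ : ∃ V : Y.Opens, IsAffineOpen V ∧ f y' ∈ V := by
      obtain ⟨_, ⟨V, hV, rfl⟩, hyV, -⟩ := Y.isBasis_affineOpens.exists_subset_of_mem_open
        (Set.mem_univ (f y')) isOpen_univ
      exact ⟨V, hV, hyV⟩
    obtain ⟨_, ⟨V', hV', rfl⟩, hyV', hle⟩ := Y'.isBasis_affineOpens.exists_subset_of_mem_open
      (show y' ∈ ((f ⁻¹ᵁ V : Y'.Opens) : Set Y') from hyV) (f ⁻¹ᵁ V).isOpen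
    exact ⟨V', ⟨hV', V, hV, hle⟩, hyV'⟩
  · rintro V' ⟨hV', V, hV, hle⟩
    exact good_chart ρ p hp f pX p' hX ρ' hρ₁ hρ₂ V hV V' hV' hle

end Groth.Agent.Lib.Helper11.FB2
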