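import Mathlib

/-!
# A quotient `P ⧸ ker π` as the filtered colimit of `P ⧸ I`, `I ⊆ ker π` finitely generated (helper11)
-/

set_option autoImplicit false
universe u
open CategoryTheory Limits

namespace Groth.Agent.Lib.Helper11.FGColim

noncomputable section

variable {R P A : Type u} [CommRing R] [CommRing P] [CommRing A] [Algebra R P] [Algebra R A]
variable (π : P →ₐ[R] A)

/-- finitely generated ideals contained in the kernel of `π`. -/
def Idx : Type u := {I : Ideal P // I.FG ∧ ∀ x ∈ I, π x = 0}

instance : Preorder (Idx π) := Subtype.preorder _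

instance : Nonempty (Idx π) := ⟨⟨⊥, Submodule.fg_bot, fun x hx => by
  rw [Ideal.mem_bot] at hx; rw [hx, map_zero]⟩⟩

instance : IsDirected (Idx π) (· ≤ ·) where
  directed I J := ⟨⟨I.1 ⊔ J.1, Submodule.FG.sup I.2.1 J.2.1, fun x hx => by
    obtain ⟨a, ha, b, hb, rfl⟩ := Submodule.mem_sup.mp hx
    rw [map_add, I.2.2 a ha, J.2.2 b hb, add_zero]⟩,
    le_sup_left (a := I.1) (b := J.1), le_sup_right (a := I.1) (b := J.1)⟩

/-- the diagram. -/
def F : Idx π ⥤ Under (CommRingCat.of R) where
  obj I := Under.mk (CommRingCat.ofHom (algebraMap R (P ⧸ I.1)))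
  map {I J} h := Under.homMk (CommRingCat.ofHom (Ideal.Quotient.factor (leOfHom h))) (by
    ext a
    rfl)
  map_id I := by
    ext : 2
    apply Ideal.Quotient.ringHom_ext
    ext x
    rfl
  map_comp f g := by
    ext : 2
    apply Ideal.Quotient.ringHom_ext
    ext x
    rfl

theorem F_map_surjective {I J : Idx π} (h : I ⟶ J) :
    Function.Surjective ((F π).map h).right.hom := by
  intro y
  obtain ⟨p, rfl⟩ := Ideal.Quotient.mk_surjective y
  exact ⟨Ideal.Quotient.mk I.1 p, rfl⟩

/-- the induced map to `A`. -/
def toA (I : Idx π) : (P ⧸ I.1) →ₐ[R] A := Ideal.Quotient.liftₐ I.1 π I.2.2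

/-- the cocone. -/
def cocone : Cocone (F π) where
  pt := Under.mk (CommRingCat.ofHom (algebraMap R A))
  ι :=
    { app := fun I => Under.homMk (CommRingCat.ofHom (toA π I).toRingHom) (by
        ext a
        exact (toA π I).commutes a)
      naturality := by
        intro I J h
        ext : 2
        simp only [Functor.const_obj_obj, Functor.const_obj_map, Category.comp_id]
        apply Ideal.Quotient.ringHom_ext
        ext x
        rfl }

attribute [local instance] IsFiltered.isConnected in
theorem isColimit (hπ : Function.Surjective π) : Nonempty (IsColimit (cocone π)) := by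
  have h1 : IsColimit ((forget CommRingCat).mapCocone
      ((Under.forget (CommRingCat.of R)).mapCocone (cocone π))) := by
    apply Types.FilteredColimit.isColimitOf'
    · intro a
      obtain ⟨p, rfl⟩ := hπ a
      exact ⟨Classical.arbitrary _, Ideal.Quotient.mk _ p, rfl⟩
    · intro I (x : P ⧸ I.1) (y : P ⧸ I.1) (hxy : toA π I x = toA π I y)
      obtain ⟨p, rfl⟩ := Ideal.Quotient.mk_surjective x
      obtain ⟨p', rfl⟩ := Ideal.Quotient.mk_surjective y
      have hpp : π p = π p' := hxy
      let J : Idx π := ⟨I.1 ⊔ Ideal.span {p - p'}, Submodule.FG.sup I.2.1 ⟨{p - p'}, by simp⟩, fun z hz => by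
        obtain ⟨a, ha, b, hb, rfl⟩ := Submodule.mem_sup.mp hz
        obtain ⟨c, rfl⟩ := Ideal.mem_span_singleton'.mp hb
        rw [map_add, I.2.2 a ha, map_mul, map_sub, hpp, sub_self, mul_zero, add_zero]⟩
      have hIJ : I ≤ J := le_sup_left (a := I.1)
      refine ⟨J, homOfLE hIJ, ?_⟩
      show Ideal.Quotient.mk J.1 p = Ideal.Quotient.mk J.1 p'
      rw [Ideal.Quotient.eq]
      exact Ideal.mem_sup_right (Ideal.subset_span rfl)
  haveI : ReflectsColimit (F π ⋙ Under.forget (CommRingCat.of R)) (forget CommRingCat) :=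
    reflectsColimit_of_reflectsIsomorphisms _ _
  have h2 : IsColimit ((Under.forget (CommRingCat.of R)).mapCocone (cocone π)) :=
    isColimitOfReflects (forget CommRingCat) h1
  exact ⟨isColimitOfReflects (Under.forget (CommRingCat.of R)) h2⟩

end

end Groth.Agent.Lib.Helper11.FGColim
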