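import Mathlib
import Groth.Agent.Lib.Helper11.FP4

/-!
# FP5: the equaliser hypothesis when all opens of `X` are stable under `a`.
-/

set_option autoImplicit false
universe u
open CategoryTheory Limits AlgebraicGeometry

namespace Groth.Agent.Lib.Helper11.FP5

open Groth.Agent.Lib.Helper11 Groth.Agent.Lib.Helper11.FP1 Groth.Agent.Lib.Helper11.FP2

theorem hasEq_of_stable {k : Type u} [Field k] {X Y : Scheme.{u}}
    (p : X ⟶ Spec (CommRingCat.of k))
    (q : Y ⟶ Spec (CommRingCat.of k)) (a : pullback q p ⟶ X)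
    (ha : a ≫ p = pullback.snd q p ≫ p)
    (hstab : ∀ U : X.Opens, pullback.snd q p ⁻¹ᵁ U ≤ a ⁻¹ᵁ U) : HasEq p q a := by
  intro U W y v h hv
  set g₁ := pullback.lift y v h ≫ a with hg₁
  have hr1 : Set.range g₁ ⊆ Set.range U.2.fromSpec := by
    rw [U.2.range_fromSpec]
    rintro _ ⟨ξ, rfl⟩
    have h1 : pullback.lift y v h ξ ∈ pullback.snd q p ⁻¹ᵁ (U : X.Opens) := by
      show pullback.snd q p (pullback.lift y v h ξ) ∈ (U : X.Opens)
      rw [← Scheme.Hom.comp_apply, pullback.lift_snd]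
      exact hv ⟨ξ, rfl⟩
    have h2 := hstab U h1
    rw [hg₁, Scheme.Hom.comp_apply]
    exact h2
  have hr2 : Set.range v ⊆ Set.range U.2.fromSpec := by
    rw [U.2.range_fromSpec]; exact hv
  let g₁' := IsOpenImmersion.lift U.2.fromSpec g₁ hr1
  let g₂' := IsOpenImmersion.lift U.2.fromSpec v hr2
  have e₁ : g₁' ≫ U.2.fromSpec = g₁ := IsOpenImmersion.lift_fac _ _ _
  have e₂ : g₂' ≫ U.2.fromSpec = v := IsOpenImmersion.lift_fac _ _ _
  have hgp : g₁ ≫ p = v ≫ p := by
    rw [hg₁, Category.assoc, ha, pullback.lift_snd_assoc]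
  obtain ⟨E, ι, hιc, hι, huniv⟩ := AA3.exists_equalizer g₁' g₂' (U.2.fromSpec ≫ p)
    (by rw [← Category.assoc, e₁, ← Category.assoc, e₂, hgp])
  refine ⟨E, ι, hιc, ?_, ?_⟩
  · rw [← e₁, ← e₂, ← Category.assoc, hι, Category.assoc]
  · intro T g hg
    apply huniv g
    rw [← cancel_mono U.2.fromSpec, Category.assoc, Category.assoc, e₁, e₂]
    exact hg

end Groth.Agent.Lib.Helper11.FP5
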