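import Groth.Agent.S0469
import Groth.Agent.Lib.Helper2.LocCohZ.ClosedAdj
import Groth.Agent.Lib.Helper3.SpecTop
import Groth.Agent.Lib.Helper13.ClosedEmbPush

/-!
# Cohomology of a sheaf supported on a closed subset of small dimension (helper11)

`X` spectral, `U` open with closed complement `Z` of Krull dimension `≤ d`, `N` an abelian sheaf
all of whose sections over opens inside `U` vanish: then `H^p(X, N) = 0` for `p > d`.
-/

set_option autoImplicit false
universe u
open CategoryTheory CategoryTheory.Limits Opposite TopologicalSpace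

noncomputable section

namespace Groth.Agent.Lib.Helper11.FibVanA

open Groth.Agent.Lib.Helper2.LocCohZLib

theorem subsingleton_H_of_vanishOn {X : TopCat.{u}} [SpectralSpace X] (U : Opens X)
    (N : CohTop.Ab X) (hN : VanishOn U N) (d : ℕ)
    (hd : topologicalKrullDim (((U : Set X)ᶜ : Set X)) ≤ d) (p : ℕ) (hp : d < p) :
    Subsingleton (CohTop.H N p) := by
  obtain ⟨G, ⟨e⟩⟩ := essImage_of_vanishOn U N hN
  have hcl : IsClosed (((U : Set X)ᶜ : Set X)) := U.isOpen.isClosed_compl
  haveI : SpectralSpace (((U : Set X)ᶜ : Set X)) :=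
    (Groth.Agent.Lib.Helper3.SpecTop.spectral_of_isClosed_cons
      (IsClosed.mono hcl Groth.Agent.Lib.Helper3.SpecTop.cons_le)).1
  haveI : SpectralSpace (TopCat.of (((U : Set X)ᶜ : Set X))) := this
  have h1 : Subsingleton (CohTop.H G p) :=
    Groth.Agent.S0469.result (X := TopCat.of (((U : Set X)ᶜ : Set X))) d hd G p hp
  have e1 := Groth.Agent.Lib.Helper13.ClosedEmbPush.HEquivPush (f := CohCx.inclCompl U)
    (isClosedEmbedding_inclCompl U) G p
  have h2 : Subsingleton (CohTop.H ((CohTop.push (CohCx.inclCompl U)).obj G) p) :=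
    e1.toEquiv.subsingleton_congr.1 h1
  exact (Groth.Agent.Lib.Helper13.ExtAdj.extIsoRight _ e p).toEquiv.subsingleton_congr.1 h2

end Groth.Agent.Lib.Helper11.FibVanA
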