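import Groth.Agent.Lib.Helper1.FFIM

/-!
# `M / I^n M` vanishes away from the preimage of `V(I)` (helper11)

For `X` over `Spec A`, `I` an ideal of `A`, and `U = ⋃_{a ∈ I} X_a` (the complement of the preimage
of `V(I)`): every section of `M / I^n M` over an open contained in `U` is zero.
-/

set_option autoImplicit false
universe u
open CategoryTheory CategoryTheory.Limits AlgebraicGeometry Opposite TopologicalSpace
open Formal

noncomputable section

namespace Groth.Agent.Lib.Helper11.FibVanB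

open Groth.Agent.Lib.Helper1.FFIM

variable {A : Type u} [CommRing A] {X : Scheme.{u}} [X.Over (Spec (CommRingCat.of A))]

/-- the global function attached to `a : A`, as an element of `Γ(X, ⊤)`. -/
def gl (a : A) : Γ(X, ⊤) := Coh.toGlobal (X ↘ Spec (CommRingCat.of A)) a

variable (X) in
/-- the complement of the preimage of `V(I)`. -/
def openCompl (I : Ideal A) : X.Opens := ⨆ a : I, X.basicOpen (gl (X := X) (a : A))

lemma mem_openCompl_iff (I : Ideal A) (x : X) :
    x ∈ openCompl X I ↔ ∃ a ∈ I, x ∈ X.basicOpen (gl (X := X) a) := by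
  unfold openCompl
  rw [Opens.mem_iSup]
  constructor
  · rintro ⟨a, ha⟩
    exact ⟨a.1, a.2, ha⟩
  · rintro ⟨a, ha, hx⟩
    exact ⟨⟨a, ha⟩, hx⟩

lemma mem_basicOpen_gl_iff (a : A) (x : X) :
    x ∈ X.basicOpen (gl (X := X) a) ↔
      a ∉ ((X ↘ Spec (CommRingCat.of A)) x).asIdeal := by
  have h1 : X.basicOpen (gl (X := X) a) =
      (X ↘ Spec (CommRingCat.of A)) ⁻¹ᵁ
        ((Spec (CommRingCat.of A)).basicOpen ((Scheme.ΓSpecIso (CommRingCat.of A)).inv a)) := by
    rw [Scheme.preimage_basicOpen_top]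
    rfl
  rw [h1, basicOpen_eq_of_affine]
  rfl

lemma mem_openCompl_iff' (I : Ideal A) (x : X) :
    x ∈ openCompl X I ↔ ¬ I ≤ ((X ↘ Spec (CommRingCat.of A)) x).asIdeal := by
  rw [mem_openCompl_iff]
  constructor
  · rintro ⟨a, ha, hx⟩ hle
    exact (mem_basicOpen_gl_iff a x).1 hx (hle ha)
  · intro h
    obtain ⟨a, ha, hna⟩ := SetLike.not_le_iff_exists.1 h
    exact ⟨a, ha, (mem_basicOpen_gl_iff a x).2 hna⟩

/-- a section killed by a power of a function which is invertible on the open is zero. -/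
lemma eq_zero_of_pow_smul (N : X.Modules) (r : Γ(X, ⊤)) (n : ℕ)
    (h0 : smulModΓ N (r ^ n) = 0) (W : X.Opens) (hW : W ≤ X.basicOpen r)
    (t : N.val.obj (op W)) : t = 0 := by
  have h1 : (Coh.smulAb N (r ^ n)).hom.app (op W) t = 0 := by
    have h2 : (SheafOfModules.toSheaf X.ringCatSheaf).map (smulModΓ N (r ^ n)) = 0 := by
      rw [h0]; rfl
    have h3 : (SheafOfModules.toSheaf X.ringCatSheaf).map (smulModΓ N (r ^ n)) =
        Coh.smulAb N (r ^ n) := rfl
    rw [← h3, h2]
    rfl
  rw [Coh.smulAb_app] at h1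
  have hu : IsUnit (Coh.resTop X (op W) r) := by
    have h4 : IsUnit (X.presheaf.map (homOfLE (X.basicOpen_le r)).op r) :=
      RingedSpace.isUnit_res_basicOpen X.toRingedSpace r
    have h5 : Coh.resTop X (op W) r =
        (X.presheaf.map (homOfLE hW).op).hom
          ((X.presheaf.map (homOfLE (X.basicOpen_le r)).op).hom r) := by
      change _ = (X.presheaf.map (homOfLE (X.basicOpen_le r)).op ≫
        X.presheaf.map (homOfLE hW).op).hom r
      rw [← Functor.map_comp]
      rfl
    rw [h5]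
    exact h4.map _
  have hu' : IsUnit (Coh.resTop X (op W) (r ^ n)) := by
    have h7 : Coh.resTop X (op W) (r ^ n) = (Coh.resTop X (op W) r) ^ n :=
      map_pow (Coh.resTop X (op W)) r n
    rw [h7]
    exact hu.pow n
  obtain ⟨v, hv⟩ := hu'
  have h6 : (↑v⁻¹ : X.ringCatSheaf.obj.obj (op W)) •
      ((v : X.ringCatSheaf.obj.obj (op W)) • t) = t := by
    rw [← mul_smul, Units.inv_mul, one_smul]
  rw [← h6, hv, h1]
  exact @smul_zero (X.ringCatSheaf.obj.obj (op W)) (N.val.obj (op W)) _
    (N.val.obj (op W)).isModule.toDistribMulAction.toDistribSMul.toSMulZeroClass _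

lemma smulModΓ_gl_pow_modPow (I : Ideal A) (M : X.Modules) (n : ℕ) (a : A) (ha : a ∈ I) :
    smulModΓ (modPow I n M) ((gl (X := X) a) ^ n) = 0 := by
  have h1 := smulMod_modPow I M n (a ^ n) (Ideal.pow_mem_pow ha n)
  have h2 : smulMod A (modPow I n M) (a ^ n) =
      smulModΓ (modPow I n M) (Coh.toGlobal (X ↘ Spec (CommRingCat.of A)) (a ^ n)) := rfl
  rw [h2, map_pow] at h1
  exact h1

/-- **Sections of `M / I^n M` over opens away from the preimage of `V(I)` vanish.** -/
theorem section_eq_zero (I : Ideal A) (M : X.Modules) (n : ℕ) (W : X.Opens)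
    (hW : W ≤ openCompl X I) (t : (modPow I n M).val.obj (op W)) : t = 0 := by
  let Us : I → X.Opens := fun a => W ⊓ X.basicOpen (gl (X := X) (a : A))
  have hcov : W ≤ ⨆ a, Us a := by
    intro x hx
    obtain ⟨a, ha, hxa⟩ := (mem_openCompl_iff I x).1 (hW hx)
    exact Opens.mem_iSup.2 ⟨⟨a, ha⟩, hx, hxa⟩
  refine TopCat.Sheaf.eq_of_locally_eq' (Coh.toAb (modPow I n M)) Us W
    (fun a => homOfLE inf_le_left) hcov t 0 (fun a => ?_)
  rw [map_zero]
  exact eq_zero_of_pow_smul (modPow I n M) (gl (X := X) (a : A)) n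
    (smulModΓ_gl_pow_modPow I M n a a.2) (Us a) inf_le_right _

end Groth.Agent.Lib.Helper11.FibVanB
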