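import Groth.Agent.Lib.Helper11.FibVanA
import Groth.Agent.Lib.Helper11.FibVanB
import Groth.Agent.Lib.Helper1.FFFinal

/-!
# Vanishing of coherent cohomology above the dimension of the closed fibre (helper11)

`A` Noetherian local, `X` proper over `Spec A`, `M` coherent, the closed fibre of dimension `≤ d`:
then `H^p(X, M) = 0` for `p > d`.  (Formal functions in the filtration form `s0057`, Grothendieck
vanishing on the closed fibre, Nakayama.)
-/

set_option autoImplicit false
universe u
open CategoryTheory CategoryTheory.Limits AlgebraicGeometry Opposite TopologicalSpace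
open Formal

noncomputable section

namespace Groth.Agent.Lib.Helper11.FibVanC

open Groth.Agent.Lib.Helper11.FibVanA Groth.Agent.Lib.Helper11.FibVanB
  Groth.Agent.Lib.Helper2.LocCohZLib

variable (A : Type u) [CommRing A] {X : Scheme.{u}} [X.Over (Spec (CommRingCat.of A))]

lemma vanishOn_modPow (I : Ideal A) (M : X.Modules) (n : ℕ) :
    VanishOn (X := X.toTopCat) (openCompl X I) (Coh.toAb (modPow I n M)) :=
  fun W hW s => section_eq_zero I M n W hW s

variable [IsNoetherianRing A] [IsProper (X ↘ Spec (CommRingCat.of A))]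

include A in
theorem subsingleton_HH_modPow (I : Ideal A) (M : X.Modules) (n d : ℕ)
    (hd : topologicalKrullDim ((((openCompl X I : X.Opens) : Set X)ᶜ : Set X)) ≤ d)
    (p : ℕ) (hp : d < p) : Subsingleton (Coh.HH X (modPow I n M) p) := by
  haveI : CompactSpace X :=
    QuasiCompact.compactSpace_of_compactSpace (X ↘ Spec (CommRingCat.of A))
  haveI : QuasiSeparatedSpace X :=
    quasiSeparatedSpace_of_quasiSeparated (X ↘ Spec (CommRingCat.of A))
  have hsp : SpectralSpace X := {}
  haveI : SpectralSpace ↑X.toTopCat := hsp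
  exact subsingleton_H_of_vanishOn (X := X.toTopCat) (openCompl X I)
    (Coh.toAb (modPow I n M)) (vanishOn_modPow A I M n) d hd p hp

theorem subsingleton_HH [IsLocalRing A] (M : X.Modules) (hM : Coh.IsCoh M) (d : ℕ)
    (hd : topologicalKrullDim
      ((((openCompl X (IsLocalRing.maximalIdeal A) : X.Opens) : Set X)ᶜ : Set X)) ≤ d)
    (p : ℕ) (hp : d < p) : Subsingleton (Coh.HH X M p) := by
  set I := IsLocalRing.maximalIdeal A with hI
  obtain ⟨c, hc⟩ := Groth.Agent.Lib.Helper1.FFFinal.s0057 A I M p hM
  haveI : Module.Finite A (Coh.HH X M p) := Groth.Agent.Lib.Helper23.T2.finite_HH A M hM p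
  have hsub : Subsingleton (HHmodPow I M p (c + 1)) :=
    subsingleton_HH_modPow A I M (c + 1 + 1) d hd p hp
  have hker : ((Formal.toHHmodPow I M p (c + 1)).ker : Set (Coh.HH X M p)) = Set.univ := by
    ext x
    simp only [SetLike.mem_coe, AddMonoidHom.mem_ker, Set.mem_univ, iff_true]
    exact Subsingleton.elim _ _
  have h1 := hc (c + 1) (Nat.le_succ c)
  rw [hker] at h1
  have h2 : (⊤ : Submodule A (Coh.HH X M p)) ≤ I • (⊤ : Submodule A (Coh.HH X M p)) := by
    intro x _
    have h3 := h1 (Set.mem_univ x)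
    have h4 : c + 1 - c = 1 := by omega
    rw [h4, pow_one] at h3
    exact h3
  have h5 : (⊤ : Submodule A (Coh.HH X M p)) = ⊥ :=
    Submodule.eq_bot_of_le_smul_of_le_jacobson_bot I ⊤ Module.Finite.fg_top h2
      (IsLocalRing.maximalIdeal_le_jacobson ⊥)
  refine ⟨fun a b => ?_⟩
  have ha : a ∈ (⊤ : Submodule A (Coh.HH X M p)) := trivial
  have hb : b ∈ (⊤ : Submodule A (Coh.HH X M p)) := trivial
  rw [h5, Submodule.mem_bot] at ha hb
  rw [ha, hb]

end Groth.Agent.Lib.Helper11.FibVanC
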