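import Groth.Agent.Lib.Helper11.FibVanC
import Groth.Agent.Lib.Helper13.StalkFBC2
import Groth.Agent.Lib.Helper2.RpushCompare
import Groth.Agent.Lib.Helper23.T2J

/-!
# Stalks of higher direct images vanish above the fibre dimension (helper11)

`f : X ⟶ Y` proper, `Y` locally Noetherian, `y : Y` with `dim X_y ≤ d`, `M` coherent, `p > d`:
`(R^p f_* M)_y = 0`.
-/

set_option autoImplicit false
universe u
open CategoryTheory CategoryTheory.Limits AlgebraicGeometry Opposite TopologicalSpace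

noncomputable section

namespace Groth.Agent.Lib.Helper11.FibVanD

open Groth.Agent.Lib.Helper11.FibVanB Groth.Agent.Lib.Helper11.FibVanC

section Dim

variable {X Y X₁ : Scheme.{u}} (f : X ⟶ Y) (y : Y)
  [X₁.Over (Spec (CommRingCat.of (Y.presheaf.stalk y)))] (g : X₁ ⟶ X)
  (hsq : IsPullback g (X₁ ↘ Spec (CommRingCat.of (Y.presheaf.stalk y))) f (Y.fromSpecStalk y))

include hsq in
/-- the closed fibre of `X ×_Y Spec O_{Y,y}` has dimension at most that of `X_y`. -/
lemma dim_closedFibre_le :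
    topologicalKrullDim ((((openCompl X₁ (IsLocalRing.maximalIdeal (Y.presheaf.stalk y)) :
      X₁.Opens) : Set X₁)ᶜ : Set X₁)) ≤ topologicalKrullDim ↥(f.fiber y) := by
  set φ : X₁ ⟶ Spec (CommRingCat.of (Y.presheaf.stalk y)) :=
    X₁ ↘ Spec (CommRingCat.of (Y.presheaf.stalk y)) with hφ
  set Z : Set X₁ := (((openCompl X₁ (IsLocalRing.maximalIdeal (Y.presheaf.stalk y)) :
      X₁.Opens) : Set X₁)ᶜ : Set X₁) with hZ
  haveI : IsPreimmersion g :=
    MorphismProperty.of_isPullback (P := @IsPreimmersion) hsq.flip inferInstance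
  have hφz : ∀ z ∈ Z, φ z = IsLocalRing.closedPoint (Y.presheaf.stalk y) := by
    intro z hz
    have h1 : ¬ z ∈ openCompl X₁ (IsLocalRing.maximalIdeal (Y.presheaf.stalk y)) := hz
    rw [mem_openCompl_iff'] at h1
    have h2 : IsLocalRing.maximalIdeal (Y.presheaf.stalk y) ≤ (φ z).asIdeal := not_not.1 h1
    have h3 : IsLocalRing.maximalIdeal (Y.presheaf.stalk y) = (φ z).asIdeal :=
      (IsLocalRing.maximalIdeal.isMaximal _).eq_of_le (φ z).isPrime.ne_top h2
    exact PrimeSpectrum.ext h3.symm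
  have hfz : ∀ z ∈ Z, f (g z) = y := by
    intro z hz
    have h1 : f (g z) = (Y.fromSpecStalk y) (φ z) := by
      have hw : g ≫ f = φ ≫ Y.fromSpecStalk y := hsq.w
      change (g ≫ f) z = (φ ≫ Y.fromSpecStalk y) z
      rw [hw]
    rw [h1, hφz z hz]
    exact Scheme.fromSpecStalk_closedPoint
  let ψ : Z → f ⁻¹' {y} := fun z => ⟨g z.1, hfz z.1 z.2⟩
  have hψ : Topology.IsInducing ψ := by
    have h1 : Topology.IsInducing (fun z : Z => g z.1) :=
      g.isEmbedding.isInducing.comp Topology.IsInducing.subtypeVal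
    exact h1.codRestrict (fun z => hfz z.1 z.2)
  have h2 : Topology.IsInducing ((f.fiberHomeo y).symm ∘ ψ) :=
    (f.fiberHomeo y).symm.isInducing.comp hψ
  exact h2.topologicalKrullDim_le

end Dim

variable {X Y : Scheme.{u}} (f : X ⟶ Y) (y : Y)

variable [IsProper f] [IsLocallyNoetherian Y]

theorem subsingleton_stalk_Rpush (d : ℕ) (hd : topologicalKrullDim ↥(f.fiber y) ≤ d)
    (M : X.Modules) (hM : Coh.IsCoh M) (p : ℕ) (hp : d < p) :
    Subsingleton ((((Scheme.Modules.pushforward f).rightDerived p).obj M).presheaf.stalk y) := by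
  letI : (pullback f (Y.fromSpecStalk y)).Over (Spec (CommRingCat.of (Y.presheaf.stalk y))) :=
    ⟨pullback.snd f (Y.fromSpecStalk y)⟩
  have hsq : IsPullback (pullback.fst f (Y.fromSpecStalk y))
      ((pullback f (Y.fromSpecStalk y)) ↘ Spec (CommRingCat.of (Y.presheaf.stalk y))) f
      (Y.fromSpecStalk y) := IsPullback.of_hasPullback _ _
  haveI : IsProper ((pullback f (Y.fromSpecStalk y)) ↘
      Spec (CommRingCat.of (Y.presheaf.stalk y))) :=
    inferInstanceAs (IsProper (pullback.snd f (Y.fromSpecStalk y)))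
  have hM₁ : Coh.IsCoh ((Scheme.Modules.pullback (pullback.fst f (Y.fromSpecStalk y))).obj M) :=
    Groth.Agent.Lib.Helper23.T2.isCoh_pullback _ hM
  have hsub : Subsingleton (Coh.HH (pullback f (Y.fromSpecStalk y))
      ((Scheme.Modules.pullback (pullback.fst f (Y.fromSpecStalk y))).obj M) p) :=
    subsingleton_HH (Y.presheaf.stalk y) _ hM₁ d ((dim_closedFibre_le f y _ hsq).trans hd) p hp
  haveI : M.IsQuasicoherent := hM.1
  obtain ⟨e, -⟩ := Groth.Agent.Lib.Helper13.StalkFBC2.exists_stalk_equiv f y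
    (pullback.fst f (Y.fromSpecStalk y)) hsq p M
  exact e.toEquiv.subsingleton_congr.2 hsub

theorem isZero_stalk_RpushAb (d : ℕ) (hd : topologicalKrullDim ↥(f.fiber y) ≤ d)
    (M : X.Modules) (hM : Coh.IsCoh M) (p : ℕ) (hp : d < p) :
    Limits.IsZero (TopCat.Presheaf.stalk ((Coh.RpushAb f p).obj (Coh.toAb M)).obj y) := by
  haveI : EnoughInjectives X.Modules :=
    Groth.Agent.Lib.Helper13.ModGrothendieck.enoughInjectives X.ringCatSheaf
  have h1 := subsingleton_stalk_Rpush f y d hd M hM p hp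
  obtain ⟨iso⟩ := Groth.Agent.Lib.Helper2.RpushCompare.nonempty_toAb_Rpush_iso f M p
  have iso2 := (TopCat.Presheaf.stalkFunctor AddCommGrpCat.{u} y).mapIso
    ((sheafToPresheaf _ _).mapIso iso)
  refine IsZero.of_iso ?_ iso2.symm
  haveI h2 : Subsingleton ((TopCat.Presheaf.stalkFunctor AddCommGrpCat.{u} y).obj
      ((sheafToPresheaf _ _).obj (Coh.toAb ((Coh.Rpush f p).obj M)))) := h1
  exact AddCommGrpCat.isZero_of_subsingleton _

end Groth.Agent.Lib.Helper11.FibVanD
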