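import Mathlib

/-!
# Two embeddings of a field become conjugate in a large algebraically closed extension (helper11)
-/

set_option autoImplicit false
universe u

open Cardinal

namespace Groth.Agent.Lib.Helper11.FieldAuto

section E

variable {R K₁ K₂ : Type*} [CommRing R] [Field K₁] [Field K₂] [Algebra R K₁] [Algebra R K₂]
  [IsAlgClosed K₁] [IsAlgClosed K₂] {ι₁ ι₂ : Type*} (v₁ : ι₁ → K₁) (v₂ : ι₂ → K₂)

/-- `R`-linear refinement of `IsAlgClosed.equivOfTranscendenceBasis`. -/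
theorem exists_ringEquiv_of_transcendenceBasis (e : ι₁ ≃ ι₂) (hv₁ : IsTranscendenceBasis R v₁)
    (hv₂ : IsTranscendenceBasis R v₂) :
    ∃ Θ : K₁ ≃+* K₂, ∀ r : R, Θ (algebraMap R K₁ r) = algebraMap R K₂ r := by
  letI := IsAlgClosed.isAlgClosure_of_transcendence_basis v₁ hv₁
  letI := IsAlgClosed.isAlgClosure_of_transcendence_basis v₂ hv₂
  let e₁ : MvPolynomial ι₁ R ≃ₐ[R] Algebra.adjoin R (Set.range v₁) := hv₁.1.aevalEquiv
  let e₂ : MvPolynomial ι₂ R ≃ₐ[R] Algebra.adjoin R (Set.range v₂) := hv₂.1.aevalEquiv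
  let em : MvPolynomial ι₁ R ≃ₐ[R] MvPolynomial ι₂ R := MvPolynomial.renameEquiv R e
  let E : Algebra.adjoin R (Set.range v₁) ≃ₐ[R] Algebra.adjoin R (Set.range v₂) :=
    (e₁.symm.trans em).trans e₂
  refine ⟨IsAlgClosure.equivOfEquiv K₁ K₂ E.toRingEquiv, fun r => ?_⟩
  have h1 : algebraMap R K₁ r = algebraMap (Algebra.adjoin R (Set.range v₁)) K₁
      (algebraMap R (Algebra.adjoin R (Set.range v₁)) r) := rfl
  rw [h1, IsAlgClosure.equivOfEquiv_algebraMap]
  show algebraMap (Algebra.adjoin R (Set.range v₂)) K₂ (E (algebraMap R _ r)) = _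
  rw [E.commutes]
  rfl

end E

variable {k K : Type u} [Field k] [Field K]

theorem exists_transcendenceBasis_of_tower {Ω : Type u} [Field Ω] [Algebra k K] [Algebra K Ω]
    [Algebra k Ω] [IsScalarTower k K Ω] {I : Type u} (y : I → Ω) (hy : IsTranscendenceBasis K y)
    (hI : ℵ₀ ≤ #I) (hKI : #K ≤ #I) :
    ∃ (ι : Type u) (v : ι → Ω), IsTranscendenceBasis k v ∧ Nonempty (ι ≃ I) := by
  haveI : FaithfulSMul k K :=
    (faithfulSMul_iff_algebraMap_injective k K).mpr (algebraMap k K).injective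
  obtain ⟨ιB, x, hx⟩ := exists_isTranscendenceBasis' k K
  refine ⟨I ⊕ ιB, _, hx.sumElim_comp hy, ?_⟩
  apply Cardinal.eq.mp
  have h1 : #ιB ≤ #I := (Cardinal.mk_le_of_injective hx.1.injective).trans hKI
  rw [Cardinal.mk_sum, Cardinal.lift_id, Cardinal.lift_id]
  exact Cardinal.add_eq_left hI h1

/-- the big algebraically closed field -/
abbrev Big (K : Type u) [Field K] : Type u :=
  AlgebraicClosure (FractionRing (MvPolynomial (K ⊕ ℕ) K))

theorem isTranscendenceBasis_big (K : Type u) [Field K] :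
    IsTranscendenceBasis K (algebraMap (MvPolynomial (K ⊕ ℕ) K) (Big K) ∘
      (MvPolynomial.X : (K ⊕ ℕ) → MvPolynomial (K ⊕ ℕ) K)) := by
  let S := MvPolynomial (K ⊕ ℕ) K
  have hyS : IsTranscendenceBasis K (MvPolynomial.X : (K ⊕ ℕ) → S) :=
    IsTranscendenceBasis.mvPolynomial _ K
  haveI : Algebra.IsAlgebraic S (FractionRing S) :=
    IsLocalization.isAlgebraic _ (nonZeroDivisors S)
  haveI : Algebra.IsAlgebraic S (Big K) := Algebra.IsAlgebraic.trans S (FractionRing S) (Big K)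
  haveI : FaithfulSMul S (Big K) := by
    rw [faithfulSMul_iff_algebraMap_injective, IsScalarTower.algebraMap_eq S (FractionRing S) (Big K)]
    exact (algebraMap (FractionRing S) (Big K)).injective.comp (IsFractionRing.injective S _)
  exact hyS.algebraMap_comp

theorem exists_transcendenceBasis (ρ : k →+* K) :
    letI : Algebra k (Big K) := ((algebraMap K (Big K)).comp ρ).toAlgebra
    ∃ (ι : Type u) (v : ι → Big K), IsTranscendenceBasis k v ∧ Nonempty (ι ≃ (K ⊕ ℕ)) := by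
  letI := ρ.toAlgebra
  letI : Algebra k (Big K) := ((algebraMap K (Big K)).comp ρ).toAlgebra
  haveI : @IsScalarTower k K (Big K) Algebra.toSMul Algebra.toSMul Algebra.toSMul :=
    IsScalarTower.of_algebraMap_eq' rfl
  exact exists_transcendenceBasis_of_tower _ (isTranscendenceBasis_big K)
    (Cardinal.aleph0_le_mk _) (Cardinal.mk_le_of_injective (Sum.inl_injective (β := ℕ)))

theorem exists_algClosed_auto (σ τ : k →+* K) :
    ∃ (k' : Type u) (_ : Field k') (_ : IsAlgClosed k') (j : K →+* k') (Θ : k' ≃+* k'),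
      ∀ x, Θ (j (τ x)) = j (σ x) := by
  obtain ⟨ι₁, v₁, hv₁, ⟨e₁⟩⟩ := exists_transcendenceBasis τ
  obtain ⟨ι₂, v₂, hv₂, ⟨e₂⟩⟩ := exists_transcendenceBasis σ
  obtain ⟨Θ, hΘ⟩ := @exists_ringEquiv_of_transcendenceBasis k (Big K) (Big K) _ _ _
    ((algebraMap K (Big K)).comp τ).toAlgebra ((algebraMap K (Big K)).comp σ).toAlgebra _ _
    ι₁ ι₂ v₁ v₂ (e₁.trans e₂.symm) hv₁ hv₂
  exact ⟨Big K, inferInstance, inferInstance, algebraMap K (Big K), Θ, hΘ⟩

end Groth.Agent.Lib.Helper11.FieldAuto
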