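import Mathlib

/-!
# FinFib: for a finite morphism `g : Z ⟶ X`, points of the fibre over `x` correspond to the maximal
ideals of the stalk `(g_* O_Z)_x` (helper11)
-/

set_option autoImplicit false
universe u

open CategoryTheory AlgebraicGeometry TopologicalSpace

namespace Groth.Agent.Lib.Helper11.FinFib

section Affine

variable {X : Scheme.{u}} {U : X.Opens} (hU : IsAffineOpen U)

include hU in
theorem pt_ext (z z' : X) (hz : z ∈ U) (hz' : z' ∈ U)
    (h : ∀ b : Γ(X, U), z ∈ X.basicOpen b ↔ z' ∈ X.basicOpen b) : z = z' := by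
  have hr := hU.range_fromSpec
  obtain ⟨y, rfl⟩ : z ∈ Set.range hU.fromSpec := by rw [hr]; exact hz
  obtain ⟨y', rfl⟩ : z' ∈ Set.range hU.fromSpec := by rw [hr]; exact hz'
  have key : ∀ (w : Spec Γ(X, U)) (b : Γ(X, U)),
      hU.fromSpec w ∈ X.basicOpen b ↔ b ∉ w.asIdeal := by
    intro w b
    have : hU.fromSpec w ∈ X.basicOpen b ↔ w ∈ hU.fromSpec ⁻¹ᵁ X.basicOpen b := Iff.rfl
    rw [this, hU.fromSpec_preimage_basicOpen]
    rfl
  have : y = y' := by
    apply PrimeSpectrum.ext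
    ext b
    have := h b
    rw [key, key] at this
    exact not_iff_not.mp this
  rw [this]

include hU in
theorem pt_exists (q : Ideal Γ(X, U)) [q.IsPrime] :
    ∃ z : X, z ∈ U ∧ ∀ b : Γ(X, U), z ∈ X.basicOpen b ↔ b ∉ q := by
  refine ⟨hU.fromSpec ⟨q, inferInstance⟩, ?_, ?_⟩
  · have hr := hU.range_fromSpec
    have : hU.fromSpec ⟨q, inferInstance⟩ ∈ Set.range hU.fromSpec := ⟨_, rfl⟩
    rw [hr] at this
    exact this
  · intro b
    have : hU.fromSpec ⟨q, inferInstance⟩ ∈ X.basicOpen b ↔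
        (⟨q, inferInstance⟩ : Spec Γ(X, U)) ∈ hU.fromSpec ⁻¹ᵁ X.basicOpen b := Iff.rfl
    rw [this, hU.fromSpec_preimage_basicOpen]
    rfl

end Affine

variable {Z X : Scheme.{u}} (g : Z ⟶ X)

/-- the map `(g_* O_Z)_x ⟶ O_{Z,z}` -/
noncomputable def phi (z : Z) (x : X) (hz : g.base z = x) :
    (g.base _* Z.presheaf).stalk x ⟶ Z.presheaf.stalk z :=
  ((g.base _* Z.presheaf).stalkCongr (Inseparable.of_eq hz)).inv ≫
    TopCat.Presheaf.stalkPushforward CommRingCat g.base Z.presheaf z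

theorem germ_phi (z : Z) (x : X) (hz : g.base z = x) (U : X.Opens) (hxU : x ∈ U) :
    (g.base _* Z.presheaf).germ U x hxU ≫ phi g z x hz =
      Z.presheaf.germ (g ⁻¹ᵁ U) z (by subst hz; exact hxU) := by
  subst hz
  rw [phi, TopCat.Presheaf.stalkCongr_inv, TopCat.Presheaf.germ_stalkSpecializes_assoc]
  exact TopCat.Presheaf.stalkPushforward_germ _ g.base Z.presheaf U z hxU

theorem germ_phi_apply (z : Z) (x : X) (hz : g.base z = x) (U : X.Opens) (hxU : x ∈ U)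
    (s : Γ(Z, g ⁻¹ᵁ U)) :
    (phi g z x hz).hom (((g.base _* Z.presheaf).germ U x hxU).hom s) =
      (Z.presheaf.germ (g ⁻¹ᵁ U) z (by subst hz; exact hxU)).hom s := by
  have := germ_phi g z x hz U hxU
  exact ConcreteCategory.congr_hom this s

/-- the ideal attached to a point of the fibre -/
noncomputable def I (z : Z) (x : X) (hz : g.base z = x) : Ideal ((g.base _* Z.presheaf).stalk x) :=
  Ideal.comap (phi g z x hz).hom (IsLocalRing.maximalIdeal (Z.presheaf.stalk z))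

instance (z : Z) (x : X) (hz : g.base z = x) : (I g z x hz).IsPrime := by
  unfold I; infer_instance

theorem mem_I (z : Z) (x : X) (hz : g.base z = x) (U : X.Opens) (hxU : x ∈ U)
    (s : Γ(Z, g ⁻¹ᵁ U)) :
    ((g.base _* Z.presheaf).germ U x hxU).hom s ∈ I g z x hz ↔ z ∉ Z.basicOpen s := by
  rw [I, Ideal.mem_comap, germ_phi_apply, IsLocalRing.mem_maximalIdeal, mem_nonunits_iff,
    Scheme.mem_basicOpen _ _ z (by subst hz; exact hxU)]

variable [IsFinite g] {x : X} {U₀ : X.Opens} (hU₀ : IsAffineOpen U₀) (hx : x ∈ U₀)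

/-- the germ map from sections over the preimage of an affine neighbourhood -/
noncomputable abbrev psi (hx : x ∈ U₀) : Γ(Z, g ⁻¹ᵁ U₀) →+* (g.base _* Z.presheaf).stalk x :=
  ((g.base _* Z.presheaf).germ U₀ x hx).hom

theorem isUnit_psi (a : Γ(X, U₀)) (ha : x ∈ X.basicOpen a) :
    IsUnit (psi g hx (g.app U₀ a)) := by
  have h1 : IsUnit ((X.presheaf.germ U₀ x hx).hom a) := (Scheme.mem_basicOpen _ a x hx).mp ha
  have h2 := h1.map ((TopCat.Presheaf.stalkFunctor CommRingCat x).map g.c).hom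
  have h3 : ((TopCat.Presheaf.stalkFunctor CommRingCat x).map g.c).hom
      ((X.presheaf.germ U₀ x hx).hom a) = psi g hx (g.app U₀ a) :=
    TopCat.Presheaf.stalkFunctor_map_germ_apply U₀ x hx g.c a
  exact Eq.mp (congrArg IsUnit h3) h2

include hU₀ in
theorem exists_rep (t : (g.base _* Z.presheaf).stalk x) :
    ∃ (a : Γ(X, U₀)) (b : Γ(Z, g ⁻¹ᵁ U₀)) (n : ℕ), x ∈ X.basicOpen a ∧
      t * psi g hx (g.app U₀ a) ^ n = psi g hx b := by
  obtain ⟨U, hxU, s, rfl⟩ := TopCat.Presheaf.exists_germ_eq (g.base _* Z.presheaf) t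
  obtain ⟨a, ha1, ha2⟩ := hU₀.exists_basicOpen_le (V := U ⊓ U₀) ⟨x, ⟨hxU, hx⟩⟩ hx
  have hV₀ : IsAffineOpen (g ⁻¹ᵁ U₀) := hU₀.preimage g
  have hle0 : X.basicOpen a ≤ U₀ := X.basicOpen_le a
  have hleU : X.basicOpen a ≤ U := ha1.trans inf_le_left
  have e : g ⁻¹ᵁ X.basicOpen a = Z.basicOpen (g.app U₀ a) := Scheme.preimage_basicOpen g a
  have hloc := hV₀.isLocalization_of_eq_basicOpen (g.app U₀ a)
    (homOfLE (g.preimage_mono hle0)) e
  letI := (Z.presheaf.map (homOfLE (g.preimage_mono hle0)).op).hom.toAlgebra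
  obtain ⟨⟨b, ⟨_, n, rfl⟩⟩, hb⟩ := IsLocalization.surj (Submonoid.powers (g.app U₀ a))
    ((Z.presheaf.map (homOfLE (g.preimage_mono hleU)).op).hom s)
  refine ⟨a, b, n, ha2, ?_⟩
  -- germs
  have hg1 : ((g.base _* Z.presheaf).germ (X.basicOpen a) x ha2).hom
      ((Z.presheaf.map (homOfLE (g.preimage_mono hleU)).op).hom s) =
      ((g.base _* Z.presheaf).germ U x hxU).hom s :=
    TopCat.Presheaf.germ_res_apply (g.base _* Z.presheaf) (homOfLE hleU) x ha2 s
  have hg2 : ∀ c : Γ(Z, g ⁻¹ᵁ U₀), ((g.base _* Z.presheaf).germ (X.basicOpen a) x ha2).hom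
      ((Z.presheaf.map (homOfLE (g.preimage_mono hle0)).op).hom c) = psi g hx c := fun c =>
    TopCat.Presheaf.germ_res_apply (g.base _* Z.presheaf) (homOfLE hle0) x ha2 c
  have := congrArg ((g.base _* Z.presheaf).germ (X.basicOpen a) x ha2).hom hb
  rw [map_mul, hg1] at this
  simp only [RingHom.algebraMap_toAlgebra] at this
  simp only [map_pow] at this
  rw [hg2, hg2] at this
  exact this

include hU₀ in
theorem ideal_le (J₁ J₂ : Ideal ((g.base _* Z.presheaf).stalk x))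
    (h : J₁.comap (psi g hx) ≤ J₂.comap (psi g hx)) : J₁ ≤ J₂ := by
  intro t ht
  obtain ⟨a, b, n, ha, hab⟩ := exists_rep g hU₀ hx t
  have hu : IsUnit (psi g hx (g.app U₀ a) ^ n) := (isUnit_psi g hx a ha).pow n
  have h1 : psi g hx b ∈ J₁ := by rw [← hab]; exact J₁.mul_mem_right _ ht
  have h2 : psi g hx b ∈ J₂ := h h1
  rw [← hab] at h2
  exact (Ideal.mul_unit_mem_iff_mem J₂ hu).mp h2

theorem mem_comap_I (z : Z) (hz : g.base z = x) (b : Γ(Z, g ⁻¹ᵁ U₀)) :
    b ∈ (I g z x hz).comap (psi g hx) ↔ z ∉ Z.basicOpen b := by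
  rw [Ideal.mem_comap]
  exact mem_I g z x hz U₀ hx b

include hU₀ hx in
theorem fibre_iff (z : Z) (hzV : z ∈ g ⁻¹ᵁ U₀) :
    g.base z = x ↔ ∀ a : Γ(X, U₀), (x ∈ X.basicOpen a ↔ z ∈ Z.basicOpen (g.app U₀ a)) := by
  have key : ∀ a : Γ(X, U₀), z ∈ Z.basicOpen (g.app U₀ a) ↔ g.base z ∈ X.basicOpen a := by
    intro a
    rw [← Scheme.preimage_basicOpen]
    rfl
  constructor
  · intro h a
    rw [key, h]
  · intro h
    refine pt_ext hU₀ _ _ hzV hx (fun a => ?_)
    rw [← key, h]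

include hU₀ in
theorem inj (z z' : Z) (hz : g.base z = x) (hz' : g.base z' = x)
    (h : (I g z x hz).comap (psi g hx) = (I g z' x hz').comap (psi g hx)) : z = z' := by
  have hV₀ : IsAffineOpen (g ⁻¹ᵁ U₀) := hU₀.preimage g
  refine pt_ext hV₀ z z' (by change g.base z ∈ U₀; rw [hz]; exact hx)
    (by change g.base z' ∈ U₀; rw [hz']; exact hx) (fun b => ?_)
  have h1 := mem_comap_I g hx z hz b
  have h2 := mem_comap_I g hx z' hz' b
  rw [h] at h1
  exact not_iff_not.mp (h1.symm.trans h2)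

include hU₀ hx in
theorem surj (M : Ideal ((g.base _* Z.presheaf).stalk x)) (hM : M.IsMaximal) :
    ∃ (z : Z) (hz : g.base z = x), I g z x hz = M := by
  have hV₀ : IsAffineOpen (g ⁻¹ᵁ U₀) := hU₀.preimage g
  letI : Algebra Γ(X, U₀) Γ(Z, g ⁻¹ᵁ U₀) := (g.app U₀).hom.toAlgebra
  haveI : Algebra.IsIntegral Γ(X, U₀) Γ(Z, g ⁻¹ᵁ U₀) :=
    ⟨(IsFinite.finite_app g U₀ hU₀).to_isIntegral⟩
  let P : Ideal Γ(X, U₀) := Ideal.comap (X.presheaf.germ U₀ x hx).hom
    (IsLocalRing.maximalIdeal (X.presheaf.stalk x))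
  haveI : P.IsPrime := by unfold P; infer_instance
  have hP : ∀ a : Γ(X, U₀), a ∈ P ↔ x ∉ X.basicOpen a := by
    intro a
    rw [Ideal.mem_comap, IsLocalRing.mem_maximalIdeal, mem_nonunits_iff,
      Scheme.mem_basicOpen _ a x hx]
  haveI : (M.comap (psi g hx)).IsPrime := Ideal.comap_isPrime _ _
  have hle : (M.comap (psi g hx)).comap (algebraMap Γ(X, U₀) Γ(Z, g ⁻¹ᵁ U₀)) ≤ P := by
    intro a ha
    rw [hP]
    intro hxa
    have hu := isUnit_psi g hx a hxa
    have hmem : psi g hx (g.app U₀ a) ∈ M := ha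
    exact hM.ne_top (Ideal.eq_top_of_isUnit_mem _ hmem hu)
  obtain ⟨Q, hQge, hQprime, hQP⟩ :=
    Ideal.exists_ideal_over_prime_of_isIntegral_of_isPrime P (M.comap (psi g hx)) hle
  obtain ⟨z, hzV, hzQ⟩ := pt_exists hV₀ Q
  have hz : g.base z = x := by
    rw [fibre_iff g hU₀ hx z hzV]
    intro a
    rw [hzQ, ← not_iff_not, not_not, ← hP, ← hQP]
    rfl
  refine ⟨z, hz, ?_⟩
  have hcomap : (I g z x hz).comap (psi g hx) = Q := by
    ext b
    rw [mem_comap_I, hzQ, not_not]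
  have hle' : M ≤ I g z x hz := ideal_le g hU₀ hx M _ (by rw [hcomap]; exact hQge)
  exact (hM.eq_of_le (Ideal.IsPrime.ne_top inferInstance) hle').symm

include hU₀ hx in
theorem isMaximal_I (z : Z) (hz : g.base z = x) : (I g z x hz).IsMaximal := by
  have hV₀ : IsAffineOpen (g ⁻¹ᵁ U₀) := hU₀.preimage g
  letI : Algebra Γ(X, U₀) Γ(Z, g ⁻¹ᵁ U₀) := (g.app U₀).hom.toAlgebra
  haveI : Algebra.IsIntegral Γ(X, U₀) Γ(Z, g ⁻¹ᵁ U₀) :=
    ⟨(IsFinite.finite_app g U₀ hU₀).to_isIntegral⟩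
  obtain ⟨M, hM, hle⟩ := Ideal.exists_le_maximal (I g z x hz) (Ideal.IsPrime.ne_top inferInstance)
  obtain ⟨z', hz', rfl⟩ := surj g hU₀ hx M hM
  have hcontr : ∀ (w : Z) (hw : g.base w = x),
      ((I g w x hw).comap (psi g hx)).comap (algebraMap Γ(X, U₀) Γ(Z, g ⁻¹ᵁ U₀)) =
      Ideal.comap (X.presheaf.germ U₀ x hx).hom
        (IsLocalRing.maximalIdeal (X.presheaf.stalk x)) := by
    intro w hw
    ext a
    have hwV : w ∈ g ⁻¹ᵁ U₀ := by change g.base w ∈ U₀; rw [hw]; exact hx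
    rw [Ideal.mem_comap, mem_comap_I, Ideal.mem_comap, IsLocalRing.mem_maximalIdeal,
      mem_nonunits_iff, ← Scheme.mem_basicOpen _ a x hx]
    have := (fibre_iff g hU₀ hx w hwV).mp hw a
    rw [this]
    rfl
  have hQle : (I g z x hz).comap (psi g hx) ≤ (I g z' x hz').comap (psi g hx) :=
    Ideal.comap_mono hle
  haveI : ((I g z x hz).comap (psi g hx)).IsPrime := Ideal.comap_isPrime _ _
  have hQeq : (I g z x hz).comap (psi g hx) = (I g z' x hz').comap (psi g hx) := by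
    by_contra hne
    have hlt : (I g z x hz).comap (psi g hx) < (I g z' x hz').comap (psi g hx) :=
      lt_of_le_of_ne hQle hne
    obtain ⟨_, b, hb1, hb2⟩ := SetLike.lt_iff_le_and_exists.mp hlt
    have := Ideal.comap_lt_comap_of_integral_mem_sdiff (R := Γ(X, U₀)) hQle ⟨hb1, hb2⟩
      (Algebra.IsIntegral.isIntegral b)
    rw [hcontr z hz, hcontr z' hz'] at this
    exact lt_irrefl _ this
  have hzz : z = z' := inj g hU₀ hx z z' hz hz' hQeq
  subst hzz
  exact hM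

theorem main (x : X) :
    Set.BijOn (fun z : {z : Z // g.base z = x} => I g z.1 x z.2)
      Set.univ {J : Ideal ((g.base _* Z.presheaf).stalk x) | J.IsMaximal} := by
  obtain ⟨U₀, hU₀, hx, -⟩ :=
    exists_isAffineOpen_mem_and_subset (x := x) (U := ⊤) (TopologicalSpace.Opens.mem_top x)
  refine ⟨?_, ?_, ?_⟩
  · intro z _
    exact isMaximal_I g hU₀ hx z.1 z.2
  · intro z _ z' _ h
    exact Subtype.ext (inj g hU₀ hx z.1 z'.1 z.2 z'.2 (by
      have : I g z.1 x z.2 = I g z'.1 x z'.2 := h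
      rw [this]))
  · intro M hM
    obtain ⟨z, hz, rfl⟩ := surj g hU₀ hx M hM
    exact ⟨⟨z, hz⟩, Set.mem_univ _, rfl⟩

end Groth.Agent.Lib.Helper11.FinFib
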