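import Mathlib

/-!
# Descent along flat surjective, not necessarily quasi-compact, morphisms (helper11)
-/

set_option autoImplicit false
universe u

open CategoryTheory CategoryTheory.Limits AlgebraicGeometry

namespace Groth.Agent.Lib.Helper11.FlatNQC

/-- a quasi-compact morphism whose base change along a flat surjective morphism is a
homeomorphism is a homeomorphism. -/
theorem isHomeomorph_of_isPullback {X Y Y' X' : Scheme.{u}} {f : X ⟶ Y} {g : Y' ⟶ Y}
    {f' : X' ⟶ Y'} {g' : X' ⟶ X} (H : IsPullback g' f' f g) [Flat g] [Surjective g]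
    [QuasiCompact f] (h : IsHomeomorph f'.base) : IsHomeomorph f.base := by
  have hw : ∀ z : X', f.base (g'.base z) = g.base (f'.base z) := by
    intro z
    rw [← Scheme.Hom.comp_apply, ← Scheme.Hom.comp_apply, H.w]
  rw [isHomeomorph_iff_continuous_isClosedMap_bijective]
  refine ⟨f.continuous, ?_, ?_, ?_⟩
  · rw [isClosedMap_iff_specializingMap]
    intro x y₀ hxy
    obtain ⟨y₀', rfl⟩ := g.surjective y₀
    obtain ⟨y', hy', hgy'⟩ := Flat.generalizingMap g hxy
    obtain ⟨z, hz1, hz2⟩ := Scheme.exists_preimage_of_isPullback H x y' hgy'.symm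
    have hsp : SpecializingMap f'.base := h.isClosedMap.specializingMap
    obtain ⟨z₀, hz₀, hz₀'⟩ := hsp (a := z) (b := y₀') (by rw [hz2]; exact hy')
    refine ⟨g'.base z₀, ?_, ?_⟩
    · rw [← hz1]
      exact hz₀.map g'.continuous
    · rw [hw, hz₀']
  · intro x₁ x₂ hx
    obtain ⟨y', hy'⟩ := g.surjective (f.base x₁)
    obtain ⟨z₁, hz1, hz1'⟩ := Scheme.exists_preimage_of_isPullback H x₁ y' hy'.symm
    obtain ⟨z₂, hz2, hz2'⟩ := Scheme.exists_preimage_of_isPullback H x₂ y'
      (hx ▸ hy'.symm)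
    have : z₁ = z₂ := h.injective (hz1'.trans hz2'.symm)
    rw [← hz1, ← hz2, this]
  · intro y
    obtain ⟨y', rfl⟩ := g.surjective y
    obtain ⟨z, hz⟩ := h.surjective y'
    exact ⟨g'.base z, by rw [hw, hz]⟩

end Groth.Agent.Lib.Helper11.FlatNQC
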