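import Mathlib

set_option autoImplicit false
universe u

open scoped TensorProduct

namespace Groth.Agent.Lib.Helper11.FlatNQCAlg

/-- a module is trivial if every prime is "covered" by a flat algebra killing the module. -/
theorem subsingleton_of_forall_flat (R : Type u) [CommRing R] (M : Type u) [AddCommGroup M]
    [Module R M]
    (h : ∀ p : PrimeSpectrum R, ∃ (R' : Type u) (_ : CommRing R') (_ : Algebra R R'),
      Module.Flat R R' ∧ Ideal.map (algebraMap R R') p.asIdeal ≠ ⊤ ∧
        Subsingleton (R' ⊗[R] M)) :
    Subsingleton M := by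
  by_contra hns
  rw [not_subsingleton_iff_nontrivial] at hns
  obtain ⟨m, hm⟩ := exists_ne (0 : M)
  set I : Ideal R := LinearMap.ker (LinearMap.toSpanSingleton R M m) with hI
  have hI1 : I ≠ ⊤ := by
    intro htop
    have h1 : (1 : R) ∈ I := htop ▸ Submodule.mem_top
    rw [hI, LinearMap.mem_ker, LinearMap.toSpanSingleton_apply, one_smul] at h1
    exact hm h1
  obtain ⟨P, hP, hIP⟩ := Ideal.exists_le_maximal I hI1
  obtain ⟨R', _, _, hflat, hmap, hsub⟩ := h ⟨P, hP.isPrime⟩
  let j : (R ⧸ I) →ₗ[R] M := Submodule.liftQ I (LinearMap.toSpanSingleton R M m) le_rfl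
  have hj : Function.Injective j := LinearMap.ker_eq_bot.mp
    (Submodule.ker_liftQ_eq_bot _ _ _ le_rfl)
  have hinj := Module.Flat.lTensor_preserves_injective_linearMap (M := R') j hj
  have hsub2 : Subsingleton (R' ⊗[R] (R ⧸ I)) := hinj.subsingleton
  have hsub3 : Subsingleton (R' ⧸ (I • (⊤ : Submodule R R'))) :=
    (TensorProduct.tensorQuotEquivQuotSMul R' I).symm.injective.subsingleton
  rw [Submodule.Quotient.subsingleton_iff] at hsub3
  apply hmap
  rw [Ideal.eq_top_iff_one]
  have h1 : (1 : R') ∈ I • (⊤ : Submodule R R') := by rw [hsub3]; exact Submodule.mem_top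
  have hle : I • (⊤ : Submodule R R') ≤
      (Ideal.map (algebraMap R R') P).restrictScalars R := by
    rw [Submodule.smul_le]
    intro r hr n _
    show r • n ∈ Ideal.map (algebraMap R R') P
    rw [Algebra.smul_def]
    exact Ideal.mul_mem_right _ _ (Ideal.mem_map_of_mem _ (hIP hr))
  exact hle h1


theorem bijective_of_forall_flat (R A : Type u) [CommRing R] [CommRing A] [Algebra R A]
    (h : ∀ p : PrimeSpectrum R, ∃ (R' : Type u) (_ : CommRing R') (_ : Algebra R R'),
      Module.Flat R R' ∧ Ideal.map (algebraMap R R') p.asIdeal ≠ ⊤ ∧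
        Function.Bijective (Algebra.TensorProduct.includeLeft : R' →ₐ[R] R' ⊗[R] A)) :
    Function.Bijective (algebraMap R A) := by
  set φ : R →ₗ[R] A := Algebra.linearMap R A with hφ
  have key : ∀ (R' : Type u) [CommRing R'] [Algebra R R'],
      Function.Bijective (Algebra.TensorProduct.includeLeft : R' →ₐ[R] R' ⊗[R] A) →
      Function.Bijective (φ.lTensor R') := by
    intro R' _ _ hb
    have e : ⇑(φ.lTensor R') = (Algebra.TensorProduct.includeLeft : R' →ₐ[R] R' ⊗[R] A) ∘
        (TensorProduct.rid R R') := by
      ext x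
      induction x using TensorProduct.induction_on with
      | zero => simp
      | tmul r' r =>
        simp only [LinearMap.lTensor_tmul, Function.comp_apply, TensorProduct.rid_tmul,
          Algebra.TensorProduct.includeLeft_apply, hφ, Algebra.linearMap_apply]
        rw [Algebra.algebraMap_eq_smul_one, TensorProduct.tmul_smul, TensorProduct.smul_tmul']
      | add x y hx hy => simp only [map_add, Function.comp_apply] at hx hy ⊢; rw [hx, hy]
    rw [e]
    exact hb.comp (TensorProduct.rid R R').bijective
  constructor
  · -- injectivity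
    have hK : Subsingleton (LinearMap.ker φ) := by
      apply subsingleton_of_forall_flat R
      intro p
      obtain ⟨R', _, _, hflat, hmap, hb⟩ := h p
      refine ⟨R', inferInstance, inferInstance, hflat, hmap, ?_⟩
      have hι := Module.Flat.lTensor_preserves_injective_linearMap (M := R')
        (LinearMap.ker φ).subtype (Submodule.subtype_injective _)
      have hzero : (φ.lTensor R') ∘ₗ ((LinearMap.ker φ).subtype.lTensor R') = 0 := by
        rw [← LinearMap.lTensor_comp]
        have : φ ∘ₗ (LinearMap.ker φ).subtype = 0 := by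
          ext x; exact x.2
        rw [this, LinearMap.lTensor_zero]
      refine ⟨fun a b => hι ((key R' hb).1 ?_)⟩
      have ha := LinearMap.congr_fun hzero a
      have hb' := LinearMap.congr_fun hzero b
      simp only [LinearMap.comp_apply, LinearMap.zero_apply] at ha hb'
      rw [ha, hb']
    intro a b hab
    have : a - b ∈ LinearMap.ker φ := by
      rw [LinearMap.mem_ker, map_sub, sub_eq_zero]; exact hab
    have h0 : (⟨a - b, this⟩ : LinearMap.ker φ) = 0 := Subsingleton.elim _ _
    exact sub_eq_zero.mp (congrArg Subtype.val h0)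
  · -- surjectivity
    have hQ : Subsingleton (A ⧸ LinearMap.range φ) := by
      apply subsingleton_of_forall_flat R
      intro p
      obtain ⟨R', _, _, hflat, hmap, hb⟩ := h p
      refine ⟨R', inferInstance, inferInstance, hflat, hmap, ?_⟩
      have hπ : Function.Surjective ((LinearMap.range φ).mkQ.lTensor R') :=
        LinearMap.lTensor_surjective R' (Submodule.mkQ_surjective _)
      have hzero : ((LinearMap.range φ).mkQ.lTensor R') ∘ₗ (φ.lTensor R') = 0 := by
        rw [← LinearMap.lTensor_comp]
        have : (LinearMap.range φ).mkQ ∘ₗ φ = 0 := by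
          ext x
          simp only [LinearMap.comp_apply, Submodule.mkQ_apply, LinearMap.zero_apply,
            Submodule.Quotient.mk_eq_zero]
          exact LinearMap.mem_range_self φ _
        rw [this, LinearMap.lTensor_zero]
      have hall : ∀ z : R' ⊗[R] (A ⧸ LinearMap.range φ), z = 0 := by
        intro z
        obtain ⟨y, rfl⟩ := hπ z
        obtain ⟨w, rfl⟩ := (key R' hb).2 y
        exact LinearMap.congr_fun hzero w
      exact ⟨fun a b => (hall a).trans (hall b).symm⟩
    rw [Submodule.Quotient.subsingleton_iff, LinearMap.range_eq_top] at hQ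
    exact hQ


open CategoryTheory CategoryTheory.Limits in
theorem isIso_of_forall_flat_isPushout {R A : CommRingCat.{u}} (φ : R ⟶ A)
    (h : ∀ p : PrimeSpectrum R, ∃ (R' P : CommRingCat.{u}) (ψ : R ⟶ R') (a : A ⟶ P) (b : R' ⟶ P),
      IsPushout φ ψ a b ∧ ψ.hom.Flat ∧ p ∈ Set.range (PrimeSpectrum.comap ψ.hom) ∧ IsIso b) :
    IsIso φ := by
  letI : Algebra R A := φ.hom.toAlgebra
  rw [ConcreteCategory.isIso_iff_bijective]
  show Function.Bijective (algebraMap R A)
  apply bijective_of_forall_flat
  intro p
  obtain ⟨R', P, ψ, a, b, hpo, hflat, ⟨q, hq⟩, hb⟩ := h p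
  letI : Algebra R R' := ψ.hom.toAlgebra
  refine ⟨R', inferInstance, inferInstance, hflat, ?_, ?_⟩
  · intro htop
    have hle : Ideal.map (algebraMap R R') p.asIdeal ≤ q.asIdeal := by
      rw [Ideal.map_le_iff_le_comap, ← hq]
      exact le_rfl
    exact q.2.ne_top (top_le_iff.mp (htop ▸ hle))
  · have hP : IsPushout ψ φ
        (CommRingCat.ofHom (S := (R' : Type u) ⊗[R] (A : Type u))
          Algebra.TensorProduct.includeLeftRingHom)
        (CommRingCat.ofHom (S := (R' : Type u) ⊗[R] (A : Type u))
          Algebra.TensorProduct.includeRight.toRingHom) :=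
      CommRingCat.isPushout_tensorProduct R R' A
    have e := IsPushout.inl_isoIsPushout_hom _ _ hP hpo.flip
    have hiso : IsIso (CommRingCat.ofHom (S := (R' : Type u) ⊗[R] (A : Type u))
          Algebra.TensorProduct.includeLeftRingHom) := by
      have : CommRingCat.ofHom (S := (R' : Type u) ⊗[R] (A : Type u))
          Algebra.TensorProduct.includeLeftRingHom = b ≫ (hP.isoIsPushout _ _ hpo.flip).inv := by
        rw [Iso.eq_comp_inv]
        exact e
      rw [this]
      infer_instance
    rw [ConcreteCategory.isIso_iff_bijective] at hiso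
    exact hiso

end Groth.Agent.Lib.Helper11.FlatNQCAlg
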