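import Mathlib
import Groth.Agent.Lib.Helper11.FlatNQCAlg

/-!
# Descent of isomorphisms along families of flat morphisms (helper11)
-/

set_option autoImplicit false
universe u

open CategoryTheory CategoryTheory.Limits AlgebraicGeometry MorphismProperty

namespace Groth.Agent.Lib.Helper11.FlatNQC2

/-- family version: a quasi-compact morphism which becomes a homeomorphism after base change
along a jointly surjective family of flat morphisms is a homeomorphism. -/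
theorem isHomeomorph_of_forall {X Y : Scheme.{u}} (f : X ⟶ Y) [QuasiCompact f]
    (h : ∀ y : Y, ∃ (T : Scheme.{u}) (t : T ⟶ Y), Flat t ∧ y ∈ Set.range t.base ∧
      IsHomeomorph (pullback.snd f t).base) : IsHomeomorph f.base := by
  have hw : ∀ {T : Scheme.{u}} (t : T ⟶ Y) (z : ↑(pullback f t)),
      f.base ((pullback.fst f t).base z) = t.base ((pullback.snd f t).base z) := by
    intro T t z
    rw [← Scheme.Hom.comp_apply, ← Scheme.Hom.comp_apply, pullback.condition]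
  rw [isHomeomorph_iff_continuous_isClosedMap_bijective]
  refine ⟨f.continuous, ?_, ?_, ?_⟩
  · rw [isClosedMap_iff_specializingMap]
    intro x y₀ hxy
    obtain ⟨T, t, hflat, ⟨τ₀, rfl⟩, hh⟩ := h y₀
    obtain ⟨τ, hτ, hgτ⟩ := Flat.generalizingMap t hxy
    obtain ⟨z, hz1, hz2⟩ := Scheme.Pullback.exists_preimage_pullback x τ hgτ.symm
    have hsp : SpecializingMap (pullback.snd f t).base := hh.isClosedMap.specializingMap
    obtain ⟨z₀, hz₀, hz₀'⟩ := hsp (a := z) (b := τ₀) (by rw [hz2]; exact hτ)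
    refine ⟨(pullback.fst f t).base z₀, ?_, ?_⟩
    · rw [← hz1]
      exact hz₀.map (pullback.fst f t).continuous
    · rw [hw, hz₀']
  · intro x₁ x₂ hx
    obtain ⟨T, t, hflat, ⟨τ, hτ⟩, hh⟩ := h (f.base x₁)
    obtain ⟨z₁, hz1, hz1'⟩ := Scheme.Pullback.exists_preimage_pullback x₁ τ hτ.symm
    obtain ⟨z₂, hz2, hz2'⟩ := Scheme.Pullback.exists_preimage_pullback x₂ τ (hx ▸ hτ.symm)
    have : z₁ = z₂ := hh.injective (hz1'.trans hz2'.symm)
    rw [← hz1, ← hz2, this]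
  · intro y
    obtain ⟨T, t, hflat, ⟨τ, rfl⟩, hh⟩ := h y
    obtain ⟨z, hz⟩ := hh.surjective τ
    exact ⟨(pullback.fst f t).base z, by rw [hw, hz]⟩

/-- pasting: if the base change of `f` along `g` is an isomorphism, so is its base change along
anything factoring through `g`. -/
theorem isIso_of_isPullback_of_factors {X Y Y' T P : Scheme.{u}} {f : X ⟶ Y} {g : Y' ⟶ Y}
    [IsIso (pullback.snd f g)] {a : P ⟶ X} {b : P ⟶ T} {t : T ⟶ Y} (H : IsPullback a b f t)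
    (t' : T ⟶ Y') (ht : t' ≫ g = t) : IsIso b := by
  subst ht
  let l : P ⟶ pullback f g := pullback.lift a (b ≫ t') (by rw [H.w, Category.assoc])
  have h1 : l ≫ pullback.fst f g = a := pullback.lift_fst _ _ _
  have h2 : l ≫ pullback.snd f g = b ≫ t' := pullback.lift_snd _ _ _
  have sq : IsPullback l b (pullback.snd f g) t' :=
    IsPullback.of_right (h₁₂ := pullback.fst f g) (h₂₂ := g) (by rw [h1]; exact H) h2
      (IsPullback.of_hasPullback f g)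
  have := (isomorphisms Scheme).of_isPullback sq (isomorphisms.infer_property _)
  exact this


/-- a pullback square of affine schemes whose second projection is an isomorphism gives a
pushout square of global sections whose second coprojection is an isomorphism. -/
theorem exists_isPushout_of_isAffine {X Y T P : Scheme.{u}} [IsAffine X] [IsAffine Y]
    [IsAffine T] {a : P ⟶ X} {b : P ⟶ T} {f : X ⟶ Y} {t : T ⟶ Y} (H : IsPullback a b f t)
    [IsIso b] :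
    ∃ (Q : CommRingCat.{u}) (a' : Γ(X, ⊤) ⟶ Q) (b' : Γ(T, ⊤) ⟶ Q),
      IsPushout f.appTop t.appTop a' b' ∧ IsIso b' := by
  have hiso := isIso_pushoutSection_of_isAffineOpen H (US := ⊤) (UT := t ⁻¹ᵁ ⊤) (UX := f ⁻¹ᵁ ⊤)
    le_rfl le_rfl (UY := a ⁻¹ᵁ (f ⁻¹ᵁ ⊤) ⊓ b ⁻¹ᵁ (t ⁻¹ᵁ ⊤)) rfl (isAffineOpen_top Y)
    (isAffineOpen_top T) (isAffineOpen_top X)
  have hpo := (isIso_pushoutSection_iff H (US := ⊤) (UT := t ⁻¹ᵁ ⊤) (UX := f ⁻¹ᵁ ⊤)
    le_rfl le_rfl (UY := a ⁻¹ᵁ (f ⁻¹ᵁ ⊤) ⊓ b ⁻¹ᵁ (t ⁻¹ᵁ ⊤)) rfl).mp hiso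
  have e1 : f.appLE ⊤ (f ⁻¹ᵁ ⊤) le_rfl = f.appTop := by
    simp [Scheme.Hom.appLE]
  have e2 : t.appLE ⊤ (t ⁻¹ᵁ ⊤) le_rfl = t.appTop := by
    simp [Scheme.Hom.appLE]
  rw [e1, e2] at hpo
  refine ⟨_, _, _, hpo, ?_⟩
  have hUY : a ⁻¹ᵁ (f ⁻¹ᵁ ⊤) ⊓ b ⁻¹ᵁ (t ⁻¹ᵁ ⊤) = b ⁻¹ᵁ (t ⁻¹ᵁ ⊤) := by
    simp
  rw [Scheme.Hom.appLE]
  have : IsIso (homOfLE (show a ⁻¹ᵁ (f ⁻¹ᵁ ⊤) ⊓ b ⁻¹ᵁ (t ⁻¹ᵁ ⊤) ≤ b ⁻¹ᵁ (t ⁻¹ᵁ ⊤) from
      inf_le_right)) :=
    ⟨⟨homOfLE (by rw [hUY]), Subsingleton.elim _ _, Subsingleton.elim _ _⟩⟩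
  have h2 : IsIso (P.presheaf.map (homOfLE (show a ⁻¹ᵁ (f ⁻¹ᵁ ⊤) ⊓ b ⁻¹ᵁ (t ⁻¹ᵁ ⊤) ≤
      b ⁻¹ᵁ (t ⁻¹ᵁ ⊤) from inf_le_right)).op) := inferInstance
  have h1 : IsIso (b.app (t ⁻¹ᵁ ⊤)) := inferInstance
  exact IsIso.comp_isIso' h1 h2


/-- a quasi-compact morphism which becomes an isomorphism after base change along a jointly
surjective family of flat morphisms is an isomorphism. -/
theorem isIso_of_forall {X Y : Scheme.{u}} (f : X ⟶ Y) [QuasiCompact f]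
    (h : ∀ y : Y, ∃ (T : Scheme.{u}) (t : T ⟶ Y), Flat t ∧ y ∈ Set.range t.base ∧
      IsIso (pullback.snd f t)) : IsIso f := by
  have hhomeo : IsHomeomorph f.base := isHomeomorph_of_forall f (fun y => by
    obtain ⟨T, t, h1, h2, h3⟩ := h y
    exact ⟨T, t, h1, h2, (pullback.snd f t).homeomorph.isHomeomorph⟩)
  haveI : IsAffineHom f := isAffineHom_of_isInducing f hhomeo.isInducing (by
    rw [hhomeo.surjective.range_eq]; exact isClosed_univ)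
  rw [← isomorphisms.iff, HasAffineProperty.eq_targetAffineLocally (isomorphisms Scheme)]
  intro U
  haveI : IsAffine (U.1 : Scheme.{u}) := U.2
  haveI hXU : IsAffine ((f ⁻¹ᵁ U.1 : X.Opens) : Scheme.{u}) := U.2.preimage f
  refine ⟨hXU, ?_⟩
  apply FlatNQCAlg.isIso_of_forall_flat_isPushout
  intro p
  -- the point of `U` corresponding to `p`
  set u : (U.1 : Scheme.{u}) := (U.1 : Scheme.{u}).isoSpec.inv.base p with hu
  have hup : (U.1 : Scheme.{u}).isoSpec.hom.base u = p := by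
    rw [hu, ← Scheme.Hom.comp_apply, Iso.inv_hom_id]
    rfl
  obtain ⟨T, t, hflat, ⟨τ, hτ⟩, hiso⟩ := h (U.1.ι.base u)
  have hτU : τ ∈ t ⁻¹ᵁ U.1 := by
    show t.base τ ∈ U.1
    rw [hτ]
    exact u.2
  obtain ⟨_, ⟨V₀, hV, rfl⟩, hτV, hVU⟩ :=
    T.isBasis_affineOpens.exists_subset_of_mem_open hτU (t ⁻¹ᵁ U.1).2
  obtain ⟨V, rfl⟩ : ∃ V : T.Opens, V = V₀ := ⟨V₀, rfl⟩
  haveI : IsAffine (V : Scheme.{u}) := hV
  let k : (V : Scheme.{u}) ⟶ (U.1 : Scheme.{u}) := t.resLE U.1 V hVU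
  have hk : k ≫ U.1.ι = V.ι ≫ t := Scheme.Hom.resLE_comp_ι t hVU
  have H0 := IsPullback.of_hasPullback (f ∣_ U.1) k
  have Hbig : IsPullback (pullback.fst (f ∣_ U.1) k ≫ (f ⁻¹ᵁ U.1).ι) (pullback.snd (f ∣_ U.1) k)
      f (k ≫ U.1.ι) := H0.paste_horiz (isPullback_morphismRestrict f U.1).flip
  haveI : IsIso (pullback.snd (f ∣_ U.1) k) :=
    isIso_of_isPullback_of_factors (f := f) (g := t) Hbig V.ι hk.symm
  obtain ⟨Q, a', b', hpo, hb'⟩ := exists_isPushout_of_isAffine H0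
  refine ⟨_, Q, k.appTop, a', b', hpo, Scheme.Hom.flat_appTop k, ?_, hb'⟩
  -- the point
  refine ⟨(V : Scheme.{u}).isoSpec.hom.base ⟨τ, hτV⟩, ?_⟩
  have hnat := Scheme.isoSpec_hom_naturality k
  have h1 : (Spec.map k.appTop).base ((V : Scheme.{u}).isoSpec.hom.base ⟨τ, hτV⟩) =
      (U.1 : Scheme.{u}).isoSpec.hom.base (k.base ⟨τ, hτV⟩) := by
    rw [← Scheme.Hom.comp_apply, ← Scheme.Hom.comp_apply, hnat]
  have h2 : k.base ⟨τ, hτV⟩ = u := by
    apply U.1.ι.injective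
    rw [← Scheme.Hom.comp_apply, hk, Scheme.Hom.comp_apply]
    exact hτ
  rw [h2, hup] at h1
  exact h1

end Groth.Agent.Lib.Helper11.FlatNQC2
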