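import Mathlib
import Groth.Agent.Lib.Helper11.FlatNQC2

/-!
# Descent of affineness along non-quasi-compact flat covers (helper11)
-/

set_option autoImplicit false
universe u

open CategoryTheory CategoryTheory.Limits AlgebraicGeometry MorphismProperty

namespace Groth.Agent.Lib.Helper11.FlatNQC3

/-- comparison of two pushouts over an isomorphism of one leg. -/
theorem isIso_of_isPushout_of_isPushout {C : Type*} [Category C] {R A₁ A₂ B Q₁ Q₂ : C}
    {φ₁ : R ⟶ A₁} {φ₂ : R ⟶ A₂} {ψ : R ⟶ B} {a₁ : A₁ ⟶ Q₁} {b₁ : B ⟶ Q₁} {a₂ : A₂ ⟶ Q₂}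
    {b₂ : B ⟶ Q₂} (h₁ : IsPushout φ₁ ψ a₁ b₁) (h₂ : IsPushout φ₂ ψ a₂ b₂) (e : A₂ ⟶ A₁)
    [IsIso e] (he : φ₂ ≫ e = φ₁) (m : Q₂ ⟶ Q₁) (hm₁ : a₂ ≫ m = e ≫ a₁) (hm₂ : b₂ ≫ m = b₁) :
    IsIso m := by
  have hw : φ₁ ≫ inv e ≫ a₂ = ψ ≫ b₂ := by
    rw [← he, Category.assoc, IsIso.hom_inv_id_assoc, h₂.w]
  refine ⟨h₁.desc (inv e ≫ a₂) b₂ hw, ?_, ?_⟩
  · apply h₂.hom_ext
    · rw [← Category.assoc, hm₁, Category.assoc, h₁.inl_desc, IsIso.hom_inv_id_assoc,
        Category.comp_id]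
    · rw [← Category.assoc, hm₂, h₁.inr_desc, Category.comp_id]
  · apply h₁.hom_ext
    · rw [← Category.assoc, h₁.inl_desc, Category.assoc, hm₁, IsIso.inv_hom_id_assoc,
        Category.comp_id]
    · rw [← Category.assoc, h₁.inr_desc, hm₂, Category.comp_id]

theorem appLE_top_top {X Y : Scheme.{u}} (f : X ⟶ Y) (h : (⊤ : X.Opens) ≤ f ⁻¹ᵁ ⊤) :
    f.appLE ⊤ ⊤ h = f.appTop := by
  simp [Scheme.Hom.appLE]

/-- base-change-stable properties pass to base changes along anything factoring through `g`. -/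
theorem of_isPullback_of_factors (P : MorphismProperty Scheme.{u}) [P.IsStableUnderBaseChange]
    {X Y Y' T Q : Scheme.{u}} {f : X ⟶ Y} {g : Y' ⟶ Y}
    (hP : P (pullback.snd f g)) {a : Q ⟶ X} {b : Q ⟶ T} {t : T ⟶ Y} (H : IsPullback a b f t)
    (t' : T ⟶ Y') (ht : t' ≫ g = t) : P b := by
  subst ht
  let l : Q ⟶ pullback f g := pullback.lift a (b ≫ t') (by rw [H.w, Category.assoc])
  have h1 : l ≫ pullback.fst f g = a := pullback.lift_fst _ _ _
  have h2 : l ≫ pullback.snd f g = b ≫ t' := pullback.lift_snd _ _ _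
  have sq : IsPullback l b (pullback.snd f g) t' :=
    IsPullback.of_right (h₁₂ := pullback.fst f g) (h₂₂ := g) (by rw [h1]; exact H) h2
      (IsPullback.of_hasPullback f g)
  exact P.of_isPullback sq hP


/-- the key flat-base-change step. -/
theorem isIso_snd_toSpecΓ {W U V : Scheme.{u}} [IsAffine U] [IsAffine V] [CompactSpace W]
    [QuasiSeparatedSpace W] (fU : W ⟶ U) (k : V ⟶ U) [Flat k]
    (hP : IsAffine (pullback fU k)) :
    IsIso (pullback.snd W.toSpecΓ
      (pullback.fst (Spec.map fU.appTop ≫ U.isoSpec.inv) k)) := by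
  set c := W.toSpecΓ with hc
  set sA : Spec Γ(W, ⊤) ⟶ U := Spec.map fU.appTop ≫ U.isoSpec.inv with hsA
  have hcs : c ≫ sA = fU := by
    rw [hsA, hc, ← Category.assoc, ← Scheme.toSpecΓ_naturality, Category.assoc]
    show fU ≫ U.isoSpec.hom ≫ U.isoSpec.inv = fU
    rw [Iso.hom_inv_id, Category.comp_id]
  set t := pullback.fst sA k with ht
  set r := pullback.snd sA k with hr
  set p := pullback.fst c t with hp
  set q := pullback.snd c t with hq
  have H2 : IsPullback t r sA k := IsPullback.of_hasPullback sA k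
  have H0 : IsPullback p q c t := IsPullback.of_hasPullback c t
  have H1 : IsPullback p (q ≫ r) fU k := by
    have := H0.paste_vert H2
    rwa [hcs] at this
  haveI : IsAffine (pullback c t) := by
    haveI := hP
    exact .of_isIso H1.isoPullback.hom
  -- sections
  have E1 : IsPushout fU.appTop k.appTop p.appTop (q ≫ r).appTop := by
    have hiso := isIso_pushoutSection_of_isQuasiSeparated_of_flat_right H1 (US := ⊤) (UT := ⊤)
      (UX := ⊤) le_top le_top (UY := ⊤) (by simp) (isAffineOpen_top U) (isAffineOpen_top V)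
      isCompact_univ isQuasiSeparated_univ
    have hpo := (isIso_pushoutSection_iff H1 (US := ⊤) (UT := ⊤) (UX := ⊤) le_top le_top
      (UY := ⊤) (by simp)).mp hiso
    rwa [appLE_top_top, appLE_top_top, appLE_top_top, appLE_top_top] at hpo
  have E2 : IsPushout sA.appTop k.appTop t.appTop r.appTop := by
    have hiso := isIso_pushoutSection_of_isAffineOpen H2 (US := ⊤) (UT := ⊤)
      (UX := ⊤) le_top le_top (UY := ⊤) (by simp) (isAffineOpen_top U) (isAffineOpen_top V)
      (isAffineOpen_top _)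
    have hpo := (isIso_pushoutSection_iff H2 (US := ⊤) (UT := ⊤) (UX := ⊤) le_top le_top
      (UY := ⊤) (by simp)).mp hiso
    rwa [appLE_top_top, appLE_top_top, appLE_top_top, appLE_top_top] at hpo
  haveI : IsIso c.appTop := by
    rw [hc, Scheme.toSpecΓ_appTop]; infer_instance
  have hq_app : IsIso q.appTop := by
    refine isIso_of_isPushout_of_isPushout E1 E2 c.appTop ?_ q.appTop ?_ ?_
    · rw [← Scheme.Hom.comp_appTop, hcs]
    · rw [← Scheme.Hom.comp_appTop, ← Scheme.Hom.comp_appTop, H0.w]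
    · rw [← Scheme.Hom.comp_appTop]
  have := (HasAffineProperty.iff_of_isAffine (P := isomorphisms Scheme) (f := q)).mpr
    ⟨inferInstance, hq_app⟩
  exact this


/-- affineness descends along flat surjective (not necessarily quasi-compact) morphisms, for
quasi-compact quasi-separated morphisms. -/
theorem isAffineHom_of_flat_surjective {X Y Y' : Scheme.{u}} (f : X ⟶ Y) (g : Y' ⟶ Y)
    [Flat g] [Surjective g] [QuasiCompact f] [QuasiSeparated f]
    (hf' : IsAffineHom (pullback.snd f g)) : IsAffineHom f := by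
  refine ⟨fun U hU => ?_⟩
  haveI : IsAffine (U : Scheme.{u}) := hU
  haveI : CompactSpace ((f ⁻¹ᵁ U : X.Opens) : Scheme.{u}) :=
    QuasiCompact.compactSpace_of_compactSpace (f ∣_ U)
  haveI : QuasiSeparatedSpace ((f ⁻¹ᵁ U : X.Opens) : Scheme.{u}) :=
    quasiSeparatedSpace_of_quasiSeparated (f ∣_ U)
  show IsAffine ((f ⁻¹ᵁ U : X.Opens) : Scheme.{u})
  refine ⟨?_⟩
  apply FlatNQC2.isIso_of_forall
  intro z
  set fU := f ∣_ U with hfU
  set sA : Spec Γ(((f ⁻¹ᵁ U : X.Opens) : Scheme.{u}), ⊤) ⟶ (U : Scheme.{u}) :=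
    Spec.map fU.appTop ≫ (U : Scheme.{u}).isoSpec.inv with hsA
  obtain ⟨y', hy'⟩ := g.surjective (U.ι.base (sA.base z))
  have hy'U : y' ∈ g ⁻¹ᵁ U := by
    show g.base y' ∈ U
    rw [hy']
    exact (sA.base z).2
  obtain ⟨_, ⟨V₀, hV, rfl⟩, hy'V, hVU⟩ :=
    Y'.isBasis_affineOpens.exists_subset_of_mem_open hy'U (g ⁻¹ᵁ U).2
  obtain ⟨V, rfl⟩ : ∃ V : Y'.Opens, V = V₀ := ⟨V₀, rfl⟩
  haveI : IsAffine (V : Scheme.{u}) := hV
  let k : (V : Scheme.{u}) ⟶ (U : Scheme.{u}) := g.resLE U V hVU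
  have hk : k ≫ U.ι = V.ι ≫ g := Scheme.Hom.resLE_comp_ι g hVU
  refine ⟨pullback sA k, pullback.fst sA k, inferInstance, ?_, ?_⟩
  · have h1 : sA.base z = k.base ⟨y', hy'V⟩ := by
      apply U.ι.injective
      rw [← Scheme.Hom.comp_apply (f := k), hk, Scheme.Hom.comp_apply]
      exact hy'.symm
    obtain ⟨w, hw, -⟩ := Scheme.Pullback.exists_preimage_pullback (f := sA) (g := k) z
      (⟨y', hy'V⟩ : V) h1
    exact ⟨w, hw⟩
  · apply isIso_snd_toSpecΓ fU k
    have H0 := IsPullback.of_hasPullback fU k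
    have Hbig : IsPullback (pullback.fst fU k ≫ (f ⁻¹ᵁ U).ι) (pullback.snd fU k)
        f (k ≫ U.ι) := H0.paste_horiz (isPullback_morphismRestrict f U).flip
    haveI : IsAffineHom (pullback.snd fU k) :=
      of_isPullback_of_factors @IsAffineHom hf' Hbig V.ι hk.symm
    exact isAffine_of_isAffineHom (pullback.snd fU k)

end Groth.Agent.Lib.Helper11.FlatNQC3
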