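import Mathlib

/-!
# Limits of towers of rings which are "constants plus nilpotents" are local (helper11)
-/

set_option autoImplicit false
universe u
open CategoryTheory CategoryTheory.Limits Opposite

noncomputable section

namespace Groth.Agent.Lib.Helper11.FormLocA

abbrev Tower := ℕᵒᵖ ⥤ CommRingCat.{u}

/-- the transition maps of a tower -/
def tr (A : Tower.{u}) (n : ℕ) : A.obj (op (n + 1)) ⟶ A.obj (op n) :=
  A.map (homOfLE (Nat.le_succ n)).op

lemma map_eq_of_step (A : Tower.{u}) (x : ∀ n, A.obj (op n))
    (hx : ∀ n, (tr A n).hom (x (n + 1)) = x n) {m n : ℕ} (h : m ≤ n) :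
    (A.map (homOfLE h).op).hom (x n) = x m := by
  induction n, h using Nat.le_induction with
  | base =>
    have : (homOfLE (le_refl m)).op = 𝟙 (op m) := rfl
    rw [this, A.map_id]
    rfl
  | succ n h ih =>
    have : (homOfLE (h.trans (Nat.le_succ n))).op =
        (homOfLE (Nat.le_succ n)).op ≫ (homOfLE h).op := rfl
    rw [this, A.map_comp]
    change (A.map (homOfLE h).op).hom ((tr A n).hom (x (n + 1))) = x m
    rw [hx, ih]

/-- the element of the limit with given components. -/
def mkLim (A : Tower.{u}) (x : ∀ n, A.obj (op n))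
    (hx : ∀ n, (tr A n).hom (x (n + 1)) = x n) : (limit A : CommRingCat.{u}) :=
  (Types.isLimitEquivSections (isLimitOfPreserves (forget CommRingCat.{u}) (limit.isLimit A))).symm
    ⟨fun j => x j.unop, by
      intro j j' f
      induction j using Opposite.rec with | _ n => ?_
      induction j' using Opposite.rec with | _ m => ?_
      have h : m ≤ n := leOfHom f.unop
      have hf : f = (homOfLE h).op := rfl
      rw [hf]
      exact map_eq_of_step A x hx h⟩

lemma π_mkLim (A : Tower.{u}) (x : ∀ n, A.obj (op n))
    (hx : ∀ n, (tr A n).hom (x (n + 1)) = x n) (n : ℕ) :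
    (limit.π A (op n)).hom (mkLim A x hx) = x n :=
  Types.isLimitEquivSections_symm_apply
    (isLimitOfPreserves (forget CommRingCat.{u}) (limit.isLimit A)) _ (op n)

lemma lim_ext (A : Tower.{u}) (a b : (limit A : CommRingCat.{u}))
    (h : ∀ n, (limit.π A (op n)).hom a = (limit.π A (op n)).hom b) : a = b := by
  apply Concrete.limit_ext A a b
  intro j
  induction j using Opposite.rec with | _ n => ?_
  exact h n

lemma π_tr (A : Tower.{u}) (a : (limit A : CommRingCat.{u})) (n : ℕ) :
    (tr A n).hom ((limit.π A (op (n + 1))).hom a) = (limit.π A (op n)).hom a := by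
  have h := limit.w A (homOfLE (Nat.le_succ n)).op
  have h2 := congrArg (fun φ => φ.hom a) h
  exact h2

lemma not_isUnit_of_isNilpotent {R : Type*} [CommRing R] [Nontrivial R] {x : R}
    (hx : IsNilpotent x) : ¬ IsUnit x := by
  intro hu
  obtain ⟨n, hn⟩ := hx
  have h1 : IsUnit (x ^ n) := hu.pow n
  rw [hn] at h1
  exact not_isUnit_zero h1

lemma isNilpotent_sub' {R : Type*} [CommRing R] {x y : R} (hx : IsNilpotent x)
    (hy : IsNilpotent y) : IsNilpotent (x - y) := by
  rw [← mem_nilradical] at hx hy ⊢
  exact (nilradical R).sub_mem hx hy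

lemma isNilpotent_add' {R : Type*} [CommRing R] {x y : R} (hx : IsNilpotent x)
    (hy : IsNilpotent y) : IsNilpotent (x + y) := by
  rw [← mem_nilradical] at hx hy ⊢
  exact (nilradical R).add_mem hx hy

section main

variable (A : Tower.{u}) (k : Type u) [Field k] (κ : ∀ n, k →+* A.obj (op n))
  (hκ : ∀ n c, (tr A n).hom (κ (n + 1) c) = κ n c)
  (hnt : ∀ n, Nontrivial (A.obj (op n)))
  (hA : ∀ n (a : A.obj (op n)), ∃ c : k, IsNilpotent (a - κ n c))

include hnt in
/-- the constant is unique -/
lemma const_unique (n : ℕ) (a : A.obj (op n)) (c c' : k) (h : IsNilpotent (a - κ n c))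
    (h' : IsNilpotent (a - κ n c')) : c = c' := by
  by_contra hne
  have h1 : IsNilpotent (κ n (c - c')) := by
    have := isNilpotent_sub' h' h
    have e : a - κ n c' - (a - κ n c) = κ n (c - c') := by
      rw [map_sub]
      ring
    rwa [e] at this
  have h2 : IsUnit (κ n (c - c')) := (IsUnit.mk0 _ (sub_ne_zero.mpr hne)).map _
  haveI := hnt n
  exact not_isUnit_of_isNilpotent h1 h2

include hκ hnt hA in
theorem exists_const (a : (limit A : CommRingCat.{u})) :
    ∃ c : k, ∀ m, IsNilpotent ((limit.π A (op m)).hom a - κ m c) := by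
  choose c hc using fun m => hA m ((limit.π A (op m)).hom a)
  have hstep : ∀ m, c (m + 1) = c m := by
    intro m
    have h1 : IsNilpotent ((limit.π A (op m)).hom a - κ m (c (m + 1))) := by
      have := (hc (m + 1)).map (tr A m).hom
      rwa [map_sub, π_tr, hκ] at this
    exact const_unique A k κ hnt m _ _ _ h1 (hc m)
  have hall : ∀ m, c m = c 0 := by
    intro m
    induction m with
    | zero => rfl
    | succ m ih => rw [hstep, ih]
  exact ⟨c 0, fun m => by rw [← hall m]; exact hc m⟩

include hκ hnt hA in
theorem isLocalRing_limit : IsLocalRing (limit A : CommRingCat.{u}) := by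
  haveI : Nontrivial (limit A : CommRingCat.{u}) := by
    refine ⟨⟨0, 1, fun h => ?_⟩⟩
    have h1 := congrArg (limit.π A (op 0)).hom h
    rw [map_zero, map_one] at h1
    haveI := hnt 0
    exact zero_ne_one h1
  -- dichotomy
  have key : ∀ a : (limit A : CommRingCat.{u}),
      (∀ m, IsNilpotent ((limit.π A (op m)).hom a)) ∨ IsUnit a := by
    intro a
    obtain ⟨c, hc⟩ := exists_const A k κ hκ hnt hA a
    by_cases h0 : c = 0
    · left
      intro m
      have := hc m
      rwa [h0, map_zero, sub_zero] at this
    · right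
      have hu : ∀ m, IsUnit ((limit.π A (op m)).hom a) := by
        intro m
        have h1 : IsUnit (κ m c) := (IsUnit.mk0 _ h0).map _
        have h2 := (hc m).isUnit_add_left_of_commute h1 (Commute.all _ _)
        rwa [add_sub_cancel] at h2
      choose b hb using fun m => (hu m).exists_right_inv
      have hbc : ∀ m, (tr A m).hom (b (m + 1)) = b m := by
        intro m
        have h1 : (limit.π A (op m)).hom a * (tr A m).hom (b (m + 1)) = 1 := by
          rw [← π_tr, ← map_mul, hb, map_one]
        calc (tr A m).hom (b (m + 1))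
            = (b m * (limit.π A (op m)).hom a) * (tr A m).hom (b (m + 1)) := by
              rw [mul_comm (b m), hb, one_mul]
          _ = b m := by rw [mul_assoc, h1, mul_one]
      refine IsUnit.of_mul_eq_one (mkLim A b hbc) ?_
      apply lim_ext
      intro m
      rw [map_mul, π_mkLim, hb, map_one]
  have hnil : ∀ a : (limit A : CommRingCat.{u}),
      (∀ m, IsNilpotent ((limit.π A (op m)).hom a)) → ¬ IsUnit a := by
    intro a ha hu
    haveI := hnt 0
    exact not_isUnit_of_isNilpotent (ha 0) (hu.map (limit.π A (op 0)).hom)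
  apply IsLocalRing.of_nonunits_add
  intro a b ha hb
  have ha' := (key a).resolve_right ha
  have hb' := (key b).resolve_right hb
  apply hnil
  intro m
  rw [map_add]
  exact isNilpotent_add' (ha' m) (hb' m)

end main

end Groth.Agent.Lib.Helper11.FormLocA
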