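import Groth.Prelude.Def_CGrpSh
import Mathlib.CategoryTheory.Sites.LocallySurjective
import Mathlib.CategoryTheory.Sites.EpiMono
import Mathlib.Algebra.Homology.ShortComplex.Ab
import Mathlib.Algebra.Homology.ShortComplex.Exact

/-!
# Local lifting along epimorphisms / exact sequences of sheaves of points, and gluing into
representable sheaves (big site of `S` for a subcanonical precoverage `K`)
-/

set_option autoImplicit false
universe u

open CategoryTheory CategoryTheory.Limits Opposite MonObj MonoidalCategory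
  CartesianMonoidalCategory AlgebraicGeometry CGrpSh

namespace Groth.Agent.Lib.Helper11.FppfLift

variable {S : Scheme.{u}} (K : Precoverage Scheme.{u}) [(QuotSh.J K S).Subcanonical]

section Sep

/-- Morphisms into an `S`-scheme that agree on a covering sieve are equal. -/
theorem hom_ext_of_sieve {T N : Over S} (R : Sieve T) (hR : R ∈ (QuotSh.J K S) T)
    {a b : T ⟶ N} (h : ∀ ⦃T' : Over S⦄ (f : T' ⟶ T), R f → f ≫ a = f ≫ b) : a = b :=
  ((GrothendieckTopology.Subcanonical.isSheaf_of_isRepresentable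
    (J := QuotSh.J K S) (yoneda.obj N)).isSeparated R hR).ext (fun _ f hf => h f hf)

/-- Gluing morphisms into an `S`-scheme along a covering sieve. -/
theorem exists_glue {T N : Over S} (R : Sieve T) (hR : R ∈ (QuotSh.J K S) T)
    (ξ : ∀ ⦃T' : Over S⦄ (f : T' ⟶ T), R f → (T' ⟶ N))
    (hξ : ∀ ⦃T' T'' : Over S⦄ (f : T' ⟶ T) (g : T'' ⟶ T') (hf : R f),
      ξ (g ≫ f) (R.downward_closed hf g) = g ≫ ξ f hf) :
    ∃ a : T ⟶ N, ∀ ⦃T' : Over S⦄ (f : T' ⟶ T) (hf : R f), f ≫ a = ξ f hf := by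
  have hsh := (GrothendieckTopology.Subcanonical.isSheaf_of_isRepresentable
    (J := QuotSh.J K S) (yoneda.obj N)) R hR
  let x : Presieve.FamilyOfElements (yoneda.obj N) R.arrows := fun T' f hf => ξ f hf
  have hx : x.Compatible := by
    rw [Presieve.compatible_iff_sieveCompatible]
    intro T' T'' f g hf
    exact hξ f g hf
  obtain ⟨a, ha, -⟩ := hsh x hx
  exact ⟨a, fun T' f hf => ha f hf⟩

end Sep

section Lift

variable {M' M M'' : Over S} [GrpObj M'] [IsCommMonObj M'] [GrpObj M] [IsCommMonObj M]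
  [GrpObj M''] [IsCommMonObj M'']

/-- Local lifting of points along an epimorphism of sheaves of points. -/
theorem exists_sieve_lift_of_epi (π : M ⟶ M'') [IsMonHom π] (hπ : Epi (ptsMap K π))
    {T : Over S} (y : T ⟶ M'') :
    ∃ R : Sieve T, R ∈ (QuotSh.J K S) T ∧
      ∀ ⦃T' : Over S⦄ (f : T' ⟶ T), R f ↔ ∃ z : T' ⟶ M, z ≫ π = f ≫ y := by
  haveI hls : Sheaf.IsLocallySurjective (ptsMap K π) :=
    (Sheaf.isLocallySurjective_iff_epi' _ _).2 hπ
  let s : (pts K M'').obj.obj (op T) := ULift.up (Additive.ofMul y)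
  refine ⟨Presheaf.imageSieve (ptsMap K π).hom (U := T) s,
    Presheaf.imageSieve_mem (QuotSh.J K S) (ptsMap K π).hom (U := op T) s, ?_⟩
  intro T' f
  constructor
  · rintro ⟨t, ht⟩
    exact ⟨t.down.toMul, congrArg (fun z => (ULift.down z).toMul) ht⟩
  · rintro ⟨z, hz⟩
    exact ⟨ULift.up (Additive.ofMul z), ULift.ext _ _ (congrArg Additive.ofMul hz)⟩

/-- Local lifting of points of the kernel along an exact sequence of sheaves of points. -/
theorem exists_sieve_lift_of_exact (j : M' ⟶ M) (π : M ⟶ M'') [IsMonHom j] [IsMonHom π]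
    (w : j ≫ π = 1) (hex : (CGrpSh.seq K j π w).Exact)
    {T : Over S} (d : T ⟶ M) (hd : d ≫ π = 1) :
    ∃ R : Sieve T, R ∈ (QuotSh.J K S) T ∧
      ∀ ⦃T' : Over S⦄ (f : T' ⟶ T), R f → ∃ z : T' ⟶ M', z ≫ j = f ≫ d := by
  let Sx := CGrpSh.seq K j π w
  haveI : Epi Sx.toCycles := Sx.exact_iff_epi_toCycles.mp hex
  haveI hls : Sheaf.IsLocallySurjective Sx.toCycles :=
    (Sheaf.isLocallySurjective_iff_epi' _ _).2 inferInstance
  let F : BigSite.Ab K S ⥤ AddCommGrpCat.{u + 1} :=
    sheafToPresheaf _ _ ⋙ (evaluation _ _).obj (op T)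
  let S' : ShortComplex (BigSite.Ab K S) := ShortComplex.mk Sx.iCycles Sx.g Sx.iCycles_g
  have hS' : S'.Exact := S'.exact_of_f_is_kernel Sx.cyclesIsKernel
  have hFS' : (S'.map F).Exact :=
    hS'.map_of_mono_of_preservesKernel F (inferInstanceAs (Mono Sx.iCycles)) inferInstance
  let a : (pts K M).obj.obj (op T) := ULift.up (Additive.ofMul d)
  have ha : (ptsMap K π).hom.app (op T) a = 0 :=
    ULift.ext _ _ (by
      change Additive.ofMul (d ≫ π) = 0
      rw [hd]
      rfl)
  obtain ⟨κ, hκ⟩ := (ShortComplex.ab_exact_iff _).mp hFS' a ha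
  refine ⟨Presheaf.imageSieve Sx.toCycles.hom (U := T) κ,
    Presheaf.imageSieve_mem (QuotSh.J K S) Sx.toCycles.hom (U := op T) κ, ?_⟩
  rintro T' f ⟨z, hz⟩
  refine ⟨z.down.toMul, ?_⟩
  have h1 := congrArg (Sx.iCycles.hom.app (op T')) hz
  have h2 : Sx.iCycles.hom.app (op T') (Sx.toCycles.hom.app (op T') z) =
      (ptsMap K j).hom.app (op T') z := by
    have := Sx.toCycles_i
    exact congrArg (fun φ : Sx.X₁ ⟶ Sx.X₂ => φ.hom.app (op T') z) this
  have h3 : Sx.iCycles.hom.app (op T') (Sx.cycles.obj.map f.op κ) =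
      (pts K M).obj.map f.op a := by
    have := Sx.iCycles.hom.naturality f.op
    have h4 := congrArg (fun φ => φ κ) this
    simp only [ConcreteCategory.comp_apply] at h4
    rw [h4]
    exact congrArg _ hκ
  rw [h2, h3] at h1
  exact congrArg (fun z => (ULift.down z).toMul) h1

end Lift

end Groth.Agent.Lib.Helper11.FppfLift
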