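import Mathlib

/-!
# Helper11 GA1: Galois extensions of commutative rings from a free action of a finite group
(after Chase–Harrison–Rosenberg): elementary algebra.
-/

set_option autoImplicit false

namespace Groth.Agent.Lib.Helper11.GA1

open TensorProduct

attribute [local instance] Classical.propDecidable

universe u

variable {A B : Type u} [CommRing A] [CommRing B] [Algebra A B] {G : Type u} [Group G]
  [MulSemiringAction G B] [SMulCommClass G A B]

/-- `μ_h : b ⊗ b' ↦ b * h • b'` -/
noncomputable def μ (h : G) : B ⊗[A] B →ₐ[A] B :=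
  Algebra.TensorProduct.productMap (AlgHom.id A B) (MulSemiringAction.toAlgHom A B h)

theorem μ_tmul (h : G) (b b' : B) : μ (A := A) (B := B) h (b ⊗ₜ b') = b * h • b' := rfl

/-- the action is free at every prime -/
def Free (B G : Type u) [CommRing B] [Group G] [MulSemiringAction G B] : Prop :=
  ∀ g : G, g ≠ 1 → ∀ P : Ideal B, P.IsPrime → ∃ b : B, g • b - b ∉ P

theorem exists_e (hfree : Free B G) (g : G) (hg : g ≠ 1) :
    ∃ e : B ⊗[A] B, μ (A := A) (B := B) (1 : G) e = 1 ∧ μ (A := A) (B := B) g e = 0 := by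
  let K : Ideal (B ⊗[A] B) := RingHom.ker (μ (A := A) (B := B) g)
  have hsurj : Function.Surjective (μ (A := A) (B := B) (1 : G)) := fun b =>
    ⟨b ⊗ₜ 1, by rw [μ_tmul, smul_one, mul_one]⟩
  have htop : Ideal.map (μ (A := A) (B := B) (1 : G)) K = ⊤ := by
    by_contra hne
    obtain ⟨P, hPmax, hle⟩ := Ideal.exists_le_maximal _ hne
    obtain ⟨b, hb⟩ := hfree g hg P hPmax.isPrime
    apply hb
    apply hle
    have hmem : (g • b) ⊗ₜ[A] (1 : B) - (1 : B) ⊗ₜ[A] b ∈ K := by
      rw [RingHom.mem_ker, map_sub, μ_tmul, μ_tmul, smul_one, mul_one, one_mul, sub_self]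
    have h2 := Ideal.mem_map_of_mem (μ (A := A) (B := B) (1 : G)) hmem
    rwa [map_sub, μ_tmul, μ_tmul, smul_one, mul_one, one_mul, one_smul] at h2
  have h1 : (1 : B) ∈ Ideal.map (μ (A := A) (B := B) (1 : G)) K := by rw [htop]; trivial
  obtain ⟨e, heK, he1⟩ := (Ideal.mem_map_iff_of_surjective _ hsurj).mp h1
  exact ⟨e, he1, heK⟩

variable [Finite G]

theorem exists_E (hfree : Free B G) :
    ∃ E : B ⊗[A] B, ∀ h : G, μ (A := A) (B := B) h E = if h = 1 then 1 else 0 := by
  classical
  cases nonempty_fintype G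
  choose e he1 heg using fun (g : {g : G // g ≠ 1}) => exists_e (A := A) hfree g.1 g.2
  refine ⟨∏ g : {g : G // g ≠ 1}, e g, fun h => ?_⟩
  rw [map_prod]
  split_ifs with hh
  · subst hh; exact Finset.prod_eq_one fun g _ => he1 g
  · exact Finset.prod_eq_zero (Finset.mem_univ ⟨h, hh⟩) (heg ⟨h, hh⟩)

theorem exists_dual (A : Type u) {B : Type u} [CommRing A] [CommRing B] [Algebra A B]
    {G : Type u} [Group G] [Finite G] [MulSemiringAction G B] [SMulCommClass G A B]
    (hfree : Free B G) :
    ∃ S : Finset (B × B), ∀ h : G, ∑ i ∈ S, i.1 * h • i.2 = if h = 1 then 1 else 0 := by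
  obtain ⟨E, hE⟩ := exists_E (A := A) hfree
  obtain ⟨S, rfl⟩ := TensorProduct.exists_finset E
  refine ⟨S, fun h => ?_⟩
  rw [← hE h, map_sum]
  exact Finset.sum_congr rfl fun i _ => rfl

theorem exists_idem (hfree : Free B G) (g : G) :
    ∃ e : B ⊗[A] B, ∀ h : G, μ (A := A) (B := B) h e = if h = g then 1 else 0 := by
  obtain ⟨E, hE⟩ := exists_E (A := A) hfree
  refine ⟨Algebra.TensorProduct.map (AlgHom.id A B) (MulSemiringAction.toAlgHom A B g⁻¹) E,
    fun h => ?_⟩
  have key : ∀ t, μ (A := A) (B := B) h (Algebra.TensorProduct.map (AlgHom.id A B)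
      (MulSemiringAction.toAlgHom A B g⁻¹) t) = μ (A := A) (B := B) (h * g⁻¹) t := by
    intro t
    induction t using TensorProduct.induction_on with
    | zero => simp
    | tmul b b' =>
      rw [Algebra.TensorProduct.map_tmul, μ_tmul, μ_tmul, mul_smul]
      rfl
    | add x y hx hy => simp only [map_add, hx, hy]
  rw [key, hE]
  simp only [mul_inv_eq_one]

section trace

variable [Fintype G]

theorem sum_smul_invariant (b : B) (h : G) : h • ∑ g : G, g • b = ∑ g : G, g • b := by
  rw [Finset.smul_sum]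
  exact Fintype.sum_equiv (Equiv.mulLeft h) _ _ (fun g => (mul_smul h g b).symm)

theorem dual_formula (S : Finset (B × B))
    (hS : ∀ h : G, ∑ i ∈ S, i.1 * h • i.2 = if h = 1 then 1 else 0) (b : B) :
    ∑ i ∈ S, i.1 * ∑ g : G, g • (i.2 * b) = b := by
  simp_rw [smul_mul', Finset.mul_sum]
  rw [Finset.sum_comm]
  have h1 : ∀ g : G, ∑ i ∈ S, i.1 * (g • i.2 * g • b) = (if g = 1 then 1 else 0) * g • b := by
    intro g
    rw [← hS g, Finset.sum_mul]
    exact Finset.sum_congr rfl fun i _ => (mul_assoc _ _ _).symm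
  simp_rw [h1]
  rw [Finset.sum_eq_single (1 : G)]
  · rw [if_pos rfl, one_mul, one_smul]
  · intro g _ hg
    rw [if_neg hg, zero_mul]
  · intro h; exact absurd (Finset.mem_univ _) h

variable [Algebra.IsInvariant A B G]

theorem exists_tr (b : B) : ∃ a : A, algebraMap A B a = ∑ g : G, g • b :=
  Algebra.IsInvariant.isInvariant (A := A) (G := G) _ (sum_smul_invariant b)

variable (hinj : Function.Injective (algebraMap A B))

/-- the trace to `A` -/
noncomputable def trA : B →ₗ[A] A where
  toFun b := (exists_tr (A := A) (G := G) b).choose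
  map_add' b b' := by
    apply hinj
    rw [map_add, (exists_tr (A := A) (G := G) _).choose_spec,
      (exists_tr (A := A) (G := G) _).choose_spec, (exists_tr (A := A) (G := G) _).choose_spec]
    simp only [smul_add, Finset.sum_add_distrib]
  map_smul' a b := by
    apply hinj
    rw [RingHom.id_apply, smul_eq_mul, map_mul, (exists_tr (A := A) (G := G) _).choose_spec,
      (exists_tr (A := A) (G := G) _).choose_spec, Finset.mul_sum]
    refine Finset.sum_congr rfl fun g _ => ?_
    rw [Algebra.smul_def, smul_mul', smul_algebraMap]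

theorem algebraMap_trA (b : B) : algebraMap A B (trA (G := G) hinj b) = ∑ g : G, g • b :=
  (exists_tr (A := A) (G := G) b).choose_spec

end trace

variable [Algebra.IsInvariant A B G] (hinj : Function.Injective (algebraMap A B))

include hinj in
theorem flat (hfree : Free B G) : Module.Flat A B := by
  classical
  cases nonempty_fintype G
  obtain ⟨S, hS⟩ := exists_dual A hfree
  let i : B →ₗ[A] (S → A) :=
    LinearMap.pi fun s => (trA (G := G) hinj).comp (LinearMap.mulLeft A s.1.2)
  let r : (S → A) →ₗ[A] B := Fintype.linearCombination A (fun s : S => s.1.1)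
  have h : r.comp i = LinearMap.id := by
    ext b
    show Fintype.linearCombination A (fun s : S => s.1.1) (i b) = b
    rw [Fintype.linearCombination_apply]
    have h2 : ∀ s : S, (i b) s • s.1.1 = s.1.1 * ∑ g : G, g • (s.1.2 * b) := by
      intro s
      show (trA (G := G) hinj (s.1.2 * b)) • s.1.1 = _
      rw [Algebra.smul_def, algebraMap_trA, mul_comm]
    simp_rw [h2]
    rw [Finset.sum_coe_sort S (fun s => s.1 * ∑ g : G, g • (s.2 * b))]
    exact dual_formula S hS b
  exact Module.Flat.of_retract i r h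

include hinj in
theorem eq_zero_of_μ (hfree : Free B G) (t : B ⊗[A] B) (ht : ∀ g : G, μ (A := A) (B := B) g t = 0) :
    t = 0 := by
  classical
  cases nonempty_fintype G
  obtain ⟨S, hS⟩ := exists_dual A hfree
  have key : ∀ t : B ⊗[A] B,
      t = ∑ i ∈ S, ∑ g : G, ((g • i.2) * μ (A := A) (B := B) g t) ⊗ₜ[A] i.1 := by
    intro t
    induction t using TensorProduct.induction_on with
    | zero => simp
    | tmul b b' =>
      have h1 : ∀ i : B × B, ∑ g : G, ((g • i.2) * μ (A := A) (B := B) g (b ⊗ₜ b')) ⊗ₜ[A] i.1 =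
          b ⊗ₜ[A] (i.1 * ∑ g : G, g • (i.2 * b')) := by
        intro i
        rw [← TensorProduct.sum_tmul]
        have h2 : ∑ g : G, (g • i.2) * μ (A := A) (B := B) g (b ⊗ₜ b') =
            (trA (G := G) hinj (i.2 * b')) • b := by
          rw [Algebra.smul_def, algebraMap_trA, Finset.sum_mul]
          refine Finset.sum_congr rfl fun g _ => ?_
          rw [μ_tmul, smul_mul']
          ring
        rw [h2, TensorProduct.smul_tmul, Algebra.smul_def, algebraMap_trA, mul_comm]
      simp_rw [h1]
      rw [← TensorProduct.tmul_sum, dual_formula S hS b']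
    | add x y hx hy =>
      conv_lhs => rw [hx, hy]
      simp only [map_add, mul_add, TensorProduct.add_tmul, Finset.sum_add_distrib]
  rw [key t]
  refine Finset.sum_eq_zero fun i _ => Finset.sum_eq_zero fun g _ => ?_
  rw [ht g, mul_zero, TensorProduct.zero_tmul]

include hinj in
theorem isLocalization_μ (hfree : Free B G) (g : G) (e : B ⊗[A] B)
    (he : ∀ h : G, μ (A := A) (B := B) h e = if h = g then 1 else 0) :
    @IsLocalization.Away (B ⊗[A] B) _ e B _ (μ (A := A) (B := B) g).toRingHom.toAlgebra := by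
  letI := (μ (A := A) (B := B) g).toRingHom.toAlgebra
  refine IsLocalization.Away.mk e ?_ ?_ ?_
  · show IsUnit (μ (A := A) (B := B) g e)
    rw [he, if_pos rfl]; exact isUnit_one
  · intro b
    refine ⟨0, b ⊗ₜ 1, ?_⟩
    show b * (μ (A := A) (B := B) g e) ^ 0 = μ (A := A) (B := B) g (b ⊗ₜ 1)
    rw [pow_zero, mul_one, μ_tmul, smul_one, mul_one]
  · intro t t' htt'
    refine ⟨1, ?_⟩
    rw [pow_one, ← sub_eq_zero, ← mul_sub]
    apply eq_zero_of_μ hinj hfree
    intro h
    rw [map_mul, he, map_sub]
    split_ifs with hh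
    · subst hh
      have h3 : μ (A := A) (B := B) h t = μ (A := A) (B := B) h t' := htt'
      rw [h3, sub_self, mul_zero]
    · rw [zero_mul]

section section_case

variable (s : B →ₐ[A] A)

theorem exists_ε (hfree : Free B G) (g : G) :
    ∃ ε : B, ∀ h : G, s (h • ε) = if h = g then 1 else 0 := by
  obtain ⟨S, hS⟩ := exists_dual A hfree
  refine ⟨g⁻¹ • ∑ i ∈ S, algebraMap A B (s i.1) * i.2, fun h => ?_⟩
  rw [← mul_smul, Finset.smul_sum, map_sum]
  have h1 : ∀ i : B × B, s ((h * g⁻¹) • (algebraMap A B (s i.1) * i.2)) =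
      s (i.1 * (h * g⁻¹) • i.2) := by
    intro i
    rw [smul_mul', smul_algebraMap, map_mul, map_mul, s.commutes]
    rfl
  simp_rw [h1]
  rw [← map_sum, hS (h * g⁻¹)]
  simp only [mul_inv_eq_one]
  split_ifs
  · exact map_one s
  · exact map_zero s

theorem eq_zero_of_k (hfree : Free B G) (b : B) (hb : ∀ g : G, s (g • b) = 0) : b = 0 := by
  classical
  cases nonempty_fintype G
  obtain ⟨S, hS⟩ := exists_dual A hfree
  rw [← dual_formula S hS b]
  refine Finset.sum_eq_zero fun i _ => ?_
  obtain ⟨a, ha⟩ := exists_tr (A := A) (G := G) (i.2 * b)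
  rw [← ha]
  have h0 : a = 0 := by
    have h1 := congrArg s ha
    rw [s.commutes, map_sum] at h1
    have h2 : a = ∑ g : G, s (g • (i.2 * b)) := h1
    rw [h2]
    refine Finset.sum_eq_zero fun g _ => ?_
    rw [smul_mul', map_mul, hb g, mul_zero]
  rw [h0, map_zero, mul_zero]

/-- `k_g : b ↦ s (g • b)` -/
noncomputable def k (g : G) : B →+* A := s.toRingHom.comp (MulSemiringAction.toRingHom G B g)

theorem k_apply (g : G) (b : B) : k s g b = s (g • b) := rfl

theorem isLocalization_k (hfree : Free B G) (g : G) (ε : B)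
    (hε : ∀ h : G, s (h • ε) = if h = g then 1 else 0) :
    @IsLocalization.Away B _ ε A _ (k s g).toAlgebra := by
  letI := (k s g).toAlgebra
  refine IsLocalization.Away.mk ε ?_ ?_ ?_
  · show IsUnit (k s g ε)
    rw [k_apply, hε, if_pos rfl]; exact isUnit_one
  · intro a
    refine ⟨0, algebraMap A B a, ?_⟩
    show a * (k s g ε) ^ 0 = k s g (algebraMap A B a)
    rw [pow_zero, mul_one, k_apply, smul_algebraMap, s.commutes]
    rfl
  · intro b b' hbb'
    refine ⟨1, ?_⟩
    rw [pow_one, ← sub_eq_zero, ← mul_sub]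
    apply eq_zero_of_k s hfree
    intro h
    rw [smul_mul', map_mul, hε, smul_sub, map_sub]
    split_ifs with hh
    · subst hh
      have h3 : s (h • b) = s (h • b') := hbb'
      rw [h3, sub_self, mul_zero]
    · rw [zero_mul]

end section_case

end Groth.Agent.Lib.Helper11.GA1
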