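import Groth.Agent.Lib.Helper5.GroupQuot
import Mathlib

/-!
# Helper11 RF1: residue fields of points of affine opens as fraction fields of `Γ(X,V)/Q_x`
-/

set_option autoImplicit false
universe u

open CategoryTheory AlgebraicGeometry TopologicalSpace

namespace Groth.Agent.Lib.Helper11.RF1

section Alg

variable {R S : Type*} [CommRing R] [CommRing S] [Algebra R S] (I : Ideal R) [I.IsPrime]
  [IsLocalRing S] [IsLocalization.AtPrime S I]
  {L : Type*} [Field L] [Algebra (R ⧸ I) L] (φ : S →+* L) (hφs : Function.Surjective φ)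
  (hφk : ∀ s, φ s = 0 ↔ s ∈ IsLocalRing.maximalIdeal S)
  (hφ : ∀ r : R, algebraMap (R ⧸ I) L (Ideal.Quotient.mk I r) = φ (algebraMap R S r))

include hφk hφ in
theorem algebraMap_injective : Function.Injective (algebraMap (R ⧸ I) L) := by
  rw [injective_iff_map_eq_zero]
  intro a ha
  obtain ⟨r, rfl⟩ := Ideal.Quotient.mk_surjective a
  rw [hφ, hφk, IsLocalization.AtPrime.to_map_mem_maximal_iff S I r] at ha
  exact Ideal.Quotient.eq_zero_iff_mem.mpr ha

include hφs hφk hφ in
theorem isFractionRing_of_atPrime : IsFractionRing (R ⧸ I) L where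
  map_units y := isUnit_iff_ne_zero.mpr
    (map_ne_zero_of_mem_nonZeroDivisors _ (algebraMap_injective I φ hφk hφ) y.2)
  surj z := by
    obtain ⟨s, rfl⟩ := hφs z
    obtain ⟨r, ⟨t, ht⟩, rfl⟩ := IsLocalization.exists_mk'_eq I.primeCompl s
    refine ⟨⟨Ideal.Quotient.mk _ r, ⟨Ideal.Quotient.mk _ t, ?_⟩⟩, ?_⟩
    · rwa [mem_nonZeroDivisors_iff_ne_zero, ne_eq, Ideal.Quotient.eq_zero_iff_mem]
    · change φ _ * algebraMap (R ⧸ I) L (Ideal.Quotient.mk I t) =
        algebraMap (R ⧸ I) L (Ideal.Quotient.mk I r)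
      rw [hφ, hφ, ← map_mul]
      exact congrArg φ (IsLocalization.mk'_spec S r ⟨t, ht⟩)
  exists_of_eq {a b} e := ⟨1, by rw [algebraMap_injective I φ hφk hφ e]⟩

end Alg

section Sch

variable {X : Scheme.{u}} {V : X.Opens} (hV : IsAffineOpen V) (x : X) (hx : x ∈ V)

theorem evaluation_eq_zero_iff (b : Γ(X, V)) :
    (X.evaluation V x hx).hom b = 0 ↔ b ∈ (hV.primeIdealOf ⟨x, hx⟩).asIdeal := by
  letI := X.presheaf.algebra_section_stalk ⟨x, hx⟩
  haveI := hV.isLocalization_stalk ⟨x, hx⟩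
  have h1 : (X.evaluation V x hx).hom b =
      IsLocalRing.residue (X.presheaf.stalk x) (algebraMap Γ(X, V) (X.presheaf.stalk x) b) := rfl
  rw [h1]
  exact (IsLocalRing.residue_eq_zero_iff _).trans
    (IsLocalization.AtPrime.to_map_mem_maximal_iff _ _ _)

/-- The injection `Γ(X,V)/Q_x → κ(x)`. -/
noncomputable def evQ : (Γ(X, V) ⧸ (hV.primeIdealOf ⟨x, hx⟩).asIdeal) →+* X.residueField x :=
  Ideal.Quotient.lift _ (X.evaluation V x hx).hom
    (fun b hb => (evaluation_eq_zero_iff hV x hx b).mpr hb)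

theorem evQ_mk (b : Γ(X, V)) :
    evQ hV x hx (Ideal.Quotient.mk _ b) = (X.evaluation V x hx).hom b := rfl

/-- `κ(x)` as an algebra over `Γ(X,V)/Q_x`. -/
@[instance_reducible]
noncomputable def algQ :
    Algebra (Γ(X, V) ⧸ (hV.primeIdealOf ⟨x, hx⟩).asIdeal) (X.residueField x) :=
  (evQ hV x hx).toAlgebra

theorem isFractionRing :
    letI := algQ hV x hx
    IsFractionRing (Γ(X, V) ⧸ (hV.primeIdealOf ⟨x, hx⟩).asIdeal) (X.residueField x) := by
  letI := algQ hV x hx
  letI := X.presheaf.algebra_section_stalk ⟨x, hx⟩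
  haveI := hV.isLocalization_stalk ⟨x, hx⟩
  exact isFractionRing_of_atPrime (I := (hV.primeIdealOf ⟨x, hx⟩).asIdeal)
    (S := X.presheaf.stalk x)
    (IsLocalRing.residue (X.presheaf.stalk x)) IsLocalRing.residue_surjective
    (fun s => IsLocalRing.residue_eq_zero_iff s) (fun r => rfl)

theorem evaluation_congr {x y : X} (h : x = y) (hx : x ∈ V) (s : Γ(X, V)) :
    (X.residueFieldCongr h).hom ((X.evaluation V x hx).hom s) =
      (X.evaluation V y (h ▸ hx)).hom s := by
  subst h; rfl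

theorem evaluation_res {V W : X.Opens} (hWV : W ≤ V) (x : X) (hx : x ∈ W) (s : Γ(X, V)) :
    (X.evaluation W x hx).hom ((X.presheaf.map (homOfLE hWV).op).hom s) =
      (X.evaluation V x (hWV hx)).hom s := by
  change (X.residue x).hom ((X.presheaf.germ W x hx).hom ((X.presheaf.map (homOfLE hWV).op).hom s))
    = (X.residue x).hom ((X.presheaf.germ V x (hWV hx)).hom s)
  congr 1
  exact TopCat.Presheaf.germ_res_apply X.presheaf (homOfLE hWV) x hx s

theorem evaluation_appLE {Y : Scheme.{u}} (f : X ⟶ Y) {U : Y.Opens} {W : X.Opens}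
    (hWU : W ≤ f ⁻¹ᵁ U) (x : X) (hx : x ∈ W) (s : Γ(Y, U)) :
    (X.evaluation W x hx).hom ((f.appLE U W hWU).hom s) =
      (f.residueFieldMap x).hom ((Y.evaluation U (f x) (hWU hx)).hom s) := by
  have h1 := Scheme.evaluation_naturality_apply f x (hWU hx) s
  rw [show (f.residueFieldMap x).hom ((Y.evaluation U (f x) (hWU hx)).hom s) =
    (X.evaluation (f ⁻¹ᵁ U) x (hWU hx)).hom ((f.app U).hom s) from h1]
  rw [← evaluation_res hWU x hx]
  rfl

end Sch

end Groth.Agent.Lib.Helper11.RF1
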