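import Groth.Agent.Lib.Helper11.GT1
import Groth.Agent.S13597

/-!
# Helper11 GT2: geometric points of quotients by finite groups
-/

set_option autoImplicit false
universe u

open CategoryTheory AlgebraicGeometry

namespace Groth.Agent.Lib.Helper11.GT2

open Groth.Agent.Lib.Helper5

variable {X Y : Scheme.{u}} {G : Type u} [Group G] [Finite G] {ρ : G →* Aut X} {q : X ⟶ Y}

theorem normal_of_isQuot (hq : SGA1.IsQuot ρ q) (x : X) :
    @Normal (Y.residueField (q x)) (X.residueField x) _ _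
      (q.residueFieldMap x).hom.toAlgebra :=
  (Groth.Agent.S13597.result ρ q hq x).1

theorem h3_of_isQuot (hq : SGA1.IsQuot ρ q) (x : X) (σ : X.residueField x ≅ X.residueField x)
    (hσ : q.residueFieldMap x ≫ σ.hom = q.residueFieldMap x) :
    ∃ g : G, X.fromSpecResidueField x ≫ (ρ g).hom =
      Spec.map σ.hom ≫ X.fromSpecResidueField x := by
  obtain ⟨g, e, hg⟩ := (Groth.Agent.S13597.result ρ q hq x).2 σ hσ
  refine ⟨g, ?_⟩
  rw [hg, Spec.map_comp, Category.assoc]
  have h1 : Spec.map (X.residueFieldCongr e).inv ≫ X.fromSpecResidueField x =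
      X.fromSpecResidueField ((ρ g).hom.base x) :=
    Scheme.residueFieldCongr_fromSpecResidueField e.symm
  rw [h1]
  exact (Scheme.Hom.SpecMap_residueFieldMap_fromSpecResidueField (ρ g).hom x).symm

theorem geomTransitive_of_isQuot (hq : SGA1.IsQuot ρ q) (Ω : Type u) [Field Ω]
    (τ₁ τ₂ : Spec (CommRingCat.of Ω) ⟶ X) (hτ : τ₁ ≫ q = τ₂ ≫ q) :
    ∃ g : G, τ₁ ≫ (ρ g).hom = τ₂ :=
  GT1.geomTransitive q ρ hq.inv (fun x y h => GroupQuot.exists_smul_eq_of_map_eq hq x y h)
    (normal_of_isQuot hq) (h3_of_isQuot hq) Ω τ₁ τ₂ hτ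

theorem exists_lift_of_isQuot (hq : SGA1.IsQuot ρ q) (Ω : Type u) [Field Ω] [IsAlgClosed Ω]
    (a : Spec (CommRingCat.of Ω) ⟶ Y) : ∃ a' : Spec (CommRingCat.of Ω) ⟶ X, a' ≫ q = a := by
  obtain ⟨x, hx⟩ := GroupQuot.surjective hq (a (IsLocalRing.closedPoint Ω))
  obtain ⟨ψ, hψ⟩ := GT1.exists_desc a (q x) hx.symm
  letI aKL : Algebra (Y.residueField (q x)) (X.residueField x) :=
    (q.residueFieldMap x).hom.toAlgebra
  letI aKΩ : Algebra (Y.residueField (q x)) Ω := ψ.hom.toAlgebra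
  haveI := normal_of_isQuot hq x
  haveI : Algebra.IsAlgebraic (Y.residueField (q x)) (X.residueField x) :=
    Normal.toIsAlgebraic
  let l : X.residueField x →ₐ[Y.residueField (q x)] Ω := IsAlgClosed.lift
  refine ⟨Spec.map (CommRingCat.ofHom l.toRingHom) ≫ X.fromSpecResidueField x, ?_⟩
  rw [Category.assoc, ← Scheme.Hom.SpecMap_residueFieldMap_fromSpecResidueField,
    ← Category.assoc, ← Spec.map_comp, hψ]
  congr 2
  ext k
  exact l.commutes k

theorem spec_epi {K Ω : Type u} [Field K] [Field Ω] (j : K →+* Ω) {Z : Scheme.{u}}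
    (a b : Spec (CommRingCat.of K) ⟶ Z)
    (h : Spec.map (CommRingCat.ofHom j) ≫ a = Spec.map (CommRingCat.ofHom j) ≫ b) : a = b := by
  have hpt : a (IsLocalRing.closedPoint K) = b (IsLocalRing.closedPoint K) := by
    have h0 := congr($(h) (IsLocalRing.closedPoint Ω))
    rw [Scheme.Hom.comp_apply, Scheme.Hom.comp_apply] at h0
    have h1 : (Spec.map (CommRingCat.ofHom j)) (IsLocalRing.closedPoint Ω) =
        IsLocalRing.closedPoint K := Subsingleton.elim _ _
    rwa [h1] at h0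
  obtain ⟨z, hz⟩ : ∃ z, b (IsLocalRing.closedPoint K) = z := ⟨_, rfl⟩
  obtain ⟨φa, hφa⟩ := GT1.exists_desc a z (hpt.trans hz)
  obtain ⟨φb, hφb⟩ := GT1.exists_desc b z hz
  have h2 : φa ≫ CommRingCat.ofHom j = φb ≫ CommRingCat.ofHom j := by
    apply GT1.spec_ext z
    rw [Spec.map_comp, Spec.map_comp, Category.assoc, Category.assoc, ← hφa, ← hφb]
    exact h
  have h3 : φa = φb := by
    ext k
    apply j.injective
    exact congrArg (fun φ => φ.hom k) h2
  rw [hφa, hφb, h3]

/-- Universal injectivity of a morphism out of a quotient, from geometric points. -/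
theorem universallyInjective_of_geom {P : Scheme.{u}} (hq : SGA1.IsQuot ρ q) (m : Y ⟶ P)
    (H : ∀ (Ω : Type u) [Field Ω] [IsAlgClosed Ω] (a' b' : Spec (CommRingCat.of Ω) ⟶ X),
      a' ≫ q ≫ m = b' ≫ q ≫ m → ∃ g : G, a' ≫ (ρ g).hom = b') :
    UniversallyInjective m := by
  refine ((tfae_universallyInjective m).out 0 1).mpr ?_
  intro K _ a b hab
  change a ≫ m = b ≫ m at hab
  apply spec_epi (algebraMap K (AlgebraicClosure K))
  obtain ⟨a', ha'⟩ := exists_lift_of_isQuot hq (AlgebraicClosure K)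
    (Spec.map (CommRingCat.ofHom (algebraMap K (AlgebraicClosure K))) ≫ a)
  obtain ⟨b', hb'⟩ := exists_lift_of_isQuot hq (AlgebraicClosure K)
    (Spec.map (CommRingCat.ofHom (algebraMap K (AlgebraicClosure K))) ≫ b)
  obtain ⟨g, hg⟩ := H (AlgebraicClosure K) a' b' (by
    rw [← Category.assoc, ← Category.assoc, ha', hb', Category.assoc, Category.assoc, hab])
  rw [← ha', ← hb', ← hg, Category.assoc, hq.inv g]

end Groth.Agent.Lib.Helper11.GT2
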