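import Groth.Agent.Lib.Helper11.GA1
import Groth.Agent.Lib.Helper11.SD1
import Groth.Agent.Lib.Helper11.GT2
import Groth.Agent.Lib.Helper5.GroupQuot

/-!
# Helper11 GA2: quotients by free actions of finite groups are Galois (pseudo-torsors)
-/

set_option autoImplicit false

namespace Groth.Agent.Lib.Helper11.GA2

open CategoryTheory CategoryTheory.Limits AlgebraicGeometry TensorProduct
open Groth.Agent.Lib.Helper5.GroupQuot

attribute [local instance] Classical.propDecidable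

universe u

variable {X Y : Scheme.{u}} {G : Type u} [Group G] [Finite G] {ρ : G →* Aut X} {p : X ⟶ Y}
  (hp : SGA1.IsQuot ρ p)

/-- freeness on geometric points -/
def GeomFree (ρ : G →* Aut X) : Prop :=
  ∀ (K : Type u) [Field K] [IsAlgClosed K] (ξ : Spec (CommRingCat.of K) ⟶ X) (g : G),
    ξ ≫ (ρ g).hom = ξ → g = 1

theorem sigma_eq_smul (V : Y.Opens) (g : G) (b : Γ(X, p ⁻¹ᵁ V)) :
    letI := quotAction hp V
    ((ρ g).hom.appLE (p ⁻¹ᵁ V) (p ⁻¹ᵁ V) (SGA1.preimage_le_of_inv ρ p hp.inv g V)).hom b =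
      g⁻¹ • b := by
  letI := quotAction hp V
  rw [smul_def, inv_inv]
  rfl

theorem free_alg (hfree : GeomFree ρ) (V : Y.Opens) (hV : IsAffineOpen V) :
    letI := quotAction hp V
    GA1.Free Γ(X, p ⁻¹ᵁ V) G := by
  letI := quotAction hp V
  intro g hg P hP
  by_contra hcon
  push_neg at hcon
  have hO : IsAffineOpen (p ⁻¹ᵁ V) := by
    haveI := hp.affine
    exact hV.preimage p
  haveI := hP
  let K := AlgebraicClosure (FractionRing (Γ(X, p ⁻¹ᵁ V) ⧸ P))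
  let ψ : Γ(X, p ⁻¹ᵁ V) →+* K :=
    (algebraMap (FractionRing (Γ(X, p ⁻¹ᵁ V) ⧸ P)) K).comp
      ((algebraMap (Γ(X, p ⁻¹ᵁ V) ⧸ P) (FractionRing (Γ(X, p ⁻¹ᵁ V) ⧸ P))).comp
        (Ideal.Quotient.mk P))
  have hψ : ∀ b ∈ P, ψ b = 0 := fun b hb => by
    simp only [ψ, RingHom.comp_apply]
    rw [Ideal.Quotient.eq_zero_iff_mem.mpr hb, map_zero, map_zero]
  let ξ : Spec (CommRingCat.of K) ⟶ X := Spec.map (CommRingCat.ofHom ψ) ≫ hO.fromSpec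
  apply hg
  have h1 : ξ ≫ (ρ g⁻¹).hom = ξ := by
    show (Spec.map (CommRingCat.ofHom ψ) ≫ hO.fromSpec) ≫ (ρ g⁻¹).hom = _
    rw [Category.assoc, ← IsAffineOpen.SpecMap_appLE_fromSpec (ρ g⁻¹).hom hO hO
      (SGA1.preimage_le_of_inv ρ p hp.inv g⁻¹ V), ← Category.assoc, ← Spec.map_comp]
    congr 2
    refine CommRingCat.hom_ext (RingHom.ext fun b => ?_)
    show ψ (((ρ g⁻¹).hom.appLE (p ⁻¹ᵁ V) (p ⁻¹ᵁ V)
      (SGA1.preimage_le_of_inv ρ p hp.inv g⁻¹ V)).hom b) = ψ b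
    rw [sigma_eq_smul hp V g⁻¹ b, inv_inv, ← sub_eq_zero, ← map_sub]
    exact hψ _ (hcon b)
  exact inv_eq_one.mp (hfree K ξ g⁻¹ h1)

theorem id_appLE (V : Y.Opens) (e : V ≤ (𝟙 Y : Y ⟶ Y) ⁻¹ᵁ V) :
    (𝟙 Y : Y ⟶ Y).appLE V V e = 𝟙 _ := by
  simp only [Scheme.Hom.appLE, Scheme.Hom.id_app, Category.id_comp]
  exact Y.presheaf.map_id _

include hp in
/-- chart facts for the graph translates -/
theorem chart_facts (hfree : GeomFree ρ) (υ : G → (X ⟶ pullback p p))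
    (h₁ : ∀ g, υ g ≫ pullback.fst p p = 𝟙 X) (h₂ : ∀ g, υ g ≫ pullback.snd p p = (ρ g).hom)
    (V : Y.Opens) (hV : IsAffineOpen V) (hO : IsAffineOpen (p ⁻¹ᵁ V)) :
    ∃ (T : CommRingCat.{u}) (jZ : Spec T ⟶ pullback p p) (m : G → (T ⟶ Γ(X, p ⁻¹ᵁ V))),
      IsOpenImmersion jZ ∧ (∀ g, IsOpenImmersion (Spec.map (m g))) ∧
      (∀ g, hO.fromSpec ≫ υ g = Spec.map (m g) ≫ jZ) ∧
      (∀ g h, g ≠ h → ∀ P P' : Spec Γ(X, p ⁻¹ᵁ V), Spec.map (m g) P ≠ Spec.map (m h) P') := by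
  letI := quotAction hp V
  letI := quotAlgebra (p := p) V
  haveI := isInvariant hp V
  haveI := smulCommClass hp V
  have hF := free_alg hp hfree V hV
  have hinj : Function.Injective (algebraMap Γ(Y, V) Γ(X, p ⁻¹ᵁ V)) := hp.injective V
  have e₁ : Spec.map (CommRingCat.ofHom (algebraMap Γ(Y, V) Γ(X, p ⁻¹ᵁ V))) ≫ hV.fromSpec =
      hO.fromSpec ≫ p := by
    have h := IsAffineOpen.SpecMap_appLE_fromSpec p hV hO le_rfl
    rw [← Scheme.Hom.app_eq_appLE] at h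
    exact h
  let mp := pullback.map _ _ p p hO.fromSpec hO.fromSpec hV.fromSpec e₁ e₁
  have hm₁ : mp ≫ pullback.fst p p = pullback.fst _ _ ≫ hO.fromSpec := pullback.lift_fst _ _ _
  have hm₂ : mp ≫ pullback.snd p p = pullback.snd _ _ ≫ hO.fromSpec := pullback.lift_snd _ _ _
  let jZ : Spec (CommRingCat.of (Γ(X, p ⁻¹ᵁ V) ⊗[Γ(Y, V)] Γ(X, p ⁻¹ᵁ V))) ⟶ pullback p p :=
    (pullbackSpecIso Γ(Y, V) Γ(X, p ⁻¹ᵁ V) Γ(X, p ⁻¹ᵁ V)).inv ≫ mp
  haveI : IsOpenImmersion jZ := by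
    haveI : IsOpenImmersion mp := inferInstance
    infer_instance
  let ιL : Γ(X, p ⁻¹ᵁ V) ⟶ CommRingCat.of (Γ(X, p ⁻¹ᵁ V) ⊗[Γ(Y, V)] Γ(X, p ⁻¹ᵁ V)) :=
    CommRingCat.ofHom Algebra.TensorProduct.includeLeftRingHom
  let ιR : Γ(X, p ⁻¹ᵁ V) ⟶ CommRingCat.of (Γ(X, p ⁻¹ᵁ V) ⊗[Γ(Y, V)] Γ(X, p ⁻¹ᵁ V)) :=
    CommRingCat.ofHom (RingHomClass.toRingHom
      (Algebra.TensorProduct.includeRight : Γ(X, p ⁻¹ᵁ V) →ₐ[Γ(Y, V)] _))
  have hj₁ : jZ ≫ pullback.fst p p = Spec.map ιL ≫ hO.fromSpec := by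
    simp only [jZ, Category.assoc]
    rw [hm₁, pullbackSpecIso_inv_fst_assoc]
  have hj₂ : jZ ≫ pullback.snd p p = Spec.map ιR ≫ hO.fromSpec := by
    simp only [jZ, Category.assoc]
    rw [hm₂, pullbackSpecIso_inv_snd_assoc]
  let m : G → (CommRingCat.of (Γ(X, p ⁻¹ᵁ V) ⊗[Γ(Y, V)] Γ(X, p ⁻¹ᵁ V)) ⟶ Γ(X, p ⁻¹ᵁ V)) :=
    fun g => CommRingCat.ofHom
      (GA1.μ (A := Γ(Y, V)) (B := Γ(X, p ⁻¹ᵁ V)) g⁻¹).toRingHom
  refine ⟨_, jZ, m, inferInstance, fun g => ?_, fun g => ?_, fun g h hgh P P' heq => ?_⟩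
  · obtain ⟨e, he⟩ := GA1.exists_idem (A := Γ(Y, V)) hF g⁻¹
    letI := (GA1.μ (A := Γ(Y, V)) (B := Γ(X, p ⁻¹ᵁ V)) g⁻¹).toRingHom.toAlgebra
    haveI := GA1.isLocalization_μ hinj hF g⁻¹ e he
    exact IsOpenImmersion.of_isLocalization e
  · apply pullback.hom_ext
    · rw [Category.assoc, h₁, Category.comp_id, Category.assoc, hj₁, ← Spec.map_comp_assoc]
      have : ιL ≫ m g = 𝟙 _ := by
        refine CommRingCat.hom_ext (RingHom.ext fun b => ?_)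
        show GA1.μ (A := Γ(Y, V)) (B := Γ(X, p ⁻¹ᵁ V)) g⁻¹ (b ⊗ₜ 1) = b
        rw [GA1.μ_tmul, smul_one, mul_one]
      rw [this, Spec.map_id, Category.id_comp]
    · rw [Category.assoc, h₂, Category.assoc, hj₂, ← Spec.map_comp_assoc,
        ← IsAffineOpen.SpecMap_appLE_fromSpec (ρ g).hom hO hO
          (SGA1.preimage_le_of_inv ρ p hp.inv g V)]
      congr 2
      refine CommRingCat.hom_ext (RingHom.ext fun b => ?_)
      show ((ρ g).hom.appLE (p ⁻¹ᵁ V) (p ⁻¹ᵁ V) (SGA1.preimage_le_of_inv ρ p hp.inv g V)).hom b =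
        GA1.μ (A := Γ(Y, V)) (B := Γ(X, p ⁻¹ᵁ V)) g⁻¹ (1 ⊗ₜ b)
      rw [GA1.μ_tmul, one_mul, sigma_eq_smul hp V g b]
  · obtain ⟨e, he⟩ := GA1.exists_idem (A := Γ(Y, V)) hF g⁻¹
    have h3 : e ∈ (Spec.map (m h) P').asIdeal := by
      show (GA1.μ (A := Γ(Y, V)) (B := Γ(X, p ⁻¹ᵁ V)) h⁻¹) e ∈ P'.asIdeal
      rw [he, if_neg (fun hh => hgh (inv_injective hh).symm)]
      exact zero_mem _
    rw [← heq] at h3
    have h4 : (GA1.μ (A := Γ(Y, V)) (B := Γ(X, p ⁻¹ᵁ V)) g⁻¹) e ∈ P.asIdeal := h3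
    rw [he, if_pos rfl] at h4
    exact P.isPrime.ne_top (P.asIdeal.eq_top_of_isUnit_mem h4 isUnit_one)

theorem exists_affine_nhd (y : Y) : ∃ V : Y.Opens, IsAffineOpen V ∧ y ∈ V := by
  obtain ⟨_, ⟨V, hV, rfl⟩, hyV, -⟩ := Y.isBasis_affineOpens.exists_subset_of_mem_open
    (Set.mem_univ y) isOpen_univ
  exact ⟨V, hV, hyV⟩

include hp in
theorem isIso_sigmaDesc [IsFinite p] (hfree : GeomFree ρ) (υ : G → (X ⟶ pullback p p))
    (h₁ : ∀ g, υ g ≫ pullback.fst p p = 𝟙 X) (h₂ : ∀ g, υ g ≫ pullback.snd p p = (ρ g).hom) :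
    IsIso (Sigma.desc υ) := by
  haveI := hp.affine
  have hυinj : ∀ g, Function.Injective (υ g) := by
    intro g x x' hxx'
    have h3 := congrArg (pullback.fst p p) hxx'
    rw [← Scheme.Hom.comp_apply, ← Scheme.Hom.comp_apply, h₁] at h3
    exact h3
  have hopen : ∀ g, IsOpenImmersion (υ g) := by
    intro g
    apply IsOpenImmersion.of_forall_source_exists _ (hυinj g)
    intro x
    obtain ⟨V, hV, hxV⟩ := exists_affine_nhd (p x)
    have hO : IsAffineOpen (p ⁻¹ᵁ V) := hV.preimage p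
    obtain ⟨T, jZ, m, hj, hm, hc, -⟩ := chart_facts hp hfree υ h₁ h₂ V hV hO
    refine ⟨Spec Γ(X, p ⁻¹ᵁ V), hO.fromSpec, inferInstance, ?_, ?_⟩
    · rw [hO.opensRange_fromSpec]; exact hxV
    · rw [hc g]
      haveI := hm g
      infer_instance
  have hdisj : Pairwise (Function.onFun Disjoint (fun g => Set.range (υ g))) := by
    intro g h hgh
    rw [Function.onFun, Set.disjoint_iff]
    rintro z ⟨⟨x, rfl⟩, ⟨x', hx'⟩⟩
    have hxx' : x' = x := by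
      have h3 := congrArg (pullback.fst p p) hx'
      rw [← Scheme.Hom.comp_apply, ← Scheme.Hom.comp_apply, h₁, h₁] at h3
      exact h3
    subst hxx'
    obtain ⟨V, hV, hxV⟩ := exists_affine_nhd (p x')
    have hO : IsAffineOpen (p ⁻¹ᵁ V) := hV.preimage p
    obtain ⟨T, jZ, m, hj, hm, hc, hd⟩ := chart_facts hp hfree υ h₁ h₂ V hV hO
    have hP : hO.fromSpec (hO.primeIdealOf ⟨x', hxV⟩) = x' := hO.fromSpec_primeIdealOf _
    have e1 : υ g x' = jZ (Spec.map (m g) (hO.primeIdealOf ⟨x', hxV⟩)) := by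
      conv_lhs => rw [← hP]
      rw [← Scheme.Hom.comp_apply, hc g, Scheme.Hom.comp_apply]
    have e2 : υ h x' = jZ (Spec.map (m h) (hO.primeIdealOf ⟨x', hxV⟩)) := by
      conv_lhs => rw [← hP]
      rw [← Scheme.Hom.comp_apply, hc h, Scheme.Hom.comp_apply]
    have e3 : jZ (Spec.map (m g) (hO.primeIdealOf ⟨x', hxV⟩)) =
        jZ (Spec.map (m h) (hO.primeIdealOf ⟨x', hxV⟩)) := by
      rw [← e1, ← e2, hx']
    exact hd g h hgh _ _ (jZ.isOpenEmbedding.injective e3)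
  haveI := hopen
  haveI : IsOpenImmersion (Sigma.desc υ) := isOpenImmersion_sigmaDesc (fun _ : G => X) υ hdisj
  obtain ⟨-, hsurj⟩ := SD1.main' p ρ
    (fun Ω _ _ τ₁ τ₂ h => GT2.geomTransitive_of_isQuot hp Ω τ₁ τ₂ h) (𝟙 X) p
    (Category.id_comp p) (Sigma.desc υ) (fun σ => by rw [Sigma.ι_desc_assoc, h₁])
    (fun σ => by rw [Sigma.ι_desc_assoc, h₂, Category.id_comp])
  refine isIso_of_isOpenImmersion_of_opensRange_eq_top _ ?_
  ext z
  simpa using hsurj.surj z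

include hp in
theorem flat_of_free (hfree : GeomFree ρ) : Flat p := by
  haveI := hp.affine
  rw [HasRingHomProperty.iff_appLE (P := @Flat)]
  intro U W e
  have hO : IsAffineOpen (p ⁻¹ᵁ U.1) := U.2.preimage p
  have h1 : (p.app U.1).hom.Flat := by
    letI := quotAction hp U.1
    letI := quotAlgebra (p := p) U.1
    haveI := isInvariant hp U.1
    haveI := smulCommClass hp U.1
    exact GA1.flat (hp.injective U.1) (free_alg hp hfree U.1 U.2)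
  have e' : W.1 ≤ (𝟙 X : X ⟶ X) ⁻¹ᵁ (p ⁻¹ᵁ U.1) := e
  have h2 : ((𝟙 X : X ⟶ X).appLE (p ⁻¹ᵁ U.1) W.1 e').hom.Flat :=
    HasRingHomProperty.appLE (P := @Flat) (𝟙 X) inferInstance ⟨_, hO⟩ W e'
  have h3 : p.appLE U.1 W.1 e = p.app U.1 ≫ (𝟙 X : X ⟶ X).appLE (p ⁻¹ᵁ U.1) W.1 e' := by
    simp only [Scheme.Hom.appLE, Scheme.Hom.id_app]
    rfl
  rw [h3, CommRingCat.hom_comp]
  exact RingHom.Flat.comp h1 h2

end Groth.Agent.Lib.Helper11.GA2
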