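import Groth.Agent.Lib.Helper11.GA2

/-!
# Helper11 GA3: a quotient by a free action with a section is a trivial torsor
-/

set_option autoImplicit false

namespace Groth.Agent.Lib.Helper11.GA3

open CategoryTheory CategoryTheory.Limits AlgebraicGeometry TensorProduct
open Groth.Agent.Lib.Helper5.GroupQuot Groth.Agent.Lib.Helper11.GA2

attribute [local instance] Classical.propDecidable

universe u

variable {X Y : Scheme.{u}} {G : Type u} [Group G] [Finite G] {ρ : G →* Aut X} {p : X ⟶ Y}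
  (hp : SGA1.IsQuot ρ p)

include hp in
theorem chart_facts_sec (hfree : GeomFree ρ) (s : Y ⟶ X) (hs : s ≫ p = 𝟙 Y) (V : Y.Opens)
    (hV : IsAffineOpen V) (hO : IsAffineOpen (p ⁻¹ᵁ V)) :
    ∃ (m : G → (Γ(X, p ⁻¹ᵁ V) ⟶ Γ(Y, V))), (∀ g, IsOpenImmersion (Spec.map (m g))) ∧
      (∀ g, hV.fromSpec ≫ s ≫ (ρ g).hom = Spec.map (m g) ≫ hO.fromSpec) ∧
      (∀ g h, g ≠ h → ∀ P P' : Spec Γ(Y, V), Spec.map (m g) P ≠ Spec.map (m h) P') := by
  letI := quotAction hp V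
  letI := quotAlgebra (p := p) V
  haveI := isInvariant hp V
  haveI := smulCommClass hp V
  have hF := free_alg hp hfree V hV
  have hVO : V ≤ s ⁻¹ᵁ (p ⁻¹ᵁ V) := by
    rw [← Scheme.Hom.comp_preimage, hs]; exact le_rfl
  have hVV : V ≤ (s ≫ p) ⁻¹ᵁ V := by rw [hs]; exact le_rfl
  have hcomm : ∀ a : Γ(Y, V), (s.appLE (p ⁻¹ᵁ V) V hVO).hom ((p.app V).hom a) = a := by
    intro a
    have h1 : p.app V ≫ s.appLE (p ⁻¹ᵁ V) V hVO = (s ≫ p).appLE V V hVV := by
      rw [Scheme.Hom.app_eq_appLE, Scheme.Hom.appLE_comp_appLE]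
    have h2 : (s ≫ p).appLE V V hVV = 𝟙 _ := by
      rw [appLE_congr_hom hs, id_appLE]
    exact congrArg (fun φ => φ.hom a) (h1.trans h2)
  let sa : Γ(X, p ⁻¹ᵁ V) →ₐ[Γ(Y, V)] Γ(Y, V) :=
    { (s.appLE (p ⁻¹ᵁ V) V hVO).hom with commutes' := fun a => hcomm a }
  let m : G → (Γ(X, p ⁻¹ᵁ V) ⟶ Γ(Y, V)) := fun g => CommRingCat.ofHom (GA1.k sa g⁻¹)
  refine ⟨m, fun g => ?_, fun g => ?_, fun g h hgh P P' heq => ?_⟩
  · obtain ⟨ε, hε⟩ := GA1.exists_ε sa hF g⁻¹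
    letI := (GA1.k sa g⁻¹).toAlgebra
    haveI := GA1.isLocalization_k sa hF g⁻¹ ε hε
    exact IsOpenImmersion.of_isLocalization ε
  · rw [← Category.assoc, ← IsAffineOpen.SpecMap_appLE_fromSpec s hO hV hVO, Category.assoc,
      ← IsAffineOpen.SpecMap_appLE_fromSpec (ρ g).hom hO hO
        (SGA1.preimage_le_of_inv ρ p hp.inv g V), ← Category.assoc, ← Spec.map_comp]
    congr 2
    refine CommRingCat.hom_ext (RingHom.ext fun b => ?_)
    show (s.appLE (p ⁻¹ᵁ V) V hVO).hom (((ρ g).hom.appLE (p ⁻¹ᵁ V) (p ⁻¹ᵁ V)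
      (SGA1.preimage_le_of_inv ρ p hp.inv g V)).hom b) = GA1.k sa g⁻¹ b
    rw [sigma_eq_smul hp V g b]
    rfl
  · obtain ⟨ε, hε⟩ := GA1.exists_ε sa hF g⁻¹
    have h3 : ε ∈ (Spec.map (m h) P').asIdeal := by
      show GA1.k sa h⁻¹ ε ∈ P'.asIdeal
      rw [GA1.k_apply, hε, if_neg (fun hh => hgh (inv_injective hh).symm)]
      exact zero_mem _
    rw [← heq] at h3
    have h4 : GA1.k sa g⁻¹ ε ∈ P.asIdeal := h3
    rw [GA1.k_apply, hε, if_pos rfl] at h4
    exact P.isPrime.ne_top (P.asIdeal.eq_top_of_isUnit_mem h4 isUnit_one)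

include hp in
theorem isIso_sigmaDesc_sec (hfree : GeomFree ρ) (s : Y ⟶ X) (hs : s ≫ p = 𝟙 Y) :
    IsIso (Sigma.desc (fun g : G => s ≫ (ρ g).hom) : (∐ fun _ : G => Y) ⟶ X) := by
  haveI := hp.affine
  have hτp : ∀ g, (s ≫ (ρ g).hom) ≫ p = 𝟙 Y := fun g => by rw [Category.assoc, hp.inv, hs]
  have hinj : ∀ g, Function.Injective (s ≫ (ρ g).hom) := by
    intro g y y' hyy'
    have h3 := congrArg p hyy'
    rw [← Scheme.Hom.comp_apply, ← Scheme.Hom.comp_apply, hτp] at h3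
    exact h3
  have hopen : ∀ g, IsOpenImmersion (s ≫ (ρ g).hom) := by
    intro g
    apply IsOpenImmersion.of_forall_source_exists _ (hinj g)
    intro y
    obtain ⟨V, hV, hyV⟩ := exists_affine_nhd y
    have hO : IsAffineOpen (p ⁻¹ᵁ V) := hV.preimage p
    obtain ⟨m, hm, hc, -⟩ := chart_facts_sec hp hfree s hs V hV hO
    refine ⟨Spec Γ(Y, V), hV.fromSpec, inferInstance, ?_, ?_⟩
    · rw [hV.opensRange_fromSpec]; exact hyV
    · rw [hc g]
      haveI := hm g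
      infer_instance
  have hdisj : Pairwise (Function.onFun Disjoint
      (fun g : G => Set.range (s ≫ (ρ g).hom))) := by
    intro g h hgh
    rw [Function.onFun, Set.disjoint_iff]
    rintro z ⟨⟨y, rfl⟩, ⟨y', hy'⟩⟩
    have hyy' : y' = y := by
      have h3 := congrArg p hy'
      rw [← Scheme.Hom.comp_apply, ← Scheme.Hom.comp_apply, hτp, hτp] at h3
      exact h3
    subst hyy'
    obtain ⟨V, hV, hyV⟩ := exists_affine_nhd y'
    have hO : IsAffineOpen (p ⁻¹ᵁ V) := hV.preimage p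
    obtain ⟨m, hm, hc, hd⟩ := chart_facts_sec hp hfree s hs V hV hO
    have hP : hV.fromSpec (hV.primeIdealOf ⟨y', hyV⟩) = y' := hV.fromSpec_primeIdealOf _
    have e1 : (s ≫ (ρ g).hom) y' =
        hO.fromSpec (Spec.map (m g) (hV.primeIdealOf ⟨y', hyV⟩)) := by
      conv_lhs => rw [← hP]
      rw [← Scheme.Hom.comp_apply, hc g, Scheme.Hom.comp_apply]
    have e2 : (s ≫ (ρ h).hom) y' =
        hO.fromSpec (Spec.map (m h) (hV.primeIdealOf ⟨y', hyV⟩)) := by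
      conv_lhs => rw [← hP]
      rw [← Scheme.Hom.comp_apply, hc h, Scheme.Hom.comp_apply]
    have e3 : hO.fromSpec (Spec.map (m g) (hV.primeIdealOf ⟨y', hyV⟩)) =
        hO.fromSpec (Spec.map (m h) (hV.primeIdealOf ⟨y', hyV⟩)) := by
      rw [← e1, ← e2, hy']
    exact hd g h hgh _ _ (hO.fromSpec.isOpenEmbedding.injective e3)
  haveI := hopen
  haveI : IsOpenImmersion (Sigma.desc fun g : G => s ≫ (ρ g).hom) :=
    isOpenImmersion_sigmaDesc (fun _ : G => Y) _ hdisj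
  refine isIso_of_isOpenImmersion_of_opensRange_eq_top _ ?_
  ext x
  obtain ⟨g, hg⟩ := exists_smul_eq_of_map_eq hp (s (p x)) x (by
    rw [← Scheme.Hom.comp_apply, hs]; rfl)
  have hx : x ∈ Set.range (Sigma.desc fun g : G => s ≫ (ρ g).hom) :=
    ⟨Sigma.ι (fun _ : G => Y) g (p x), by
      rw [← Scheme.Hom.comp_apply, Sigma.ι_desc, Scheme.Hom.comp_apply]; exact hg⟩
  simpa using hx

end Groth.Agent.Lib.Helper11.GA3
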