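import Mathlib

/-!
# GR1: submodules of `A ⊗[R] M` with projective quotient, stability under endomorphisms of `M`,
behaviour under base change (algebra part; helper11).
-/

set_option autoImplicit false
universe u
open TensorProduct

namespace Groth.Agent.Lib.Helper11.GR1

open Module Module.Grassmannian TensorProduct.AlgebraTensorModule

variable {R : Type u} [CommRing R] {M : Type u} [AddCommGroup M] [Module R M]
variable {Λ : Type*} (ℓs : Λ → (M →ₗ[R] M))

/-- stability of a submodule under the base-changed endomorphisms -/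
def Stab {A : Type u} [CommRing A] [Algebra R A] (U : Submodule A (A ⊗[R] M)) : Prop :=
  ∀ (b : Λ) (x : A ⊗[R] M), x ∈ U → (ℓs b).baseChange A x ∈ U

section
variable {A : Type u} [CommRing A] [Algebra R A] (A' : Type u) [CommRing A'] [Algebra R A']
  [Algebra A A'] [IsScalarTower R A A']
variable (U : Submodule A (A ⊗[R] M))

/-- base change map on tensor products -/
noncomputable def bc : A ⊗[R] M →ₗ[R] A' ⊗[R] M :=
  LinearMap.rTensor M ((Algebra.linearMap A A').restrictScalars R)

theorem bc_tmul (a : A) (m : M) : bc (R := R) A' (a ⊗ₜ[R] m) = algebraMap A A' a ⊗ₜ[R] m := rfl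

theorem beta_tmul (a' : A') (m : M) :
    baseChangeMkQ A' U (a' ⊗ₜ[R] m) = a' ⊗ₜ[A] U.mkQ (1 ⊗ₜ[R] m) := by
  simp [baseChangeMkQ]

theorem beta_bc (y : A ⊗[R] M) : baseChangeMkQ A' U (bc A' y) = (1 : A') ⊗ₜ[A] U.mkQ y := by
  induction y using TensorProduct.induction_on with
  | zero => simp
  | tmul a m =>
    rw [bc_tmul, beta_tmul, Algebra.algebraMap_eq_smul_one, TensorProduct.smul_tmul, ← map_smul,
      TensorProduct.smul_tmul', smul_eq_mul, mul_one]
  | add x y hx hy => simp only [map_add, TensorProduct.tmul_add, hx, hy]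

theorem cbc (a' : A') (y : A ⊗[R] M) :
    cancelBaseChange R A A' A' M (a' ⊗ₜ[A] y) = a' • bc A' y := by
  induction y using TensorProduct.induction_on with
  | zero => simp
  | tmul a m =>
    rw [cancelBaseChange_tmul, bc_tmul, TensorProduct.smul_tmul', Algebra.smul_def, smul_eq_mul,
      mul_comm]
  | add x y hx hy => simp only [TensorProduct.tmul_add, map_add, smul_add, hx, hy]

theorem bc_mem_ker (u : A ⊗[R] M) (hu : u ∈ U) :
    bc A' u ∈ LinearMap.ker (baseChangeMkQ A' U) := by
  rw [LinearMap.mem_ker, beta_bc, Submodule.mkQ_apply, (Submodule.Quotient.mk_eq_zero U).mpr hu,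
    TensorProduct.tmul_zero]

theorem ker_beta_le : LinearMap.ker (baseChangeMkQ A' U) ≤
    Submodule.span A' (bc (R := R) A' '' (U : Set (A ⊗[R] M))) := by
  have key : ∀ w : A' ⊗[A] U, cancelBaseChange R A A' A' M (LinearMap.lTensor A' U.subtype w) ∈
      Submodule.span A' (bc (R := R) A' '' (U : Set (A ⊗[R] M))) := by
    intro w
    induction w using TensorProduct.induction_on with
    | zero => simp
    | tmul a' u =>
      rw [LinearMap.lTensor_tmul, cbc]
      exact Submodule.smul_mem _ _ (Submodule.subset_span ⟨u.1, u.2, rfl⟩)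
    | add x y hx hy =>
      rw [map_add, map_add]
      exact Submodule.add_mem _ hx hy
  intro v hv
  rw [LinearMap.mem_ker, baseChangeMkQ, LinearMap.comp_apply] at hv
  have h1 : (cancelBaseChange R A A' A' M).symm v ∈ LinearMap.ker (LinearMap.lTensor A' U.mkQ) := by
    rw [LinearMap.mem_ker]
    exact hv
  rw [lTensor_mkQ] at h1
  obtain ⟨w, hw⟩ := h1
  have hv2 : v = cancelBaseChange R A A' A' M ((cancelBaseChange R A A' A' M).symm v) := by simp
  rw [hv2, ← hw]
  exact key w

theorem ker_beta_eq : LinearMap.ker (baseChangeMkQ A' U) =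
    Submodule.span A' (bc (R := R) A' '' (U : Set (A ⊗[R] M))) :=
  le_antisymm (ker_beta_le A' U) (Submodule.span_le.mpr (by
    rintro _ ⟨u, hu, rfl⟩
    exact bc_mem_ker A' U u hu))

theorem baseChange_bc (l : M →ₗ[R] M) (y : A ⊗[R] M) :
    l.baseChange A' (bc A' y) = bc A' (l.baseChange A y) := by
  induction y using TensorProduct.induction_on with
  | zero => simp
  | tmul a m => simp [bc_tmul]
  | add x y hx hy => simp only [map_add, hx, hy]

theorem stab_ker (h : Stab ℓs U) : Stab ℓs (LinearMap.ker (baseChangeMkQ A' U)) := by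
  intro b v hv
  rw [ker_beta_eq] at hv ⊢
  induction hv using Submodule.span_induction with
  | mem x hx =>
    obtain ⟨u, hu, rfl⟩ := hx
    rw [baseChange_bc]
    exact Submodule.subset_span ⟨_, h b u hu, rfl⟩
  | zero => simp
  | add x y _ _ hx hy =>
    rw [map_add]
    exact Submodule.add_mem _ hx hy
  | smul a x _ hx =>
    rw [map_smul]
    exact Submodule.smul_mem _ _ hx

theorem one_tmul_eq_zero {Q : Type u} [AddCommGroup Q] [Module A Q] [Module.Projective A Q] (q : Q)
    (H : ∀ l : Q →ₗ[A] A, algebraMap A A' (l q) = 0) : (1 : A') ⊗ₜ[A] q = 0 := by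
  obtain ⟨s, hs⟩ := Module.projective_def'.mp (inferInstance : Module.Projective A Q)
  have e1 : q = Finsupp.linearCombination A id (s q) := (LinearMap.congr_fun hs q).symm
  rw [e1, Finsupp.linearCombination_apply, Finsupp.sum, TensorProduct.tmul_sum]
  refine Finset.sum_eq_zero fun i _ => ?_
  have e2 : algebraMap A A' ((s q) i) = 0 := H ((Finsupp.lapply i).comp s)
  show (1 : A') ⊗ₜ[A] ((s q) i • id i) = 0
  rw [← TensorProduct.smul_tmul, Algebra.smul_def, mul_one, e2, TensorProduct.zero_tmul]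

/-- the coefficient ideal -/
def coeffJ : Ideal A :=
  Ideal.span {c | ∃ (l : ((A ⊗[R] M) ⧸ U) →ₗ[A] A) (b : Λ) (u : A ⊗[R] M), u ∈ U ∧
    l (U.mkQ ((ℓs b).baseChange A u)) = c}

theorem stab_ker_iff [Module.Projective A ((A ⊗[R] M) ⧸ U)] :
    Stab ℓs (LinearMap.ker (baseChangeMkQ A' U)) ↔
      coeffJ ℓs U ≤ RingHom.ker (algebraMap A A') := by
  constructor
  · intro h
    refine Ideal.span_le.mpr ?_
    rintro c ⟨l, b, u, hu, rfl⟩
    have h1 := h b (bc A' u) (bc_mem_ker A' U u hu)
    rw [baseChange_bc, LinearMap.mem_ker, beta_bc] at h1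
    have h2 : TensorProduct.rid A A' (LinearMap.lTensor A' l
        ((1 : A') ⊗ₜ[A] U.mkQ ((ℓs b).baseChange A u))) = 0 := by
      rw [h1, map_zero, map_zero]
    rw [LinearMap.lTensor_tmul, TensorProduct.rid_tmul, Algebra.smul_def, mul_one] at h2
    exact h2
  · intro h b v hv
    rw [ker_beta_eq] at hv
    induction hv using Submodule.span_induction with
    | mem x hx =>
      obtain ⟨u, hu, rfl⟩ := hx
      rw [baseChange_bc, LinearMap.mem_ker, beta_bc]
      refine one_tmul_eq_zero A' _ (fun l => ?_)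
      exact h (Ideal.subset_span ⟨l, b, u, hu, rfl⟩)
    | zero => simp
    | add x y _ _ hx hy =>
      rw [map_add]
      exact Submodule.add_mem _ hx hy
    | smul a x _ hx =>
      rw [map_smul]
      exact Submodule.smul_mem _ _ hx

theorem exists_pow_of_stab_away (f : A) [IsLocalization.Away f A']
    (h : Stab ℓs (LinearMap.ker (baseChangeMkQ A' U))) (b : Λ) (x : A ⊗[R] M) (hx : x ∈ U) :
    ∃ n : ℕ, f ^ n • (ℓs b).baseChange A x ∈ U := by
  have h1 := h b (bc A' x) (bc_mem_ker A' U x hx)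
  rw [baseChange_bc, LinearMap.mem_ker, beta_bc] at h1
  haveI : IsLocalizedModule (Submonoid.powers f)
      (TensorProduct.mk A A' ((A ⊗[R] M) ⧸ U) 1) :=
    (isLocalizedModule_iff_isBaseChange (Submonoid.powers f) A' _).mpr
      (TensorProduct.isBaseChange A _ A')
  obtain ⟨⟨_, n, rfl⟩, hn⟩ := (IsLocalizedModule.eq_zero_iff (Submonoid.powers f)
    (TensorProduct.mk A A' ((A ⊗[R] M) ⧸ U) 1)).mp h1
  refine ⟨n, ?_⟩
  rw [← Submodule.Quotient.mk_eq_zero, Submodule.Quotient.mk_smul]
  exact hn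

end

theorem stab_of_local {A : Type u} [CommRing A] [Algebra R A] (U : Submodule A (A ⊗[R] M))
    (s : Set A) (hs : Ideal.span s = ⊤)
    (H : ∀ f ∈ s, ∀ (b : Λ) (x : A ⊗[R] M), x ∈ U →
      ∃ n : ℕ, f ^ n • (ℓs b).baseChange A x ∈ U) : Stab ℓs U :=
  fun b x hx => Submodule.mem_of_span_eq_top_of_smul_pow_mem U s hs _
    (fun f => H f.1 f.2 b x hx)

section map
variable {A A' : Type u} [CommRing A] [Algebra R A] [CommRing A'] [Algebra R A'] {e : ℕ}

theorem stab_map (φ : A →ₐ[R] A') (N : G(e, A ⊗[R] M; A)) (h : Stab ℓs N.toSubmodule) :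
    Stab ℓs (Grassmannian.map φ N).toSubmodule := by
  letI : Algebra A A' := φ.toAlgebra
  letI : IsScalarTower R A A' := IsScalarTower.of_algebraMap_eq' φ.comp_algebraMap.symm
  exact stab_ker ℓs A' N.toSubmodule h

theorem stab_map_iff (φ : A →ₐ[R] A') (N : G(e, A ⊗[R] M; A)) :
    Stab ℓs (Grassmannian.map φ N).toSubmodule ↔
      coeffJ ℓs N.toSubmodule ≤ RingHom.ker (φ : A →+* A') := by
  letI : Algebra A A' := φ.toAlgebra
  letI : IsScalarTower R A A' := IsScalarTower.of_algebraMap_eq' φ.comp_algebraMap.symm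
  exact stab_ker_iff ℓs A' N.toSubmodule

theorem exists_pow_of_stab_map_away (φ : A →ₐ[R] A') (f : A)
    (hloc : @IsLocalization.Away A _ f A' _ φ.toAlgebra) (N : G(e, A ⊗[R] M; A))
    (h : Stab ℓs (Grassmannian.map φ N).toSubmodule) (b : Λ) (x : A ⊗[R] M)
    (hx : x ∈ N.toSubmodule) : ∃ n : ℕ, f ^ n • (ℓs b).baseChange A x ∈ N.toSubmodule := by
  letI : Algebra A A' := φ.toAlgebra
  letI : IsScalarTower R A A' := IsScalarTower.of_algebraMap_eq' φ.comp_algebraMap.symm
  haveI := hloc
  exact exists_pow_of_stab_away ℓs A' N.toSubmodule f h b x hx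

end map

end Groth.Agent.Lib.Helper11.GR1
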