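import Mathlib

/-!
# RFP2: a Zariski-local, precomposition-stable predicate on morphisms into `Y` which is
"locally nice" is represented by a closed subscheme of `Y` (helper11).
-/

set_option autoImplicit false
universe u
open CategoryTheory AlgebraicGeometry Opposite

namespace Groth.Agent.Lib.Helper11.RFP2

variable {Y : Scheme.{u}}

/-- a predicate on morphisms into `Y`, stable under precomposition and Zariski local on the source -/
structure IsLocalPred (Fx : (T : Scheme.{u}) → (T ⟶ Y) → Prop) : Prop where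
  comp : ∀ {T T' : Scheme.{u}} (t : T' ⟶ T) (y : T ⟶ Y), Fx T y → Fx T' (t ≫ y)
  loc : ∀ {T : Scheme.{u}} (y : T ⟶ Y),
    (∀ t : T, ∃ (U : Scheme.{u}) (j : U ⟶ T), IsOpenImmersion j ∧ t ∈ Set.range j ∧
      Fx U (j ≫ y)) → Fx T y

variable (Fx : (T : Scheme.{u}) → (T ⟶ Y) → Prop)

/-- the ideal of functions on the affine open `V` vanishing on all `Fx`-points with values in `V` -/
def N {V : Y.Opens} (hV : IsAffineOpen V) : Ideal Γ(Y, V) :=
  ⨅ (D : CommRingCat.{u}) (φ : Γ(Y, V) ⟶ D) (_ : Fx _ (Spec.map φ ≫ hV.fromSpec)),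
    RingHom.ker φ.hom

theorem mem_N_iff {V : Y.Opens} (hV : IsAffineOpen V) {a : Γ(Y, V)} : a ∈ N Fx hV ↔
    ∀ (D : CommRingCat.{u}) (φ : Γ(Y, V) ⟶ D), Fx _ (Spec.map φ ≫ hV.fromSpec) →
      φ.hom a = 0 := by
  simp only [N, Ideal.mem_iInf, RingHom.mem_ker]

/-- `V` is nice if the closed subscheme of `V` cut out by `N V` is an `Fx`-point -/
def Nice {V : Y.Opens} (hV : IsAffineOpen V) : Prop :=
  Fx _ (Spec.map (CommRingCat.ofHom (Ideal.Quotient.mk (N Fx hV))) ≫ hV.fromSpec)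

theorem key_eq {V' V : Y.Opens} (hV' : IsAffineOpen V') (hV : IsAffineOpen V) (hle : V' ≤ V)
    {D : CommRingCat.{u}} (ψ : Γ(Y, V') ⟶ D) :
    Spec.map (Y.presheaf.map (homOfLE hle).op ≫ ψ) ≫ hV.fromSpec = Spec.map ψ ≫ hV'.fromSpec := by
  rw [Spec.map_comp, Category.assoc, hV.map_fromSpec hV' (homOfLE hle).op]

variable {Fx}

theorem res_mem_N {V' V : Y.Opens} (hV' : IsAffineOpen V') (hV : IsAffineOpen V) (hle : V' ≤ V)
    {a : Γ(Y, V)} (ha : a ∈ N Fx hV) : (Y.presheaf.map (homOfLE hle).op).hom a ∈ N Fx hV' := by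
  rw [mem_N_iff] at ha ⊢
  intro D ψ hψ
  have h1 := ha D (Y.presheaf.map (homOfLE hle).op ≫ ψ) (by rw [key_eq hV' hV hle]; exact hψ)
  exact h1

theorem map_N_le {V' V : Y.Opens} (hV' : IsAffineOpen V') (hV : IsAffineOpen V) (hle : V' ≤ V) :
    (N Fx hV).map (Y.presheaf.map (homOfLE hle).op).hom ≤ N Fx hV' := by
  rw [Ideal.map_le_iff_le_comap]
  intro a ha
  exact res_mem_N hV' hV hle ha

/-- transport of an `Fx`-point of `V` to its localisation, as a point of a basic open -/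
theorem exists_loc (h : IsLocalPred Fx) {W : Y.Opens} (hW : IsAffineOpen W) (c : Γ(Y, W))
    {D : CommRingCat.{u}} (φ : Γ(Y, W) ⟶ D) (hφ : Fx _ (Spec.map φ ≫ hW.fromSpec)) :
    ∃ (φ' : Γ(Y, Y.basicOpen c) ⟶ CommRingCat.of (Localization.Away (φ.hom c))),
      Fx _ (Spec.map φ' ≫ (hW.basicOpen c).fromSpec) ∧
      ∀ a : Γ(Y, W), φ'.hom ((Y.presheaf.map (homOfLE (Y.basicOpen_le c)).op).hom a) =
        algebraMap D (Localization.Away (φ.hom c)) (φ.hom a) := by
  haveI := hW.isLocalization_basicOpen c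
  let g : Γ(Y, W) →+* Localization.Away (φ.hom c) :=
    (algebraMap D (Localization.Away (φ.hom c))).comp φ.hom
  have hg : IsUnit (g c) := IsLocalization.Away.algebraMap_isUnit (φ.hom c)
  let l : Γ(Y, Y.basicOpen c) →+* Localization.Away (φ.hom c) := IsLocalization.Away.lift c hg
  have hl : ∀ a : Γ(Y, W), l ((Y.presheaf.map (homOfLE (Y.basicOpen_le c)).op).hom a) = g a :=
    fun a => IsLocalization.Away.lift_eq c hg a
  refine ⟨CommRingCat.ofHom l, ?_, hl⟩
  have e : Y.presheaf.map (homOfLE (Y.basicOpen_le c)).op ≫ CommRingCat.ofHom l =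
      φ ≫ CommRingCat.ofHom (algebraMap D (Localization.Away (φ.hom c))) := by
    ext a
    exact hl a
  have e2 := key_eq (hW.basicOpen c) hW (Y.basicOpen_le c) (CommRingCat.ofHom l)
  rw [← e2, e, Spec.map_comp, Category.assoc]
  exact h.comp _ _ hφ

theorem eq_zero_of_span {D : Type u} [CommRing D] (x : D) (s : Set D) (hs : Ideal.span s = ⊤)
    (h : ∀ c ∈ s, ∃ n : ℕ, c ^ n * x = 0) : x = 0 := by
  by_contra hx
  let I : Ideal D := (Submodule.span D {x}).annihilator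
  have hI : I ≠ ⊤ := by
    intro hI
    have : (1 : D) ∈ I := hI ▸ Submodule.mem_top
    rw [Submodule.mem_annihilator_span_singleton] at this
    exact hx (by simpa using this)
  obtain ⟨m, hm, hIm⟩ := Ideal.exists_le_maximal I hI
  have : Ideal.span s ≤ m := by
    refine Ideal.span_le.mpr fun c hc => ?_
    obtain ⟨n, hn⟩ := h c hc
    have : c ^ n ∈ I := by
      rw [Submodule.mem_annihilator_span_singleton]
      exact hn
    exact hm.isPrime.mem_of_pow_mem n (hIm this)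
  rw [hs] at this
  exact hm.ne_top (top_le_iff.mp this)

/-- locality of `N` -/
theorem mem_N_of_local (h : IsLocalPred Fx) {W : Y.Opens} (hW : IsAffineOpen W) (a : Γ(Y, W))
    (s : Set Γ(Y, W)) (hs : Ideal.span s = ⊤)
    (ha : ∀ c ∈ s, (Y.presheaf.map (homOfLE (Y.basicOpen_le c)).op).hom a ∈
      N Fx (hW.basicOpen c)) : a ∈ N Fx hW := by
  rw [mem_N_iff]
  intro D φ hφ
  apply eq_zero_of_span (φ.hom a) (φ.hom '' s)
  · rw [← Ideal.map_span, hs, Ideal.map_top]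
  · rintro _ ⟨c, hc, rfl⟩
    obtain ⟨φ', hφ', hl⟩ := exists_loc h hW c φ hφ
    have h1 := (mem_N_iff Fx (hW.basicOpen c)).mp (ha c hc) _ φ' hφ'
    rw [hl] at h1
    obtain ⟨⟨_, n, rfl⟩, hn⟩ := (IsLocalization.map_eq_zero_iff (Submonoid.powers (φ.hom c))
      (Localization.Away (φ.hom c)) (φ.hom a)).mp h1
    exact ⟨n, hn⟩

/-- the restriction map to a basic open -/
noncomputable abbrev rb {W : Y.Opens} (c : Γ(Y, W)) : Γ(Y, W) →+* Γ(Y, Y.basicOpen c) :=
  (Y.presheaf.map (homOfLE (Y.basicOpen_le c)).op).hom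

theorem rb_eq {W : Y.Opens} (c : Γ(Y, W)) :
    rb c = algebraMap Γ(Y, W) Γ(Y, Y.basicOpen c) := rfl

theorem isUnit_rb {W : Y.Opens} (hW : IsAffineOpen W) (c : Γ(Y, W)) (n : ℕ) :
    IsUnit (rb c (c ^ n)) := by
  haveI := hW.isLocalization_basicOpen c
  exact IsLocalization.map_units (M := Submonoid.powers c) Γ(Y, Y.basicOpen c) ⟨c ^ n, n, rfl⟩

/-- (C): on a nice affine open, `N` of a basic open is generated by `N` -/
theorem N_basicOpen_le_of_nice (h : IsLocalPred Fx) {V : Y.Opens} (hV : IsAffineOpen V)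
    (hnV : Nice Fx hV) (c : Γ(Y, V)) : N Fx (hV.basicOpen c) ≤ (N Fx hV).map (rb c) := by
  intro a' ha'
  haveI := hV.isLocalization_basicOpen c
  let q : Γ(Y, V) ⟶ CommRingCat.of (Γ(Y, V) ⧸ N Fx hV) :=
    CommRingCat.ofHom (Ideal.Quotient.mk (N Fx hV))
  obtain ⟨φ', hφ', hl⟩ := exists_loc h hV c q hnV
  have h0 : φ'.hom a' = 0 := (mem_N_iff Fx (hV.basicOpen c)).mp ha' _ φ' hφ'
  obtain ⟨⟨x, ⟨_, n, rfl⟩⟩, hx⟩ := IsLocalization.surj (Submonoid.powers c) a'
  have hx' : a' * rb c (c ^ n) = rb c x := hx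
  have h1 : algebraMap _ (Localization.Away (q.hom c)) (q.hom x) = 0 := by
    rw [← hl x]
    show φ'.hom (rb c x) = 0
    rw [← hx', map_mul, h0, zero_mul]
  obtain ⟨⟨_, m, rfl⟩, hm⟩ := (IsLocalization.map_eq_zero_iff (Submonoid.powers (q.hom c))
    (Localization.Away (q.hom c)) (q.hom x)).mp h1
  have h2 : c ^ m * x ∈ N Fx hV := by
    rw [← Ideal.Quotient.eq_zero_iff_mem, map_mul, map_pow]
    exact hm
  have h3 : a' * rb c (c ^ (n + m)) ∈ (N Fx hV).map (rb c) := by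
    have : a' * rb c (c ^ (n + m)) = rb c (c ^ m * x) := by
      rw [pow_add, map_mul, ← mul_assoc, hx', ← map_mul, mul_comm]
    rw [this]
    exact Ideal.mem_map_of_mem _ h2
  exact (Ideal.mul_unit_mem_iff_mem _ (isUnit_rb hV c (n + m))).mp h3

/-- (D): quasi-coherence of `N` at an affine open covered by nice basic opens -/
theorem N_basicOpen_le (h : IsLocalPred Fx) {W : Y.Opens} (hW : IsAffineOpen W)
    (s : Finset Γ(Y, W)) (hs : Ideal.span (s : Set Γ(Y, W)) = ⊤)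
    (hnice : ∀ c ∈ s, Nice Fx (hW.basicOpen c)) (c₀ : Γ(Y, W)) :
    N Fx (hW.basicOpen c₀) ≤ (N Fx hW).map (rb c₀) := by
  intro a₀ ha₀
  haveI := hW.isLocalization_basicOpen c₀
  obtain ⟨⟨b, ⟨_, m, rfl⟩⟩, hb⟩ := IsLocalization.surj (Submonoid.powers c₀) a₀
  have hb' : a₀ * rb c₀ (c₀ ^ m) = rb c₀ b := hb
  have key : ∀ c ∈ s, ∃ M : ℕ, rb c (c₀ ^ M * b) ∈ N Fx (hW.basicOpen c) := by
    intro c hc
    have hV : IsAffineOpen (Y.basicOpen c) := hW.basicOpen c
    let c₀' : Γ(Y, Y.basicOpen c) := rb c c₀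
    have hV₀le : Y.basicOpen c₀' ≤ Y.basicOpen c₀ := by
      show Y.basicOpen ((Y.presheaf.map (homOfLE (Y.basicOpen_le c)).op).hom c₀) ≤ Y.basicOpen c₀
      rw [Scheme.basicOpen_res]
      exact inf_le_right
    have h1 : rb c₀' (rb c b) ∈ N Fx (hV.basicOpen c₀') := by
      have h2 := res_mem_N (hV.basicOpen c₀') (hW.basicOpen c₀) hV₀le
        (Ideal.mul_mem_right (rb c₀ (c₀ ^ m)) _ ha₀)
      rw [hb'] at h2
      have e : rb c₀' (rb c b) = (Y.presheaf.map (homOfLE hV₀le).op).hom (rb c₀ b) := by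
        show (Y.presheaf.map _ ≫ Y.presheaf.map _).hom b = (Y.presheaf.map _ ≫ Y.presheaf.map _).hom b
        rw [← Functor.map_comp, ← Functor.map_comp]
        rfl
      rw [e]
      exact h2
    have h3 := N_basicOpen_le_of_nice h hV (hnice c hc) c₀' h1
    haveI := hV.isLocalization_basicOpen c₀'
    rw [rb_eq, IsLocalization.algebraMap_mem_map_algebraMap_iff (Submonoid.powers c₀')] at h3
    obtain ⟨_, ⟨M, rfl⟩, hM⟩ := h3
    refine ⟨M, ?_⟩
    rw [map_mul, map_pow]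
    exact hM
  choose! Mf hMf using key
  let M := s.sup Mf
  have hall : ∀ c ∈ s, rb c (c₀ ^ M * b) ∈ N Fx (hW.basicOpen c) := by
    intro c hc
    have : c₀ ^ M * b = c₀ ^ (M - Mf c) * (c₀ ^ (Mf c) * b) := by
      rw [← mul_assoc, ← pow_add, Nat.sub_add_cancel (Finset.le_sup hc)]
    rw [this, map_mul]
    exact Ideal.mul_mem_left _ _ (hMf c hc)
  have haW : c₀ ^ M * b ∈ N Fx hW := mem_N_of_local h hW _ (s : Set Γ(Y, W)) hs hall
  have h3 : a₀ * rb c₀ (c₀ ^ (m + M)) ∈ (N Fx hW).map (rb c₀) := by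
    have : a₀ * rb c₀ (c₀ ^ (m + M)) = rb c₀ (c₀ ^ M * b) := by
      rw [pow_add, map_mul, ← mul_assoc, hb', ← map_mul, mul_comm]
    rw [this]
    exact Ideal.mem_map_of_mem _ haW
  exact (Ideal.mul_unit_mem_iff_mem _ (isUnit_rb hW c₀ (m + M))).mp h3

/-- `Y` is locally nice: every point has an affine neighbourhood all of whose affine opens are
nice. -/
def LocallyNice (Fx : (T : Scheme.{u}) → (T ⟶ Y) → Prop) : Prop :=
  ∀ y : Y, ∃ (V : Y.Opens) (_ : IsAffineOpen V), y ∈ V ∧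
    ∀ (V' : Y.Opens) (hV' : IsAffineOpen V'), V' ≤ V → Nice Fx hV'

theorem exists_finset_nice (hY : LocallyNice Fx) {W : Y.Opens} (hW : IsAffineOpen W) :
    ∃ s : Finset Γ(Y, W), Ideal.span (s : Set Γ(Y, W)) = ⊤ ∧
      ∀ c ∈ s, Nice Fx (hW.basicOpen c) := by
  let S : Set Γ(Y, W) := {c | Nice Fx (hW.basicOpen c)}
  have hS : Ideal.span S = ⊤ := by
    rw [← hW.self_le_iSup_basicOpen_iff]
    intro x hx
    obtain ⟨V, hV, hxV, hVn⟩ := hY x
    obtain ⟨f, g, hfg, hxf⟩ := exists_basicOpen_le_affine_inter hW hV x ⟨hx, hxV⟩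
    have hf : f ∈ S := by
      apply hVn
      rw [hfg]
      exact Y.basicOpen_le g
    exact TopologicalSpace.Opens.mem_iSup.mpr ⟨⟨f, hf⟩, hxf⟩
  obtain ⟨s, hsS, hs⟩ := (Ideal.span_eq_top_iff_finite S).mp hS
  exact ⟨s, hs, fun c hc => hsS hc⟩

/-- the ideal sheaf with components `N` -/
noncomputable def idealSheaf (h : IsLocalPred Fx) (hY : LocallyNice Fx) :
    Y.IdealSheafData where
  ideal V := N Fx V.2
  map_ideal_basicOpen W c₀ := by
    obtain ⟨s, hs, hnice⟩ := exists_finset_nice hY W.2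
    exact le_antisymm (map_N_le _ _ (Y.basicOpen_le c₀))
      (N_basicOpen_le h W.2 s hs hnice c₀)

theorem ideal_idealSheaf (h : IsLocalPred Fx) (hY : LocallyNice Fx) (V : Y.affineOpens) :
    (idealSheaf h hY).ideal V = N Fx V.2 := rfl

/-- (E): `Fx`-points kill the ideal sheaf -/
theorem le_ker_of_Fx (h : IsLocalPred Fx) (hY : LocallyNice Fx) {T : Scheme.{u}} (y : T ⟶ Y)
    (hy : Fx T y) : idealSheaf h hY ≤ y.ker := by
  show _ ≤ Scheme.IdealSheafData.ofIdeals _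
  rw [Scheme.IdealSheafData.le_ofIdeals_iff]
  intro V a ha
  have ha' : a ∈ N Fx V.2 := ha
  show (y.app V.1).hom a = 0
  refine T.sheaf.eq_of_locally_eq'
    (fun i : {T' : T.Opens // IsAffineOpen T' ∧ T' ≤ y ⁻¹ᵁ V.1} => i.1) (y ⁻¹ᵁ V.1)
    (fun i => homOfLE i.2.2) ?_ _ 0 (fun i => ?_)
  · intro x hx
    obtain ⟨_, ⟨T', hT', rfl⟩, hxT', hT'le⟩ :=
      T.isBasis_affineOpens.exists_subset_of_mem_open hx (y ⁻¹ᵁ V.1).isOpen
    exact TopologicalSpace.Opens.mem_iSup.mpr ⟨⟨T', hT', hT'le⟩, hxT'⟩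
  · obtain ⟨T', hT', hle⟩ := i
    have hF : Fx _ (Spec.map (y.appLE V.1 T' hle) ≫ V.2.fromSpec) := by
      rw [IsAffineOpen.SpecMap_appLE_fromSpec y V.2 hT' hle]
      exact h.comp _ _ hy
    have h0 := (mem_N_iff Fx V.2).mp ha' _ _ hF
    show (T.presheaf.map (homOfLE hle).op).hom ((y.app V.1).hom a) =
      (T.presheaf.map (homOfLE hle).op).hom 0
    rw [map_zero]
    exact h0

/-- (F): the closed subscheme is an `Fx`-point -/
theorem Fx_subschemeι (h : IsLocalPred Fx) (hY : LocallyNice Fx) :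
    Fx _ (idealSheaf h hY).subschemeι := by
  apply h.loc
  intro z
  obtain ⟨V, hV, hzV, hVn⟩ := hY ((idealSheaf h hY).subschemeι z)
  let Va : Y.affineOpens := ⟨V, hV⟩
  refine ⟨_, (idealSheaf h hY).subschemeCover.f Va, inferInstance, ?_, ?_⟩
  · have : z ∈ ((idealSheaf h hY).subschemeCover.f Va).opensRange := by
      rw [(idealSheaf h hY).opensRange_subschemeCover_map]
      exact hzV
    exact this
  · rw [(idealSheaf h hY).subschemeCover_map_subschemeι, (idealSheaf h hY).glueDataObjι_ι]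
    exact hVn V hV le_rfl

/-- the representability theorem -/
theorem main (h : IsLocalPred Fx) (hY : LocallyNice Fx) :
    ∃ (Z : Scheme.{u}) (i : Z ⟶ Y), IsClosedImmersion i ∧
      ∀ (T : Scheme.{u}) (y : T ⟶ Y), Fx T y ↔ ∃ z : T ⟶ Z, z ≫ i = y := by
  refine ⟨_, (idealSheaf h hY).subschemeι, inferInstance, fun T y => ⟨fun hy => ?_, ?_⟩⟩
  · refine ⟨IsClosedImmersion.lift _ y ?_, IsClosedImmersion.lift_fac _ _ _⟩
    rw [Scheme.IdealSheafData.ker_subschemeι]
    exact le_ker_of_Fx h hY y hy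
  · rintro ⟨z, rfl⟩
    exact h.comp _ _ (Fx_subschemeι h hY)

end Groth.Agent.Lib.Helper11.RFP2
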