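import Mathlib
import Groth.Agent.Lib.Helper11.GR1
import Groth.Agent.Lib.Helper11.RFP2

/-!
# GR2: in a scheme representing a Grassmannian functor, the locus where the universal submodule is
stable under a family of endomorphisms is a closed subscheme (helper11).
-/

set_option autoImplicit false
universe u
open CategoryTheory AlgebraicGeometry TensorProduct

namespace Groth.Agent.Lib.Helper11.GR2

open Groth.Agent.Lib.Helper11

variable (R : Type u) [CommRing R]

/-- Spec of an `R`-algebra as an object over `Spec R` -/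
noncomputable abbrev OS (A : CommAlgCat.{u} R) : Over (Spec (CommRingCat.of R)) :=
  Over.mk (Spec.map (CommRingCat.ofHom (algebraMap R A)))

variable {R} {M : Type u} [AddCommGroup M] [Module R M] {e : ℕ}
  {X : Over (Spec (CommRingCat.of R))}
  (eX : ∀ A : CommAlgCat.{u} R,
    (OS R A ⟶ X) ≃ (Module.Grassmannian.functor (R := R) (M := M) e).obj A)
  (heX : ∀ (A C : CommAlgCat.{u} R) (φ : A ⟶ C) (g : OS R A ⟶ X) (g' : OS R C ⟶ X),
    g'.left = Spec.map (CommRingCat.ofHom φ.hom.toRingHom) ≫ g.left →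
      eX C g' = (Module.Grassmannian.functor (R := R) (M := M) e).map φ (eX A g))
  {Λ : Type*} (ℓs : Λ → (M →ₗ[R] M))

/-- the predicate: all affine points are stable -/
def P (T : Scheme.{u}) (y : T ⟶ X.left) : Prop :=
  ∀ (A : CommAlgCat.{u} R) (g : OS R A ⟶ X) (t : Spec (CommRingCat.of A) ⟶ T),
    t ≫ y = g.left → GR1.Stab ℓs (eX A g).toSubmodule

theorem P_comp {T T' : Scheme.{u}} (t : T' ⟶ T) (y : T ⟶ X.left) (h : P eX ℓs T y) :
    P eX ℓs T' (t ≫ y) := by
  intro A g t' ht'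
  exact h A g (t' ≫ t) (by rw [Category.assoc, ht'])

include heX in
theorem stab_of_stab {A C : CommAlgCat.{u} R} (φ : A ⟶ C) (g : OS R A ⟶ X) (g' : OS R C ⟶ X)
    (hg : g'.left = Spec.map (CommRingCat.ofHom φ.hom.toRingHom) ≫ g.left)
    (h : GR1.Stab ℓs (eX A g).toSubmodule) : GR1.Stab ℓs (eX C g').toSubmodule := by
  rw [heX A C φ g g' hg]
  exact GR1.stab_map ℓs φ.hom (eX A g) h

include heX in
theorem stab_iff_coeff {A C : CommAlgCat.{u} R} (φ : A ⟶ C) (g : OS R A ⟶ X) (g' : OS R C ⟶ X)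
    (hg : g'.left = Spec.map (CommRingCat.ofHom φ.hom.toRingHom) ≫ g.left) :
    GR1.Stab ℓs (eX C g').toSubmodule ↔
      GR1.coeffJ ℓs (eX A g).toSubmodule ≤ RingHom.ker (φ.hom : A →+* C) := by
  rw [heX A C φ g g' hg]
  exact GR1.stab_map_iff ℓs φ.hom (eX A g)

theorem OS_w {A C : CommAlgCat.{u} R} (φ : A ⟶ C) :
    Spec.map (CommRingCat.ofHom φ.hom.toRingHom) ≫ (OS R A).hom = (OS R C).hom := by
  show Spec.map _ ≫ Spec.map _ = Spec.map _
  rw [← Spec.map_comp, ← CommRingCat.ofHom_comp]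
  congr 2
  exact φ.hom.comp_algebraMap

/-- precomposition of an `A`-point with an algebra map -/
noncomputable def gOf {A C : CommAlgCat.{u} R} (φ : A ⟶ C) (g : OS R A ⟶ X) : OS R C ⟶ X :=
  Over.homMk (Spec.map (CommRingCat.ofHom φ.hom.toRingHom) ≫ g.left) (by
    rw [Category.assoc, Over.w g]
    exact OS_w φ)

theorem gOf_left {A C : CommAlgCat.{u} R} (φ : A ⟶ C) (g : OS R A ⟶ X) :
    (gOf φ g).left = Spec.map (CommRingCat.ofHom φ.hom.toRingHom) ≫ g.left := rfl

include heX in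
theorem P_of_stab {A : CommAlgCat.{u} R} (g : OS R A ⟶ X)
    (h : GR1.Stab ℓs (eX A g).toSubmodule) :
    P eX ℓs (Spec (CommRingCat.of A)) g.left := by
  intro A' g' t ht
  have hτ : Spec.map (Spec.preimage t) = t := Spec.map_preimage t
  have hcomm : ∀ r : R, (Spec.preimage t).hom (algebraMap R A r) = algebraMap R A' r := by
    have h1 : Spec.map (CommRingCat.ofHom (algebraMap R A) ≫ Spec.preimage t) =
        Spec.map (CommRingCat.ofHom (algebraMap R A')) := by
      rw [Spec.map_comp, hτ]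
      have h3 := Over.w g'
      rw [← ht, Category.assoc, Over.w g] at h3
      exact h3
    have h2 := Spec.map_injective h1
    intro r
    exact congrArg (fun q => q.hom r) h2
  let τA : A ⟶ A' := CommAlgCat.ofHom ⟨(Spec.preimage t).hom, hcomm⟩
  refine stab_of_stab eX heX ℓs τA g g' ?_ h
  rw [← ht, ← hτ]
  rfl

include heX in
theorem P_loc {T : Scheme.{u}} (y : T ⟶ X.left)
    (H : ∀ t : T, ∃ (U : Scheme.{u}) (j : U ⟶ T), IsOpenImmersion j ∧ t ∈ Set.range j ∧
      P eX ℓs U (j ≫ y)) : P eX ℓs T y := by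
  intro A g t ht
  let s : Set A := {f : A | ∃ (U : Scheme.{u}) (j : U ⟶ T) (_ : IsOpenImmersion j)
    (t' : Spec (CommRingCat.of (Localization.Away f)) ⟶ U),
    t' ≫ j = Spec.map (CommRingCat.ofHom (algebraMap A (Localization.Away f))) ≫ t ∧
      P eX ℓs U (j ≫ y)}
  refine GR1.stab_of_local ℓs _ s ?_ ?_
  · by_contra hne
    obtain ⟨𝔪, h𝔪, hle⟩ := Ideal.exists_le_maximal _ hne
    let x : Spec (CommRingCat.of A) := (⟨𝔪, h𝔪.isPrime⟩ : PrimeSpectrum A)
    obtain ⟨U, j, hj, hxU, hP⟩ := H (t x)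
    have hopen : IsOpen (t ⁻¹' Set.range j) :=
      j.isOpenEmbedding.isOpen_range.preimage t.continuous
    obtain ⟨_, ⟨f, rfl⟩, hxf, hfsub⟩ :=
      PrimeSpectrum.isTopologicalBasis_basic_opens.exists_subset_of_mem_open
        (show x ∈ t ⁻¹' Set.range j from hxU) hopen
    have hfs : f ∈ s := by
      have hr : Set.range (Spec.map (CommRingCat.ofHom (algebraMap A (Localization.Away f))) ≫ t) ⊆
          Set.range j := by
        rintro _ ⟨z, rfl⟩
        apply hfsub
        have h5 : (Spec.map (CommRingCat.ofHom (algebraMap A (Localization.Away f)))) z ∈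
            (Spec.map (CommRingCat.ofHom (algebraMap A (Localization.Away f)))).opensRange :=
          ⟨z, rfl⟩
        rw [Scheme.Hom.opensRange_localizationAway (R := CommRingCat.of A)] at h5
        exact h5
      exact ⟨U, j, hj, IsOpenImmersion.lift j _ hr, IsOpenImmersion.lift_fac j _ hr, hP⟩
    have h6 : f ∈ 𝔪 := hle (Ideal.subset_span hfs)
    exact hxf h6
  · rintro f ⟨U, j, hj, t', ht', hP⟩ b x hx
    let Af : CommAlgCat.{u} R := CommAlgCat.of R (Localization.Away f)
    let φ : A ⟶ Af := CommAlgCat.ofHom (IsScalarTower.toAlgHom R A (Localization.Away f))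
    have hPf := hP Af (gOf φ g) t' (by
      rw [gOf_left, ← Category.assoc, ht', Category.assoc, ht]
      rfl)
    rw [heX A Af φ g (gOf φ g) rfl] at hPf
    have hloc : @IsLocalization.Away A _ f (Localization.Away f) _ φ.hom.toAlgebra := by
      have e : φ.hom.toAlgebra = (inferInstance : Algebra A (Localization.Away f)) :=
        Algebra.algebra_ext _ _ (fun _ => rfl)
      rw [e]
      infer_instance
    exact GR1.exists_pow_of_stab_map_away ℓs φ.hom f hloc (eX A g) hPf b x hx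

include heX in
theorem isLocalPred : RFP2.IsLocalPred (P eX ℓs) where
  comp := P_comp eX ℓs
  loc := P_loc eX heX ℓs

section nice

variable {V : X.left.Opens} (hV : IsAffineOpen V)

/-- the structure map `R → Γ(X, V)` -/
noncomputable def psi : CommRingCat.of R ⟶ Γ(X.left, V) :=
  Spec.preimage (hV.fromSpec ≫ X.hom)

theorem map_psi : Spec.map (psi hV) = hV.fromSpec ≫ X.hom := Spec.map_preimage _

/-- `Γ(X, V)` as an `R`-algebra -/
noncomputable def CA : CommAlgCat.{u} R :=
  letI : Algebra R Γ(X.left, V) := (psi hV).hom.toAlgebra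
  CommAlgCat.of R Γ(X.left, V)

/-- the inclusion of `V` as a point -/
noncomputable def gC : OS R (CA hV) ⟶ X :=
  Over.homMk (U := OS R (CA hV)) hV.fromSpec (map_psi hV).symm

/-- an algebra over `Γ(X, V)` as an `R`-algebra -/
noncomputable def DA {D : CommRingCat.{u}} (φ : Γ(X.left, V) ⟶ D) : CommAlgCat.{u} R :=
  letI : Algebra R D := (psi hV ≫ φ).hom.toAlgebra
  CommAlgCat.of R D

/-- the structure map as a morphism of `R`-algebras -/
noncomputable def phiA {D : CommRingCat.{u}} (φ : Γ(X.left, V) ⟶ D) : CA hV ⟶ DA hV φ :=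
  letI : Algebra R Γ(X.left, V) := (psi hV).hom.toAlgebra
  letI : Algebra R D := (psi hV ≫ φ).hom.toAlgebra
  CommAlgCat.ofHom (⟨φ.hom, fun _ => rfl⟩ : Γ(X.left, V) →ₐ[R] D)

theorem gOf_phiA_left {D : CommRingCat.{u}} (φ : Γ(X.left, V) ⟶ D) :
    (gOf (phiA hV φ) (gC hV)).left = Spec.map φ ≫ hV.fromSpec := rfl

/-- the coefficient ideal on `V` -/
noncomputable def J : Ideal Γ(X.left, V) :=
  (GR1.coeffJ ℓs (eX (CA hV) (gC hV)).toSubmodule : Ideal (CA hV))

include heX in
theorem P_iff_coeff {D : CommRingCat.{u}} (φ : Γ(X.left, V) ⟶ D) :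
    P eX ℓs (Spec D) (Spec.map φ ≫ hV.fromSpec) ↔ J eX ℓs hV ≤ RingHom.ker φ.hom := by
  have key := stab_iff_coeff eX heX ℓs (phiA hV φ) (gC hV) (gOf (phiA hV φ) (gC hV)) rfl
  constructor
  · intro hP
    have h1 := hP (DA hV φ) (gOf (phiA hV φ) (gC hV)) (𝟙 (Spec D)) (Category.id_comp _)
    exact key.mp h1
  · intro hc
    have h1 := key.mpr hc
    exact P_of_stab eX heX ℓs (gOf (phiA hV φ) (gC hV)) h1

include heX in
theorem nice : RFP2.Nice (P eX ℓs) hV := by
  unfold RFP2.Nice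
  rw [P_iff_coeff eX heX ℓs hV]
  intro c hc
  rw [RingHom.mem_ker]
  change Ideal.Quotient.mk _ c = 0
  rw [Ideal.Quotient.eq_zero_iff_mem, RFP2.mem_N_iff]
  intro D φ hφ
  exact ((P_iff_coeff eX heX ℓs hV φ).mp hφ) hc

end nice

include heX in
theorem main : ∃ (Z : Scheme.{u}) (i : Z ⟶ X.left), IsClosedImmersion i ∧
    ∀ (A : CommAlgCat.{u} R) (g : OS R A ⟶ X),
      (∃ h : (OS R A).left ⟶ Z, h ≫ i = g.left) ↔ GR1.Stab ℓs (eX A g).toSubmodule := by
  obtain ⟨Z, i, hi, H⟩ := RFP2.main (Fx := P eX ℓs) (isLocalPred eX heX ℓs) (fun y => by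
    obtain ⟨_, ⟨V, hV, rfl⟩, hyV, -⟩ :=
      X.left.isBasis_affineOpens.exists_subset_of_mem_open (Set.mem_univ y) isOpen_univ
    exact ⟨V, hV, hyV, fun V' hV' _ => nice eX heX ℓs hV'⟩)
  refine ⟨Z, i, hi, fun A g => ?_⟩
  refine Iff.trans (H (Spec (CommRingCat.of A)) g.left).symm ?_
  constructor
  · intro hP
    exact hP A g (𝟙 _) (Category.id_comp _)
  · intro hS
    exact P_of_stab eX heX ℓs g hS

end Groth.Agent.Lib.Helper11.GR2
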