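import Mathlib

/-!
# Helper11 GT1: geometric transitivity from normal residue extensions and decomposition groups
-/

set_option autoImplicit false
universe u

open CategoryTheory AlgebraicGeometry

namespace Groth.Agent.Lib.Helper11.GT1

theorem spec_ext {X : Scheme.{u}} {Ω : Type u} [Field Ω] (x : X)
    (φ₁ φ₂ : X.residueField x ⟶ CommRingCat.of Ω)
    (h : Spec.map φ₁ ≫ X.fromSpecResidueField x = Spec.map φ₂ ≫ X.fromSpecResidueField x) :
    φ₁ = φ₂ := by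
  have h1 : (X.SpecToEquivOfField Ω).symm ⟨x, φ₁⟩ = (X.SpecToEquivOfField Ω).symm ⟨x, φ₂⟩ := h
  have h2 := (X.SpecToEquivOfField Ω).symm.injective h1
  obtain ⟨e, h3⟩ := Scheme.SpecToEquivOfField_eq_iff.mp h2
  simpa using h3

theorem exists_desc {X : Scheme.{u}} {Ω : Type u} [Field Ω] (τ : Spec (CommRingCat.of Ω) ⟶ X)
    (x : X) (e : τ (IsLocalRing.closedPoint Ω) = x) :
    ∃ ψ : X.residueField x ⟶ CommRingCat.of Ω, τ = Spec.map ψ ≫ X.fromSpecResidueField x := by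
  subst e
  exact ⟨_, (Scheme.descResidueField_stalkClosedPointTo_fromSpecResidueField Ω X τ).symm⟩

theorem core {X S : Scheme.{u}} (q : X ⟶ S) {G : Type u} [Group G] (ρ : G →* Aut X) (x : X)
    (h2 : @Normal (S.residueField (q x)) (X.residueField x) _ _
      (q.residueFieldMap x).hom.toAlgebra)
    (h3 : ∀ (σ : X.residueField x ≅ X.residueField x),
      q.residueFieldMap x ≫ σ.hom = q.residueFieldMap x →
      ∃ g : G, X.fromSpecResidueField x ≫ (ρ g).hom = Spec.map σ.hom ≫ X.fromSpecResidueField x)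
    (Ω : Type u) [Field Ω] (ψ₁ ψ₂ : X.residueField x ⟶ CommRingCat.of Ω)
    (hτ : (Spec.map ψ₁ ≫ X.fromSpecResidueField x) ≫ q =
      (Spec.map ψ₂ ≫ X.fromSpecResidueField x) ≫ q) :
    ∃ g : G, (Spec.map ψ₁ ≫ X.fromSpecResidueField x) ≫ (ρ g).hom =
      Spec.map ψ₂ ≫ X.fromSpecResidueField x := by
  have hK : q.residueFieldMap x ≫ ψ₁ = q.residueFieldMap x ≫ ψ₂ := by
    apply spec_ext (q x)
    rw [Spec.map_comp, Spec.map_comp, Category.assoc, Category.assoc,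
      Scheme.Hom.SpecMap_residueFieldMap_fromSpecResidueField]
    simpa only [Category.assoc] using hτ
  letI aKL : Algebra (S.residueField (q x)) (X.residueField x) :=
    (q.residueFieldMap x).hom.toAlgebra
  letI aLΩ : Algebra (X.residueField x) Ω := ψ₁.hom.toAlgebra
  letI aKΩ : Algebra (S.residueField (q x)) Ω :=
    (ψ₁.hom.comp (q.residueFieldMap x).hom).toAlgebra
  haveI : IsScalarTower (S.residueField (q x)) (X.residueField x) Ω := .of_algebraMap_eq' rfl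
  haveI := h2
  let ψ₂' : X.residueField x →ₐ[S.residueField (q x)] Ω :=
    { ψ₂.hom with commutes' := fun k => (congrArg (fun φ => φ.hom k) hK).symm }
  let σ := AlgHom.restrictNormal' ψ₂' (X.residueField x)
  have hσ : ∀ y, ψ₁.hom (σ y) = ψ₂.hom y := fun y =>
    AlgHom.restrictNormal_commutes ψ₂' (X.residueField x) y
  obtain ⟨g, hg⟩ := h3 σ.toRingEquiv.toCommRingCatIso (by
    ext k
    exact σ.commutes k)
  refine ⟨g, ?_⟩
  rw [Category.assoc, hg, ← Category.assoc, ← Spec.map_comp]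
  congr 2
  ext y
  exact hσ y

theorem geomTransitive {X S : Scheme.{u}} (q : X ⟶ S) {G : Type u} [Group G]
    (ρ : G →* Aut X) (hρ : ∀ g : G, (ρ g).hom ≫ q = q)
    (h1 : ∀ x y : X, q x = q y → ∃ g : G, (ρ g).hom x = y)
    (h2 : ∀ x : X, @Normal (S.residueField (q x)) (X.residueField x) _ _
      (q.residueFieldMap x).hom.toAlgebra)
    (h3 : ∀ (x : X) (σ : X.residueField x ≅ X.residueField x),
      q.residueFieldMap x ≫ σ.hom = q.residueFieldMap x →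
      ∃ g : G, X.fromSpecResidueField x ≫ (ρ g).hom = Spec.map σ.hom ≫ X.fromSpecResidueField x)
    (Ω : Type u) [Field Ω] (τ₁ τ₂ : Spec (CommRingCat.of Ω) ⟶ X) (hτ : τ₁ ≫ q = τ₂ ≫ q) :
    ∃ g : G, τ₁ ≫ (ρ g).hom = τ₂ := by
  have hq : q (τ₁ (IsLocalRing.closedPoint Ω)) = q (τ₂ (IsLocalRing.closedPoint Ω)) := by
    have h0 := congr($(hτ) (IsLocalRing.closedPoint Ω))
    rwa [Scheme.Hom.comp_apply, Scheme.Hom.comp_apply] at h0
  obtain ⟨g₀, hg₀⟩ := h1 _ _ hq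
  obtain ⟨x, hx⟩ : ∃ x, τ₂ (IsLocalRing.closedPoint Ω) = x := ⟨_, rfl⟩
  have e₁ : (τ₁ ≫ (ρ g₀).hom) (IsLocalRing.closedPoint Ω) = x := by
    rw [Scheme.Hom.comp_apply, hg₀, hx]
  obtain ⟨ψ₁, hψ₁⟩ := exists_desc (τ₁ ≫ (ρ g₀).hom) x e₁
  obtain ⟨ψ₂, hψ₂⟩ := exists_desc τ₂ x hx
  have hτ' : (τ₁ ≫ (ρ g₀).hom) ≫ q = τ₂ ≫ q := by rw [Category.assoc, hρ g₀, hτ]
  have hτ'' : (Spec.map ψ₁ ≫ X.fromSpecResidueField x) ≫ q =
      (Spec.map ψ₂ ≫ X.fromSpecResidueField x) ≫ q := by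
    rw [← hψ₁, ← hψ₂]; exact hτ'
  obtain ⟨g, hg⟩ := core q ρ x (h2 x) (h3 x) Ω ψ₁ ψ₂ hτ''
  refine ⟨g * g₀, ?_⟩
  have hmul : (ρ (g * g₀)).hom = (ρ g₀).hom ≫ (ρ g).hom := by rw [map_mul]; rfl
  rw [hmul, ← Category.assoc, hψ₁, hg, ← hψ₂]

end Groth.Agent.Lib.Helper11.GT1
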