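import Mathlib
import Groth.Prelude.Def_FDesc
import Groth.Agent.Lib.Helper11.GalConn

/-!
# Galois-invariant connected components (helper11)

* `image_preimage_bcHom`: preimages of subsets of `X` are Galois invariant.
* `preimage_connectedComponent_eq_of_invariant`: a Galois-invariant connected component of `X_K` is the
  full preimage of the connected component of its image.
* `isConnected_preimage_connectedComponent_of_sepClosure`: transfer from the separable closure.
* `bcFun`, `bcFun_bcHom`: functoriality of base change, equivariance.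
-/

set_option autoImplicit false
universe u

open CategoryTheory CategoryTheory.Limits AlgebraicGeometry
open Groth.Agent.Lib.Helper11.FBaseLib Groth.Agent.Lib.Helper11.FBaseLib2
  Groth.Agent.Lib.Helper11.BcLevels Groth.Agent.Lib.Helper11.TwoEmb
  Groth.Agent.Lib.Helper11.SepFibre Groth.Agent.Lib.Helper11.GalComp
  Groth.Agent.Lib.Helper11.GeomSep Groth.Agent.Lib.Helper11.CountComp
  Groth.Agent.Lib.Helper11.GalDescent Groth.Agent.Lib.Helper11.SepFibre2
  Groth.Agent.Lib.Helper11.GalOrbit Groth.Agent.Lib.Helper11.GalConn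

namespace Groth.Agent.Lib.Helper11.GalInv

variable {k : Type u} [Field k] {X : Scheme.{u}} (a : X ⟶ Spec (CommRingCat.of k))

theorem image_preimage_bcHom {K : Type u} [Field K] [Algebra k K] (σ : K ≃ₐ[k] K) (S : Set ↥X) :
    (bcHom a (σ : K →ₐ[k] K)) '' ((FBase.bcπ a K) ⁻¹' S) = (FBase.bcπ a K) ⁻¹' S := by
  apply Set.Subset.antisymm
  · rintro _ ⟨z, hz, rfl⟩
    show (FBase.bcπ a K) ((bcHom a (σ : K →ₐ[k] K)) z) ∈ S
    rw [bcHom_π_apply]
    exact hz
  · intro z hz
    refine ⟨(galHomeo a σ).symm z, ?_, (galHomeo a σ).apply_symm_apply z⟩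
    show (FBase.bcπ a K) ((galHomeo a σ).symm z) ∈ S
    have h1 : (FBase.bcπ a K) ((galHomeo a σ) ((galHomeo a σ).symm z)) =
        (FBase.bcπ a K) ((galHomeo a σ).symm z) := bcHom_π_apply a (σ : K →ₐ[k] K) _
    rw [(galHomeo a σ).apply_symm_apply] at h1
    rw [← h1]
    exact hz

theorem preimage_connectedComponent_eq_of_invariant (K : Type u) [Field K] [Algebra k K]
    [Algebra.IsIntegral k K] [Normal k K] (t : ↥(FBase.bc a K))
    (hinv : ∀ σ : K ≃ₐ[k] K,
      (bcHom a (σ : K →ₐ[k] K)) '' connectedComponent t = connectedComponent t) :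
    (FBase.bcπ a K) ⁻¹' connectedComponent ((FBase.bcπ a K) t) = connectedComponent t := by
  set p := FBase.bcπ a K with hp
  set x := p t with hx
  set C := connectedComponent t with hC
  set T := connectedComponent x with hT
  set S := p ⁻¹' T with hS
  haveI : IsIntegralHom p := isIntegralHom_bcπ a K
  have hCS : C ⊆ S := fun z hz =>
    (isPreconnected_connectedComponent.image p p.continuous.continuousOn).subset_connectedComponent
      ⟨t, mem_connectedComponent, rfl⟩ ⟨z, hz, rfl⟩
  have hSclosed : IsClosed S := isClosed_connectedComponent.preimage p.continuous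
  have key : ∀ A B : Set ↥(FBase.bc a K), IsClosed A → IsClosed B → S ⊆ A ∪ B → Disjoint A B →
      C ⊆ A → S ∩ B = ∅ := by
    intro A B hA hB hSAB hAB hCA
    by_contra hBne
    obtain ⟨b₀, hb₀S, hb₀⟩ := Set.nonempty_iff_ne_empty.mpr hBne
    have hxB : x ∈ p '' (S ∩ B) := by
      by_contra hxB
      have hpre : _root_.IsPreconnected T := isPreconnected_connectedComponent
      have hu : IsOpen (p '' Aᶜ) := p.isOpenMap _ hA.isOpen_compl
      have hv : IsOpen (p '' (S ∩ B))ᶜ := (p.isClosedMap _ (hSclosed.inter hB)).isOpen_compl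
      have hcov : T ⊆ p '' Aᶜ ∪ (p '' (S ∩ B))ᶜ := by
        intro y hy
        by_cases hyB : y ∈ p '' (S ∩ B)
        · left
          obtain ⟨b, hb, rfl⟩ := hyB
          exact ⟨b, fun hbA => Set.disjoint_left.mp hAB hbA hb.2, rfl⟩
        · right
          exact hyB
      have hTu : (T ∩ p '' Aᶜ).Nonempty :=
        ⟨p b₀, hb₀S, b₀, fun hbA => Set.disjoint_left.mp hAB hbA hb₀, rfl⟩
      have hTv : (T ∩ (p '' (S ∩ B))ᶜ).Nonempty := ⟨x, mem_connectedComponent, hxB⟩
      obtain ⟨y, hyT, ⟨z, hzA, hzy⟩, hyB⟩ := hpre _ _ hu hv hcov hTu hTv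
      have hzS : z ∈ S := by
        show p z ∈ T
        rw [hzy]
        exact hyT
      rcases hSAB hzS with h | h
      · exact hzA h
      · exact hyB ⟨z, ⟨hzS, h⟩, hzy⟩
    obtain ⟨b, hb, hbx⟩ := hxB
    obtain ⟨σ, hσ⟩ := exists_bcHom_eq a K b t hbx
    have hbC : b ∈ C := by
      rw [hσ, ← hinv σ]
      exact ⟨t, mem_connectedComponent, rfl⟩
    exact Set.disjoint_left.mp hAB (hCA hbC) hb.2
  have hSpre : _root_.IsPreconnected S := by
    rw [isPreconnected_iff_subset_of_fully_disjoint_closed hSclosed]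
    intro u v hu hv hcov hdisj
    have hCpre : _root_.IsPreconnected C := isPreconnected_connectedComponent
    rw [isPreconnected_iff_subset_of_fully_disjoint_closed isClosed_connectedComponent] at hCpre
    rcases hCpre u v hu hv (hCS.trans hcov) hdisj with h | h
    · left
      have h1 := key u v hu hv hcov hdisj h
      intro z hz
      rcases hcov hz with h2 | h2
      · exact h2
      · exfalso
        have : z ∈ S ∩ v := ⟨hz, h2⟩
        rw [h1] at this
        exact this
    · right
      have h1 := key v u hv hu (by rw [Set.union_comm]; exact hcov) hdisj.symm h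
      intro z hz
      rcases hcov hz with h2 | h2
      · exfalso
        have : z ∈ S ∩ u := ⟨hz, h2⟩
        rw [h1] at this
        exact this
      · exact h2
  apply Set.Subset.antisymm
  · exact hSpre.subset_connectedComponent (hCS mem_connectedComponent)
  · exact hCS

theorem isConnected_preimage_connectedComponent_of_sepClosure (K : Type u) [Field K] [Algebra k K]
    {S : Set ↥X} {y : ↥X} (hy : y ∈ S)
    (hS : _root_.IsPreconnected (⇑(FBase.bcπ a (SeparableClosure k)) ⁻¹' S)) :
    _root_.IsConnected (⇑(FBase.bcπ a K) ⁻¹' connectedComponent y) := by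
  refine isConnected_preimage_connectedComponent_bcπ a K hy ?_
  have hh := isHomeomorph_bcMap_sepClosure a
  have h1 : ⇑(FBase.bcπ a (AlgebraicClosure k)) ⁻¹' S =
      ⇑(bcMap a (SeparableClosure k) (AlgebraicClosure k)) ⁻¹'
        (⇑(FBase.bcπ a (SeparableClosure k)) ⁻¹' S) := by
    ext z
    simp only [Set.mem_preimage]
    rw [bcπ_bcMap_apply]
  rw [h1]
  refine hS.preimage_of_isOpenMap hh.injective hh.isOpenMap ?_
  rw [hh.surjective.range_eq]
  exact Set.subset_univ _

section Functor

variable {T : Scheme.{u}} (b : T ⟶ Spec (CommRingCat.of k)) (g : T ⟶ X) (hg : g ≫ a = b)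

/-- functoriality of base change -/
noncomputable def bcFun (K : Type u) [Field K] [Algebra k K] : FBase.bc b K ⟶ FBase.bc a K :=
  pullback.map b _ a _ g (𝟙 _) (𝟙 _) (by rw [Category.comp_id, hg]) (by simp)

@[reassoc]
lemma bcFun_π (K : Type u) [Field K] [Algebra k K] :
    bcFun a b g hg K ≫ FBase.bcπ a K = FBase.bcπ b K ≫ g :=
  pullback.lift_fst _ _ _

@[reassoc]
lemma bcFun_str (K : Type u) [Field K] [Algebra k K] :
    bcFun a b g hg K ≫ FBase.bcStr a K = FBase.bcStr b K :=
  (pullback.lift_snd _ _ _).trans (Category.comp_id _)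

lemma bcFun_bcHom {K L : Type u} [Field K] [Field L] [Algebra k K] [Algebra k L] (φ : K →ₐ[k] L) :
    bcFun a b g hg L ≫ bcHom a φ = bcHom b φ ≫ bcFun a b g hg K := by
  apply pullback.hom_ext
  · change _ ≫ FBase.bcπ a K = _ ≫ FBase.bcπ a K
    rw [Category.assoc, Category.assoc, bcHom_π, bcFun_π, bcFun_π, bcHom_π_assoc]
  · change _ ≫ FBase.bcStr a K = _ ≫ FBase.bcStr a K
    rw [Category.assoc, Category.assoc, bcHom_str, bcFun_str_assoc, bcFun_str, bcHom_str]

end Functor

end Groth.Agent.Lib.Helper11.GalInv
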