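import Mathlib
import Groth.Prelude.Def_FDesc
import Groth.Agent.Lib.Helper11.FBaseLib2

/-!
# Sections of a base change to a field extension over a quasi-compact quasi-separated open (helper11)
-/

set_option autoImplicit false
universe u

open CategoryTheory CategoryTheory.Limits AlgebraicGeometry TensorProduct Opposite
open Groth.Agent.Lib.Helper11.FBaseLib Groth.Agent.Lib.Helper11.FBaseLib2

namespace Groth.Agent.Lib.Helper11.GammaBC

variable {k : Type u} [Field k] {X : Scheme.{u}} (a : X ⟶ Spec (CommRingCat.of k))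

/-- the `k`-algebra structure on sections over an open -/
@[reducible] noncomputable def secAlgebra (U : X.Opens) : Algebra k Γ(X, U) :=
  ((a.appLE ⊤ U (by simp)).hom.comp (Scheme.ΓSpecIso (CommRingCat.of k)).inv.hom).toAlgebra

theorem exists_ringEquiv_tensor_open (K : Type u) [Field K] [Algebra k K] (U : X.Opens)
    (hc : IsCompact (U : Set X)) (hqs : IsQuasiSeparated (U : Set X)) :
    letI := secAlgebra a U
    Nonempty (Γ(FBase.bc a K, (FBase.bcπ a K) ⁻¹ᵁ U) ≃+* K ⊗[k] Γ(X, U)) := by
  letI := secAlgebra a U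
  have H : IsPullback (FBase.bcπ a K) (FBase.bcStr a K) a
      (Spec.map (CommRingCat.ofHom (algebraMap k K))) := isPullback_bc a K
  haveI : Flat (Spec.map (CommRingCat.ofHom (algebraMap k K))) := by
    rw [Flat.SpecMap_iff]
    exact RingHom.flat_algebraMap_iff.mpr inferInstance
  have hiso := isIso_pushoutSection_of_isQuasiSeparated_of_flat_right H
    (US := ⊤) (UT := ⊤) (UX := U) (UY := (FBase.bcπ a K) ⁻¹ᵁ U) (by simp) (by simp) (by simp)
    (isAffineOpen_top _) (isAffineOpen_top _) hc hqs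
  have hpo := (isIso_pushoutSection_iff H _ _ _).mp hiso
  have hpo' : IsPushout
      ((Scheme.ΓSpecIso (CommRingCat.of k)).inv ≫ a.appLE ⊤ U (by simp))
      (CommRingCat.ofHom (algebraMap k K))
      ((FBase.bcπ a K).appLE U ((FBase.bcπ a K) ⁻¹ᵁ U) le_rfl)
      ((Scheme.ΓSpecIso (CommRingCat.of K)).inv ≫
        (FBase.bcStr a K).appLE ⊤ ((FBase.bcπ a K) ⁻¹ᵁ U) (by simp)) := by
    refine IsPushout.of_iso hpo (Scheme.ΓSpecIso (CommRingCat.of k)) (Iso.refl _)
      (Scheme.ΓSpecIso (CommRingCat.of K)) (Iso.refl _) ?_ ?_ ?_ ?_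
    · simp
    · simp [Scheme.Hom.appLE, Scheme.ΓSpecIso_naturality]
    · simp
    · simp
  have hT := CommRingCat.isPushout_tensorProduct k K Γ(X, U)
  exact ⟨(hpo'.flip.isoIsPushout _ _ hT).commRingCatIsoToRingEquiv⟩

end Groth.Agent.Lib.Helper11.GammaBC
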