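import Mathlib.RingTheory.GradedAlgebra.HomogeneousLocalization
import Mathlib.RingTheory.FiniteType
import Mathlib.Algebra.Module.LocalizedModule.Basic
import Mathlib.Algebra.Module.GradedModule
import Mathlib.Algebra.Polynomial.Module.Basic

/-!
# A finite graded module with prescribed degree-zero localisation
-/

set_option autoImplicit false
universe u
open Polynomial

namespace Groth.Agent.Lib.Helper11.GrModAway

open HomogeneousLocalization

variable {R R' : Type u} [CommRing R] [CommRing R'] [Algebra R R']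
  {S : Type u} [CommRing S] [Algebra R S] (𝒜 : ℕ → Submodule R S) [GradedAlgebra 𝒜] {f : S}
  (hf : f ∈ 𝒜 1) (e : HomogeneousLocalization.Away 𝒜 f ≃+* R')

theorem mem_smul_one {d : ℕ} {s : S} (hs : s ∈ 𝒜 d) : s ∈ 𝒜 (d • 1) := by
  rwa [smul_eq_mul, mul_one]

/-- `s ↦ e (s / f ^ d)` on `𝒜 d`. -/
noncomputable def epsD (d : ℕ) : 𝒜 d →+ R' where
  toFun s := e (Away.mk 𝒜 hf d s.1 (mem_smul_one 𝒜 s.2))
  map_zero' := by
    have : Away.mk 𝒜 hf d (0 : S) (mem_smul_one 𝒜 (zero_mem _)) = 0 := by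
      apply HomogeneousLocalization.val_injective
      rw [Away.val_mk, HomogeneousLocalization.val_zero, Localization.mk_zero]
    simp only [ZeroMemClass.coe_zero]
    rw [this, map_zero]
  map_add' s t := by
    have : Away.mk 𝒜 hf d (s.1 + t.1) (mem_smul_one 𝒜 (add_mem s.2 t.2)) =
        Away.mk 𝒜 hf d s.1 (mem_smul_one 𝒜 s.2) + Away.mk 𝒜 hf d t.1 (mem_smul_one 𝒜 t.2) := by
      apply HomogeneousLocalization.val_injective
      rw [HomogeneousLocalization.val_add, Away.val_mk, Away.val_mk, Away.val_mk,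
        Localization.add_mk_self]
    simp only [Submodule.coe_add]
    rw [this, map_add]

theorem epsD_apply {d : ℕ} (s : 𝒜 d) :
    epsD 𝒜 hf e d s = e (Away.mk 𝒜 hf d s.1 (mem_smul_one 𝒜 s.2)) := rfl

theorem epsD_one : epsD 𝒜 hf e 0 ⟨1, SetLike.GradedOne.one_mem⟩ = 1 := by
  rw [epsD_apply]
  have : Away.mk 𝒜 hf 0 (1 : S)
      (mem_smul_one 𝒜 SetLike.GradedOne.one_mem) = 1 := by
    apply HomogeneousLocalization.val_injective
    rw [Away.val_mk, HomogeneousLocalization.val_one]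
    simp only [pow_zero]
    exact Localization.mk_one
  rw [this, map_one]

theorem epsD_mul {i j : ℕ} (a : 𝒜 i) (b : 𝒜 j) :
    epsD 𝒜 hf e (i + j) ⟨a.1 * b.1, SetLike.mul_mem_graded a.2 b.2⟩ =
      epsD 𝒜 hf e i a * epsD 𝒜 hf e j b := by
  rw [epsD_apply, epsD_apply, epsD_apply, ← map_mul]
  congr 1
  apply HomogeneousLocalization.val_injective
  rw [HomogeneousLocalization.val_mul, Away.val_mk, Away.val_mk, Away.val_mk, Localization.mk_mul]
  congr 1
  apply Subtype.ext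
  simp only [Submonoid.coe_mul]
  exact pow_add f i j

/-- The ring homomorphism `S → R'[X]`, `s ↦ ∑ e (s_d / f^d) X^d`. -/
noncomputable def theta : S →+* R'[X] :=
  (DirectSum.toSemiring (fun d => (Polynomial.monomial d).toAddMonoidHom.comp (epsD 𝒜 hf e d))
    (by
      simp only [AddMonoidHom.coe_comp, Function.comp_apply, LinearMap.toAddMonoidHom_coe]
      change Polynomial.monomial 0 (epsD 𝒜 hf e 0 ⟨1, SetLike.GradedOne.one_mem⟩) = 1
      rw [epsD_one]
      rfl)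
    (by
      intro i j a b
      simp only [AddMonoidHom.coe_comp, Function.comp_apply, LinearMap.toAddMonoidHom_coe]
      change Polynomial.monomial (i + j)
        (epsD 𝒜 hf e (i + j) ⟨a.1 * b.1, SetLike.mul_mem_graded a.2 b.2⟩) = _
      rw [epsD_mul, Polynomial.monomial_mul_monomial])).comp
  (DirectSum.decomposeRingEquiv 𝒜).toRingHom

theorem theta_of_mem {d : ℕ} {s : S} (hs : s ∈ 𝒜 d) :
    theta 𝒜 hf e s = Polynomial.monomial d (epsD 𝒜 hf e d ⟨s, hs⟩) := by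
  unfold theta
  rw [RingHom.comp_apply]
  change DirectSum.toSemiring _ _ _ (DirectSum.decompose 𝒜 s) = _
  rw [DirectSum.decompose_of_mem 𝒜 hs, DirectSum.toSemiring_of]
  rfl

/-- `ε = (evaluation at X = 1) ∘ θ : S → R'`. -/
noncomputable def eps : S →+* R' := (Polynomial.evalRingHom (1 : R')).comp (theta 𝒜 hf e)

theorem eps_of_mem {d : ℕ} {s : S} (hs : s ∈ 𝒜 d) :
    eps 𝒜 hf e s = e (Away.mk 𝒜 hf d s (mem_smul_one 𝒜 hs)) := by
  unfold eps
  rw [RingHom.comp_apply, theta_of_mem 𝒜 hf e hs, Polynomial.coe_evalRingHom,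
    Polynomial.eval_monomial, one_pow, mul_one, epsD_apply]

theorem eps_f : eps 𝒜 hf e f = 1 := by
  rw [eps_of_mem 𝒜 hf e hf]
  have : Away.mk 𝒜 hf 1 f (mem_smul_one 𝒜 hf) = 1 := by
    apply HomogeneousLocalization.val_injective
    rw [Away.val_mk, HomogeneousLocalization.val_one]
    convert! Localization.mk_self (⟨f ^ 1, 1, rfl⟩ : Submonoid.powers f)
    simp
  rw [this, map_one]

theorem eps_algebraMap
    (he : ∀ r : R, (e.symm (algebraMap R R' r)).val =
      algebraMap S (Localization.Away f) (algebraMap R S r)) (r : R) :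
    eps 𝒜 hf e (algebraMap R S r) = algebraMap R R' r := by
  have h0 : algebraMap R S r ∈ 𝒜 0 := SetLike.algebraMap_mem_graded 𝒜 r
  rw [eps_of_mem 𝒜 hf e h0]
  have : Away.mk 𝒜 hf 0 (algebraMap R S r) (mem_smul_one 𝒜 h0) = e.symm (algebraMap R R' r) := by
    apply HomogeneousLocalization.val_injective
    rw [he, Away.val_mk]
    simp only [pow_zero]
    exact Localization.mk_one_eq_algebraMap _
  rw [this, RingEquiv.apply_symm_apply]


section Ambient

variable (M : Type u) [AddCommGroup M] [Module R' M]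

/-- The ambient graded `S`-module `M[X]`, with `s ∈ 𝒜 d` acting by `e (s / f^d) X^d`. -/
def Amb (_ : f ∈ 𝒜 1) (_ : HomogeneousLocalization.Away 𝒜 f ≃+* R') (M : Type u)
    [AddCommGroup M] [Module R' M] : Type u := PolynomialModule R' M

noncomputable instance : AddCommGroup (Amb 𝒜 hf e M) :=
  inferInstanceAs (AddCommGroup (PolynomialModule R' M))

noncomputable instance instModS : Module S (Amb 𝒜 hf e M) :=
  Module.compHom (PolynomialModule R' M) (theta 𝒜 hf e)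

noncomputable instance instModR : Module R (Amb 𝒜 hf e M) :=
  Module.compHom (Amb 𝒜 hf e M) (algebraMap R S)

instance : IsScalarTower R S (Amb 𝒜 hf e M) :=
  IsScalarTower.of_algebraMap_smul (fun _ _ => rfl)

variable {M}

/-- coefficients -/
def cf (x : Amb 𝒜 hf e M) (n : ℕ) : M := PolynomialModule.coeff (R := R') (M := M) x n

/-- monomials -/
noncomputable def sg (n : ℕ) (m : M) : Amb 𝒜 hf e M := PolynomialModule.single R' n m

theorem ext_cf {x y : Amb 𝒜 hf e M} (h : ∀ n, cf 𝒜 hf e x n = cf 𝒜 hf e y n) : x = y :=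
  PolynomialModule.coeff_injective (Finsupp.ext h)

@[simp] theorem cf_zero (n : ℕ) : cf 𝒜 hf e (0 : Amb 𝒜 hf e M) n = 0 := rfl

@[simp] theorem cf_add (x y : Amb 𝒜 hf e M) (n : ℕ) :
    cf 𝒜 hf e (x + y) n = cf 𝒜 hf e x n + cf 𝒜 hf e y n := rfl

theorem cf_sg (k : ℕ) (m : M) (n : ℕ) :
    cf 𝒜 hf e (sg 𝒜 hf e k m) n = if k = n then m else 0 := by
  unfold cf sg
  rw [PolynomialModule.coeff_single, Finsupp.single_apply]

theorem sg_add (k : ℕ) (m m' : M) :
    sg 𝒜 hf e k (m + m') = sg 𝒜 hf e k m + sg 𝒜 hf e k m' :=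
  PolynomialModule.single_add (R := R') k m m'

theorem sg_zero (k : ℕ) : sg 𝒜 hf e k (0 : M) = 0 := PolynomialModule.single_zero (R := R') k

theorem smul_def' (s : S) (x : Amb 𝒜 hf e M) :
    s • x = (theta 𝒜 hf e s • (show PolynomialModule R' M from x) : PolynomialModule R' M) := rfl

theorem cf_smul_of_mem {d : ℕ} {s : S} (hs : s ∈ 𝒜 d) (x : Amb 𝒜 hf e M) (n : ℕ) :
    cf 𝒜 hf e (s • x) n = if d ≤ n then eps 𝒜 hf e s • cf 𝒜 hf e x (n - d) else 0 := by
  rw [smul_def', theta_of_mem 𝒜 hf e hs, eps_of_mem 𝒜 hf e hs]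
  exact PolynomialModule.monomial_smul_apply d _ _ n

theorem smul_sg_of_mem {d : ℕ} {s : S} (hs : s ∈ 𝒜 d) (k : ℕ) (m : M) :
    s • sg 𝒜 hf e k m = sg 𝒜 hf e (d + k) (eps 𝒜 hf e s • m) := by
  rw [smul_def', theta_of_mem 𝒜 hf e hs, eps_of_mem 𝒜 hf e hs]
  exact PolynomialModule.monomial_smul_single d _ k m

/-- the evaluation-at-one map -/
noncomputable def ev (x : Amb 𝒜 hf e M) : M := PolynomialModule.eval (1 : R') (M := M) x

theorem ev_add (x y : Amb 𝒜 hf e M) : ev 𝒜 hf e (x + y) = ev 𝒜 hf e x + ev 𝒜 hf e y :=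
  map_add (PolynomialModule.eval (1 : R') (M := M)) _ _

theorem ev_smul (s : S) (x : Amb 𝒜 hf e M) : ev 𝒜 hf e (s • x) = eps 𝒜 hf e s • ev 𝒜 hf e x := by
  unfold ev
  rw [smul_def', PolynomialModule.eval_smul]
  rfl

theorem ev_sg (k : ℕ) (m : M) : ev 𝒜 hf e (sg 𝒜 hf e k m) = m := by
  unfold ev sg
  rw [PolynomialModule.eval_single, one_pow, one_smul]

theorem eq_sg_of_supp {k : ℕ} {x : Amb 𝒜 hf e M} (hx : ∀ j, j ≠ k → cf 𝒜 hf e x j = 0) :
    x = sg 𝒜 hf e k (cf 𝒜 hf e x k) := by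
  apply ext_cf
  intro n
  rw [cf_sg]
  split_ifs with h
  · rw [h]
  · exact hx n (Ne.symm h)

variable (G : Set M)

/-- The graded submodule generated in degree `0` by `G`. -/
noncomputable def Nsub : Submodule S (Amb 𝒜 hf e M) := Submodule.span S (sg 𝒜 hf e 0 '' G)

theorem sg_cf_mem {x : Amb 𝒜 hf e M} (hx : x ∈ Nsub 𝒜 hf e G) (k : ℕ) :
    sg 𝒜 hf e k (cf 𝒜 hf e x k) ∈ Nsub 𝒜 hf e G := by
  induction hx using Submodule.span_induction generalizing k with
  | mem x hx =>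
    obtain ⟨m, hm, rfl⟩ := hx
    rw [cf_sg]
    split_ifs with h
    · subst h
      exact Submodule.subset_span ⟨m, hm, rfl⟩
    · rw [sg_zero]; exact zero_mem _
  | zero => rw [cf_zero, sg_zero]; exact zero_mem _
  | add x y _ _ hx hy => rw [cf_add, sg_add]; exact add_mem (hx k) (hy k)
  | smul s x hx' hx =>
    induction s using DirectSum.Decomposition.inductionOn 𝒜 with
    | zero => rw [zero_smul, cf_zero, sg_zero]; exact zero_mem _
    | @homogeneous d s =>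
      rw [cf_smul_of_mem 𝒜 hf e s.2]
      split_ifs with h
      · have : sg 𝒜 hf e k (eps 𝒜 hf e (s : S) • cf 𝒜 hf e x (k - d)) =
            (s : S) • sg 𝒜 hf e (k - d) (cf 𝒜 hf e x (k - d)) := by
          rw [smul_sg_of_mem 𝒜 hf e s.2, Nat.add_sub_cancel' h]
        rw [this]
        exact Submodule.smul_mem _ _ (hx (k - d))
      · rw [sg_zero]; exact zero_mem _
    | add s t hs ht =>
      rw [add_smul, cf_add, sg_add]
      exact add_mem hs ht

end Ambient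


section Graded

variable {M : Type u} [AddCommGroup M] [Module R' M] (G : Set M)

/-- The module `N`. -/
abbrev NT : Type u := ↥(Nsub 𝒜 hf e G)

/-- coefficient as an additive map -/
def cfHom (n : ℕ) : Amb 𝒜 hf e M →+ M where
  toFun x := cf 𝒜 hf e x n
  map_zero' := rfl
  map_add' _ _ := rfl

theorem cf_sum {ι : Type*} (t : Finset ι) (g : ι → Amb 𝒜 hf e M) (n : ℕ) :
    cf 𝒜 hf e (∑ i ∈ t, g i) n = ∑ i ∈ t, cf 𝒜 hf e (g i) n :=
  map_sum (cfHom 𝒜 hf e n) g t

theorem eq_sum_sg (x : Amb 𝒜 hf e M) :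
    x = ∑ k ∈ (PolynomialModule.coeff (R := R') (M := M) x).support,
      sg 𝒜 hf e k (cf 𝒜 hf e x k) := by
  apply ext_cf
  intro n
  rw [cf_sum]
  simp only [cf_sg]
  rw [Finset.sum_ite_eq']
  split_ifs with h
  · rfl
  · exact Finsupp.notMem_support_iff.mp h

theorem cf_smulR (r : R) (x : Amb 𝒜 hf e M) (n : ℕ) :
    cf 𝒜 hf e (r • x) n = eps 𝒜 hf e (algebraMap R S r) • cf 𝒜 hf e x n := by
  have h0 : algebraMap R S r ∈ 𝒜 0 := SetLike.algebraMap_mem_graded 𝒜 r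
  have : r • x = algebraMap R S r • x := rfl
  rw [this, cf_smul_of_mem 𝒜 hf e h0, if_pos (Nat.zero_le _), Nat.sub_zero]

/-- graded pieces of `N` -/
def gr (k : ℕ) : Submodule R (NT 𝒜 hf e G) where
  carrier := {n | ∀ j, j ≠ k → cf 𝒜 hf e n.1 j = 0}
  zero_mem' := fun _ _ => rfl
  add_mem' := fun {a b} ha hb j hj => by
    change cf 𝒜 hf e (a.1 + b.1) j = 0
    rw [cf_add, ha j hj, hb j hj, add_zero]
  smul_mem' := fun r a ha j hj => by
    change cf 𝒜 hf e (r • a.1) j = 0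
    rw [cf_smulR, ha j hj, smul_zero]

theorem mem_gr {k : ℕ} {n : NT 𝒜 hf e G} :
    n ∈ gr 𝒜 hf e G k ↔ ∀ j, j ≠ k → cf 𝒜 hf e n.1 j = 0 := Iff.rfl

theorem gr_indep : iSupIndep (gr 𝒜 hf e G) := by
  rw [iSupIndep_def]
  intro i
  rw [Submodule.disjoint_def]
  intro x hx hx'
  have h0 : cf 𝒜 hf e x.1 i = 0 := by
    refine Submodule.iSup_induction _ (motive := fun y => cf 𝒜 hf e y.1 i = 0) hx' ?_ ?_ ?_
    · intro j y hy
      by_cases hj : j = i
      · subst hj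
        simp only [ne_eq, not_true_eq_false, iSup_false, Submodule.mem_bot] at hy
        rw [hy]; rfl
      · rw [iSup_pos hj] at hy
        exact hy i (Ne.symm hj)
    · rfl
    · intro y z hy hz
      change cf 𝒜 hf e (y.1 + z.1) i = 0
      rw [cf_add, hy, hz, add_zero]
  apply Subtype.ext
  apply ext_cf
  intro n
  by_cases h : n = i
  · subst h; exact h0
  · exact hx n h

theorem gr_iSup : iSup (gr 𝒜 hf e G) = ⊤ := by
  rw [eq_top_iff]
  intro n _
  have h1 : n = ∑ k ∈ (PolynomialModule.coeff (R := R') (M := M) n.1).support,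
      (⟨sg 𝒜 hf e k (cf 𝒜 hf e n.1 k), sg_cf_mem 𝒜 hf e G n.2 k⟩ : NT 𝒜 hf e G) := by
    apply Subtype.ext
    rw [Submodule.coe_sum]
    exact eq_sum_sg 𝒜 hf e n.1
  rw [h1]
  refine Submodule.sum_mem _ fun k _ => Submodule.mem_iSup_of_mem k ?_
  intro j hj
  change cf 𝒜 hf e (sg 𝒜 hf e k _) j = 0
  rw [cf_sg, if_neg (Ne.symm hj)]

theorem gr_isInternal : DirectSum.IsInternal (gr 𝒜 hf e G) :=
  (DirectSum.isInternal_submodule_iff_iSupIndep_and_iSup_eq_top _).mpr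
    ⟨gr_indep 𝒜 hf e G, gr_iSup 𝒜 hf e G⟩

theorem gr_gradedSMul : SetLike.GradedSMul 𝒜 (gr 𝒜 hf e G) where
  smul_mem := by
    intro i j a n ha hn l hl
    change cf 𝒜 hf e (a • n.1) l = 0
    rw [cf_smul_of_mem 𝒜 hf e ha]
    split_ifs with h
    · have : l - i ≠ j := by
        intro h'
        apply hl
        change l = i + j
        omega
      rw [hn _ this, smul_zero]
    · rfl

theorem finite_NT (hG : G.Finite) : Module.Finite S (NT 𝒜 hf e G) :=
  Module.Finite.span_of_finite S (hG.image _)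

theorem sg_mem (m : M) (hm : m ∈ G) : sg 𝒜 hf e 0 m ∈ Nsub 𝒜 hf e G :=
  Submodule.subset_span ⟨m, hm, rfl⟩

end Graded


section Loc

variable {M : Type u} [AddCommGroup M] [Module R' M] (G : Set M)

/-- `M` as an `S`-module through `ε`. -/
@[reducible] noncomputable def modSM : Module S M := Module.compHom M (eps 𝒜 hf e)

/-- evaluation as an `S`-linear map `N → M`. -/
noncomputable def evL :
    letI := modSM 𝒜 hf e (M := M)
    NT 𝒜 hf e G →ₗ[S] M :=
  letI := modSM 𝒜 hf e (M := M)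
  { toFun := fun n => ev 𝒜 hf e n.1
    map_add' := fun a b => ev_add 𝒜 hf e a.1 b.1
    map_smul' := fun s a => ev_smul 𝒜 hf e s a.1 }

theorem isUnit_pow (x : Submonoid.powers f) :
    letI := modSM 𝒜 hf e (M := M)
    IsUnit ((algebraMap S (Module.End S M)) x) := by
  letI := modSM 𝒜 hf e (M := M)
  obtain ⟨x, k, rfl⟩ := x
  have : (algebraMap S (Module.End S M)) (f ^ k) = 1 := by
    ext m
    change eps 𝒜 hf e (f ^ k) • m = m
    rw [map_pow, eps_f, one_pow, one_smul]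
  change IsUnit ((algebraMap S (Module.End S M)) (f ^ k))
  rw [this]
  exact isUnit_one

/-- The map `N_f → M`. -/
noncomputable def phi : LocalizedModule (Submonoid.powers f) (NT 𝒜 hf e G) →+ M :=
  letI := modSM 𝒜 hf e (M := M)
  (LocalizedModule.lift (Submonoid.powers f) (evL 𝒜 hf e G) (isUnit_pow 𝒜 hf e)).toAddMonoidHom

theorem phi_mk_one (n : NT 𝒜 hf e G) :
    phi 𝒜 hf e G (LocalizedModule.mk n 1) = ev 𝒜 hf e n.1 := by
  letI := modSM 𝒜 hf e (M := M)
  exact LocalizedModule.lift_mk_one (Submonoid.powers f) (g := evL 𝒜 hf e G)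
    (isUnit_pow 𝒜 hf e) n

theorem phi_smul (s : S) (x : LocalizedModule (Submonoid.powers f) (NT 𝒜 hf e G)) :
    phi 𝒜 hf e G (s • x) = eps 𝒜 hf e s • phi 𝒜 hf e G x := by
  letI := modSM 𝒜 hf e (M := M)
  exact map_smul (LocalizedModule.lift (Submonoid.powers f) (evL 𝒜 hf e G) (isUnit_pow 𝒜 hf e)) s x

theorem phi_pow_smul (k : ℕ) (x : LocalizedModule (Submonoid.powers f) (NT 𝒜 hf e G)) :
    phi 𝒜 hf e G (f ^ k • x) = phi 𝒜 hf e G x := by
  rw [phi_smul, map_pow, eps_f, one_pow, one_smul]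

omit e in
include hf in
theorem pow_mem' (k : ℕ) : f ^ k ∈ 𝒜 k := by
  have := SetLike.pow_mem_graded k hf
  rwa [smul_eq_mul, mul_one] at this

theorem smul_mem_gr {d k : ℕ} {s : S} (hs : s ∈ 𝒜 d) {n : NT 𝒜 hf e G}
    (hn : n ∈ gr 𝒜 hf e G k) : s • n ∈ gr 𝒜 hf e G (d + k) :=
  (gr_gradedSMul 𝒜 hf e G).smul_mem hs hn

/-- `N_(f)` -/
def Nf : Submodule R (LocalizedModule (Submonoid.powers f) (NT 𝒜 hf e G)) where
  carrier := {x | ∃ k : ℕ, ∃ n ∈ gr 𝒜 hf e G k, f ^ k • x = LocalizedModule.mk n 1}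
  zero_mem' := ⟨0, 0, zero_mem _, by rw [smul_zero, LocalizedModule.zero_mk]⟩
  add_mem' := by
    rintro x y ⟨k, n, hn, hx⟩ ⟨l, n', hn', hy⟩
    refine ⟨l + k, f ^ l • n + f ^ k • n', add_mem (smul_mem_gr 𝒜 hf e G (pow_mem' 𝒜 hf l) hn)
      (by rw [add_comm l k]; exact smul_mem_gr 𝒜 hf e G (pow_mem' 𝒜 hf k) hn'), ?_⟩
    have h1 : f ^ (l + k) • x = LocalizedModule.mk (f ^ l • n) 1 := by
      rw [pow_add, mul_smul, hx, LocalizedModule.smul'_mk]
    have h2 : f ^ (l + k) • y = LocalizedModule.mk (f ^ k • n') 1 := by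
      rw [pow_add, mul_comm, mul_smul, hy, LocalizedModule.smul'_mk]
    rw [smul_add, h1, h2, LocalizedModule.mk_add_mk, one_smul, one_smul, one_mul]
  smul_mem' := by
    rintro r x ⟨k, n, hn, hx⟩
    refine ⟨k, r • n, Submodule.smul_mem _ r hn, ?_⟩
    rw [smul_comm, hx, LocalizedModule.smul'_mk]

theorem mem_Nf {x : LocalizedModule (Submonoid.powers f) (NT 𝒜 hf e G)} :
    x ∈ Nf 𝒜 hf e G ↔ ∃ k : ℕ, ∃ n ∈ gr 𝒜 hf e G k, f ^ k • x = LocalizedModule.mk n 1 := Iff.rfl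

theorem phi_of_witness {x : LocalizedModule (Submonoid.powers f) (NT 𝒜 hf e G)} {k : ℕ}
    {n : NT 𝒜 hf e G} (hx : f ^ k • x = LocalizedModule.mk n 1) :
    phi 𝒜 hf e G x = ev 𝒜 hf e n.1 := by
  rw [← phi_pow_smul 𝒜 hf e G k x, hx, phi_mk_one]

theorem away_smul (d : ℕ) (s : S) (hs : s ∈ 𝒜 d)
    (z : LocalizedModule (Submonoid.powers f) (NT 𝒜 hf e G)) :
    f ^ d • ((Away.mk 𝒜 hf d s (mem_smul_one 𝒜 hs)).val • z) = s • z := by
  rw [Away.val_mk]
  induction z using LocalizedModule.induction_on with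
  | h m t =>
    rw [LocalizedModule.mk_smul_mk, LocalizedModule.smul'_mk, LocalizedModule.smul'_mk]
    have : f ^ d • s • m = (⟨f ^ d, d, rfl⟩ : Submonoid.powers f) • (s • m) := rfl
    rw [this, LocalizedModule.mk_cancel_common_left]

theorem away_smul_witness {x : LocalizedModule (Submonoid.powers f) (NT 𝒜 hf e G)} {k : ℕ}
    {n : NT 𝒜 hf e G} (hx : f ^ k • x = LocalizedModule.mk n 1)
    (d : ℕ) (s : S) (hs : s ∈ 𝒜 d) :
    f ^ (d + k) • ((Away.mk 𝒜 hf d s (mem_smul_one 𝒜 hs)).val • x) =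
      LocalizedModule.mk (s • n) 1 := by
  rw [pow_add, mul_smul, smul_comm (f ^ k), hx, away_smul 𝒜 hf e G d s hs, LocalizedModule.smul'_mk]

theorem away_smul_mem (a : HomogeneousLocalization.Away 𝒜 f)
    {x : LocalizedModule (Submonoid.powers f) (NT 𝒜 hf e G)} (hx : x ∈ Nf 𝒜 hf e G) :
    a.val • x ∈ Nf 𝒜 hf e G := by
  obtain ⟨d, s, hs, rfl⟩ := Away.mk_surjective 𝒜 hf a
  obtain ⟨k, n, hn, hx⟩ := hx
  have hs' : s ∈ 𝒜 d := by rwa [smul_eq_mul, mul_one] at hs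
  exact ⟨d + k, s • n, smul_mem_gr 𝒜 hf e G hs' hn, away_smul_witness 𝒜 hf e G hx d s hs'⟩

theorem phi_away_smul (a : HomogeneousLocalization.Away 𝒜 f)
    {x : LocalizedModule (Submonoid.powers f) (NT 𝒜 hf e G)} (hx : x ∈ Nf 𝒜 hf e G) :
    phi 𝒜 hf e G (a.val • x) = e a • phi 𝒜 hf e G x := by
  obtain ⟨d, s, hs, rfl⟩ := Away.mk_surjective 𝒜 hf a
  obtain ⟨k, n, hn, hx⟩ := hx
  have hs' : s ∈ 𝒜 d := by rwa [smul_eq_mul, mul_one] at hs
  rw [phi_of_witness 𝒜 hf e G (away_smul_witness 𝒜 hf e G hx d s hs'),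
    phi_of_witness 𝒜 hf e G hx]
  change ev 𝒜 hf e (s • n.1) = _
  rw [ev_smul, eps_of_mem 𝒜 hf e hs']

theorem phi_injOn {x : LocalizedModule (Submonoid.powers f) (NT 𝒜 hf e G)}
    (hx : x ∈ Nf 𝒜 hf e G) (h0 : phi 𝒜 hf e G x = 0) : x = 0 := by
  obtain ⟨k, n, hn, hx⟩ := hx
  rw [phi_of_witness 𝒜 hf e G hx] at h0
  have h1 : n.1 = sg 𝒜 hf e k (cf 𝒜 hf e n.1 k) := eq_sg_of_supp 𝒜 hf e hn
  rw [h1, ev_sg] at h0
  have h2 : n = 0 := by
    apply Subtype.ext
    rw [h1, h0, sg_zero]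
    rfl
  rw [h2, LocalizedModule.zero_mk] at hx
  exact LocalizedModule.eq_zero_of_smul_eq_zero (f ^ k) ((Submonoid.mem_powers_iff _ _).mpr ⟨k, rfl⟩) x hx

theorem phi_gen (m : M) (hm : m ∈ G) :
    phi 𝒜 hf e G (LocalizedModule.mk ⟨sg 𝒜 hf e 0 m, sg_mem 𝒜 hf e G m hm⟩ 1) = m := by
  rw [phi_mk_one, ev_sg]

theorem gen_mem_Nf (m : M) (hm : m ∈ G) :
    (LocalizedModule.mk ⟨sg 𝒜 hf e 0 m, sg_mem 𝒜 hf e G m hm⟩ 1 :
      LocalizedModule (Submonoid.powers f) (NT 𝒜 hf e G)) ∈ Nf 𝒜 hf e G := by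
  refine ⟨0, _, ?_, by rw [pow_zero, one_smul]⟩
  intro j hj
  change cf 𝒜 hf e (sg 𝒜 hf e 0 m) j = 0
  rw [cf_sg, if_neg (Ne.symm hj)]

theorem phi_surjOn (hG : Submodule.span R' G = ⊤) (m : M) :
    ∃ x ∈ Nf 𝒜 hf e G, phi 𝒜 hf e G x = m := by
  have hm : m ∈ Submodule.span R' G := by rw [hG]; trivial
  induction hm using Submodule.span_induction with
  | mem m hm => exact ⟨_, gen_mem_Nf 𝒜 hf e G m hm, phi_gen 𝒜 hf e G m hm⟩
  | zero => exact ⟨0, zero_mem _, map_zero _⟩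
  | add a b _ _ ha hb =>
    obtain ⟨x, hx, rfl⟩ := ha
    obtain ⟨y, hy, rfl⟩ := hb
    exact ⟨x + y, add_mem hx hy, map_add _ _ _⟩
  | smul r a _ ha =>
    obtain ⟨x, hx, rfl⟩ := ha
    refine ⟨(e.symm r).val • x, away_smul_mem 𝒜 hf e G _ hx, ?_⟩
    rw [phi_away_smul 𝒜 hf e G _ hx, RingEquiv.apply_symm_apply]

end Loc


section Main

variable {M : Type u} [AddCommGroup M] [Module R' M] [Module R M] [IsScalarTower R R' M]
  (G : Set M)
  (he : ∀ r : R, (e.symm (algebraMap R R' r)).val =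
    algebraMap S (Localization.Away f) (algebraMap R S r))

include he in
theorem phi_smulR (r : R) (x : LocalizedModule (Submonoid.powers f) (NT 𝒜 hf e G)) :
    phi 𝒜 hf e G (r • x) = r • phi 𝒜 hf e G x := by
  have h1 : r • x = algebraMap R S r • x := by
    induction x using LocalizedModule.induction_on with
    | h m t => rw [LocalizedModule.smul'_mk, LocalizedModule.smul'_mk, algebraMap_smul]
  rw [h1, phi_smul, eps_algebraMap 𝒜 hf e he, algebraMap_smul]

/-- `φ` restricted to `N_(f)`, as an `R`-linear map. -/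
noncomputable def phiL : ↥(Nf 𝒜 hf e G) →ₗ[R] M where
  toFun x := phi 𝒜 hf e G x.1
  map_add' x y := map_add (phi 𝒜 hf e G) x.1 y.1
  map_smul' r x := phi_smulR 𝒜 hf e G he r x.1

theorem phiL_bijective (hG : Submodule.span R' G = ⊤) :
    Function.Bijective (phiL 𝒜 hf e G he) := by
  constructor
  · rw [injective_iff_map_eq_zero]
    intro x hx
    exact Subtype.ext (phi_injOn 𝒜 hf e G x.2 hx)
  · intro m
    obtain ⟨x, hx, rfl⟩ := phi_surjOn 𝒜 hf e G hG m
    exact ⟨⟨x, hx⟩, rfl⟩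

include hf he in
theorem main [Module.Finite R' M] :
    ∃ (N : Type u) (_ : AddCommGroup N) (_ : Module S N) (_ : Module R N) (_ : IsScalarTower R S N)
      (ℳ : ℕ → Submodule R N) (_ : DirectSum.Decomposition ℳ) (_ : SetLike.GradedSMul 𝒜 ℳ)
      (Nf : Submodule R (LocalizedModule (Submonoid.powers f) N)) (e' : ↥Nf ≃ₗ[R] M),
      Module.Finite S N ∧
      (∀ x, x ∈ Nf ↔ ∃ k : ℕ, ∃ n ∈ ℳ k, f ^ k • x = LocalizedModule.mk n 1) ∧
      (∀ (a : HomogeneousLocalization.Away 𝒜 f) (x y : ↥Nf),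
        a.val • (x : LocalizedModule (Submonoid.powers f) N) = y → e' y = e a • e' x) := by
  classical
  obtain ⟨G, hG⟩ := (Module.Finite.fg_top : (⊤ : Submodule R' M).FG)
  refine ⟨NT 𝒜 hf e (G : Set M), inferInstance, inferInstance, inferInstance, inferInstance,
    gr 𝒜 hf e (G : Set M), (gr_isInternal 𝒜 hf e (G : Set M)).chooseDecomposition,
    gr_gradedSMul 𝒜 hf e (G : Set M), Nf 𝒜 hf e (G : Set M),
    LinearEquiv.ofBijective (phiL 𝒜 hf e (G : Set M) he) (phiL_bijective 𝒜 hf e (G : Set M) he hG),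
    finite_NT 𝒜 hf e (G : Set M) G.finite_toSet, fun x => Iff.rfl, ?_⟩
  intro a x y hxy
  change phi 𝒜 hf e (G : Set M) y.1 = e a • phi 𝒜 hf e (G : Set M) x.1
  rw [← hxy]
  exact phi_away_smul 𝒜 hf e (G : Set M) a x.2

end Main

end Groth.Agent.Lib.Helper11.GrModAway
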