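import Mathlib

/-!
# GrassAlg: the Grassmannian functor and a surjection of modules (helper11)
-/

set_option autoImplicit false
universe u

open TensorProduct Module
open scoped Module.Grassmannian

namespace Groth.Agent.Lib.Helper11.GrassAlg

variable {R : Type u} [CommRing R] {M₁ M₂ : Type u} [AddCommGroup M₁] [Module R M₁]
  [AddCommGroup M₂] [Module R M₂] (v : M₁ →ₗ[R] M₂) (hv : Function.Surjective v) {k : ℕ}

section

variable (A : Type u) [CommRing A] [Algebra R A]

/-- the quotient by a preimage under a surjection -/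
noncomputable def quotEquiv (N₂ : Submodule A (A ⊗[R] M₂)) :
    ((A ⊗[R] M₁) ⧸ N₂.comap (v.baseChange A)) ≃ₗ[A] ((A ⊗[R] M₂) ⧸ N₂) :=
  have hf : Function.Surjective (N₂.mkQ ∘ₗ v.baseChange A) :=
    (Submodule.mkQ_surjective N₂).comp (LinearMap.baseChange_surjective A hv)
  have hk : LinearMap.ker (N₂.mkQ ∘ₗ v.baseChange A) = N₂.comap (v.baseChange A) := by
    rw [LinearMap.ker_comp, Submodule.ker_mkQ]
  (Submodule.quotEquivOfEq _ _ hk.symm).trans
    ((N₂.mkQ ∘ₗ v.baseChange A).quotKerEquivOfSurjective hf)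

theorem quotEquiv_mk (N₂ : Submodule A (A ⊗[R] M₂)) (x : A ⊗[R] M₁) :
    quotEquiv v hv A N₂ (Submodule.Quotient.mk x) = Submodule.Quotient.mk (v.baseChange A x) := by
  rfl

/-- preimage of a point of the Grassmannian of `M₂` -/
noncomputable def comapGr (N : G(k, A ⊗[R] M₂; A)) : G(k, A ⊗[R] M₁; A) where
  toSubmodule := N.toSubmodule.comap (v.baseChange A)
  finite_quotient := Module.Finite.equiv (quotEquiv v hv A N.toSubmodule).symm
  projective_quotient := Module.Projective.of_equiv (quotEquiv v hv A N.toSubmodule).symm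
  rankAtStalk_eq p := by
    rw [Module.rankAtStalk_eq_of_equiv (quotEquiv v hv A N.toSubmodule)]
    exact N.rankAtStalk_eq p

theorem comapGr_toSubmodule (N : G(k, A ⊗[R] M₂; A)) :
    (comapGr v hv A N).toSubmodule = N.toSubmodule.comap (v.baseChange A) := rfl

theorem comapGr_injective : Function.Injective (comapGr (k := k) v hv A) := by
  intro N N' h
  apply Grassmannian.ext
  apply Submodule.comap_injective_of_surjective (LinearMap.baseChange_surjective A hv)
  exact congrArg Grassmannian.toSubmodule h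

/-- a submodule of `A ⊗ M₂` whose preimage is a point of the Grassmannian of `M₁` -/
noncomputable def ofComap (N' : G(k, A ⊗[R] M₁; A)) (N₂ : Submodule A (A ⊗[R] M₂))
    (h : N₂.comap (v.baseChange A) = N'.toSubmodule) : G(k, A ⊗[R] M₂; A) where
  toSubmodule := N₂
  finite_quotient := Module.Finite.equiv
    ((Submodule.quotEquivOfEq _ _ h.symm).trans (quotEquiv v hv A N₂))
  projective_quotient := Module.Projective.of_equiv
    ((Submodule.quotEquivOfEq _ _ h.symm).trans (quotEquiv v hv A N₂))
  rankAtStalk_eq p := by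
    rw [← Module.rankAtStalk_eq_of_equiv
      ((Submodule.quotEquivOfEq _ _ h.symm).trans (quotEquiv v hv A N₂))]
    exact N'.rankAtStalk_eq p

theorem comapGr_ofComap (N' : G(k, A ⊗[R] M₁; A)) (N₂ : Submodule A (A ⊗[R] M₂))
    (h : N₂.comap (v.baseChange A) = N'.toSubmodule) :
    comapGr v hv A (ofComap v hv A N' N₂ h) = N' :=
  Grassmannian.ext h

end

section

open AlgebraTensorModule

variable {A B : Type u} [CommRing A] [Algebra R A] [CommRing B] [Algebra R B]

/-- naturality of `comapGr` -/
theorem map_comapGr (f : A →ₐ[R] B) (N : G(k, A ⊗[R] M₂; A)) :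
    Grassmannian.map f (comapGr v hv A N) = comapGr v hv B (Grassmannian.map f N) := by
  letI : Algebra A B := f.toAlgebra
  letI : IsScalarTower R A B :=
    IsScalarTower.of_algebraMap_eq' <| IsScalarTower.algebraMap_eq R A B
  apply Grassmannian.ext
  rw [comapGr_toSubmodule]
  show LinearMap.ker (Grassmannian.baseChangeMkQ B (N.toSubmodule.comap (v.baseChange A))) =
    (LinearMap.ker (Grassmannian.baseChangeMkQ B N.toSubmodule)).comap (v.baseChange B)
  have hcomp : ((quotEquiv v hv A N.toSubmodule).baseChange A B).toLinearMap ∘ₗ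
      Grassmannian.baseChangeMkQ B (N.toSubmodule.comap (v.baseChange A)) =
      Grassmannian.baseChangeMkQ B N.toSubmodule ∘ₗ v.baseChange B := by
    apply LinearMap.ext
    intro z
    induction z using TensorProduct.induction_on with
    | zero => simp
    | tmul c m =>
      simp only [Grassmannian.baseChangeMkQ, LinearMap.comp_apply, cancelBaseChange_symm_tmul,
        LinearMap.baseChange_tmul, Submodule.mkQ_apply, LinearEquiv.coe_coe,
        LinearEquiv.baseChange_tmul]
      rw [quotEquiv_mk, LinearMap.baseChange_tmul]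
    | add x y hx hy =>
      simp only [map_add] at *
      rw [hx, hy]
  rw [← LinearMap.ker_comp, ← hcomp, LinearEquiv.ker_comp]

/-- the ideal over which the kernel of `v` dies in the quotient -/
def Iof (N₁ : G(k, A ⊗[R] M₁; A)) : Ideal A :=
  Ideal.span {a | ∃ (m : M₁) (_ : v m = 0)
    (l : ((A ⊗[R] M₁) ⧸ N₁.toSubmodule) →ₗ[A] A), a = l (N₁.toSubmodule.mkQ (1 ⊗ₜ m))}

include hv in
theorem ker_baseChange_le_iff (P : Submodule B (B ⊗[R] M₁)) :
    LinearMap.ker (v.baseChange B) ≤ P ↔ ∀ m : M₁, v m = 0 → (1 : B) ⊗ₜ[R] m ∈ P := by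
  constructor
  · intro h m hm
    apply h
    rw [LinearMap.mem_ker, LinearMap.baseChange_tmul, hm, TensorProduct.tmul_zero]
  · intro h x hx
    have hex := lTensor_exact B (LinearMap.exact_subtype_ker_map v) hv
    have hx' : (LinearMap.lTensor B v) x = 0 := by
      rw [← LinearMap.baseChange_eq_ltensor]; exact hx
    obtain ⟨y, rfl⟩ := (hex x).mp hx'
    have key : ∀ y : B ⊗[R] (LinearMap.ker v),
        (LinearMap.lTensor B (LinearMap.ker v).subtype) y ∈ P := by
      intro y
      induction y using TensorProduct.induction_on with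
      | zero => simp
      | tmul b κ =>
        have h1 : (LinearMap.lTensor B (LinearMap.ker v).subtype) (b ⊗ₜ κ) =
            b • ((1 : B) ⊗ₜ[R] (κ : M₁)) := by
          rw [LinearMap.lTensor_tmul, TensorProduct.smul_tmul', smul_eq_mul, mul_one]
          rfl
        rw [h1]
        exact P.smul_mem b (h κ.1 κ.2)
      | add x y hx hy =>
        rw [map_add]
        exact P.add_mem hx hy
    exact key y

end

section

/-- vanishing of `1 ⊗ q` in a base change of a finite projective module, tested on the dual -/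
theorem one_tmul_eq_zero_iff {A B Q : Type u} [CommRing A] [CommRing B] [Algebra A B]
    [AddCommGroup Q] [Module A Q] [Module.Finite A Q] [Module.Projective A Q] (q : Q) :
    (1 : B) ⊗ₜ[A] q = 0 ↔ ∀ l : Q →ₗ[A] A, algebraMap A B (l q) = 0 := by
  constructor
  · intro h l
    have h1 : (TensorProduct.rid A B) ((l.baseChange B) ((1 : B) ⊗ₜ[A] q)) = 0 := by
      rw [h, map_zero, map_zero]
    rw [LinearMap.baseChange_tmul, TensorProduct.rid_tmul] at h1
    rw [Algebra.algebraMap_eq_smul_one]
    exact h1
  · intro h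
    obtain ⟨n, s, i, -, -, hsi⟩ := Module.Finite.exists_comp_eq_id_of_projective A Q
    have hq : q = ∑ j : Fin n, (i q j) • s (Pi.single j 1) := by
      have h1 : q = s (i q) := by
        have := LinearMap.congr_fun hsi q
        simpa using this.symm
      have h2 : i q = ∑ j : Fin n, (i q j) • (Pi.single j (1 : A) : Fin n → A) := by
        funext j'
        simp [Finset.sum_apply, Pi.single_apply]
      calc q = s (i q) := h1
        _ = s (∑ j : Fin n, (i q j) • (Pi.single j (1 : A) : Fin n → A)) := by rw [← h2]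
        _ = _ := by rw [map_sum]; simp only [map_smul]
    rw [hq, TensorProduct.tmul_sum]
    apply Finset.sum_eq_zero
    intro j _
    have hj : algebraMap A B (i q j) = 0 := h ((LinearMap.proj j) ∘ₗ i)
    rw [← TensorProduct.smul_tmul, Algebra.smul_def, hj, zero_mul, TensorProduct.zero_tmul]

variable {A B : Type u} [CommRing A] [Algebra R A] [CommRing B] [Algebra R B]

include hv in
/-- the key algebraic fact: the base change of `N₁` along `f` contains the kernel of `v` iff
`f` kills the ideal `Iof v N₁`. -/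
theorem ker_le_map_iff (f : A →ₐ[R] B) (N₁ : G(k, A ⊗[R] M₁; A)) :
    LinearMap.ker (v.baseChange B) ≤ (Grassmannian.map f N₁).toSubmodule ↔
      Iof v N₁ ≤ RingHom.ker f.toRingHom := by
  letI : Algebra A B := f.toAlgebra
  letI : IsScalarTower R A B :=
    IsScalarTower.of_algebraMap_eq' <| IsScalarTower.algebraMap_eq R A B
  rw [ker_baseChange_le_iff v hv]
  have hmem : ∀ m : M₁, ((1 : B) ⊗ₜ[R] m ∈ (Grassmannian.map f N₁).toSubmodule) ↔
      (1 : B) ⊗ₜ[A] (N₁.toSubmodule.mkQ ((1 : A) ⊗ₜ[R] m)) = 0 := by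
    intro m
    show (1 : B) ⊗ₜ[R] m ∈ LinearMap.ker (Grassmannian.baseChangeMkQ B N₁.toSubmodule) ↔ _
    rw [LinearMap.mem_ker]
    have : Grassmannian.baseChangeMkQ B N₁.toSubmodule ((1 : B) ⊗ₜ[R] m) =
        (1 : B) ⊗ₜ[A] (N₁.toSubmodule.mkQ ((1 : A) ⊗ₜ[R] m)) := by
      simp [Grassmannian.baseChangeMkQ, AlgebraTensorModule.cancelBaseChange_symm_tmul,
        LinearMap.baseChange_tmul]
    rw [this]
  constructor
  · intro h
    unfold Iof
    rw [Ideal.span_le]
    rintro a ⟨m, hm, l, rfl⟩
    have h1 := (hmem m).mp (h m hm)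
    exact (one_tmul_eq_zero_iff (B := B) _).mp h1 l
  · intro h m hm
    rw [hmem m, one_tmul_eq_zero_iff]
    intro l
    have : l (N₁.toSubmodule.mkQ ((1 : A) ⊗ₜ[R] m)) ∈ Iof v N₁ :=
      Ideal.subset_span ⟨m, hm, l, rfl⟩
    exact h this

end

end Groth.Agent.Lib.Helper11.GrassAlg
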