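import Mathlib
import Groth.Agent.Lib.Helper11.GrassAlg

/-!
# GrassSch: a surjection of modules induces a closed immersion of Grassmannians (helper11)
-/

set_option autoImplicit false
universe u

open AlgebraicGeometry CategoryTheory TensorProduct Module Limits
open scoped Module.Grassmannian

namespace Groth.Agent.Lib.Helper11.GrassSch

open Groth.Agent.Lib.Helper11.GrassAlg

variable {R : Type u} [CommRing R]

/-- the point object -/
noncomputable abbrev pt (A : CommAlgCat.{u} R) : Over (Spec (CommRingCat.of R)) :=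
  Over.mk (Spec.map (CommRingCat.ofHom (algebraMap R A)))

/-- functoriality of the point object -/
noncomputable def ptMap {A B : CommAlgCat.{u} R} (φ : A ⟶ B) : pt B ⟶ pt A :=
  Over.homMk (Spec.map (CommRingCat.ofHom φ.hom.toRingHom)) (by
    show Spec.map (CommRingCat.ofHom φ.hom.toRingHom) ≫
      Spec.map (CommRingCat.ofHom (algebraMap R A)) = Spec.map (CommRingCat.ofHom (algebraMap R B))
    rw [← Spec.map_comp, ← CommRingCat.ofHom_comp]
    congr 2
    exact φ.hom.comp_algebraMap)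

theorem ptMap_left {A B : CommAlgCat.{u} R} (φ : A ⟶ B) :
    (ptMap φ).left = Spec.map (CommRingCat.ofHom φ.hom.toRingHom) := rfl

/-- an affine scheme over `Spec R` as an `R`-algebra -/
noncomputable def APt (R' : CommRingCat.{u}) (t : Spec R' ⟶ Spec (CommRingCat.of R)) :
    CommAlgCat.{u} R :=
  letI : Algebra R R' := (Spec.preimage t).hom.toAlgebra
  CommAlgCat.of R R'

theorem pt_hom_eq (R' : CommRingCat.{u}) (t : Spec R' ⟶ Spec (CommRingCat.of R)) :
    (pt (APt R' t)).hom = t := by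
  show Spec.map (Spec.preimage t) = t
  exact Spec.map_preimage t

/-- an affine point as a morphism from a point object -/
noncomputable def mkPt (X : Over (Spec (CommRingCat.of R))) {R' : CommRingCat.{u}}
    (h : Spec R' ⟶ X.left) : pt (APt R' (h ≫ X.hom)) ⟶ X :=
  Over.homMk (show (pt (APt R' (h ≫ X.hom))).left ⟶ X.left from h) (pt_hom_eq R' (h ≫ X.hom)).symm

theorem mkPt_left (X : Over (Spec (CommRingCat.of R))) {R' : CommRingCat.{u}}
    (h : Spec R' ⟶ X.left) : (mkPt X h).left = h := rfl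

/-- the algebra map induced by a morphism of affine schemes into a point object -/
noncomputable def algOf {A : CommAlgCat.{u} R} {R' : CommRingCat.{u}}
    (a : Spec R' ⟶ (pt A).left) (t : Spec R' ⟶ Spec (CommRingCat.of R))
    (ht : a ≫ (pt A).hom = t) : A ⟶ APt R' t :=
  CommAlgCat.ofHom (X := A) (Y := APt R' t)
    ({ toRingHom := ((Spec.preimage a).hom : A →+* (APt R' t))
       commutes' := by
        intro r
        have h1 : Spec.preimage t = CommRingCat.ofHom (algebraMap R A) ≫ Spec.preimage a := by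
          apply Spec.map_injective
          rw [Spec.map_comp, Spec.map_preimage, Spec.map_preimage]
          exact ht.symm
        show (Spec.preimage a).hom (algebraMap R A r) = (Spec.preimage t).hom r
        rw [h1]
        rfl } : A →ₐ[R] (APt R' t))

theorem ptMap_algOf_left {A : CommAlgCat.{u} R} {R' : CommRingCat.{u}}
    (a : Spec R' ⟶ (pt A).left) (t : Spec R' ⟶ Spec (CommRingCat.of R))
    (ht : a ≫ (pt A).hom = t) : (ptMap (algOf a t ht)).left = a := by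
  show Spec.map (Spec.preimage a) = a
  exact Spec.map_preimage a

section Main

variable {M₁ M₂ : Type u} [AddCommGroup M₁] [Module R M₁] [AddCommGroup M₂] [Module R M₂]
  (v : M₁ →ₗ[R] M₂) (hv : Function.Surjective v) {k : ℕ}
  {X₁ X₂ : Over (Spec (CommRingCat.of R))}
  (e₁ : ∀ A : CommAlgCat.{u} R,
    (pt A ⟶ X₁) ≃ (Module.Grassmannian.functor (R := R) (M := M₁) k).obj A)
  (he₁ : ∀ (A B : CommAlgCat.{u} R) (φ : A ⟶ B) (g : pt A ⟶ X₁) (g' : pt B ⟶ X₁),
    g'.left = Spec.map (CommRingCat.ofHom φ.hom.toRingHom) ≫ g.left →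
      e₁ B g' = (Module.Grassmannian.functor (R := R) (M := M₁) k).map φ (e₁ A g))
  (e₂ : ∀ A : CommAlgCat.{u} R,
    (pt A ⟶ X₂) ≃ (Module.Grassmannian.functor (R := R) (M := M₂) k).obj A)
  (he₂ : ∀ (A B : CommAlgCat.{u} R) (φ : A ⟶ B) (g : pt A ⟶ X₂) (g' : pt B ⟶ X₂),
    g'.left = Spec.map (CommRingCat.ofHom φ.hom.toRingHom) ≫ g.left →
      e₂ B g' = (Module.Grassmannian.functor (R := R) (M := M₂) k).map φ (e₂ A g))

/-- the value of the comparison morphism on points -/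
noncomputable def cpt (A : CommAlgCat.{u} R) (g : pt A ⟶ X₂) : pt A ⟶ X₁ :=
  (e₁ A).symm (comapGr v hv A (e₂ A g))

omit he₁ he₂ in
theorem e₁_cpt (A : CommAlgCat.{u} R) (g : pt A ⟶ X₂) :
    e₁ A (cpt v hv e₁ e₂ A g) = comapGr v hv A (e₂ A g) :=
  (e₁ A).apply_symm_apply _

include he₁ he₂ in
/-- naturality of `cpt` -/
theorem cpt_natural {A B : CommAlgCat.{u} R} (φ : A ⟶ B) (g : pt A ⟶ X₂) :
    ptMap φ ≫ cpt v hv e₁ e₂ A g = cpt v hv e₁ e₂ B (ptMap φ ≫ g) := by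
  apply (e₁ B).injective
  rw [he₁ A B φ (cpt v hv e₁ e₂ A g) (ptMap φ ≫ cpt v hv e₁ e₂ A g) rfl, e₁_cpt, e₁_cpt,
    he₂ A B φ g (ptMap φ ≫ g) rfl]
  exact map_comapGr v hv φ.hom (e₂ A g)

/-- the comparison morphism on affine points -/
noncomputable def F (R' : CommRingCat.{u}) (h : Spec R' ⟶ X₂.left) : Spec R' ⟶ X₁.left :=
  (cpt v hv e₁ e₂ (APt R' (h ≫ X₂.hom)) (mkPt X₂ h)).left

include he₁ he₂ in
theorem F_spec {A : CommAlgCat.{u} R} (g : pt A ⟶ X₂) {R' : CommRingCat.{u}}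
    (a : Spec R' ⟶ (pt A).left) (h : Spec R' ⟶ X₂.left) (hh : a ≫ g.left = h) :
    a ≫ (cpt v hv e₁ e₂ A g).left = F v hv e₁ e₂ R' h := by
  subst hh
  have ht : a ≫ (pt A).hom = (a ≫ g.left) ≫ X₂.hom := by
    rw [Category.assoc, Over.w g]
  have h1 : ptMap (algOf a _ ht) ≫ g = mkPt X₂ (a ≫ g.left) := by
    apply Over.OverMorphism.ext
    rw [Over.comp_left, ptMap_algOf_left, mkPt_left]
    rfl
  have h2 := cpt_natural v hv e₁ he₁ e₂ he₂ (algOf a _ ht) g
  rw [h1] at h2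
  unfold F
  rw [← h2, Over.comp_left, ptMap_algOf_left]
  rfl

include he₁ he₂ in
theorem F_natural {R' R'' : CommRingCat.{u}} (a : Spec R' ⟶ Spec R'') (h' : Spec R'' ⟶ X₂.left) :
    a ≫ F v hv e₁ e₂ R'' h' = F v hv e₁ e₂ R' (a ≫ h') :=
  F_spec v hv e₁ he₁ e₂ he₂ (mkPt X₂ h') a (a ≫ h') rfl

omit [CommRing R] in
theorem affine_hom_ext {X Y : Scheme.{u}} (f g : X ⟶ Y)
    (h : ∀ (R' : CommRingCat.{u}) (a : Spec R' ⟶ X), a ≫ f = a ≫ g) : f = g :=
  X.affineOpenCover.openCover.hom_ext _ _ (fun i => h _ (X.affineOpenCover.f i))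

omit [CommRing R] in
/-- gluing a natural transformation on affine points -/
theorem glue_exists {X Y : Scheme.{u}}
    (F : ∀ (R' : CommRingCat.{u}), (Spec R' ⟶ X) → (Spec R' ⟶ Y))
    (hF : ∀ (R' R'' : CommRingCat.{u}) (a : Spec R' ⟶ Spec R'') (h' : Spec R'' ⟶ X),
      a ≫ F R'' h' = F R' (a ≫ h')) :
    ∃ c : X ⟶ Y, ∀ (R' : CommRingCat.{u}) (h : Spec R' ⟶ X), h ≫ c = F R' h := by
  obtain ⟨𝒰, h𝒰⟩ : ∃ 𝒰 : X.OpenCover, 𝒰 = X.affineCover := ⟨_, rfl⟩
  haveI : ∀ i, IsAffine (𝒰.X i) := by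
    subst h𝒰; intro i; infer_instance
  obtain ⟨g, hgdef⟩ : ∃ g : ∀ i, 𝒰.X i ⟶ Y,
      g = fun i => (𝒰.X i).isoSpec.hom ≫ F _ ((𝒰.X i).isoSpec.inv ≫ 𝒰.f i) := ⟨_, rfl⟩
  have hg : ∀ i (R' : CommRingCat.{u}) (a : Spec R' ⟶ 𝒰.X i), a ≫ g i = F R' (a ≫ 𝒰.f i) := by
    intro i R' a
    rw [hgdef]
    show a ≫ (𝒰.X i).isoSpec.hom ≫ F _ ((𝒰.X i).isoSpec.inv ≫ 𝒰.f i) = _
    rw [← Category.assoc, hF, Category.assoc, Iso.hom_inv_id_assoc]
  have compat : ∀ i j, pullback.fst (𝒰.f i) (𝒰.f j) ≫ g i =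
      pullback.snd (𝒰.f i) (𝒰.f j) ≫ g j := by
    intro i j
    apply affine_hom_ext
    intro R' a
    rw [← Category.assoc, ← Category.assoc, hg, hg, Category.assoc, Category.assoc,
      pullback.condition]
  refine ⟨𝒰.glueMorphisms g compat, ?_⟩
  intro R' h
  have key : ∀ (i : 𝒰.I₀), pullback.fst h (𝒰.f i) ≫ h ≫ 𝒰.glueMorphisms g compat =
      pullback.fst h (𝒰.f i) ≫ F R' h := by
    intro i
    apply affine_hom_ext
    intro R'' a
    have h2 : a ≫ pullback.fst h (𝒰.f i) ≫ h ≫ 𝒰.glueMorphisms g compat =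
        (a ≫ pullback.snd h (𝒰.f i)) ≫ g i := by
      rw [← Category.assoc (pullback.fst _ _), pullback.condition, Category.assoc, Category.assoc,
        𝒰.ι_glueMorphisms]
    rw [h2, hg, ← Category.assoc a, hF, Category.assoc, Category.assoc, pullback.condition]
  apply (𝒰.pullback₁ h).hom_ext
  intro i
  exact key i

include he₁ he₂ in
/-- Part 1: existence of the comparison morphism -/
theorem exists_c :
    ∃ c : X₂ ⟶ X₁, ∀ (A : CommAlgCat.{u} R) (g : pt A ⟶ X₂), g ≫ c = cpt v hv e₁ e₂ A g := by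
  obtain ⟨cl, hcl⟩ := glue_exists (F v hv e₁ e₂)
    (fun R' R'' a h' => F_natural v hv e₁ he₁ e₂ he₂ a h')
  have hw : cl ≫ X₁.hom = X₂.hom := by
    apply affine_hom_ext
    intro R' a
    rw [← Category.assoc, hcl]
    unfold F
    exact (Over.w (cpt v hv e₁ e₂ (APt R' (a ≫ X₂.hom)) (mkPt X₂ a))).trans
      (pt_hom_eq R' (a ≫ X₂.hom))
  refine ⟨Over.homMk cl hw, ?_⟩
  intro A g
  apply Over.OverMorphism.ext
  show g.left ≫ cl = _
  rw [hcl]
  have := F_spec v hv e₁ he₁ e₂ he₂ g (𝟙 _) g.left (Category.id_comp _)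
  rw [Category.id_comp] at this
  exact this.symm

omit he₁ he₂ in
theorem affine_inj (c : X₂ ⟶ X₁)
    (hc : ∀ (A : CommAlgCat.{u} R) (g : pt A ⟶ X₂), g ≫ c = cpt v hv e₁ e₂ A g)
    {R' : CommRingCat.{u}} (z₁ z₂ : Spec R' ⟶ X₂.left) (h : z₁ ≫ c.left = z₂ ≫ c.left) :
    z₁ = z₂ := by
  have hw : z₂ ≫ X₂.hom = z₁ ≫ X₂.hom := by
    rw [← Over.w c, ← Category.assoc, ← h, Category.assoc]
  obtain ⟨z₂', hz₂'⟩ : ∃ z₂' : pt (APt R' (z₁ ≫ X₂.hom)) ⟶ X₂, z₂'.left = z₂ :=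
    ⟨Over.homMk (show (pt (APt R' (z₁ ≫ X₂.hom))).left ⟶ X₂.left from z₂)
      (by rw [pt_hom_eq]; exact hw), rfl⟩
  have h1 : mkPt X₂ z₁ ≫ c = z₂' ≫ c := by
    apply Over.OverMorphism.ext
    rw [Over.comp_left, Over.comp_left, hz₂', mkPt_left]
    exact h
  rw [hc, hc] at h1
  unfold cpt at h1
  have h2 := (e₁ _).symm.injective h1
  have h3 := (e₂ _).injective (comapGr_injective v hv _ h2)
  rw [← hz₂', ← h3, mkPt_left]

omit he₁ he₂ in
theorem mono_c (c : X₂ ⟶ X₁)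
    (hc : ∀ (A : CommAlgCat.{u} R) (g : pt A ⟶ X₂), g ≫ c = cpt v hv e₁ e₂ A g) :
    Mono c.left :=
  ⟨fun f g h => affine_hom_ext _ _ (fun R' a => affine_inj v hv e₁ e₂ c hc (a ≫ f) (a ≫ g)
    (by rw [Category.assoc, Category.assoc, h]))⟩

/-- the ideal cutting out `X₂` in an affine chart of `X₁` -/
noncomputable def IA {RA : CommRingCat.{u}} (tA : Spec RA ⟶ X₁.left) : Ideal RA :=
  (Iof v (A := APt RA (tA ≫ X₁.hom)) (e₁ _ (mkPt X₁ tA)) : Ideal (APt RA (tA ≫ X₁.hom)))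

include he₁ in
omit he₂ in
/-- the key lemma: an affine point of the chart lifts to `X₂` iff it kills the ideal -/
theorem lift_iff (c : X₂ ⟶ X₁)
    (hc : ∀ (A : CommAlgCat.{u} R) (g : pt A ⟶ X₂), g ≫ c = cpt v hv e₁ e₂ A g)
    {RA : CommRingCat.{u}} (tA : Spec RA ⟶ X₁.left) {R' : CommRingCat.{u}} (α : RA ⟶ R') :
    (∃ z : Spec R' ⟶ X₂.left, z ≫ c.left = Spec.map α ≫ tA) ↔
      IA v e₁ tA ≤ RingHom.ker α.hom := by
  have ht : (show Spec R' ⟶ (pt (APt RA (tA ≫ X₁.hom))).left from Spec.map α) ≫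
      (pt (APt RA (tA ≫ X₁.hom))).hom = (Spec.map α ≫ tA) ≫ X₁.hom :=
    (congrArg (fun t => Spec.map α ≫ t) (pt_hom_eq RA (tA ≫ X₁.hom))).trans
      (Category.assoc _ _ _).symm
  obtain ⟨φ, hφ⟩ : ∃ φ : APt RA (tA ≫ X₁.hom) ⟶ APt R' ((Spec.map α ≫ tA) ≫ X₁.hom),
      φ = algOf _ _ ht := ⟨_, rfl⟩
  have hφr : φ.hom.toRingHom = α.hom := by
    rw [hφ]
    show (Spec.preimage (Spec.map α)).hom = α.hom
    exact congrArg CommRingCat.Hom.hom (Spec.preimage_map α)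
  have hg : ptMap φ ≫ mkPt X₁ tA = mkPt X₁ (Spec.map α ≫ tA) := by
    apply Over.OverMorphism.ext
    rw [Over.comp_left, hφ, ptMap_algOf_left, mkPt_left, mkPt_left]
    rfl
  have hB : e₁ _ (mkPt X₁ (Spec.map α ≫ tA)) = Grassmannian.map φ.hom (e₁ _ (mkPt X₁ tA)) :=
    he₁ _ _ φ (mkPt X₁ tA) (mkPt X₁ (Spec.map α ≫ tA)) (by rw [← hg]; rfl)
  have hiff := ker_le_map_iff v hv φ.hom (e₁ _ (mkPt X₁ tA))
  rw [hφr] at hiff
  refine Iff.trans ?_ hiff
  constructor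
  · rintro ⟨z, hz⟩
    have hw : z ≫ X₂.hom = (Spec.map α ≫ tA) ≫ X₁.hom := by
      rw [← hz, Category.assoc, Over.w c]
    obtain ⟨z', hz'⟩ : ∃ z' : pt (APt R' ((Spec.map α ≫ tA) ≫ X₁.hom)) ⟶ X₂, z'.left = z :=
      ⟨Over.homMk (show (pt (APt R' ((Spec.map α ≫ tA) ≫ X₁.hom))).left ⟶ X₂.left from z)
        (by rw [pt_hom_eq]; exact hw), rfl⟩
    have h1 : z' ≫ c = mkPt X₁ (Spec.map α ≫ tA) := by
      apply Over.OverMorphism.ext
      rw [Over.comp_left, hz', mkPt_left]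
      exact hz
    rw [hc] at h1
    have h2 := congrArg (e₁ _) h1
    rw [e₁_cpt, hB] at h2
    rw [← h2, comapGr_toSubmodule]
    exact LinearMap.ker_le_comap _
  · intro h1
    have h2 : ((Grassmannian.map φ.hom (e₁ _ (mkPt X₁ tA))).toSubmodule.map
        (v.baseChange (APt R' ((Spec.map α ≫ tA) ≫ X₁.hom)))).comap
          (v.baseChange (APt R' ((Spec.map α ≫ tA) ≫ X₁.hom))) =
        (Grassmannian.map φ.hom (e₁ _ (mkPt X₁ tA))).toSubmodule := by
      rw [Submodule.comap_map_eq, sup_eq_left.mpr h1]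
    obtain ⟨N₂, hN₂⟩ : ∃ N₂, N₂ = ofComap v hv (APt R' ((Spec.map α ≫ tA) ≫ X₁.hom))
      (Grassmannian.map φ.hom (e₁ _ (mkPt X₁ tA))) _ h2 := ⟨_, rfl⟩
    obtain ⟨z', hz'⟩ : ∃ z' : pt (APt R' ((Spec.map α ≫ tA) ≫ X₁.hom)) ⟶ X₂,
      z' = (e₂ _).symm N₂ := ⟨_, rfl⟩
    have h3 : z' ≫ c = mkPt X₁ (Spec.map α ≫ tA) := by
      rw [hc]
      apply (e₁ _).injective
      rw [e₁_cpt, hB, hz', Equiv.apply_symm_apply, hN₂]
      exact comapGr_ofComap v hv _ _ _ h2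
    refine ⟨z'.left, ?_⟩
    have := congrArg (fun f => f.left) h3
    exact this

include he₁ in
omit he₂ in
/-- the base change of `c` to an affine chart of `X₁` is a closed immersion -/
theorem isClosedImmersion_snd (c : X₂ ⟶ X₁)
    (hc : ∀ (A : CommAlgCat.{u} R) (g : pt A ⟶ X₂), g ≫ c = cpt v hv e₁ e₂ A g)
    {RA : CommRingCat.{u}} (tA : Spec RA ⟶ X₁.left) :
    IsClosedImmersion (pullback.snd c.left tA) := by
  haveI := mono_c v hv e₁ e₂ c hc
  obtain ⟨I, hI⟩ : ∃ I : Ideal RA, I = IA v e₁ tA := ⟨_, rfl⟩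
  obtain ⟨q, hq⟩ : ∃ q : RA ⟶ CommRingCat.of (RA ⧸ I),
      q = CommRingCat.ofHom (Ideal.Quotient.mk I) := ⟨_, rfl⟩
  have hqs : Function.Surjective q.hom := by
    rw [hq]; exact Ideal.Quotient.mk_surjective
  haveI : IsClosedImmersion (Spec.map q) := IsClosedImmersion.spec_of_surjective q hqs
  haveI : Mono (Spec.map q) := inferInstance
  have hker : RingHom.ker q.hom = I := by
    rw [hq]; exact Ideal.mk_ker
  obtain ⟨z₀, hz₀⟩ := (lift_iff v hv e₁ he₁ e₂ c hc tA q).mpr (by rw [hker, hI])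
  obtain ⟨s, hs⟩ : ∃ s : Spec (CommRingCat.of (RA ⧸ I)) ⟶ pullback c.left tA,
      s ≫ pullback.snd c.left tA = Spec.map q :=
    ⟨pullback.lift z₀ (Spec.map q) hz₀, pullback.lift_snd _ _ _⟩
  have ex : ∀ (R' : CommRingCat.{u}) (h : Spec R' ⟶ pullback c.left tA),
      ∃ r' : Spec R' ⟶ Spec (CommRingCat.of (RA ⧸ I)),
        r' ≫ Spec.map q = h ≫ pullback.snd c.left tA := by
    intro R' h
    obtain ⟨α, hα⟩ : ∃ α : RA ⟶ R', Spec.map α = h ≫ pullback.snd c.left tA :=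
      ⟨Spec.preimage _, Spec.map_preimage _⟩
    have h1 : I ≤ RingHom.ker α.hom := by
      rw [hI]
      apply (lift_iff v hv e₁ he₁ e₂ c hc tA α).mp
      refine ⟨h ≫ pullback.fst c.left tA, ?_⟩
      rw [Category.assoc, pullback.condition, ← Category.assoc, hα]
    refine ⟨Spec.map (CommRingCat.ofHom (Ideal.Quotient.lift I α.hom (fun a ha => h1 ha))), ?_⟩
    rw [← hα, ← Spec.map_comp]
    congr 1
    rw [hq]
    ext x
    simp
  choose Fr hFr using ex
  obtain ⟨r, hr⟩ := glue_exists Fr (by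
    intro R' R'' a h'
    rw [← cancel_mono (Spec.map q), Category.assoc, hFr, hFr, Category.assoc])
  have hrq : r ≫ Spec.map q = pullback.snd c.left tA := by
    apply affine_hom_ext
    intro R' a
    rw [← Category.assoc, hr, hFr]
  have hrs : r ≫ s = 𝟙 _ := by
    rw [← cancel_mono (pullback.snd c.left tA), Category.assoc, hs, hrq, Category.id_comp]
  have hsr : s ≫ r = 𝟙 _ := by
    rw [← cancel_mono (Spec.map q), Category.assoc, hrq, hs, Category.id_comp]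
  haveI : IsIso r := ⟨s, hrs, hsr⟩
  rw [← hrq]
  infer_instance

include he₁ in
omit he₂ in
/-- Part 2: the comparison morphism is a closed immersion -/
theorem isClosedImmersion_c (c : X₂ ⟶ X₁)
    (hc : ∀ (A : CommAlgCat.{u} R) (g : pt A ⟶ X₂), g ≫ c = cpt v hv e₁ e₂ A g) :
    IsClosedImmersion c.left := by
  apply IsZariskiLocalAtTarget.of_openCover (P := @IsClosedImmersion)
    X₁.left.affineOpenCover.openCover
  intro i
  exact isClosedImmersion_snd v hv e₁ he₁ e₂ c hc (X₁.left.affineOpenCover.f i)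

end Main

end Groth.Agent.Lib.Helper11.GrassSch
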