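import Mathlib
import Groth.Prelude.Def_Grpd

/-!
# The groupoid scheme attached to a group scheme (helper11)

A group scheme `G` over `S` gives the groupoid `(S, G, s = t = structure map, c = multiplication)`.
-/

set_option autoImplicit false
universe u

open CategoryTheory CategoryTheory.Limits MonoidalCategory CartesianMonoidalCategory MonObj GrpObj
  AlgebraicGeometry

namespace Groth.Agent.Lib.Helper11.GrpBridge

variable {S : Scheme.{u}} (G : Over S) [GrpObj G]

theorem lift_mul {T : Scheme.{u}} {v : T ⟶ S} (a b : Over.mk v ⟶ G) (x y : T ⟶ G.left)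
    (hx : a.left = x) (hy : b.left = y) (h : x ≫ G.hom = y ≫ G.hom) :
    pullback.lift x y h ≫ μ[G].left = (a * b).left := by
  subst hx hy
  rw [Hom.mul_def, Over.comp_left, Over.lift_left]

theorem one_left {T : Scheme.{u}} (v : T ⟶ S) :
    (1 : Over.mk v ⟶ G).left = v ≫ η[G].left := by
  rw [Hom.one_def, Over.comp_left]
  rfl

theorem inv_left {T : Scheme.{u}} {v : T ⟶ S} (a : Over.mk v ⟶ G) :
    (a⁻¹).left = a.left ≫ ι[G].left := by
  rw [Hom.inv_def, Over.comp_left]

theorem unit_hom : η[G].left ≫ G.hom = 𝟙 S := Over.w η[G]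

theorem inv_hom : ι[G].left ≫ G.hom = G.hom := Over.w ι[G]

theorem mul_hom {T : Scheme.{u}} {v : T ⟶ S} (a : Over.mk v ⟶ G) : a.left ≫ G.hom = v := Over.w a

/-- the groupoid scheme of a group scheme -/
noncomputable def grpd : Grpd.GroupoidScheme S where
  U := S
  R := G.left
  pU := 𝟙 S
  pR := G.hom
  s := G.hom
  t := G.hom
  e := η[G].left
  i := ι[G].left
  c := μ[G].left
  s_over := Category.comp_id _
  t_over := Category.comp_id _
  comp_s := by
    intro T α β h
    rw [lift_mul G (Over.homMk α rfl : Over.mk (α ≫ G.hom) ⟶ G) (Over.homMk β h.symm) α β rfl rfl h,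
      mul_hom, h]
  comp_t := by
    intro T α β h
    rw [lift_mul G (Over.homMk α rfl : Over.mk (α ≫ G.hom) ⟶ G) (Over.homMk β h.symm) α β rfl rfl h,
      mul_hom]
  assoc := by
    intro T α β c₃ h₁ h₂
    let a : Over.mk (α ≫ G.hom) ⟶ G := Over.homMk α rfl
    let b : Over.mk (α ≫ G.hom) ⟶ G := Over.homMk β h₁.symm
    let g : Over.mk (α ≫ G.hom) ⟶ G := Over.homMk c₃ (h₂.symm.trans h₁.symm)
    have e1 : (a * b).left = pullback.lift α β h₁ ≫ μ[G].left :=
      (lift_mul G a b α β rfl rfl h₁).symm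
    have e2 : (b * g).left = pullback.lift β c₃ h₂ ≫ μ[G].left :=
      (lift_mul G b g β c₃ rfl rfl h₂).symm
    refine (lift_mul G (a * b) g _ c₃ e1 rfl _).trans ?_
    refine Eq.trans ?_ (lift_mul G a (b * g) α _ rfl e2 _).symm
    rw [_root_.mul_assoc]
  e_s := unit_hom G
  e_t := unit_hom G
  comp_e := by
    intro T α
    let a : Over.mk (α ≫ G.hom) ⟶ G := Over.homMk α rfl
    refine (lift_mul G a 1 α (α ≫ G.hom ≫ η[G].left) rfl
      (by rw [one_left, Category.assoc]) _).trans ?_
    rw [_root_.mul_one]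
    rfl
  e_comp := by
    intro T α
    let a : Over.mk (α ≫ G.hom) ⟶ G := Over.homMk α rfl
    refine (lift_mul G 1 a (α ≫ G.hom ≫ η[G].left) α
      (by rw [one_left, Category.assoc]) rfl _).trans ?_
    rw [_root_.one_mul]
    rfl
  i_s := inv_hom G
  i_t := inv_hom G
  comp_i := by
    intro T α
    let a : Over.mk (α ≫ G.hom) ⟶ G := Over.homMk α rfl
    refine (lift_mul G a a⁻¹ α (α ≫ ι[G].left) rfl (inv_left G a) _).trans ?_
    rw [mul_inv_cancel, one_left, Category.assoc]
  i_comp := by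
    intro T α
    let a : Over.mk (α ≫ G.hom) ⟶ G := Over.homMk α rfl
    refine (lift_mul G a⁻¹ a (α ≫ ι[G].left) α (inv_left G a) rfl _).trans ?_
    rw [inv_mul_cancel, one_left, Category.assoc]

end Groth.Agent.Lib.Helper11.GrpBridge
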