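import Mathlib
import Groth.Agent.Lib.Helper11.GrpE

/-!
# Group schemes over a field: products of maximal points, open subgroups generated by an affine
(helper11)
-/

set_option autoImplicit false
universe u

open CategoryTheory CategoryTheory.Limits MonoidalCategory CartesianMonoidalCategory MonObj GrpObj
  AlgebraicGeometry
open Groth.Agent.Lib.Helper11.GrpA Groth.Agent.Lib.Helper11.GrpB Groth.Agent.Lib.Helper11.GrpC
  Groth.Agent.Lib.Helper11.GrpD
open scoped Obj

namespace Groth.Agent.Lib.Helper11.GrpF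

variable {k : Type u} [Field k]
variable (G : Over (Spec (CommRingCat.of k))) [GrpObj G] (pt : ↥(Spec (CommRingCat.of k)))

theorem isOpenMap_mul : IsOpenMap μ[G].left := by
  let shh : ↥(G ⊗ G).left ≃ₜ ↥(G ⊗ G).left :=
    Scheme.homeoOfIso ((Over.forget _).mapIso (shearIso (G := G)))
  haveI : UniversallyOpen G.hom := inferInstance
  have h1 : IsOpenMap (pullback.snd G.hom G.hom) := (pullback.snd G.hom G.hom).isOpenMap
  have h2 : IsOpenMap ((snd G G).left ∘ shh) := h1.comp shh.isOpenMap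
  have h3 : ((snd G G).left ∘ shh : ↥(G ⊗ G).left → ↥G.left) = μ[G].left := by
    funext ζ
    exact left_apply_congr (shearIso_hom_snd (G := G)) ζ
  rw [← h3]
  exact h2

theorem isOpenMap_fst (T : Over (Spec (CommRingCat.of k))) : IsOpenMap (fst G T).left := by
  haveI : UniversallyOpen T.hom := inferInstance
  exact (pullback.fst G.hom T.hom).isOpenMap

/-- every point is a product of two maximal points -/
theorem exists_mul_eq_of_maximal_points (x : G.left) :
    ∃ z : ↥(G ⊗ G).left, μ[G].left z = x ∧ IsMaxPt ((fst G G).left z) ∧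
      IsMaxPt ((snd G G).left z) := by
  obtain ⟨T, hT⟩ : ∃ T : Over (Spec (CommRingCat.of k)), T = Tx G x := ⟨_, rfl⟩
  obtain ⟨c, hc⟩ : ∃ c : T ⟶ G, ∀ s : ↥T.left, c.left s = x := by
    subst hT
    exact ⟨cx G x, cx_left_apply G x⟩
  haveI : Nonempty ↥T.left := by subst hT; infer_instance
  haveI : Flat (fst G T).left := flat_fst_of_field G.hom T.hom
  have hgen : GeneralizingMap (fst G T).left := Flat.generalizingMap _
  let s₀ : ↥T.left := Classical.arbitrary _
  let pe : ↥(G ⊗ T).left := (tpt T (1 : T ⟶ G)).left s₀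
  let σh : ↥(G ⊗ T).left ≃ₜ ↥(G ⊗ T).left :=
    Scheme.homeoOfIso ((Over.forget _).mapIso (sigmaIso T c))
  obtain ⟨w, hw⟩ := QuasiSober.sober (isIrreducible_irreducibleComponent (x := pe))
    isClosed_irreducibleComponent
  have hwmax : IsMaxPt w := by
    show closure {w} ∈ irreducibleComponents ↥(G ⊗ T).left
    rw [hw.def]
    exact irreducibleComponent_mem_irreducibleComponents _
  refine ⟨(theta T c).left w, ?_, ?_, ?_⟩
  · have h := left_apply_congr (theta_mul T c) w
    rw [show μ[G].left ((theta T c).left w) = c.left ((snd G T).left w) from h]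
    exact hc _
  · have h := left_apply_congr (theta_fst T c) w
    rw [show (fst G G).left ((theta T c).left w) = (fst G T).left w from h]
    exact isMaxPt_map_of_generalizing (fst G T).left.continuous hgen hwmax
  · have h := left_apply_congr (theta_snd T c) w
    rw [show (snd G G).left ((theta T c).left w) = (fst G T).left (σh w) from h]
    exact isMaxPt_map_of_generalizing (fst G T).left.continuous hgen (isMaxPt_homeo σh hwmax)

/-- the iterated products `V, V·V, V·V·V, …` -/
noncomputable def pows (V : Set ↥G.left) : ℕ → Set ↥G.left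
  | 0 => V
  | n + 1 => μ[G].left '' ((fst G G).left ⁻¹' (pows V n) ∩ (snd G G).left ⁻¹' V)

theorem pows_finite_union (V : G.left.Opens) (hV : IsAffineOpen V) (n : ℕ) :
    ∃ s : Set G.left.affineOpens, s.Finite ∧
      pows G (V : Set ↥G.left) n = ⋃ i ∈ s, ((i : G.left.Opens) : Set ↥G.left) := by
  induction n with
  | zero =>
    refine ⟨{⟨V, hV⟩}, Set.finite_singleton _, ?_⟩
    simp [pows]
  | succ n ih =>
    obtain ⟨s, hs, hH⟩ := ih
    apply isCompact_and_isOpen_iff_finite_and_eq_biUnion_affineOpens.mp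
    have hopen : IsOpen (pows G (V : Set ↥G.left) n) := by
      rw [hH]
      exact isOpen_biUnion fun i _ => (i : G.left.Opens).isOpen
    have hEq : (fst G G).left ⁻¹' (pows G (V : Set ↥G.left) n) ∩
        (snd G G).left ⁻¹' (V : Set ↥G.left) =
        ⋃ i ∈ s, ((((fst G G).left ⁻¹ᵁ (i : G.left.Opens) ⊓ (snd G G).left ⁻¹ᵁ V :
          (G ⊗ G).left.Opens)) : Set ↥(G ⊗ G).left) := by
      rw [hH]
      ext ζ
      constructor
      · rintro ⟨h1, h2⟩
        obtain ⟨i, hi, h3⟩ := Set.mem_iUnion₂.mp h1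
        exact Set.mem_iUnion₂.mpr ⟨i, hi, ⟨h3, h2⟩⟩
      · intro h
        obtain ⟨i, hi, h3⟩ := Set.mem_iUnion₂.mp h
        exact ⟨Set.mem_iUnion₂.mpr ⟨i, hi, h3.1⟩, h3.2⟩
    refine ⟨?_, ?_⟩
    · show IsCompact (μ[G].left '' _)
      rw [hEq]
      exact (hs.isCompact_biUnion fun i _ =>
        (isAffineOpen_prod (i : G.left.Opens) V i.2 hV).isCompact).image μ[G].left.continuous
    · show IsOpen (μ[G].left '' _)
      exact isOpenMap_mul G _ ((hopen.preimage (fst G G).left.continuous).inter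
        (V.isOpen.preimage (snd G G).left.continuous))

theorem isClosed_iUnion_pows (V : G.left.Opens) (heV : η[G].left pt ∈ V) :
    IsClosed (⋃ n, pows G (V : Set ↥G.left) n) := by
  rw [← closure_subset_iff_isClosed]
  intro g hg
  obtain ⟨T, hT⟩ : ∃ T : Over (Spec (CommRingCat.of k)), T = Tx G g := ⟨_, rfl⟩
  obtain ⟨c, hc⟩ : ∃ c : T ⟶ G, ∀ s : ↥T.left, c.left s = g := by
    subst hT
    exact ⟨cx G g, cx_left_apply G g⟩
  haveI : Nonempty ↥T.left := by subst hT; infer_instance
  let s₀ : ↥T.left := Classical.arbitrary _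
  let σh : ↥(G ⊗ T).left ≃ₜ ↥(G ⊗ T).left :=
    Scheme.homeoOfIso ((Over.forget _).mapIso (sigmaIso T c))
  let a : ↥(G ⊗ T).left := (tpt T c).left s₀
  let b : ↥(G ⊗ T).left := (tpt T (1 : T ⟶ G)).left s₀
  have hσab : σh a = b := by
    have h := tpt_sigma T c c
    rw [inv_mul_cancel] at h
    exact left_apply_congr h s₀
  have hfa : (fst G T).left a = g := (left_apply_congr (tpt_fst T c) s₀).trans (hc s₀)
  have hfb : (fst G T).left b = η[G].left pt :=
    (left_apply_congr (tpt_fst T (1 : T ⟶ G)) s₀).trans (one_left_apply G pt T s₀)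
  have hNopen : IsOpen ((fst G T).left '' (σh ⁻¹' ((fst G T).left ⁻¹' (V : Set ↥G.left)))) :=
    isOpenMap_fst G T _ ((V.isOpen.preimage (fst G T).left.continuous).preimage σh.continuous)
  have hgN : g ∈ (fst G T).left '' (σh ⁻¹' ((fst G T).left ⁻¹' (V : Set ↥G.left))) :=
    ⟨a, by show (fst G T).left (σh a) ∈ V; rw [hσab, hfb]; exact heV, hfa⟩
  obtain ⟨y, ⟨z, hz, rfl⟩, hyH⟩ := mem_closure_iff.mp hg _ hNopen hgN
  obtain ⟨n, hn⟩ := Set.mem_iUnion.mp hyH
  refine Set.mem_iUnion.mpr ⟨n + 1, (theta T c).left z, ⟨?_, ?_⟩, ?_⟩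
  · have h := left_apply_congr (theta_fst T c) z
    show (fst G G).left ((theta T c).left z) ∈ pows G (V : Set ↥G.left) n
    rw [show (fst G G).left ((theta T c).left z) = (fst G T).left z from h]
    exact hn
  · have h := left_apply_congr (theta_snd T c) z
    show (snd G G).left ((theta T c).left z) ∈ V
    rw [show (snd G G).left ((theta T c).left z) = (fst G T).left (σh z) from h]
    exact hz
  · have h := left_apply_congr (theta_mul T c) z
    rw [show μ[G].left ((theta T c).left z) = c.left ((snd G T).left z) from h]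
    exact hc _

/-- a clopen subset containing the unit which is a countable union of affine opens -/
theorem exists_clopen_countable_union_affine :
    ∃ U : G.left.Opens, IsClosed (U : Set G.left) ∧ η[G].left pt ∈ U ∧
      ∃ V : ℕ → G.left.Opens, (∀ n, IsAffineOpen (V n)) ∧
        (U : Set G.left) = ⋃ n, (V n : Set G.left) := by
  obtain ⟨V₀, hV₀, heV₀, -⟩ :=
    exists_isAffineOpen_mem_and_subset (x := η[G].left pt) (U := ⊤) trivial
  have hFU := pows_finite_union G V₀ hV₀
  choose s hs1 hs2 using hFU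
  have hopen : IsOpen (⋃ n, pows G (V₀ : Set ↥G.left) n) := by
    refine isOpen_iUnion fun n => ?_
    rw [hs2 n]
    exact isOpen_biUnion fun i _ => (i : G.left.Opens).isOpen
  have he0 : η[G].left pt ∈ pows G (V₀ : Set ↥G.left) 0 := heV₀
  refine ⟨⟨_, hopen⟩, isClosed_iUnion_pows G pt V₀ heV₀, Set.mem_iUnion.mpr ⟨0, he0⟩, ?_⟩
  have hS : (⋃ n, s n).Countable := Set.countable_iUnion fun n => (hs1 n).countable
  have hne : (⋃ n, s n).Nonempty := by
    rw [hs2 0] at he0
    obtain ⟨i, hi, -⟩ := Set.mem_iUnion₂.mp he0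
    exact ⟨i, Set.mem_iUnion.mpr ⟨0, hi⟩⟩
  obtain ⟨f, hf⟩ := hS.exists_eq_range hne
  refine ⟨fun n => (f n : G.left.Opens), fun n => (f n).2, ?_⟩
  ext x
  constructor
  · intro hx
    obtain ⟨n, hn⟩ := Set.mem_iUnion.mp hx
    rw [hs2 n] at hn
    obtain ⟨i, hi, hxi⟩ := Set.mem_iUnion₂.mp hn
    have : i ∈ Set.range f := hf ▸ Set.mem_iUnion.mpr ⟨n, hi⟩
    obtain ⟨m, rfl⟩ := this
    exact Set.mem_iUnion.mpr ⟨m, hxi⟩
  · intro hx
    obtain ⟨m, hm⟩ := Set.mem_iUnion.mp hx
    have : f m ∈ ⋃ n, s n := hf ▸ Set.mem_range_self m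
    obtain ⟨n, hn⟩ := Set.mem_iUnion.mp this
    refine Set.mem_iUnion.mpr ⟨n, ?_⟩
    rw [hs2 n]
    exact Set.mem_iUnion₂.mpr ⟨f m, hn, hm⟩

end Groth.Agent.Lib.Helper11.GrpF
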