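import Mathlib
import Groth.Prelude.Def_Grpd
import Groth.Agent.Lib.Helper11.GrpdLib
import Groth.Agent.Lib.Helper11.GrpdF
import Groth.Agent.Lib.Helper11.GrpdG
import Groth.Agent.Lib.Helper11.GrpdH

/-!
# The scheme-theoretic image of a morphism of groupoid schemes over a field (helper11)
-/

set_option autoImplicit false
universe u

open CategoryTheory CategoryTheory.Limits AlgebraicGeometry TopologicalSpace
open Groth.Agent.Lib.Helper11.GrpdLib

namespace Groth.Agent.Lib.Helper11.GrpdJ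

section Dominant

/-- the canonical morphism to the scheme-theoretic image is scheme-theoretically dominant -/
theorem isSchemeTheoreticallyDominant_toImage {X Y : Scheme.{u}} (a : X ⟶ Y) :
    IsSchemeTheoreticallyDominant a.toImage := by
  refine ⟨?_⟩
  have h' : (a.toImage.ker.subschemeι ≫ a.imageι).ker = a.imageι.ker := by
    have h1 : (a.toImage.ker.subschemeι ≫ a.imageι).ker = a.toImage.ker.map a.imageι := rfl
    rw [h1, ← Scheme.Hom.ker_comp, a.toImage_imageι, Scheme.IdealSheafData.ker_subschemeι]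
  haveI : IsIso a.toImage.ker.subschemeι :=
    IsClosedImmersion.isIso_of_ker_eq (a.toImage.ker.subschemeι ≫ a.imageι) a.imageι
      a.toImage.ker.subschemeι rfl h'
  exact (Scheme.isIso_subschemeι_iff_eq_bot _).mp inferInstance

/-- a morphism factors through a closed immersion as soon as it does so after precomposition with a
scheme-theoretically dominant morphism -/
theorem exists_lift_of_dominant {T' T X Z : Scheme.{u}} (d : T' ⟶ T)
    [IsSchemeTheoreticallyDominant d] (ι : Z ⟶ X) [IsClosedImmersion ι] (g : T ⟶ X) (h : T' ⟶ Z)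
    (hh : d ≫ g = h ≫ ι) : ∃ g' : T ⟶ Z, g' ≫ ι = g := by
  have H : ι.ker ≤ g.ker := by
    have h1 : (d ≫ g).ker = g.ker := by
      rw [Scheme.Hom.ker_comp, d.ker_eq_bot, Scheme.IdealSheafData.map_bot]
    rw [← h1, hh]
    exact Scheme.Hom.le_ker_comp h ι
  exact ⟨IsClosedImmersion.lift ι g H, IsClosedImmersion.lift_fac ι g H⟩

end Dominant

section SubLift

variable {S : Scheme.{u}} (G : Grpd.GroupoidScheme S) {Z : Scheme.{u}} (ι : Z ⟶ G.R) [Mono ι]

/-- a morphism of groupoid schemes whose arrow map factors through a sub-groupoid -/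
noncomputable def subLift (e' : G.U ⟶ Z) (i' : Z ⟶ Z)
    (c' : pullback (ι ≫ G.s) (ι ≫ G.t) ⟶ Z)
    (he : e' ≫ ι = G.e) (hi : i' ≫ ι = ι ≫ G.i) (hc : c' ≫ ι = GrpdH.ιι G ι ≫ G.c)
    {G₁ : Grpd.GroupoidScheme S} (f : Grpd.GroupoidScheme.Hom G₁ G) (a' : G₁.R ⟶ Z)
    (ha : a' ≫ ι = f.fR) :
    Grpd.GroupoidScheme.Hom G₁ (GrpdH.subGrpd G ι e' i' c' he hi hc) where
  fU := f.fU
  fR := a'
  fU_over := f.fU_over
  comm_s := by
    show a' ≫ ι ≫ G.s = G₁.s ≫ f.fU
    rw [← Category.assoc, ha, f.comm_s]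
  comm_t := by
    show a' ≫ ι ≫ G.t = G₁.t ≫ f.fU
    rw [← Category.assoc, ha, f.comm_t]
  comm_c := @fun T α β h => by
    have h'' : (α ≫ f.fR) ≫ G.s = (β ≫ f.fR) ≫ G.t := by
      rw [Category.assoc, Category.assoc, f.comm_s, f.comm_t, ← Category.assoc, ← Category.assoc, h]
    have h' : ((α ≫ a') ≫ ι) ≫ G.s = ((β ≫ a') ≫ ι) ≫ G.t := by
      rw [Category.assoc α a' ι, Category.assoc β a' ι, ha]; exact h''
    have hh : (α ≫ a') ≫ ι ≫ G.s = (β ≫ a') ≫ ι ≫ G.t := by
      simpa only [Category.assoc] using h'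
    show (pullback.lift α β h ≫ G₁.c) ≫ a' = pullback.lift (α ≫ a') (β ≫ a') hh ≫ c'
    rw [← cancel_mono ι]
    refine Eq.trans ?_ (GrpdH.sub_comp hc (α ≫ a') (β ≫ a') hh h').symm
    have e1 : ((pullback.lift α β h ≫ G₁.c) ≫ a') ≫ ι = (pullback.lift α β h ≫ G₁.c) ≫ f.fR := by
      rw [Category.assoc, ha]
    refine e1.trans ((f.comm_c α β h).trans ?_)
    exact comp_congr (by rw [Category.assoc, ha]) (by rw [Category.assoc, ha]) h'' h'

end SubLift

section Image

variable {S : Scheme.{u}} {G₁ G₂ : Grpd.GroupoidScheme S} (f : Grpd.GroupoidScheme.Hom G₁ G₂)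
  [IsIso f.fU] [QuasiCompact f.fR]
variable {k : Type u} [Field k] (eU : G₂.U ≅ Spec (CommRingCat.of k))

include eU in
/-- the identity, inverse and composition of `G₂` restrict to the scheme-theoretic image of `f.fR` -/
theorem exists_structure_on_image :
    ∃ (e' : G₂.U ⟶ f.fR.image) (i' : f.fR.image ⟶ f.fR.image)
      (c' : pullback (f.fR.imageι ≫ G₂.s) (f.fR.imageι ≫ G₂.t) ⟶ f.fR.image),
      e' ≫ f.fR.imageι = G₂.e ∧ i' ≫ f.fR.imageι = f.fR.imageι ≫ G₂.i ∧
        c' ≫ f.fR.imageι = GrpdH.ιι G₂ f.fR.imageι ≫ G₂.c := by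
  set ι := f.fR.imageι with hι
  set a' := f.fR.toImage with ha'
  have ha : a' ≫ ι = f.fR := f.fR.toImage_imageι
  haveI : IsSchemeTheoreticallyDominant a' := isSchemeTheoreticallyDominant_toImage f.fR
  haveI : QuasiCompact a' := inferInstance
  -- identity
  have he : (inv f.fU ≫ G₁.e ≫ a') ≫ ι = G₂.e := by
    rw [Category.assoc, Category.assoc, ha, GrpdG.fR_e, IsIso.inv_hom_id_assoc]
  -- inverse
  obtain ⟨i', hi⟩ := exists_lift_of_dominant a' ι (ι ≫ G₂.i) (G₁.i ≫ a') (by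
    rw [← Category.assoc, ha, Category.assoc, ha, GrpdG.fR_i])
  -- composition
  let s' := ι ≫ G₂.s
  let t' := ι ≫ G₂.t
  have hs : G₁.s ≫ f.fU = a' ≫ s' := by
    show G₁.s ≫ f.fU = a' ≫ ι ≫ G₂.s
    rw [← Category.assoc, ha, f.comm_s]
  have ht : G₁.t ≫ f.fU = a' ≫ t' := by
    show G₁.t ≫ f.fU = a' ≫ ι ≫ G₂.t
    rw [← Category.assoc, ha, f.comm_t]
  haveI : Flat s' := GrpdF.flat_fieldPt G₂ eU s'
  haveI : Flat (G₁.t ≫ f.fU) := GrpdF.flat_fieldPt G₂ eU _
  let mA : pullback G₁.s G₁.t ⟶ pullback s' (G₁.t ≫ f.fU) :=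
    pullback.map G₁.s G₁.t s' (G₁.t ≫ f.fU) a' (𝟙 G₁.R) f.fU hs (Category.id_comp _).symm
  let mB : pullback s' (G₁.t ≫ f.fU) ⟶ pullback s' t' :=
    pullback.map s' (G₁.t ≫ f.fU) s' t' (𝟙 _) a' (𝟙 G₂.U)
      ((Category.comp_id _).trans (Category.id_comp _).symm) ((Category.comp_id _).trans ht)
  have hmA_fst : mA ≫ pullback.fst s' (G₁.t ≫ f.fU) = pullback.fst G₁.s G₁.t ≫ a' :=
    pullback.lift_fst _ _ _
  have hmA_snd : mA ≫ pullback.snd s' (G₁.t ≫ f.fU) = pullback.snd G₁.s G₁.t :=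
    (pullback.lift_snd _ _ _).trans (Category.comp_id _)
  have hmB_fst : mB ≫ pullback.fst s' t' = pullback.fst s' (G₁.t ≫ f.fU) :=
    (pullback.lift_fst _ _ _).trans (Category.comp_id _)
  have hmB_snd : mB ≫ pullback.snd s' t' = pullback.snd s' (G₁.t ≫ f.fU) ≫ a' :=
    pullback.lift_snd _ _ _
  -- `mB` is a base change of `a'` along the flat morphism `pr₂`
  have hB : IsPullback (pullback.snd s' (G₁.t ≫ f.fU)) mB a' (pullback.snd s' t') := by
    have hbig : IsPullback (pullback.snd s' (G₁.t ≫ f.fU)) (mB ≫ pullback.fst s' t') (a' ≫ t') s' := by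
      rw [hmB_fst, ← ht]
      exact (IsPullback.of_hasPullback s' (G₁.t ≫ f.fU)).flip
    exact IsPullback.of_bot hbig hmB_snd.symm (IsPullback.of_hasPullback s' t').flip
  haveI : IsSchemeTheoreticallyDominant mB := IsSchemeTheoreticallyDominant.of_isPullback hB
  -- `mA` is a base change of `a'` along the flat morphism `pr₁`
  have hA : IsPullback (pullback.fst G₁.s G₁.t) mA a' (pullback.fst s' (G₁.t ≫ f.fU)) := by
    have hbig : IsPullback (pullback.fst G₁.s G₁.t) (mA ≫ pullback.snd s' (G₁.t ≫ f.fU))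
        (a' ≫ s') (G₁.t ≫ f.fU) := by
      rw [hmA_snd, ← hs]
      exact IsPullback.of_isLimit (pullbackIsPullbackOfCompMono G₁.s G₁.t f.fU)
    exact IsPullback.of_bot hbig hmA_fst.symm (IsPullback.of_hasPullback s' (G₁.t ≫ f.fU))
  haveI : IsSchemeTheoreticallyDominant mA := IsSchemeTheoreticallyDominant.of_isPullback hA
  have hm : (mA ≫ mB) ≫ GrpdH.ιι G₂ ι = GrpdG.pmap f := by
    apply pullback.hom_ext
    · rw [Category.assoc, Category.assoc, GrpdH.ιι_fst, reassoc_of% hmB_fst, reassoc_of% hmA_fst, ha]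
      exact (pullback.lift_fst _ _ _).symm
    · rw [Category.assoc, Category.assoc, GrpdH.ιι_snd, reassoc_of% hmB_snd, reassoc_of% hmA_snd, ha]
      exact (pullback.lift_snd _ _ _).symm
  obtain ⟨c', hc⟩ := exists_lift_of_dominant (mA ≫ mB) ι (GrpdH.ιι G₂ ι ≫ G₂.c) (G₁.c ≫ a') (by
    rw [← Category.assoc, hm, GrpdG.pmap_c, Category.assoc, ha])
  exact ⟨inv f.fU ≫ G₁.e ≫ a', i', c', he, hi, hc⟩

include eU in
theorem exists_groupoid_on_image :
    ∃ (G' : Grpd.GroupoidScheme S) (ψ : Grpd.GroupoidScheme.Hom G' G₂), IsIso ψ.fU ∧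
      IsClosedImmersion ψ.fR ∧ ψ.fR.ker = f.fR.ker := by
  obtain ⟨e', i', c', he, hi, hc⟩ := exists_structure_on_image f eU
  refine ⟨GrpdH.subGrpd G₂ f.fR.imageι e' i' c' he hi hc,
    GrpdH.subHom G₂ f.fR.imageι e' i' c' he hi hc, ?_, ?_, ?_⟩
  · exact (inferInstance : IsIso (𝟙 G₂.U))
  · exact (inferInstance : IsClosedImmersion f.fR.imageι)
  · exact Scheme.IdealSheafData.ker_subschemeι _

end Image

section ImageJ

variable {S : Scheme.{u}} (G : Grpd.GroupoidScheme S)
variable {k : Type u} [Field k] (eU : G.U ≅ Spec (CommRingCat.of k))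

include eU in
theorem quasiCompact_j [CompactSpace G.R] : QuasiCompact G.j := by
  haveI : IsAffine G.U := .of_isIso eU.hom
  haveI : QuasiCompact (G.j ≫ pullback.fst G.pU G.pU) := by
    have : G.j ≫ pullback.fst G.pU G.pU = G.t := pullback.lift_fst _ _ _
    rw [this]; infer_instance
  exact QuasiCompact.of_comp G.j (pullback.fst G.pU G.pU)

include eU in
theorem exists_groupoid_on_image_j [CompactSpace G.R] :
    ∃ (G' : Grpd.GroupoidScheme S) (φ : Grpd.GroupoidScheme.Hom G G'), IsIso φ.fU ∧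
      IsClosedImmersion G'.j ∧ G'.j.ker = (G.j ≫ pullback.map G.pU G.pU G'.pU G'.pU φ.fU φ.fU (𝟙 S)
        ((Category.comp_id _).trans φ.fU_over.symm)
        ((Category.comp_id _).trans φ.fU_over.symm)).ker := by
  haveI hqc : QuasiCompact G.j := quasiCompact_j G eU
  haveI : IsIso (GrpdH.jHom G).fU := (inferInstance : IsIso (𝟙 G.U))
  haveI : QuasiCompact (GrpdH.jHom G).fR := hqc
  obtain ⟨e', i', c', he, hi, hc⟩ := exists_structure_on_image (GrpdH.jHom G) (k := k) eU
  let ι : G.j.image ⟶ pullback G.pU G.pU := G.j.imageι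
  let G' := GrpdH.subGrpd (GrpdH.pairGrpd G) (GrpdH.jHom G).fR.imageι e' i' c' he hi hc
  let φ : Grpd.GroupoidScheme.Hom G G' :=
    subLift (GrpdH.pairGrpd G) (GrpdH.jHom G).fR.imageι e' i' c' he hi hc (GrpdH.jHom G)
      (GrpdH.jHom G).fR.toImage (GrpdH.jHom G).fR.toImage_imageι
  have hj : G'.j = ι := by
    apply pullback.hom_ext
    · exact pullback.lift_fst _ _ _
    · exact pullback.lift_snd _ _ _
  have hmap : pullback.map G.pU G.pU G'.pU G'.pU φ.fU φ.fU (𝟙 S)
      ((Category.comp_id _).trans φ.fU_over.symm)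
      ((Category.comp_id _).trans φ.fU_over.symm) = 𝟙 (pullback G.pU G.pU) := by
    apply pullback.hom_ext
    · exact (pullback.lift_fst _ _ _).trans ((Category.comp_id _).trans (Category.id_comp _).symm)
    · exact (pullback.lift_snd _ _ _).trans ((Category.comp_id _).trans (Category.id_comp _).symm)
  refine ⟨G', φ, (inferInstance : IsIso (𝟙 G.U)), ?_, ?_⟩
  · rw [hj]
    exact (inferInstance : IsClosedImmersion G.j.imageι)
  · rw [hmap, hj]
    have h1 : G.j ≫ 𝟙 (pullback G.pU G.pU) = G.j := Category.comp_id _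
    have h2 : Scheme.Hom.ker ι = Scheme.Hom.ker (G.j ≫ 𝟙 (pullback G.pU G.pU)) := by
      rw [h1]; exact Scheme.IdealSheafData.ker_subschemeι _
    exact h2

end ImageJ

end Groth.Agent.Lib.Helper11.GrpdJ
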