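import Mathlib
import Groth.Prelude.Def_Grpd
import Groth.Agent.Lib.Helper11.GrpdLib
import Groth.Agent.Lib.Helper11.GrpdF

/-!
# Smoothness of reduced groupoid schemes on the spectrum of a perfect field (helper11)
-/

set_option autoImplicit false
universe u

open CategoryTheory CategoryTheory.Limits AlgebraicGeometry
open Groth.Agent.Lib.Helper11.GrpdLib

namespace Groth.Agent.Lib.Helper11.GrpdK

section SmoothLocus

theorem smooth_smoothLocus_ι {X Y : Scheme.{u}} (g : X ⟶ Y) [LocallyOfFinitePresentation g] :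
    Smooth (g.smoothLocus.ι ≫ g) := by
  rw [← Scheme.Hom.smoothLocus_eq_top_iff, ← Scheme.Hom.preimage_smoothLocus_eq]
  exact g.smoothLocus.ι_preimage_self

theorem le_smoothLocus_of_smooth {X Y : Scheme.{u}} (g : X ⟶ Y) [LocallyOfFinitePresentation g]
    (U : X.Opens) [Smooth (U.ι ≫ g)] : U ≤ g.smoothLocus := by
  have h1 : (U.ι ≫ g).smoothLocus = ⊤ := Scheme.Hom.smoothLocus_eq_top_iff.mpr inferInstance
  rw [← Scheme.Hom.preimage_smoothLocus_eq] at h1
  intro x hx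
  have : (⟨x, hx⟩ : U) ∈ U.ι ⁻¹ᵁ g.smoothLocus := by rw [h1]; trivial
  exact this

/-- transport of the smooth locus along an open immersion over the base -/
theorem mem_smoothLocus_iff_of_isOpenImmersion {X Y Z : Scheme.{u}} (φ : X ⟶ Y)
    [IsOpenImmersion φ] (f : X ⟶ Z) (g : Y ⟶ Z) [LocallyOfFinitePresentation f]
    [LocallyOfFinitePresentation g] (h : φ ≫ g = f) (x : X) :
    x ∈ f.smoothLocus ↔ φ x ∈ g.smoothLocus := by
  subst h
  rw [← Scheme.Hom.preimage_smoothLocus_eq]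
  rfl

/-- the smooth locus pulls back into the smooth locus of a base change -/
theorem preimage_smoothLocus_le_of_isPullback {X' X Y' Y : Scheme.{u}} {g' : X' ⟶ X}
    {f' : X' ⟶ Y'} {f : X ⟶ Y} {g : Y' ⟶ Y} (h : IsPullback g' f' f g)
    [LocallyOfFinitePresentation f] [LocallyOfFinitePresentation f'] :
    g' ⁻¹ᵁ f.smoothLocus ≤ f'.smoothLocus := by
  haveI : Smooth (f.smoothLocus.ι ≫ f) := smooth_smoothLocus_ι f
  have h1 : IsPullback (g' ∣_ f.smoothLocus) (g' ⁻¹ᵁ f.smoothLocus).ι f.smoothLocus.ι g' :=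
    isPullback_morphismRestrict g' f.smoothLocus
  have h2 : IsPullback (g' ∣_ f.smoothLocus) ((g' ⁻¹ᵁ f.smoothLocus).ι ≫ f')
      (f.smoothLocus.ι ≫ f) g := h1.paste_vert h
  haveI : Smooth ((g' ⁻¹ᵁ f.smoothLocus).ι ≫ f') :=
    MorphismProperty.of_isPullback (P := @Smooth) h2 inferInstance
  exact le_smoothLocus_of_smooth f' _

end SmoothLocus

section Points

variable {S : Scheme.{u}} (G : Grpd.GroupoidScheme S) {K : Type u} [Field K]

/-- the `K`-point `ρ` of the `s`-fibre over `v` -/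
noncomputable def pt (ρ : Spec (CommRingCat.of K) ⟶ G.R) (v : Spec (CommRingCat.of K) ⟶ G.U)
    (h : ρ ≫ G.s = v) : Spec (CommRingCat.of K) ⟶ pullback G.s v :=
  pullback.lift ρ (𝟙 _) (by rw [h, Category.id_comp])

theorem pt_fst (ρ : Spec (CommRingCat.of K) ⟶ G.R) (v : Spec (CommRingCat.of K) ⟶ G.U)
    (h : ρ ≫ G.s = v) : pt G ρ v h ≫ pullback.fst G.s v = ρ := pullback.lift_fst _ _ _

theorem pt_snd (ρ : Spec (CommRingCat.of K) ⟶ G.R) (v : Spec (CommRingCat.of K) ⟶ G.U)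
    (h : ρ ≫ G.s = v) : pt G ρ v h ≫ pullback.snd G.s v = 𝟙 _ := pullback.lift_snd _ _ _

theorem pt_congr {ρ ρ' : Spec (CommRingCat.of K) ⟶ G.R} (e : ρ = ρ')
    (v : Spec (CommRingCat.of K) ⟶ G.U) (h : ρ ≫ G.s = v) (h' : ρ' ≫ G.s = v) :
    pt G ρ v h = pt G ρ' v h' := by
  subst e; rfl

theorem pt_transMap (α β : Spec (CommRingCat.of K) ⟶ G.R)
    (v₁ v₂ : Spec (CommRingCat.of K) ⟶ G.U) (h₁ : β ≫ G.s = v₁) (h₂ : β ≫ G.t = v₂)
    (hα : α ≫ G.s = v₂) (hc : α ≫ G.s = β ≫ G.t) (hαβ : comp G α β hc ≫ G.s = v₁) :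
    pt G α v₂ hα ≫ GrpdF.transMap G β v₁ v₂ h₁ h₂ = pt G (comp G α β hc) v₁ hαβ := by
  apply pullback.hom_ext
  · rw [Category.assoc, GrpdF.transMap_fst, pt_fst]
    have hA : (pt G α v₂ hα ≫ pullback.fst G.s v₂) ≫ G.s =
        (pt G α v₂ hα ≫ pullback.snd G.s v₂ ≫ β) ≫ G.t := by
      rw [pt_fst, ← Category.assoc, pt_snd, Category.id_comp]; exact hc
    rw [precomp_comp _ _ _ _ hA]
    exact comp_congr (pt_fst G α v₂ hα)
      (by rw [← Category.assoc, pt_snd, Category.id_comp]) _ _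
  · rw [Category.assoc, GrpdF.transMap_snd, pt_snd, pt_snd]

theorem isIso_transMap (ρ : Spec (CommRingCat.of K) ⟶ G.R)
    (v₁ v₂ : Spec (CommRingCat.of K) ⟶ G.U) (h₁ : ρ ≫ G.s = v₁) (h₂ : ρ ≫ G.t = v₂) :
    IsIso (GrpdF.transMap G ρ v₁ v₂ h₁ h₂) := by
  subst h₁ h₂
  exact (GrpdF.transIso ρ).isIso_hom

variable [LocallyOfFinitePresentation G.s]

/-- a `K`-point lying over a point of the smooth locus of `s` is a smooth point of its fibre -/
theorem pt_mem_smoothLocus_of_mem (x : Spec (CommRingCat.of K) ⟶ G.R)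
    (v : Spec (CommRingCat.of K) ⟶ G.U) (h : x ≫ G.s = v) (a : ↥(Spec (CommRingCat.of K)))
    (hx : x a ∈ G.s.smoothLocus) : pt G x v h a ∈ (pullback.snd G.s v).smoothLocus := by
  have hle := preimage_smoothLocus_le_of_isPullback (IsPullback.of_hasPullback G.s v)
  apply hle
  show pullback.fst G.s v (pt G x v h a) ∈ G.s.smoothLocus
  rw [← Scheme.Hom.comp_apply, pt_fst]; exact hx

end Points

section Main

variable {S : Scheme.{u}} (G : Grpd.GroupoidScheme S) {k : Type u} [Field k]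
  (eU : G.U ≅ Spec (CommRingCat.of k))

include eU in
theorem isLocallyNoetherian_U : IsLocallyNoetherian G.U :=
  isLocallyNoetherian_of_isOpenImmersion eU.hom

include eU in
theorem exists_mem_smoothLocus [PerfectField k] [IsReduced G.R] [LocallyOfFinitePresentation G.s] :
    ∃ x₀ : G.R, x₀ ∈ G.s.smoothLocus := by
  haveI : LocallyOfFinitePresentation (G.s ≫ eU.hom) := inferInstance
  have hd := Scheme.Hom.dense_smoothLocus_of_perfectField (G.s ≫ eU.hom)
  haveI : Nonempty G.R := ⟨G.e (eU.inv (IsLocalRing.closedPoint k))⟩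
  obtain ⟨x, hx⟩ := hd.nonempty
  haveI : Smooth ((G.s ≫ eU.hom).smoothLocus.ι ≫ G.s ≫ eU.hom) := smooth_smoothLocus_ι _
  haveI : Smooth ((G.s ≫ eU.hom).smoothLocus.ι ≫ G.s) := by
    have e : (G.s ≫ eU.hom).smoothLocus.ι ≫ G.s =
        ((G.s ≫ eU.hom).smoothLocus.ι ≫ G.s ≫ eU.hom) ≫ eU.inv := by simp
    rw [e]; infer_instance
  exact ⟨x, le_smoothLocus_of_smooth G.s _ hx⟩

variable {K : Type u} [Field K] [IsAlgClosed K]

include eU in
/-- every `K`-point of `R` is a smooth point of its `s`-fibre -/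
theorem pt_mem_smoothLocus [PerfectField k] [IsReduced G.R] [LocallyOfFinitePresentation G.s]
    [LocallyOfFiniteType G.t] (r : Spec (CommRingCat.of K) ⟶ G.R)
    (v : Spec (CommRingCat.of K) ⟶ G.U) (h : r ≫ G.s = v) (a : ↥(Spec (CommRingCat.of K))) :
    pt G r v h a ∈ (pullback.snd G.s v).smoothLocus := by
  obtain ⟨x₀, hx₀⟩ := exists_mem_smoothLocus G eU
  haveI := GrpdF.subsingleton_U G eU
  haveI : Surjective (r ≫ G.t) := ⟨fun u => ⟨a, Subsingleton.elim _ _⟩⟩
  obtain ⟨y₀, hy₀⟩ := (pullback.fst G.t (r ≫ G.t)).surjective x₀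
  have hO : ((pullback.fst G.t (r ≫ G.t) ⁻¹ᵁ G.s.smoothLocus : (pullback G.t (r ≫ G.t)).Opens) :
      Set ↥(pullback G.t (r ≫ G.t))).Nonempty :=
    ⟨y₀, by show pullback.fst G.t (r ≫ G.t) y₀ ∈ G.s.smoothLocus; rw [hy₀]; exact hx₀⟩
  haveI : JacobsonSpace ↥(pullback G.t (r ≫ G.t)) :=
    LocallyOfFiniteType.jacobsonSpace (pullback.snd G.t (r ≫ G.t))
  obtain ⟨y, hyO, hycl⟩ := nonempty_inter_closedPoints hO
    (pullback.fst G.t (r ≫ G.t) ⁻¹ᵁ G.s.smoothLocus).isOpen.isLocallyClosed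
  have hy'snd : pointOfClosedPoint (pullback.snd G.t (r ≫ G.t)) y hycl ≫
      pullback.snd G.t (r ≫ G.t) = 𝟙 _ := pointOfClosedPoint_comp _ _ _
  set γ : Spec (CommRingCat.of K) ⟶ G.R :=
    pointOfClosedPoint (pullback.snd G.t (r ≫ G.t)) y hycl ≫ pullback.fst G.t (r ≫ G.t) with hγ
  have hγt : γ ≫ G.t = r ≫ G.t := by
    rw [hγ, Category.assoc, pullback.condition, ← Category.assoc, hy'snd, Category.id_comp]
  have hγV : γ a ∈ G.s.smoothLocus := by
    rw [hγ, Scheme.Hom.comp_apply, pointOfClosedPoint_apply]; exact hyO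
  have h1 := pt_mem_smoothLocus_of_mem G γ (γ ≫ G.s) rfl a hγV
  have hc1 : (γ ≫ G.i) ≫ G.s = r ≫ G.t := by rw [Category.assoc, G.i_s, hγt]
  have hβs : comp G (γ ≫ G.i) r hc1 ≫ G.s = v := by rw [comp_s, h]
  have hβt : comp G (γ ≫ G.i) r hc1 ≫ G.t = γ ≫ G.s := by rw [comp_t, Category.assoc, G.i_t]
  have hc2 : γ ≫ G.s = comp G (γ ≫ G.i) r hc1 ≫ G.t := hβt.symm
  have hγβ : comp G γ (comp G (γ ≫ G.i) r hc1) hc2 = r := comp_inv_comp γ r hγt hc1 hc2
  haveI := isIso_transMap G (comp G (γ ≫ G.i) r hc1) v (γ ≫ G.s) hβs hβt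
  have hpt := pt_transMap G γ (comp G (γ ≫ G.i) r hc1) v (γ ≫ G.s) hβs hβt rfl hc2
    (by rw [comp_s, hβs])
  have h2 := (mem_smoothLocus_iff_of_isOpenImmersion
    (GrpdF.transMap G (comp G (γ ≫ G.i) r hc1) v (γ ≫ G.s) hβs hβt)
    (pullback.snd G.s (γ ≫ G.s)) (pullback.snd G.s v)
    (GrpdF.transMap_snd (comp G (γ ≫ G.i) r hc1) v (γ ≫ G.s) hβs hβt)
    (pt G γ (γ ≫ G.s) rfl a)).mp h1
  rw [← Scheme.Hom.comp_apply, hpt] at h2
  rw [pt_congr G hγβ.symm v h (by rw [comp_s, hβs])]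
  exact h2

include eU in
theorem smooth_s [PerfectField k] [IsReduced G.R] [LocallyOfFiniteType G.s]
    [LocallyOfFiniteType G.t] : Smooth G.s := by
  haveI := isLocallyNoetherian_U G eU
  haveI : LocallyOfFinitePresentation G.s := inferInstance
  haveI : IsAffine G.U := .of_isIso eU.hom
  haveI := GrpdF.subsingleton_U G eU
  set w₀ : Spec (CommRingCat.of (AlgebraicClosure k)) ⟶ G.U :=
    Spec.map (CommRingCat.ofHom (algebraMap k (AlgebraicClosure k))) ≫ eU.inv with hw₀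
  haveI : JacobsonSpace ↥(pullback G.s w₀) :=
    LocallyOfFiniteType.jacobsonSpace (pullback.snd G.s w₀)
  have hall : (pullback.snd G.s w₀).smoothLocus = ⊤ := by
    by_contra hne
    have hZ : (((pullback.snd G.s w₀).smoothLocus : Set ↥(pullback G.s w₀))ᶜ).Nonempty := by
      rw [Set.nonempty_compl]
      intro hh
      apply hne
      ext x
      simp only [hh, Set.mem_univ, TopologicalSpace.Opens.coe_top]
    obtain ⟨y, hyZ, hycl⟩ := nonempty_inter_closedPoints hZ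
      (pullback.snd G.s w₀).smoothLocus.isOpen.isClosed_compl.isLocallyClosed
    have hy'snd : pointOfClosedPoint (pullback.snd G.s w₀) y hycl ≫ pullback.snd G.s w₀ = 𝟙 _ :=
      pointOfClosedPoint_comp _ _ _
    have hr : (pointOfClosedPoint (pullback.snd G.s w₀) y hycl ≫ pullback.fst G.s w₀) ≫ G.s =
        w₀ := by
      rw [Category.assoc, pullback.condition, ← Category.assoc, hy'snd, Category.id_comp]
    have hpt : pt G (pointOfClosedPoint (pullback.snd G.s w₀) y hycl ≫ pullback.fst G.s w₀) w₀ hr =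
        pointOfClosedPoint (pullback.snd G.s w₀) y hycl := by
      apply pullback.hom_ext
      · rw [pt_fst]
      · rw [pt_snd, hy'snd]
    have hmem := pt_mem_smoothLocus G eU
      (pointOfClosedPoint (pullback.snd G.s w₀) y hycl ≫ pullback.fst G.s w₀) w₀ hr
      (IsLocalRing.closedPoint (AlgebraicClosure k))
    rw [hpt, pointOfClosedPoint_apply] at hmem
    exact hyZ hmem
  haveI : Smooth (pullback.snd G.s w₀) := Scheme.Hom.smoothLocus_eq_top_iff.mp hall
  haveI : Flat w₀ := GrpdF.flat_fieldPt G eU w₀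
  haveI : Surjective w₀ :=
    ⟨fun u => ⟨IsLocalRing.closedPoint (AlgebraicClosure k), Subsingleton.elim _ _⟩⟩
  haveI : QuasiCompact w₀ := inferInstance
  have hQ : (@Surjective ⊓ @Flat ⊓ @QuasiCompact : MorphismProperty Scheme.{u}) w₀ :=
    ⟨⟨inferInstance, inferInstance⟩, inferInstance⟩
  exact MorphismProperty.of_pullback_snd_of_descendsAlong (P := @Smooth)
    (Q := @Surjective ⊓ @Flat ⊓ @QuasiCompact) hQ inferInstance

include eU in
theorem smooth_t [PerfectField k] [IsReduced G.R] [LocallyOfFiniteType G.s]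
    [LocallyOfFiniteType G.t] : Smooth G.t := by
  haveI := smooth_s G eU
  haveI : IsIso G.i := isIso_i
  rw [← G.i_s]
  infer_instance

end Main

end Groth.Agent.Lib.Helper11.GrpdK
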