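import Mathlib
import Groth.Prelude.Def_Grpd
import Groth.Prelude.Def_Flat
import Groth.Agent.Lib.Helper11.GrpdLib
import Groth.Agent.Lib.Helper11.GrpdF
import Groth.Agent.Lib.Helper12.BaseChange2
import Groth.Agent.Lib.Helper12.SchemeDimFT4
import Groth.Agent.Lib.Helper12.SchemeDimIneq2
import Groth.Agent.Lib.Helper12.TopFibreDim
import Groth.Agent.Lib.Helper9.TopDim

/-!
# Dimension theory of groupoid schemes on the spectrum of a field (helper11)

Uses the dimension theory of schemes locally of finite type over a field built by helper12/helper9.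
-/

set_option autoImplicit false
universe u

open CategoryTheory CategoryTheory.Limits AlgebraicGeometry
open Groth.Agent.Lib.Helper11.GrpdLib
open Groth.Agent.Lib.Helper12 Groth.Agent.Lib.Helper12.SchemeDimFT

namespace Groth.Agent.Lib.Helper11.GrpdL

variable {S : Scheme.{u}} (G : Grpd.GroupoidScheme S) {k : Type u} [Field k]
  (eU : G.U ≅ Spec (CommRingCat.of k)) [LocallyOfFiniteType G.s]

include eU in
/-- base change invariance of the local dimension for the `s`-fibres -/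
theorem localDim_fibre {K : Type u} [Field K] (v : Spec (CommRingCat.of K) ⟶ G.U)
    (z : ↑(pullback G.s v)) :
    FlatMor.localDim ↥(pullback G.s v) z = FlatMor.localDim ↥G.R (pullback.fst G.s v z) := by
  haveI : LocallyOfFiniteType (G.s ≫ eU.hom) := inferInstance
  have hP : IsPullback (pullback.fst G.s v) (pullback.snd G.s v) (G.s ≫ eU.hom) (v ≫ eU.hom) :=
    IsPullback.of_isLimit (pullbackIsPullbackOfCompMono G.s v eU.hom)
  have hφ : Spec.map (CommRingCat.ofHom (Spec.preimage (v ≫ eU.hom)).hom) = v ≫ eU.hom := by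
    rw [CommRingCat.ofHom_hom, Spec.map_preimage]
  rw [← hφ] at hP
  exact BaseChange.localDim_of_isPullback_field k K (Spec.preimage (v ≫ eU.hom)).hom
    (G.s ≫ eU.hom) _ _ hP z

include eU in
theorem localDim_eq_unit {K : Type u} [Field K] (ρ : Spec (CommRingCat.of K) ⟶ G.R)
    (a : ↥(Spec (CommRingCat.of K))) :
    FlatMor.localDim ↥G.R (ρ a) = FlatMor.localDim ↥G.R (G.e (G.t (ρ a))) := by
  have h1 := localDim_fibre G eU (ρ ≫ G.s) (GrpdF.ptS G ρ a)
  have h2 := localDim_fibre G eU (ρ ≫ G.t) (GrpdF.eS G (ρ ≫ G.t) a)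
  have h3 := TopFibreDim.localDim_homeomorph (Scheme.homeoOfIso (GrpdF.transIso ρ))
    (GrpdF.eS G (ρ ≫ G.t) a)
  have h4 : (Scheme.homeoOfIso (GrpdF.transIso ρ)) (GrpdF.eS G (ρ ≫ G.t) a) =
      GrpdF.ptS G ρ a := by
    show (GrpdF.transIso ρ).hom (GrpdF.eS G (ρ ≫ G.t) a) = _
    rw [← Scheme.Hom.comp_apply, GrpdF.eS_transIso]
  have h5 : pullback.fst G.s (ρ ≫ G.s) (GrpdF.ptS G ρ a) = ρ a := by
    rw [← Scheme.Hom.comp_apply]; unfold GrpdF.ptS; rw [pullback.lift_fst]
  have h6 : pullback.fst G.s (ρ ≫ G.t) (GrpdF.eS G (ρ ≫ G.t) a) = G.e (G.t (ρ a)) := by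
    rw [← Scheme.Hom.comp_apply]; unfold GrpdF.eS
    rw [pullback.lift_fst, Scheme.Hom.comp_apply, Scheme.Hom.comp_apply]
  rw [h5] at h1; rw [h6] at h2; rw [h4] at h3
  rw [← h1, ← h3, h2]

include eU in
theorem localDim_const (r : G.R) :
    FlatMor.localDim ↥G.R r = FlatMor.localDim ↥G.R (G.e (G.t r)) := by
  have h := localDim_eq_unit G eU (K := G.R.residueField r) (G.R.fromSpecResidueField r)
    (IsLocalRing.closedPoint (G.R.residueField r))
  rwa [Scheme.fromSpecResidueField_apply] at h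

include eU in
theorem equidim :
    (∀ Z ∈ irreducibleComponents ↥G.R, topologicalKrullDim ↥Z = topologicalKrullDim ↥G.R) ∧
      ∀ r : G.R, FlatMor.localDim ↥G.R r = topologicalKrullDim ↥G.R := by
  haveI := GrpdF.subsingleton_U G eU
  have hconst : ∀ r₁ r₂ : G.R, FlatMor.localDim ↥G.R r₁ = FlatMor.localDim ↥G.R r₂ := by
    intro r₁ r₂
    rw [localDim_const G eU r₁, localDim_const G eU r₂, Subsingleton.elim (G.t r₁) (G.t r₂)]
  have hdim : ∀ r : G.R, FlatMor.localDim ↥G.R r = topologicalKrullDim ↥G.R := by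
    intro r
    rw [Groth.Agent.Lib.Helper9.topologicalKrullDim_eq_iSup_localDim]
    apply le_antisymm
    · exact le_iSup (fun x => FlatMor.localDim ↥G.R x) r
    · exact iSup_le fun x => (hconst x r).le
  refine ⟨?_, hdim⟩
  intro Z hZ
  letI : G.R.Over (Spec (CommRingCat.of k)) := ⟨G.s ≫ eU.hom⟩
  haveI : LocallyOfFiniteType (G.R ↘ Spec (CommRingCat.of k)) :=
    (inferInstance : LocallyOfFiniteType (G.s ≫ eU.hom))
  obtain ⟨ζ, hζ, rfl⟩ := (mem_irreducibleComponents_iff Z).mp hZ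
  rw [topologicalKrullDim_closure_singleton k G.R ζ, ← hdim ζ]
  obtain ⟨V, hV, hζV⟩ := exists_affineOpen_mem G.R ζ
  have hb : ringKrullDim (G.R.presheaf.stalk ζ) = ((0 : ℕ) : WithBot ℕ∞) := by
    rw [ringKrullDim_stalk_eq_height' V hV ⟨ζ, hζV⟩,
      (isMaxPt_iff_height_eq_zero hV ⟨ζ, hζV⟩).mp hζ]
    rfl
  rw [localDim_eq k G.R ζ (tr k G.R ζ) 0 (tr_spec k G.R ζ) hb]
  simp

include eU in
theorem ringKrullDim_stalk_closedPoint (r : G.R) (hr : IsClosed ({r} : Set G.R)) :
    (ringKrullDim (G.R.presheaf.stalk r) : WithBot ℕ∞) = topologicalKrullDim G.R := by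
  letI : G.R.Over (Spec (CommRingCat.of k)) := ⟨G.s ≫ eU.hom⟩
  haveI : LocallyOfFiniteType (G.R ↘ Spec (CommRingCat.of k)) :=
    (inferInstance : LocallyOfFiniteType (G.s ≫ eU.hom))
  obtain ⟨b, hb⟩ := SchemeDimIneq.exists_ringKrullDim_stalk_eq k G.R r
  have h0 : tr k G.R r = 0 := tr_eq_zero_of_isClosed k G.R r hr
  have h1 := localDim_eq k G.R r (tr k G.R r) b (tr_spec k G.R r) hb
  rw [h0] at h1
  rw [← (equidim G eU).2 r, h1, hb]
  simp

end Groth.Agent.Lib.Helper11.GrpdL
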