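import Mathlib
import Groth.Prelude.Def_AlgGrp
import Groth.Agent.Lib.Helper11.OrbA

/-!
# Orbits of group scheme actions over a field: the image of the graph morphism and open orbits
(helper11)
-/

set_option autoImplicit false
universe u

open CategoryTheory CategoryTheory.Limits MonoidalCategory CartesianMonoidalCategory MonObj GrpObj
  AlgebraicGeometry Topology
open Groth.Agent.Lib.Helper11.GrpA Groth.Agent.Lib.Helper11.GrpD Groth.Agent.Lib.Helper11.ActA
  Groth.Agent.Lib.Helper11.ActB Groth.Agent.Lib.Helper11.ActF Groth.Agent.Lib.Helper11.ActG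
  Groth.Agent.Lib.Helper11.OrbA

namespace Groth.Agent.Lib.Helper11.OrbB

section General

variable {S : Scheme.{u}} {G X : Over S} [GrpObj G] (a : AlgGrp.Action G X)

/-- `(g, x) ↦ (g x, x)` -/
noncomputable abbrev Phi : G ⊗ X ⟶ X ⊗ X := lift a.act (snd G X)

/-- the image of the graph morphism, as a set of points of `X ⊗ X` -/
def Img : Set ↥(X ⊗ X).left := Set.range (Phi a).left

theorem range_graph_eq : Set.range (lift (snd G X) a.act).left = Img a := by
  have h1 : lift (snd G X) a.act = tau a ≫ Phi a := by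
    unfold Phi
    rw [comp_lift, tau_act, tau_snd]
  have h2 : Phi a = tau a ≫ lift (snd G X) a.act := by
    unfold Phi
    rw [comp_lift, tau_act, tau_snd]
  apply Set.Subset.antisymm
  · rintro _ ⟨ζ, rfl⟩
    refine ⟨(tau a).left ζ, ?_⟩
    rw [← Scheme.Hom.comp_apply, ← Over.comp_left, ← h1]
  · rintro _ ⟨ζ, rfl⟩
    refine ⟨(tau a).left ζ, ?_⟩
    rw [← Scheme.Hom.comp_apply, ← Over.comp_left, ← h2]

/-- two `T`-points are related when the point `(y₁, y₂)` lies in the image of the graph -/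
def RelI {T : Over S} (y₁ y₂ : T ⟶ X) : Prop :=
  ∀ s : ↥T.left, (lift y₁ y₂).left s ∈ Img a

theorem relI_of_tpt {T : Over S} (g : T ⟶ G) (y : T ⟶ X) : RelI a (actT a g y) y := by
  intro s
  refine ⟨(lift g y).left s, ?_⟩
  rw [← Scheme.Hom.comp_apply, ← Over.comp_left]
  congr 3
  unfold Phi actT
  rw [comp_lift, lift_snd]

theorem relI_comp {T T' : Over S} (f : T' ⟶ T) {y₁ y₂ : T ⟶ X} (h : RelI a y₁ y₂) :
    RelI a (f ≫ y₁) (f ≫ y₂) := by
  intro s
  have : (lift (f ≫ y₁) (f ≫ y₂)).left s = (lift y₁ y₂).left (f.left s) := by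
    rw [← Scheme.Hom.comp_apply, ← Over.comp_left, comp_lift]
  rw [this]
  exact h _

theorem relI_of_comp {T T' : Over S} (f : T' ⟶ T) (hf : Function.Surjective f.left)
    {y₁ y₂ : T ⟶ X} (h : RelI a (f ≫ y₁) (f ≫ y₂)) : RelI a y₁ y₂ := by
  intro s
  obtain ⟨s', rfl⟩ := hf s
  have : (lift (f ≫ y₁) (f ≫ y₂)).left s' = (lift y₁ y₂).left (f.left s') := by
    rw [← Scheme.Hom.comp_apply, ← Over.comp_left, comp_lift]
  rw [← this]
  exact h _

end General

section Field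

variable {k : Type u} [Field k]
variable {G X : Over (Spec (CommRingCat.of k))} [GrpObj G] (a : AlgGrp.Action G X)

theorem surjective_of_isFieldPt {T T' : Over (Spec (CommRingCat.of k))} (hT : IsFieldPt T)
    (hT' : IsFieldPt T') (f : T' ⟶ T) : Function.Surjective f.left := by
  haveI := hT.subsingleton
  haveI := hT'.nonempty
  exact fun y => ⟨Classical.arbitrary _, Subsingleton.elim _ _⟩

theorem relI_iff {T : Over (Spec (CommRingCat.of k))} (hT : IsFieldPt T) (y₁ y₂ : T ⟶ X) :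
    RelI a y₁ y₂ ↔ ∃ (T' : Over (Spec (CommRingCat.of k))) (_ : IsFieldPt T') (f : T' ⟶ T)
      (g : T' ⟶ G), actT a g (f ≫ y₂) = f ≫ y₁ := by
  constructor
  · intro h
    haveI := hT.nonempty
    obtain ⟨ζ, hζ⟩ := h (Classical.arbitrary _)
    obtain ⟨T', hT', u₁, u₂, hu, -, -⟩ :=
      exists_common_point (lift y₁ y₂) (Phi a) (Classical.arbitrary _) ζ hζ.symm
    refine ⟨T', hT', u₁, u₂ ≫ fst G X, ?_⟩
    have h1 : u₂ ≫ a.act = u₁ ≫ y₁ := by
      have := congrArg (· ≫ fst X X) hu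
      simp only [Category.assoc, lift_fst] at this
      exact this.symm
    have h2 : u₂ ≫ snd G X = u₁ ≫ y₂ := by
      have := congrArg (· ≫ snd X X) hu
      simp only [Category.assoc, lift_snd] at this
      exact this.symm
    unfold actT
    rw [← h2, ← h1]
    congr 1
    refine CartesianMonoidalCategory.hom_ext _ _ ?_ ?_
    · rw [lift_fst]
    · rw [lift_snd]
  · rintro ⟨T', hT', f, g, hg⟩
    apply relI_of_comp a f (surjective_of_isFieldPt hT hT' f)
    rw [← hg]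
    exact relI_of_tpt a g (f ≫ y₂)

theorem relI_symm {T : Over (Spec (CommRingCat.of k))} (hT : IsFieldPt T) {y₁ y₂ : T ⟶ X}
    (h : RelI a y₁ y₂) : RelI a y₂ y₁ := by
  obtain ⟨T', hT', f, g, hg⟩ := (relI_iff a hT y₁ y₂).mp h
  refine (relI_iff a hT y₂ y₁).mpr ⟨T', hT', f, g⁻¹, ?_⟩
  rw [← hg, inv_actT_actT]

theorem relI_trans {T : Over (Spec (CommRingCat.of k))} (hT : IsFieldPt T) {y₁ y₂ y₃ : T ⟶ X}
    (h₁ : RelI a y₁ y₂) (h₂ : RelI a y₂ y₃) : RelI a y₁ y₃ := by
  obtain ⟨T₁, hT₁, f₁, g₁, hg₁⟩ := (relI_iff a hT y₁ y₂).mp h₁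
  obtain ⟨T₂, hT₂, f₂, g₂, hg₂⟩ := (relI_iff a hT y₂ y₃).mp h₂
  haveI := hT₁.nonempty
  haveI := hT₂.nonempty
  haveI := hT.subsingleton
  obtain ⟨T₃, hT₃, u₁, u₂, hu, -, -⟩ := exists_common_point f₁ f₂
    (Classical.arbitrary _) (Classical.arbitrary _) (Subsingleton.elim _ _)
  refine (relI_iff a hT y₁ y₃).mpr ⟨T₃, hT₃, u₁ ≫ f₁, (u₁ ≫ g₁) * (u₂ ≫ g₂), ?_⟩
  rw [mul_actT]
  have e1 : actT a (u₂ ≫ g₂) ((u₁ ≫ f₁) ≫ y₃) = (u₁ ≫ f₁) ≫ y₂ := by
    rw [hu, Category.assoc, ← comp_actT, hg₂, Category.assoc]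
  rw [e1, Category.assoc, ← comp_actT, hg₁, Category.assoc]


end Field

section Orbits

variable {S : Scheme.{u}} {G X : Over S} [GrpObj G] (a : AlgGrp.Action G X)

theorem act_of_stableUnderBaseChange (P : MorphismProperty Scheme.{u})
    [P.IsStableUnderBaseChange] [P.RespectsIso] (h : P G.hom) : P a.act.left := by
  have h1 : P (snd G X).left := by
    have : (snd G X).left = Limits.pullback.snd G.hom X.hom := rfl
    rw [this]
    exact MorphismProperty.pullback_snd (P := P) _ _ h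
  have h2 : a.act.left = ((Over.forget _).mapIso (shearX a)).hom ≫ (snd G X).left := by
    change _ = (shearX a).hom.left ≫ (snd G X).left
    rw [← Over.comp_left, shearX_hom_snd]
  rw [h2]
  exact (MorphismProperty.cancel_left_of_respectsIso P _ _).mpr h1

/-- the orbit of a set of points -/
def Orb (S' : Set ↥X.left) : Set ↥X.left := a.act.left '' ((snd G X).left ⁻¹' S')

theorem subset_Orb (S' : Set ↥X.left) : S' ⊆ Orb a S' := by
  intro x hx
  have h1 : lift (1 : X ⟶ G) (𝟙 X) ≫ snd G X = 𝟙 X := lift_snd _ _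
  have h2 : lift (1 : X ⟶ G) (𝟙 X) ≫ a.act = 𝟙 X := one_actT a (𝟙 X)
  refine ⟨(lift (1 : X ⟶ G) (𝟙 X)).left x, ?_, ?_⟩
  · show (snd G X).left ((lift (1 : X ⟶ G) (𝟙 X)).left x) ∈ S'
    rw [← Scheme.Hom.comp_apply, ← Over.comp_left, h1]
    exact hx
  · rw [← Scheme.Hom.comp_apply, ← Over.comp_left, h2]
    rfl

/-- `(g, (h, x)) ↦ (g h, x)` -/
noncomputable def mulX : G ⊗ (G ⊗ X) ⟶ G ⊗ X :=
  lift (fst G (G ⊗ X) * (snd G (G ⊗ X) ≫ fst G X)) (snd G (G ⊗ X) ≫ snd G X)

theorem mulX_snd : mulX (G := G) (X := X) ≫ snd G X = snd G (G ⊗ X) ≫ snd G X := lift_snd _ _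

theorem mulX_act : mulX ≫ a.act = (G ◁ a.act) ≫ a.act := by
  have h3 : (G ◁ a.act) = lift (fst G (G ⊗ X)) (snd G (G ⊗ X) ≫ a.act) := by
    refine CartesianMonoidalCategory.hom_ext _ _ ?_ ?_
    · rw [whiskerLeft_fst, lift_fst]
    · rw [whiskerLeft_snd, lift_snd]
  have h4 : snd G (G ⊗ X) ≫ a.act =
      actT a (snd G (G ⊗ X) ≫ fst G X) (snd G (G ⊗ X) ≫ snd G X) := by
    unfold actT
    rw [← comp_lift, lift_fst_snd, Category.comp_id]
  calc mulX ≫ a.act = actT a (fst G (G ⊗ X) * (snd G (G ⊗ X) ≫ fst G X))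
        (snd G (G ⊗ X) ≫ snd G X) := rfl
    _ = actT a (fst G (G ⊗ X)) (snd G (G ⊗ X) ≫ a.act) := by rw [mul_actT, ← h4]
    _ = (G ◁ a.act) ≫ a.act := by rw [h3]; rfl

theorem stab_Orb (S' : Set ↥X.left) : Stab a (Orb a S') := by
  rintro p ⟨ζ', hζ'S, hζ'⟩
  have hsq : IsPullback (G ◁ a.act).left (snd G (G ⊗ X)).left (snd G X).left a.act.left :=
    (isPullback_whiskerLeft X a.act G).map (Over.forget _)
  obtain ⟨θ, hθ1, hθ2⟩ := Scheme.exists_preimage_of_isPullback hsq p ζ' hζ'.symm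
  refine ⟨mulX.left θ, ?_, ?_⟩
  · show (snd G X).left (mulX.left θ) ∈ S'
    rw [← Scheme.Hom.comp_apply, ← Over.comp_left, mulX_snd, Over.comp_left,
      Scheme.Hom.comp_apply, hθ2]
    exact hζ'S
  · rw [← Scheme.Hom.comp_apply, ← Over.comp_left, mulX_act, Over.comp_left,
      Scheme.Hom.comp_apply, hθ1]

end Orbits

section Restrict

variable {S : Scheme.{u}} {G X : Over S} [GrpObj G] (a : AlgGrp.Action G X) (U : X.left.Opens)

/-- the open subscheme as an object over `S` -/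
abbrev UOv : Over S := Over.mk (U.ι ≫ X.hom)

/-- the inclusion -/
abbrev ιOv : UOv U ⟶ X := Over.homMk U.ι rfl

instance mono_ιOv : Mono (ιOv U) := by
  haveI : Mono ((Over.forget S).map (ιOv U)) := inferInstanceAs (Mono U.ι)
  exact (Over.forget S).mono_of_mono_map inferInstance

theorem ιOv_left_mem (z : ↥(UOv U).left) : (ιOv U).left z ∈ U := by
  have : (ιOv U).left z ∈ Set.range U.ι := ⟨z, rfl⟩
  rwa [Scheme.Opens.range_ι] at this

theorem exists_ιOv_eq (x : ↥X.left) (hx : x ∈ U) : ∃ z : ↥(UOv U).left, (ιOv U).left z = x := by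
  have : x ∈ Set.range U.ι := by rw [Scheme.Opens.range_ι]; exact hx
  exact this

theorem exists_factor (T : Over S) (y : T ⟶ X) (h : ∀ s, y.left s ∈ U) :
    ∃ y₀ : T ⟶ UOv U, y₀ ≫ ιOv U = y := by
  have hr : Set.range y.left ⊆ Set.range U.ι := by
    rw [Scheme.Opens.range_ι]
    rintro _ ⟨s, rfl⟩
    exact h s
  refine ⟨Over.homMk (IsOpenImmersion.lift U.ι y.left hr) ?_, ?_⟩
  · change IsOpenImmersion.lift U.ι y.left hr ≫ U.ι ≫ X.hom = T.hom
    rw [IsOpenImmersion.lift_fac_assoc]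
    exact Over.w y
  · ext
    exact IsOpenImmersion.lift_fac _ _ _

theorem stab_of_restrict (b : AlgGrp.Action G (UOv U))
    (hb : (G ◁ ιOv U) ≫ a.act = b.act ≫ ιOv U) : Stab a (U : Set ↥X.left) := by
  intro p hp
  have hsq : IsPullback (G ◁ ιOv U).left (snd G (UOv U)).left (snd G X).left (ιOv U).left :=
    (isPullback_whiskerLeft X (ιOv U) G).map (Over.forget _)
  obtain ⟨q, hq⟩ := exists_ιOv_eq U _ hp
  obtain ⟨ζ, hζ1, hζ2⟩ := Scheme.exists_preimage_of_isPullback hsq p q hq.symm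
  rw [← hζ1, ← Scheme.Hom.comp_apply, ← Over.comp_left, hb, Over.comp_left, Scheme.Hom.comp_apply]
  exact ιOv_left_mem U _

theorem exists_restrict_action (hU : Stab a (U : Set ↥X.left)) :
    ∃ b : AlgGrp.Action G (UOv U), (G ◁ ιOv U) ≫ a.act = b.act ≫ ιOv U := by
  obtain ⟨bact, hbact⟩ := exists_factor U (G ⊗ UOv U) ((G ◁ ιOv U) ≫ a.act) (by
    intro p
    rw [Over.comp_left, Scheme.Hom.comp_apply]
    apply hU
    rw [← Scheme.Hom.comp_apply, ← Over.comp_left, whiskerLeft_snd, Over.comp_left,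
      Scheme.Hom.comp_apply]
    exact ιOv_left_mem U _)
  refine ⟨⟨bact, ?_, ?_⟩, hbact.symm⟩
  · rw [← cancel_mono (ιOv U), Category.assoc, hbact, ← whisker_exchange_assoc, a.one_act,
      leftUnitor_naturality]
  · rw [← cancel_mono (ιOv U)]
    simp only [Category.assoc]
    rw [hbact, ← whisker_exchange_assoc, a.mul_act]
    have h1 : (G ◁ bact) ≫ (G ◁ ιOv U) = G ◁ G ◁ ιOv U ≫ G ◁ a.act := by
      rw [← MonoidalCategory.whiskerLeft_comp, hbact, MonoidalCategory.whiskerLeft_comp]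
    rw [reassoc_of% h1, associator_naturality_right_assoc]

theorem whisker_Phi (b : AlgGrp.Action G (UOv U))
    (hb : (G ◁ ιOv U) ≫ a.act = b.act ≫ ιOv U) :
    (G ◁ ιOv U) ≫ Phi a = Phi b ≫ (ιOv U ⊗ₘ ιOv U) := by
  unfold Phi
  rw [comp_lift, hb, whiskerLeft_snd, lift_map]

theorem Img_restrict_subset (b : AlgGrp.Action G (UOv U))
    (hb : (G ◁ ιOv U) ≫ a.act = b.act ≫ ιOv U) (w' : ↥(UOv U ⊗ UOv U).left) (h : w' ∈ Img b) :
    (ιOv U ⊗ₘ ιOv U).left w' ∈ Img a := by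
  obtain ⟨ζ', rfl⟩ := h
  refine ⟨(G ◁ ιOv U).left ζ', ?_⟩
  rw [← Scheme.Hom.comp_apply, ← Over.comp_left, whisker_Phi a U b hb, Over.comp_left,
    Scheme.Hom.comp_apply]

end Restrict


section Field2

variable {k : Type u} [Field k]
variable {G X : Over (Spec (CommRingCat.of k))} [GrpObj G] (a : AlgGrp.Action G X)

theorem isOpenMap_act_of_field : IsOpenMap a.act.left := by
  have h : UniversallyOpen (show G.left ⟶ Spec (CommRingCat.of k) from G.hom) := inferInstance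
  haveI : UniversallyOpen a.act.left := act_of_stableUnderBaseChange a @UniversallyOpen h
  exact a.act.left.isOpenMap

theorem isOpen_Orb {S' : Set ↥X.left} (hS' : IsOpen S') : IsOpen (Orb a S') :=
  isOpenMap_act_of_field a _ (hS'.preimage (snd G X).left.continuous)

theorem irreducibleSpace_tensor [GeometricallyIrreducible X.hom]
    (T : Over (Spec (CommRingCat.of k))) [IrreducibleSpace ↥T.left] :
    IrreducibleSpace ↥(X ⊗ T).left := by
  have hXuo : UniversallyOpen (show X.left ⟶ Spec (CommRingCat.of k) from X.hom) := inferInstance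
  haveI : UniversallyOpen X.hom := hXuo
  show IrreducibleSpace ↥(pullback X.hom T.hom)
  infer_instance

theorem irreducibleSpace_of_geometricallyIrreducible [GeometricallyIrreducible X.hom] :
    IrreducibleSpace ↥X.left := by
  obtain ⟨fX, hfX⟩ : ∃ fX : X.left ⟶ Spec (CommRingCat.of k), fX = X.hom := ⟨_, rfl⟩
  haveI : GeometricallyIrreducible fX := hfX ▸ inferInstance
  exact GeometricallyIrreducible.irreducibleSpace_of_subsingleton fX

theorem relI_of_mem_snd_image [GeometricallyIrreducible X.hom] {V : Set ↥(X ⊗ X).left}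
    (hVo : IsOpen V) (hVI : V ⊆ Img a) {T : Over (Spec (CommRingCat.of k))} (hT : IsFieldPt T)
    (y' y'' : T ⟶ X) (s : ↥T.left) (h' : y'.left s ∈ (snd X X).left '' V)
    (h'' : y''.left s ∈ (snd X X).left '' V) : RelI a y' y'' := by
  haveI := hT.irreducibleSpace
  haveI : IrreducibleSpace ↥(X ⊗ T).left := irreducibleSpace_tensor T
  have key : ∀ y : T ⟶ X, y.left s ∈ (snd X X).left '' V → ((X ◁ y).left ⁻¹' V).Nonempty := by
    rintro y ⟨w, hwV, hw⟩
    obtain ⟨v, hv1, hv2⟩ :=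
      Scheme.exists_preimage_of_isPullback (isPullback_whiskerLeft_left y X) w s hw
    exact ⟨v, by rw [Set.mem_preimage, hv1]; exact hwV⟩
  obtain ⟨v, hv', hv''⟩ := nonempty_preirreducible_inter
    (hVo.preimage (X ◁ y').left.continuous) (hVo.preimage (X ◁ y'').left.continuous)
    (key y' h') (key y'' h'')
  have hT' := isFieldPt_Tx (X ⊗ T) v
  have hc := cx_left_apply (X ⊗ T) v
  have hrel : ∀ y : T ⟶ X, (X ◁ y).left v ∈ V →
      RelI a (cx (X ⊗ T) v ≫ fst X T) ((cx (X ⊗ T) v ≫ snd X T) ≫ y) := by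
    intro y hy s'
    have e : lift (cx (X ⊗ T) v ≫ fst X T) ((cx (X ⊗ T) v ≫ snd X T) ≫ y) =
        cx (X ⊗ T) v ≫ (X ◁ y) := by
      refine CartesianMonoidalCategory.hom_ext _ _ ?_ ?_
      · rw [lift_fst, Category.assoc, whiskerLeft_fst]
      · rw [lift_snd, Category.assoc, Category.assoc, whiskerLeft_snd]
    rw [e, Over.comp_left, Scheme.Hom.comp_apply, hc]
    exact hVI hy
  have r1 := hrel y' hv'
  have r2 := hrel y'' hv''
  have r3 := relI_trans a hT' (relI_symm a hT' r1) r2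
  exact relI_of_comp a (cx (X ⊗ T) v ≫ snd X T) (surjective_of_isFieldPt hT hT' _) r3

theorem exists_relI_of_mem_Orb {S' : Set ↥X.left} {T : Over (Spec (CommRingCat.of k))}
    (y : T ⟶ X) (s : ↥T.left) (h : y.left s ∈ Orb a S') :
    ∃ (T' : Over (Spec (CommRingCat.of k))) (_ : IsFieldPt T') (f : T' ⟶ T) (y₁ : T' ⟶ X),
      (∀ s', y₁.left s' ∈ S') ∧ RelI a (f ≫ y) y₁ := by
  obtain ⟨ζ, hζS, hζ⟩ := h
  obtain ⟨T', hT', u₁, u₂, hu, -, hu₂⟩ := exists_common_point y a.act s ζ hζ.symm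
  refine ⟨T', hT', u₁, u₂ ≫ snd G X, ?_, ?_⟩
  · intro s'
    rw [Over.comp_left, Scheme.Hom.comp_apply, hu₂]
    exact hζS
  · rw [hu]
    have : u₂ ≫ a.act = actT a (u₂ ≫ fst G X) (u₂ ≫ snd G X) := by
      unfold actT
      rw [← comp_lift, lift_fst_snd, Category.comp_id]
    rw [this]
    exact relI_of_tpt a _ _

theorem mem_Img_of_mem_Orb [GeometricallyIrreducible X.hom] {V : Set ↥(X ⊗ X).left}
    (hVo : IsOpen V) (hVI : V ⊆ Img a) (w : ↥(X ⊗ X).left)
    (h1 : (fst X X).left w ∈ Orb a ((snd X X).left '' V))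
    (h2 : (snd X X).left w ∈ Orb a ((snd X X).left '' V)) : w ∈ Img a := by
  have hT := isFieldPt_Tx (X ⊗ X) w
  have hc := cx_left_apply (X ⊗ X) w
  haveI := hT.nonempty
  obtain ⟨s⟩ : Nonempty ↥(Tx (X ⊗ X) w).left := inferInstance
  obtain ⟨T₁, hT₁, f₁, z₁, hz₁, r₁⟩ := exists_relI_of_mem_Orb a (cx (X ⊗ X) w ≫ fst X X) s
    (by rw [Over.comp_left, Scheme.Hom.comp_apply, hc]; exact h1)
  obtain ⟨T₂, hT₂, f₂, z₂, hz₂, r₂⟩ := exists_relI_of_mem_Orb a (cx (X ⊗ X) w ≫ snd X X) s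
    (by rw [Over.comp_left, Scheme.Hom.comp_apply, hc]; exact h2)
  haveI := hT₁.nonempty
  haveI := hT₂.nonempty
  haveI := hT.subsingleton
  obtain ⟨T₃, hT₃, u₁, u₂, hu, -, -⟩ := exists_common_point f₁ f₂
    (Classical.arbitrary _) (Classical.arbitrary _) (Subsingleton.elim _ _)
  haveI := hT₃.nonempty
  obtain ⟨s₃⟩ : Nonempty ↥T₃.left := inferInstance
  have r₁' := relI_comp a u₁ r₁
  have r₂' := relI_comp a u₂ r₂
  have r₃ : RelI a (u₁ ≫ z₁) (u₂ ≫ z₂) := relI_of_mem_snd_image a hVo hVI hT₃ _ _ s₃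
    (by rw [Over.comp_left, Scheme.Hom.comp_apply]; exact hz₁ _)
    (by rw [Over.comp_left, Scheme.Hom.comp_apply]; exact hz₂ _)
  have r₄ := relI_trans a hT₃ (relI_trans a hT₃ r₁' r₃) (relI_symm a hT₃ r₂')
  have h5 := r₄ s₃
  have e : lift (u₁ ≫ f₁ ≫ cx (X ⊗ X) w ≫ fst X X) (u₂ ≫ f₂ ≫ cx (X ⊗ X) w ≫ snd X X) =
      (u₁ ≫ f₁) ≫ cx (X ⊗ X) w := by
    refine CartesianMonoidalCategory.hom_ext _ _ ?_ ?_
    · rw [lift_fst]; simp only [Category.assoc]
    · rw [lift_snd, ← Category.assoc u₂ f₂, ← hu]; simp only [Category.assoc]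
  rw [e, Over.comp_left, Scheme.Hom.comp_apply, hc] at h5
  exact h5

theorem exists_open_subset_of_isConstructible_of_dense {Y : Scheme.{u}} [IrreducibleSpace Y]
    {I : Set Y} (hI : IsConstructible I) (hd : Dense I) :
    ∃ V : Set Y, IsOpen V ∧ V.Nonempty ∧ V ⊆ I := by
  have hξ : ∀ y : Y, y ⤳ genericPoint Y → y = genericPoint Y :=
    fun y h => (h.antisymm (genericPoint_specializes y)).eq
  have hξI : genericPoint Y ∈ I := by
    obtain ⟨e, heI, he⟩ := exists_specializes_of_isConstructible hI (genericPoint Y) (hd _)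
    exact hξ e he ▸ heI
  have hξn : genericPoint Y ∉ closure Iᶜ := by
    intro h
    obtain ⟨e, heI, he⟩ := exists_specializes_of_isConstructible hI.compl (genericPoint Y) h
    exact heI (hξ e he ▸ hξI)
  exact ⟨(closure Iᶜ)ᶜ, isClosed_closure.isOpen_compl, ⟨_, hξn⟩,
    fun x hx => by_contra fun hxI => hx (subset_closure hxI)⟩

theorem tensor_hom_eq (A B : Over (Spec (CommRingCat.of k))) :
    (A ⊗ B).hom = pullback.fst A.hom B.hom ≫ A.hom := rfl

theorem isConstructible_Img [LocallyOfFiniteType G.hom] [QuasiCompact G.hom]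
    [LocallyOfFiniteType X.hom] [QuasiCompact X.hom] : IsConstructible (Img a) := by
  obtain ⟨fΩ, hfΩ⟩ : ∃ fΩ : (X ⊗ X).left ⟶ Spec (CommRingCat.of k), fΩ = (X ⊗ X).hom := ⟨_, rfl⟩
  obtain ⟨fP, hfP⟩ : ∃ fP : (G ⊗ X).left ⟶ Spec (CommRingCat.of k), fP = (G ⊗ X).hom := ⟨_, rfl⟩
  haveI : LocallyOfFiniteType fΩ := by
    rw [hfΩ, tensor_hom_eq]; infer_instance
  haveI : QuasiCompact fΩ := by
    rw [hfΩ, tensor_hom_eq]; infer_instance
  haveI : LocallyOfFiniteType fP := by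
    rw [hfP, tensor_hom_eq]; infer_instance
  haveI : QuasiCompact fP := by
    rw [hfP, tensor_hom_eq]; infer_instance
  haveI : IsLocallyNoetherian (X ⊗ X).left := LocallyOfFiniteType.isLocallyNoetherian fΩ
  haveI : CompactSpace ↥(X ⊗ X).left := QuasiCompact.compactSpace_of_compactSpace fΩ
  haveI : CompactSpace ↥(G ⊗ X).left := QuasiCompact.compactSpace_of_compactSpace fP
  haveI : QuasiCompact (Phi a).left := inferInstance
  haveI : LocallyOfFiniteType (Phi a).left := by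
    have h1 : (Phi a).left ≫ fΩ = fP := by rw [hfΩ, hfP]; exact Over.w (Phi a)
    haveI : LocallyOfFiniteType ((Phi a).left ≫ fΩ) := h1 ▸ inferInstance
    exact locallyOfFiniteType_of_comp (Phi a).left fΩ
  haveI : LocallyOfFinitePresentation (Phi a).left := inferInstance
  unfold Img
  rw [← Set.image_univ]
  exact (Phi a).left.isConstructible_image IsConstructible.univ

variable (U : X.left.Opens)

theorem mem_Img_of_surjective_restrict (b : AlgGrp.Action G (UOv U))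
    (hb : (G ◁ ιOv U) ≫ a.act = b.act ≫ ιOv U) (hsurj : Img b = Set.univ)
    (w : ↥(X ⊗ X).left) (h1 : (fst X X).left w ∈ U) (h2 : (snd X X).left w ∈ U) : w ∈ Img a := by
  have hc := cx_left_apply (X ⊗ X) w
  obtain ⟨s⟩ : Nonempty ↥(Tx (X ⊗ X) w).left := inferInstance
  obtain ⟨y₀, hy₀⟩ := exists_factor U (Tx (X ⊗ X) w) (cx (X ⊗ X) w ≫ fst X X) (by
    intro s'; rw [Over.comp_left, Scheme.Hom.comp_apply, hc]; exact h1)
  obtain ⟨y₀', hy₀'⟩ := exists_factor U (Tx (X ⊗ X) w) (cx (X ⊗ X) w ≫ snd X X) (by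
    intro s'; rw [Over.comp_left, Scheme.Hom.comp_apply, hc]; exact h2)
  have e : lift y₀ y₀' ≫ (ιOv U ⊗ₘ ιOv U) = cx (X ⊗ X) w := by
    rw [lift_map, hy₀, hy₀']
    refine CartesianMonoidalCategory.hom_ext _ _ ?_ ?_
    · rw [lift_fst]
    · rw [lift_snd]
  have := Img_restrict_subset a U b hb ((lift y₀ y₀').left s) (hsurj ▸ Set.mem_univ _)
  rw [← Scheme.Hom.comp_apply, ← Over.comp_left, e, hc] at this
  exact this

theorem Img_restrict_eq_univ (b : AlgGrp.Action G (UOv U))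
    (hb : (G ◁ ιOv U) ≫ a.act = b.act ≫ ιOv U)
    (h : ∀ w : ↥(X ⊗ X).left, (fst X X).left w ∈ U → (snd X X).left w ∈ U → w ∈ Img a) :
    Img b = Set.univ := by
  rw [Set.eq_univ_iff_forall]
  intro w'
  have hc := cx_left_apply (UOv U ⊗ UOv U) w'
  obtain ⟨s⟩ : Nonempty ↥(Tx (UOv U ⊗ UOv U) w').left := inferInstance
  have hw : (cx (UOv U ⊗ UOv U) w' ≫ (ιOv U ⊗ₘ ιOv U)).left s ∈ Img a := by
    apply h
    · rw [← Scheme.Hom.comp_apply, ← Over.comp_left, Category.assoc, tensorHom_fst,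
        Over.comp_left, Over.comp_left, Scheme.Hom.comp_apply, Scheme.Hom.comp_apply]
      exact ιOv_left_mem U _
    · rw [← Scheme.Hom.comp_apply, ← Over.comp_left, Category.assoc, tensorHom_snd,
        Over.comp_left, Over.comp_left, Scheme.Hom.comp_apply, Scheme.Hom.comp_apply]
      exact ιOv_left_mem U _
  obtain ⟨ζ, hζ⟩ := hw
  obtain ⟨T', hT', u₁, u₂, hu, -, -⟩ := exists_common_point
    (cx (UOv U ⊗ UOv U) w' ≫ (ιOv U ⊗ₘ ιOv U)) (Phi a) s ζ hζ.symm
  haveI := hT'.nonempty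
  obtain ⟨s'⟩ : Nonempty ↥T'.left := inferInstance
  -- the lifted point
  have hact : u₂ ≫ a.act = (u₁ ≫ cx (UOv U ⊗ UOv U) w' ≫ fst (UOv U) (UOv U)) ≫ ιOv U := by
    have := congrArg (· ≫ fst X X) hu
    simp only [Category.assoc, lift_fst, tensorHom_fst] at this
    exact this.symm
  have hsnd : u₂ ≫ snd G X = (u₁ ≫ cx (UOv U ⊗ UOv U) w' ≫ snd (UOv U) (UOv U)) ≫ ιOv U := by
    have := congrArg (· ≫ snd X X) hu
    simp only [Category.assoc, lift_snd, tensorHom_snd] at this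
    exact this.symm
  have hθ : lift (u₂ ≫ fst G X) (u₁ ≫ cx (UOv U ⊗ UOv U) w' ≫ snd (UOv U) (UOv U)) ≫
      (G ◁ ιOv U) = u₂ := by
    refine CartesianMonoidalCategory.hom_ext _ _ ?_ ?_
    · rw [Category.assoc, whiskerLeft_fst, lift_fst]
    · rw [Category.assoc, whiskerLeft_snd, lift_snd_assoc, hsnd]
  have hfin : lift (u₂ ≫ fst G X) (u₁ ≫ cx (UOv U ⊗ UOv U) w' ≫ snd (UOv U) (UOv U)) ≫ Phi b =
      u₁ ≫ cx (UOv U ⊗ UOv U) w' := by
    refine CartesianMonoidalCategory.hom_ext _ _ ?_ ?_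
    · rw [Category.assoc, lift_fst, ← cancel_mono (ιOv U), Category.assoc, ← hb,
        ← Category.assoc, hθ, hact]
      simp only [Category.assoc]
    · rw [Category.assoc, lift_snd, lift_snd]
      simp only [Category.assoc]
  refine ⟨(lift (u₂ ≫ fst G X) (u₁ ≫ cx (UOv U ⊗ UOv U) w' ≫ snd (UOv U) (UOv U))).left s', ?_⟩
  rw [← Scheme.Hom.comp_apply, ← Over.comp_left, hfin, Over.comp_left, Scheme.Hom.comp_apply, hc]

theorem le_of_homogeneous (U' : X.left.Opens) (b : AlgGrp.Action G (UOv U))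
    (hb : (G ◁ ιOv U) ≫ a.act = b.act ≫ ιOv U) (hsurj : Img b = Set.univ)
    (hU' : Stab a (U' : Set ↥X.left)) (p : ↥X.left) (hpU : p ∈ U) (hpU' : p ∈ U') : U ≤ U' := by
  intro u hu
  obtain ⟨pu, hpu⟩ := exists_ιOv_eq U u hu
  obtain ⟨pp, hpp⟩ := exists_ιOv_eq U p hpU
  obtain ⟨w', hw1, hw2⟩ := Scheme.Pullback.exists_preimage_pullback (f := (UOv U).hom)
    (g := (UOv U).hom) pu pp (Subsingleton.elim _ _)
  obtain ⟨ζ', hζ'⟩ : (w' : ↥(UOv U ⊗ UOv U).left) ∈ Img b := hsurj ▸ Set.mem_univ _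
  have h1 : (snd G X).left ((G ◁ ιOv U).left ζ') = p := by
    rw [← Scheme.Hom.comp_apply, ← Over.comp_left, whiskerLeft_snd, Over.comp_left,
      Scheme.Hom.comp_apply, ← hpp, ← hw2, ← hζ']
    congr 1
    rw [← Scheme.Hom.comp_apply]
    show (snd G (UOv U)).left ζ' = ((Phi b).left ≫ (snd (UOv U) (UOv U)).left) ζ'
    rw [← Over.comp_left, lift_snd]
  have h2 : a.act.left ((G ◁ ιOv U).left ζ') = u := by
    rw [← Scheme.Hom.comp_apply, ← Over.comp_left, hb, Over.comp_left,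
      Scheme.Hom.comp_apply, ← hpu, ← hw1, ← hζ']
    congr 1
    rw [← Scheme.Hom.comp_apply]
    show b.act.left ζ' = ((Phi b).left ≫ (fst (UOv U) (UOv U)).left) ζ'
    rw [← Over.comp_left, lift_fst]
  have := hU' ((G ◁ ιOv U).left ζ') (by rw [h1]; exact hpU')
  rw [h2] at this
  exact this


theorem Img_eq_univ_iff (b : AlgGrp.Action G X) :
    Img b = Set.univ ↔ Surjective (lift (snd G X) b.act).left := by
  rw [← range_graph_eq]
  exact ⟨fun h => ⟨Set.range_eq_univ.mp h⟩, fun h => Set.range_eq_univ.mpr h.surj⟩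

theorem dominant_iff [LocallyOfFiniteType G.hom] [QuasiCompact G.hom]
    [LocallyOfFiniteType X.hom] [QuasiCompact X.hom] [GeometricallyIrreducible X.hom] :
    IsDominant (lift (snd G X) a.act).left ↔
      ∃ U : X.left.Opens, (U : Set ↥X.left).Nonempty ∧
        ∃ b : AlgGrp.Action G (UOv U), (G ◁ ιOv U) ≫ a.act = b.act ≫ ιOv U ∧
          Surjective (lift (snd G (UOv U)) b.act).left := by
  haveI : IrreducibleSpace ↥X.left := irreducibleSpace_of_geometricallyIrreducible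
  haveI : IrreducibleSpace ↥(X ⊗ X).left := irreducibleSpace_tensor X
  constructor
  · intro hdom
    have hd : Dense (Img a) := by
      rw [← range_graph_eq]; exact hdom.denseRange
    obtain ⟨V, hVo, hVne, hVI⟩ :=
      exists_open_subset_of_isConstructible_of_dense (isConstructible_Img a) hd
    have hU₁o : IsOpen ((snd X X).left '' V) := isOpenMap_snd_of_field k X X _ hVo
    let U : X.left.Opens := ⟨Orb a ((snd X X).left '' V), isOpen_Orb a hU₁o⟩
    have hUne : (U : Set ↥X.left).Nonempty := (hVne.image _).mono (subset_Orb a _)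
    obtain ⟨b, hb⟩ := exists_restrict_action a U (stab_Orb a _)
    refine ⟨U, hUne, b, hb, ?_⟩
    rw [← Img_eq_univ_iff]
    exact Img_restrict_eq_univ a U b hb (fun w h1 h2 => mem_Img_of_mem_Orb a hVo hVI w h1 h2)
  · rintro ⟨U, hne, b, hb, hsurj⟩
    have hI : Img b = Set.univ := (Img_eq_univ_iff b).mpr hsurj
    have hsub : (fst X X).left ⁻¹' (U : Set ↥X.left) ∩ (snd X X).left ⁻¹' (U : Set ↥X.left) ⊆
        Img a := fun w hw => mem_Img_of_surjective_restrict a U b hb hI w hw.1 hw.2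
    have hopen : IsOpen ((fst X X).left ⁻¹' (U : Set ↥X.left) ∩
        (snd X X).left ⁻¹' (U : Set ↥X.left)) :=
      (U.isOpen.preimage (fst X X).left.continuous).inter
        (U.isOpen.preimage (snd X X).left.continuous)
    have hne' : ((fst X X).left ⁻¹' (U : Set ↥X.left) ∩
        (snd X X).left ⁻¹' (U : Set ↥X.left)).Nonempty := by
      obtain ⟨u, hu⟩ := hne
      refine ⟨(lift (𝟙 X) (𝟙 X)).left u, ?_, ?_⟩
      · show (fst X X).left ((lift (𝟙 X) (𝟙 X)).left u) ∈ U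
        rw [← Scheme.Hom.comp_apply, ← Over.comp_left, lift_fst]
        exact hu
      · show (snd X X).left ((lift (𝟙 X) (𝟙 X)).left u) ∈ U
        rw [← Scheme.Hom.comp_apply, ← Over.comp_left, lift_snd]
        exact hu
    refine ⟨?_⟩
    show Dense (Set.range (lift (snd G X) a.act).left)
    rw [range_graph_eq]
    exact (hopen.dense hne').mono hsub

theorem unique_open [GeometricallyIrreducible X.hom] (U U' : X.left.Opens)
    (hne : (U : Set ↥X.left).Nonempty) (b : AlgGrp.Action G (UOv U))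
    (hb : (G ◁ ιOv U) ≫ a.act = b.act ≫ ιOv U)
    (hs : Surjective (lift (snd G (UOv U)) b.act).left)
    (hne' : (U' : Set ↥X.left).Nonempty) (b' : AlgGrp.Action G (UOv U'))
    (hb' : (G ◁ ιOv U') ≫ a.act = b'.act ≫ ιOv U')
    (hs' : Surjective (lift (snd G (UOv U')) b'.act).left) : U = U' := by
  haveI : IrreducibleSpace ↥X.left := irreducibleSpace_of_geometricallyIrreducible
  obtain ⟨p, hpU, hpU'⟩ := nonempty_preirreducible_inter U.isOpen U'.isOpen hne hne'
  have hI : Img b = Set.univ := (Img_eq_univ_iff b).mpr hs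
  have hI' : Img b' = Set.univ := (Img_eq_univ_iff b').mpr hs'
  exact le_antisymm
    (le_of_homogeneous a U U' b hb hI (stab_of_restrict a U' b' hb') p hpU hpU')
    (le_of_homogeneous a U' U b' hb' hI' (stab_of_restrict a U b hb) p hpU' hpU)

end Field2

end Groth.Agent.Lib.Helper11.OrbB
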