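import Mathlib
import Groth.Agent.Lib.Helper11.OrbB

/-!
# Two field structures on a finite type algebra (helper11)

If `D` is a domain of finite type over a field `k` via `φ` and `ψ : k →+* D` is another ring
homomorphism, then `ψ a` is algebraic over `φ k` for all `a`.  If moreover both have a common
retraction, they agree modulo every prime contained in the kernel of the retraction.
-/

set_option autoImplicit false
universe u

open CategoryTheory AlgebraicGeometry Polynomial Topology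

namespace Groth.Agent.Lib.Helper11.GrpdM1

/-- A constructible subset of the spectrum of a domain containing the generic point contains a
non-empty basic open. -/
theorem exists_basicOpen_subset {A : Type u} [CommRing A] [IsDomain A]
    (I : Set (PrimeSpectrum A)) (hI : IsConstructible I)
    (hgen : (⟨⊥, Ideal.isPrime_bot⟩ : PrimeSpectrum A) ∈ I) :
    ∃ g : A, g ≠ 0 ∧ (PrimeSpectrum.basicOpen g : Set (PrimeSpectrum A)) ⊆ I := by
  have hd : Dense I := by
    have h1 : closure ({(⟨⊥, Ideal.isPrime_bot⟩ : PrimeSpectrum A)} : Set (PrimeSpectrum A)) =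
        Set.univ := by
      rw [PrimeSpectrum.closure_singleton]
      ext x
      simp [PrimeSpectrum.mem_zeroLocus]
    intro x
    have : x ∈ closure ({(⟨⊥, Ideal.isPrime_bot⟩ : PrimeSpectrum A)} : Set (PrimeSpectrum A)) := by
      rw [h1]; trivial
    exact closure_mono (Set.singleton_subset_iff.mpr hgen) this
  obtain ⟨V, hVo, ⟨x, hxV⟩, hVI⟩ :=
    Groth.Agent.Lib.Helper11.OrbB.exists_open_subset_of_isConstructible_of_dense
      (Y := Spec (CommRingCat.of A)) (I := I) hI hd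
  obtain ⟨_, ⟨g, rfl⟩, hxg, hgV⟩ :=
    PrimeSpectrum.isTopologicalBasis_basic_opens.exists_subset_of_mem_open hxV hVo
  refine ⟨g, ?_, hgV.trans hVI⟩
  rintro rfl
  simp at hxg

/-- `ψ a` is algebraic over `φ k`. -/
theorem exists_poly_eval₂_eq_zero {k D : Type u} [Field k] [CommRing D] [IsDomain D]
    (φ ψ : k →+* D) (hft : φ.FiniteType) (a : k) :
    ∃ q : Polynomial k, q ≠ 0 ∧ Polynomial.eval₂ φ (ψ a) q = 0 := by
  by_contra hcon
  push_neg at hcon
  set f := ψ a with hf
  let θ : Polynomial k →+* D := Polynomial.eval₂RingHom φ f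
  have hθ : ∀ q, θ q = Polynomial.eval₂ φ f q := fun q => rfl
  have hθC : θ.comp Polynomial.C = φ := by
    ext c; simp [θ]
  have hθft : θ.FiniteType := RingHom.FiniteType.of_comp_finiteType (f := Polynomial.C) (by
    rw [hθC]; exact hft)
  have hθfp : θ.FinitePresentation := RingHom.FinitePresentation.of_finiteType.mp hθft
  have hcons := PrimeSpectrum.isConstructible_range_comap hθfp
  have hker : RingHom.ker θ = ⊥ := by
    rw [eq_bot_iff]
    intro q hq
    by_contra hq0
    exact hcon q hq0 hq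
  have hgen : (⟨⊥, Ideal.isPrime_bot⟩ : PrimeSpectrum (Polynomial k)) ∈
      Set.range (PrimeSpectrum.comap θ) := by
    refine ⟨⟨⊥, Ideal.isPrime_bot⟩, ?_⟩
    ext1
    show Ideal.comap θ ⊥ = ⊥
    rw [← RingHom.ker_eq_comap_bot, hker]
  obtain ⟨g, hg0, hgI⟩ := exists_basicOpen_subset _ hcons hgen
  -- choose the exponent
  obtain ⟨m, hmn, hmk⟩ : ∃ m : ℕ, g.natDegree < m ∧ ((m : ℕ) : k) ≠ 0 := by
    by_cases h1 : ((g.natDegree + 1 : ℕ) : k) = 0
    · refine ⟨g.natDegree + 2, by omega, ?_⟩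
      have : ((g.natDegree + 2 : ℕ) : k) = ((g.natDegree + 1 : ℕ) : k) + 1 := by push_cast; ring
      rw [this, h1, zero_add]
      exact one_ne_zero
    · exact ⟨g.natDegree + 1, by omega, h1⟩
  have hm0 : m ≠ 0 := by omega
  have hPev : θ (X ^ m - C (1 : k)) = f ^ m - 1 := by
    simp [θ]
  have hP0 : (X ^ m - C (1 : k) : Polynomial k) ≠ 0 := by
    intro h
    have := congrArg Polynomial.natDegree h
    rw [Polynomial.natDegree_X_pow_sub_C, Polynomial.natDegree_zero] at this
    exact hm0 this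
  -- `a ^ m ≠ 1`
  have ham : a ^ m - 1 ≠ 0 := by
    intro h
    apply hcon _ hP0
    rw [← hθ, hPev, hf, ← map_pow, ← map_one ψ, ← map_sub, h, map_zero]
  have hunit : IsUnit (f ^ m - 1) := by
    have : f ^ m - 1 = ψ (a ^ m - 1) := by rw [map_sub, map_pow, map_one]
    rw [this]
    exact (IsUnit.mk0 _ ham).map ψ
  -- a prime containing `X ^ m - 1` but not `g`
  have hsep : (X ^ m - C (1 : k) : Polynomial k).Separable :=
    Polynomial.separable_X_pow_sub_C 1 hmk one_ne_zero
  have hrad : IsRadical (X ^ m - C (1 : k) : Polynomial k) := hsep.squarefree.isRadical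
  obtain ⟨𝔫, h𝔫prime, hP𝔫, hg𝔫⟩ : ∃ 𝔫 : Ideal (Polynomial k), 𝔫.IsPrime ∧
      (X ^ m - C (1 : k) : Polynomial k) ∈ 𝔫 ∧ g ∉ 𝔫 := by
    by_contra hno
    push_neg at hno
    have hgrad : g ∈ (Ideal.span {(X ^ m - C (1 : k) : Polynomial k)}).radical := by
      rw [Ideal.radical_eq_sInf, Ideal.mem_sInf]
      rintro J ⟨hJ, hJp⟩
      exact hno J hJp (hJ (Ideal.subset_span rfl))
    obtain ⟨N, hN⟩ := hgrad
    rw [Ideal.mem_span_singleton] at hN
    have hdvd : (X ^ m - C (1 : k) : Polynomial k) ∣ g := hrad N g hN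
    have := Polynomial.natDegree_le_of_dvd hdvd hg0
    rw [Polynomial.natDegree_X_pow_sub_C] at this
    omega
  have hx : (⟨𝔫, h𝔫prime⟩ : PrimeSpectrum (Polynomial k)) ∈
      (PrimeSpectrum.basicOpen g : Set (PrimeSpectrum (Polynomial k))) := hg𝔫
  obtain ⟨𝔮, h𝔮⟩ := hgI hx
  have hmem : θ (X ^ m - C (1 : k)) ∈ 𝔮.asIdeal := by
    have : (X ^ m - C (1 : k) : Polynomial k) ∈ (PrimeSpectrum.comap θ 𝔮).asIdeal := by
      rw [h𝔮]; exact hP𝔫
    exact this
  rw [hPev] at hmem
  exact 𝔮.isPrime.ne_top (Ideal.eq_top_of_isUnit_mem _ hmem hunit)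

/-- Two sections of a retraction `ε`, one of them of finite type, agree modulo every prime contained
in the kernel of `ε`. -/
theorem sub_mem_of_le_ker {k B : Type u} [Field k] [CommRing B] (φ ψ : k →+* B) (ε : B →+* k)
    (hφ : ∀ a, ε (φ a) = a) (hψ : ∀ a, ε (ψ a) = a) (hft : φ.FiniteType)
    (𝔭 : Ideal B) [h𝔭p : 𝔭.IsPrime] (h𝔭 : 𝔭 ≤ RingHom.ker ε) (a : k) : ψ a - φ a ∈ 𝔭 := by
  let π := Ideal.Quotient.mk 𝔭
  let ε' : B ⧸ 𝔭 →+* k := Ideal.Quotient.lift 𝔭 ε (fun x hx => h𝔭 hx)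
  have hε' : ∀ b, ε' (π b) = ε b := fun b => Ideal.Quotient.lift_mk 𝔭 ε _
  have hft' : (π.comp φ).FiniteType :=
    (RingHom.FiniteType.of_surjective π Ideal.Quotient.mk_surjective).comp hft
  obtain ⟨q, hq0, hq⟩ := exists_poly_eval₂_eq_zero (π.comp φ) (π.comp ψ) hft' a
  -- split off the root `a`
  obtain ⟨q₁, hq₁, hq₁a⟩ := Polynomial.exists_eq_pow_rootMultiplicity_mul_and_not_dvd q hq0 a
  set m := q.rootMultiplicity a
  have hq₁a' : q₁.eval a ≠ 0 := by
    intro h
    exact hq₁a (Polynomial.dvd_iff_isRoot.mpr h)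
  rw [hq₁, Polynomial.eval₂_mul, Polynomial.eval₂_pow, Polynomial.eval₂_sub, Polynomial.eval₂_X,
    Polynomial.eval₂_C] at hq
  have hq₁ne : Polynomial.eval₂ (π.comp φ) ((π.comp ψ) a) q₁ ≠ 0 := by
    intro h
    apply hq₁a'
    have h2 := congrArg ε' h
    rw [map_zero, Polynomial.hom_eval₂] at h2
    have h3 : ε'.comp (π.comp φ) = RingHom.id k := by
      ext c; simp [hε', hφ]
    have h4 : ε' ((π.comp ψ) a) = a := by simp [hε', hψ]
    rw [h3, h4, Polynomial.eval₂_id] at h2
    exact h2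
  have h5 : ((π.comp ψ) a - (π.comp φ) a) ^ m = 0 := (mul_eq_zero.mp hq).resolve_right hq₁ne
  have h6 : (π.comp ψ) a - (π.comp φ) a = 0 := by
    by_contra h
    exact pow_ne_zero m h h5
  have h7 : π (ψ a - φ a) = 0 := by
    rw [map_sub]; exact h6
  exact Ideal.Quotient.eq_zero_iff_mem.mp h7

end Groth.Agent.Lib.Helper11.GrpdM1
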