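import Mathlib
import Groth.Prelude.Def_Grpd
import Groth.Agent.Lib.Helper11.GrpdLib

/-!
# Helper11: the stabilizer of a groupoid scheme, conjugation, restricted cartesian squares
-/

set_option autoImplicit false
universe u
open CategoryTheory CategoryTheory.Limits AlgebraicGeometry

namespace Groth.Agent.Lib.Helper11.GrpdStab

open Groth.Agent.Lib.Helper11.GrpdLib

variable {S : Scheme.{u}} (G : Grpd.GroupoidScheme S)

theorem j_fst : G.j ≫ pullback.fst G.pU G.pU = G.t := by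
  unfold Grpd.GroupoidScheme.j; rw [pullback.lift_fst]

theorem j_snd : G.j ≫ pullback.snd G.pU G.pU = G.s := by
  unfold Grpd.GroupoidScheme.j; rw [pullback.lift_snd]

theorem diag_fst : G.diag ≫ pullback.fst G.pU G.pU = 𝟙 _ := by
  unfold Grpd.GroupoidScheme.diag; rw [pullback.lift_fst]

theorem diag_snd : G.diag ≫ pullback.snd G.pU G.pU = 𝟙 _ := by
  unfold Grpd.GroupoidScheme.diag; rw [pullback.lift_snd]

/-- the inclusion of the stabilizer in `R` -/
noncomputable def g1 : G.stabilizer ⟶ G.R :=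
  pullback.fst G.j G.diag

theorem g1_cond : g1 G ≫ G.j = G.stabilizerToU ≫ G.diag := pullback.condition

theorem g1_t : g1 G ≫ G.t = G.stabilizerToU := by
  have := congrArg (· ≫ pullback.fst G.pU G.pU) (g1_cond G)
  simp only [Category.assoc, j_fst, diag_fst, Category.comp_id] at this
  exact this

theorem g1_s : g1 G ≫ G.s = G.stabilizerToU := by
  have := congrArg (· ≫ pullback.snd G.pU G.pU) (g1_cond G)
  simp only [Category.assoc, j_snd, diag_snd, Category.comp_id] at this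
  exact this

theorem stab_ext {T : Scheme.{u}} (a b : T ⟶ G.stabilizer)
    (h1 : a ≫ g1 G = b ≫ g1 G) (h2 : a ≫ G.stabilizerToU = b ≫ G.stabilizerToU) : a = b :=
  pullback.hom_ext (f := G.j) (g := G.diag) h1 h2

/-- a `T`-point of `R` with equal source and target is a `T`-point of the stabilizer -/
theorem exists_stabLift {T : Scheme.{u}} (γ : T ⟶ G.R) (v : T ⟶ G.U)
    (hs : γ ≫ G.s = v) (ht : γ ≫ G.t = v) :
    ∃ l : T ⟶ G.stabilizer, l ≫ g1 G = γ ∧ l ≫ G.stabilizerToU = v := by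
  have h : γ ≫ G.j = v ≫ G.diag := by
    apply pullback.hom_ext
    · rw [Category.assoc, j_fst, Category.assoc, diag_fst, Category.comp_id, ht]
    · rw [Category.assoc, j_snd, Category.assoc, diag_snd, Category.comp_id, hs]
  exact ⟨(pullback.lift γ v h : T ⟶ pullback G.j G.diag), pullback.lift_fst _ _ _,
    pullback.lift_snd _ _ _⟩

variable {G}

/-- conjugation `r ∘ γ ∘ r⁻¹` of `T`-points -/
noncomputable def conj {T : Scheme.{u}} (r γ : T ⟶ G.R) (h1 : r ≫ G.s = γ ≫ G.t)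
    (h2 : γ ≫ G.s = r ≫ G.s) : T ⟶ G.R :=
  comp G (comp G r γ h1) (r ≫ G.i) (by rw [comp_s, h2, Category.assoc, G.i_t])

lemma conj_s {T : Scheme.{u}} (r γ : T ⟶ G.R) (h1 : r ≫ G.s = γ ≫ G.t)
    (h2 : γ ≫ G.s = r ≫ G.s) : conj r γ h1 h2 ≫ G.s = r ≫ G.t := by
  unfold conj; rw [comp_s, Category.assoc, G.i_s]

lemma conj_t {T : Scheme.{u}} (r γ : T ⟶ G.R) (h1 : r ≫ G.s = γ ≫ G.t)
    (h2 : γ ≫ G.s = r ≫ G.s) : conj r γ h1 h2 ≫ G.t = r ≫ G.t := by
  unfold conj; rw [comp_t, comp_t]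

lemma conj_congr {T : Scheme.{u}} {r r' γ γ' : T ⟶ G.R} (hr : r = r') (hγ : γ = γ')
    (h1 : r ≫ G.s = γ ≫ G.t) (h2 : γ ≫ G.s = r ≫ G.s)
    (h1' : r' ≫ G.s = γ' ≫ G.t) (h2' : γ' ≫ G.s = r' ≫ G.s) :
    conj r γ h1 h2 = conj r' γ' h1' h2' := by
  subst hr hγ; rfl

lemma precomp_conj {T T' : Scheme.{u}} (f : T' ⟶ T) (r γ : T ⟶ G.R) (h1 : r ≫ G.s = γ ≫ G.t)
    (h2 : γ ≫ G.s = r ≫ G.s) (h1' : (f ≫ r) ≫ G.s = (f ≫ γ) ≫ G.t)
    (h2' : (f ≫ γ) ≫ G.s = (f ≫ r) ≫ G.s) :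
    f ≫ conj r γ h1 h2 = conj (f ≫ r) (f ≫ γ) h1' h2' := by
  unfold conj
  have e1 : f ≫ comp G r γ h1 = comp G (f ≫ r) (f ≫ γ) h1' := precomp_comp f r γ h1 h1'
  have e2 : f ≫ r ≫ G.i = (f ≫ r) ≫ G.i := (Category.assoc _ _ _).symm
  have h5 : comp G (f ≫ r) (f ≫ γ) h1' ≫ G.s = ((f ≫ r) ≫ G.i) ≫ G.t := by
    rw [comp_s, h2', Category.assoc _ G.i, G.i_t]
  rw [precomp_comp f _ _ _ (by rw [e1, e2]; exact h5)]
  exact comp_congr e1 e2 _ h5

/-- `r⁻¹ ∘ (r ∘ γ ∘ r⁻¹) ∘ r = γ` -/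
lemma conj_inv_conj {T : Scheme.{u}} (r γ : T ⟶ G.R) (h1 : r ≫ G.s = γ ≫ G.t)
    (h2 : γ ≫ G.s = r ≫ G.s)
    (h3 : (r ≫ G.i) ≫ G.s = conj r γ h1 h2 ≫ G.t)
    (h4 : conj r γ h1 h2 ≫ G.s = (r ≫ G.i) ≫ G.s) :
    conj (r ≫ G.i) (conj r γ h1 h2) h3 h4 = γ := by
  have hρs : (r ≫ G.i) ≫ G.s = r ≫ G.t := by rw [Category.assoc, G.i_s]
  have hρt : (r ≫ G.i) ≫ G.t = r ≫ G.s := by rw [Category.assoc, G.i_t]
  have a1 : comp G r γ h1 ≫ G.s = (r ≫ G.i) ≫ G.t := by rw [comp_s, h2, hρt]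
  have a2 : (r ≫ G.i) ≫ G.s = comp G r γ h1 ≫ G.t := by rw [comp_t, hρs]
  have a3 : comp G (r ≫ G.i) (comp G r γ h1) a2 = γ := inv_comp_comp r γ h1 a2
  have a4 : γ ≫ G.s = (r ≫ G.i) ≫ G.t := by rw [h2, hρt]
  -- `ρ ∘ ((r ∘ γ) ∘ ρ) = (ρ ∘ (r ∘ γ)) ∘ ρ = γ ∘ ρ`
  have a5 : comp G (r ≫ G.i) (conj r γ h1 h2) h3 = comp G γ (r ≫ G.i) a4 := by
    unfold conj
    rw [← comp_assoc (r ≫ G.i) (comp G r γ h1) (r ≫ G.i) a2 a1
      (by rw [comp_s, a1])]
    exact comp_congr a3 rfl _ _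
  have a6 : comp G γ (r ≫ G.i) a4 ≫ G.s = ((r ≫ G.i) ≫ G.i) ≫ G.t := by
    rw [comp_s, Category.assoc _ G.i G.t, G.i_t]
  show comp G (comp G (r ≫ G.i) (conj r γ h1 h2) h3) ((r ≫ G.i) ≫ G.i) _ = γ
  rw [comp_congr a5 rfl _ a6]
  exact comp_comp_inv γ (r ≫ G.i) a4 a6

variable (G)

/-- Conjugation identifies the base changes of the stabilizer along `s` and along `t`. -/
theorem exists_conjIso :
    ∃ Φ : pullback G.stabilizerToU G.s ≅ pullback G.stabilizerToU G.t,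
      Φ.hom ≫ pullback.snd G.stabilizerToU G.t = pullback.snd G.stabilizerToU G.s := by
  -- forward map
  have f1 : pullback.snd G.stabilizerToU G.s ≫ G.s =
      (pullback.fst G.stabilizerToU G.s ≫ g1 G) ≫ G.t := by
    rw [Category.assoc, g1_t]; exact pullback.condition.symm
  have f2 : (pullback.fst G.stabilizerToU G.s ≫ g1 G) ≫ G.s =
      pullback.snd G.stabilizerToU G.s ≫ G.s := by
    rw [Category.assoc, g1_s]; exact pullback.condition
  obtain ⟨l, hl1, hl2⟩ := exists_stabLift G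
    (conj (pullback.snd G.stabilizerToU G.s) (pullback.fst G.stabilizerToU G.s ≫ g1 G) f1 f2)
    (pullback.snd G.stabilizerToU G.s ≫ G.t) (conj_s _ _ _ _) (conj_t _ _ _ _)
  obtain ⟨Φ, hΦ1, hΦ2⟩ : ∃ Φ : pullback G.stabilizerToU G.s ⟶ pullback G.stabilizerToU G.t,
      Φ ≫ pullback.fst G.stabilizerToU G.t = l ∧
      Φ ≫ pullback.snd G.stabilizerToU G.t = pullback.snd G.stabilizerToU G.s :=
    ⟨pullback.lift l (pullback.snd G.stabilizerToU G.s) hl2, pullback.lift_fst _ _ _,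
      pullback.lift_snd _ _ _⟩
  -- backward map
  have b1 : (pullback.snd G.stabilizerToU G.t ≫ G.i) ≫ G.s =
      (pullback.fst G.stabilizerToU G.t ≫ g1 G) ≫ G.t := by
    rw [Category.assoc, G.i_s, Category.assoc, g1_t]; exact pullback.condition.symm
  have b2 : (pullback.fst G.stabilizerToU G.t ≫ g1 G) ≫ G.s =
      (pullback.snd G.stabilizerToU G.t ≫ G.i) ≫ G.s := by
    rw [Category.assoc, g1_s, Category.assoc, G.i_s]; exact pullback.condition
  obtain ⟨m, hm1, hm2⟩ := exists_stabLift G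
    (conj (pullback.snd G.stabilizerToU G.t ≫ G.i) (pullback.fst G.stabilizerToU G.t ≫ g1 G) b1 b2)
    (pullback.snd G.stabilizerToU G.t ≫ G.s)
    (by rw [conj_s, Category.assoc, G.i_t]) (by rw [conj_t, Category.assoc, G.i_t])
  obtain ⟨Ψ, hΨ1, hΨ2⟩ : ∃ Ψ : pullback G.stabilizerToU G.t ⟶ pullback G.stabilizerToU G.s,
      Ψ ≫ pullback.fst G.stabilizerToU G.s = m ∧
      Ψ ≫ pullback.snd G.stabilizerToU G.s = pullback.snd G.stabilizerToU G.t :=
    ⟨pullback.lift m (pullback.snd G.stabilizerToU G.t) hm2, pullback.lift_fst _ _ _,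
      pullback.lift_snd _ _ _⟩
  refine ⟨⟨Φ, Ψ, ?_, ?_⟩, hΦ2⟩
  · -- Φ ≫ Ψ = 𝟙
    apply pullback.hom_ext
    · rw [Category.assoc, hΨ1, Category.id_comp]
      apply stab_ext
      · rw [Category.assoc, hm1]
        have e1 : Φ ≫ pullback.snd G.stabilizerToU G.t ≫ G.i =
            pullback.snd G.stabilizerToU G.s ≫ G.i := by rw [← Category.assoc, hΦ2]
        have e2 : Φ ≫ pullback.fst G.stabilizerToU G.t ≫ g1 G =
            conj (pullback.snd G.stabilizerToU G.s)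
              (pullback.fst G.stabilizerToU G.s ≫ g1 G) f1 f2 := by
          rw [← Category.assoc, hΦ1, hl1]
        have h3 : (pullback.snd G.stabilizerToU G.s ≫ G.i) ≫ G.s =
            conj (pullback.snd G.stabilizerToU G.s)
              (pullback.fst G.stabilizerToU G.s ≫ g1 G) f1 f2 ≫ G.t := by
          rw [conj_t, Category.assoc, G.i_s]
        have h4 : conj (pullback.snd G.stabilizerToU G.s)
              (pullback.fst G.stabilizerToU G.s ≫ g1 G) f1 f2 ≫ G.s =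
            (pullback.snd G.stabilizerToU G.s ≫ G.i) ≫ G.s := by
          rw [conj_s, Category.assoc, G.i_s]
        rw [precomp_conj Φ _ _ b1 b2 (by rw [e1, e2]; exact h3) (by rw [e1, e2]; exact h4)]
        rw [conj_congr e1 e2 _ _ h3 h4]
        exact conj_inv_conj _ _ f1 f2 h3 h4
      · rw [Category.assoc, hm2, ← Category.assoc, hΦ2]
        exact pullback.condition.symm
    · rw [Category.assoc, hΨ2, hΦ2, Category.id_comp]
  · -- Ψ ≫ Φ = 𝟙
    apply pullback.hom_ext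
    · rw [Category.assoc, hΦ1, Category.id_comp]
      apply stab_ext
      · rw [Category.assoc, hl1]
        have e1 : Ψ ≫ pullback.snd G.stabilizerToU G.s =
            (pullback.snd G.stabilizerToU G.t ≫ G.i) ≫ G.i := by
          rw [hΨ2, inv_inv]
        have e2 : Ψ ≫ pullback.fst G.stabilizerToU G.s ≫ g1 G =
            conj (pullback.snd G.stabilizerToU G.t ≫ G.i)
              (pullback.fst G.stabilizerToU G.t ≫ g1 G) b1 b2 := by
          rw [← Category.assoc, hΨ1, hm1]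
        have h3 : ((pullback.snd G.stabilizerToU G.t ≫ G.i) ≫ G.i) ≫ G.s =
            conj (pullback.snd G.stabilizerToU G.t ≫ G.i)
              (pullback.fst G.stabilizerToU G.t ≫ g1 G) b1 b2 ≫ G.t := by
          rw [conj_t, Category.assoc _ G.i G.s, G.i_s]
        have h4 : conj (pullback.snd G.stabilizerToU G.t ≫ G.i)
              (pullback.fst G.stabilizerToU G.t ≫ g1 G) b1 b2 ≫ G.s =
            ((pullback.snd G.stabilizerToU G.t ≫ G.i) ≫ G.i) ≫ G.s := by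
          rw [conj_s, Category.assoc _ G.i G.s, G.i_s]
        rw [precomp_conj Ψ _ _ f1 f2 (by rw [e1, e2]; exact h3) (by rw [e1, e2]; exact h4)]
        rw [conj_congr e1 e2 _ _ h3 h4]
        exact conj_inv_conj _ _ b1 b2 h3 h4
      · rw [Category.assoc, hl2, ← Category.assoc, hΨ2]
        exact pullback.condition.symm
    · rw [Category.assoc, hΦ2, hΨ2, Category.id_comp]

/-! ### Coverings by one arrow and restricted cartesian squares -/

theorem singleton_mem_iff {X Y : Scheme.{u}} (f : X ⟶ Y) (Q : MorphismProperty Scheme.{u}) :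
    Presieve.singleton f ∈ Scheme.precoverage Q Y ↔ Function.Surjective f ∧ Q f := by
  have e : (PreZeroHypercover.singleton.{u} f).presieve₀ = Presieve.singleton f :=
    PreZeroHypercover.presieve₀_singleton _
  rw [← e, Scheme.presieve₀_mem_precoverage_iff]
  constructor
  · rintro ⟨h1, h2⟩
    exact ⟨fun y => by obtain ⟨_, x, hx⟩ := h1 y; exact ⟨x, hx⟩, h2 ⟨⟩⟩
  · rintro ⟨h1, h2⟩
    exact ⟨fun y => ⟨⟨⟩, h1 y⟩, fun (_ : (PreZeroHypercover.singleton.{u} f).I₀) => h2⟩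

theorem iff_of_isPullback_singleton {P : MorphismProperty Scheme.{u}} {K : Precoverage Scheme.{u}}
    [P.IsLocalAtTarget K] {X Y V X' : Scheme.{u}} {f : X ⟶ Y} {g : V ⟶ Y}
    (hg : Presieve.singleton g ∈ K Y) {fst : X' ⟶ X} {snd : X' ⟶ V}
    (h : IsPullback fst snd f g) : P f ↔ P snd := by
  constructor
  · intro hf
    rw [← P.cancel_left_of_respectsIso h.isoPullback.inv, h.isoPullback_inv_snd]
    exact MorphismProperty.IsLocalAtTarget.pullbackSnd hg ⟨⟩ hf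
  · intro hsnd
    refine MorphismProperty.IsLocalAtTarget.of_forall_pullbackSnd hg ?_
    rintro U g' _ ⟨⟩
    rw [← P.cancel_left_of_respectsIso h.isoPullback.hom, h.isoPullback_hom_snd]
    exact hsnd

/-- restriction of a cartesian square to opens of the base and of the covering -/
theorem exists_isPullback_restrict {X Y V X' : Scheme.{u}} {g : X ⟶ Y} {b : V ⟶ Y}
    {fst : X' ⟶ X} {snd : X' ⟶ V} (sq : IsPullback fst snd g b) (W : Y.Opens) (V₀ : V.Opens)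
    (b₀ : (V₀ : Scheme.{u}) ⟶ (W : Scheme.{u})) (hb : b₀ ≫ W.ι = V₀.ι ≫ b) :
    ∃ l, IsPullback l (snd ∣_ V₀) (g ∣_ W) b₀ := by
  have resA := (isPullback_morphismRestrict snd V₀).flip
  have outer := resA.paste_horiz sq
  rw [← hb] at outer
  exact ⟨_, IsPullback.of_right' outer (isPullback_morphismRestrict g W).flip⟩

/-- The restriction of `t` to `s⁻¹ W → t (s⁻¹ W)`, as a covering. -/
theorem exists_tau (Q : MorphismProperty Scheme.{u})
    [Q.IsStableUnderBaseChange] [Q.IsStableUnderComposition]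
    (hQoi : ∀ {X Y : Scheme.{u}} (f : X ⟶ Y), IsOpenImmersion f → Q f)
    (hQopen : ∀ {X Y : Scheme.{u}} (f : X ⟶ Y), Q f → IsOpenMap f)
    (htQ : Q G.t) (W : G.U.Opens) :
    ∃ (W' : G.U.Opens) (τ : ((G.s ⁻¹ᵁ W : G.R.Opens) : Scheme.{u}) ⟶ (W' : Scheme.{u})),
      (∀ x, x ∈ W' ↔ ∃ r : G.R, G.s r ∈ W ∧ G.t r = x) ∧
      τ ≫ W'.ι = (G.s ⁻¹ᵁ W).ι ≫ G.t ∧
      Presieve.singleton τ ∈ Scheme.precoverage Q (W' : Scheme.{u}) := by
  let W' : G.U.Opens := ⟨⇑G.t '' ((G.s ⁻¹ᵁ W : G.R.Opens) : Set G.R),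
    hQopen G.t htQ _ (G.s ⁻¹ᵁ W).isOpen⟩
  have hW'mem : ∀ x, x ∈ W' ↔ ∃ r : G.R, G.s r ∈ W ∧ G.t r = x := fun x => Iff.rfl
  have hrange : Set.range ⇑((G.s ⁻¹ᵁ W).ι ≫ G.t) ⊆ Set.range ⇑W'.ι := by
    rintro _ ⟨x, rfl⟩
    rw [Scheme.Opens.range_ι]
    refine (hW'mem _).mpr ⟨(G.s ⁻¹ᵁ W).ι x, ?_, by rw [Scheme.Hom.comp_apply]⟩
    have := x.2
    exact this
  obtain ⟨τ, hτfac⟩ : ∃ τ : ((G.s ⁻¹ᵁ W : G.R.Opens) : Scheme.{u}) ⟶ (W' : Scheme.{u}),
      τ ≫ W'.ι = (G.s ⁻¹ᵁ W).ι ≫ G.t :=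
    ⟨IsOpenImmersion.lift W'.ι ((G.s ⁻¹ᵁ W).ι ≫ G.t) hrange, IsOpenImmersion.lift_fac _ _ _⟩
  refine ⟨W', τ, hW'mem, hτfac, (singleton_mem_iff _ _).mpr ⟨?_, ?_⟩⟩
  · intro w
    have hw : W'.ι w ∈ W' := by
      have := Set.mem_range_self (f := ⇑W'.ι) w
      rwa [Scheme.Opens.range_ι] at this
    obtain ⟨r, hr, hrw⟩ := (hW'mem _).mp hw
    have hr' : r ∈ Set.range ⇑(G.s ⁻¹ᵁ W).ι := by
      rw [Scheme.Opens.range_ι]; exact hr
    obtain ⟨r', rfl⟩ := hr'
    refine ⟨r', ?_⟩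
    apply W'.ι.isOpenEmbedding.injective
    rw [← Scheme.Hom.comp_apply, hτfac, Scheme.Hom.comp_apply, hrw]
  · refine MorphismProperty.of_postcomp (W := Q) (W' := @IsOpenImmersion) τ W'.ι
      inferInstance ?_
    rw [hτfac]
    exact Q.comp_mem _ _ (hQoi _ inferInstance) htQ

/-- The restriction `s⁻¹ W → W` of `s`, as a covering. -/
theorem sigma_mem (Q : MorphismProperty Scheme.{u}) [Q.IsStableUnderBaseChange]
    (hsS : Function.Surjective G.s) (hsQ : Q G.s) (W : G.U.Opens) :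
    Presieve.singleton (G.s ∣_ W) ∈ Scheme.precoverage Q (W : Scheme.{u}) := by
  refine (singleton_mem_iff _ _).mpr ⟨?_, ?_⟩
  · have : Surjective G.s := ⟨hsS⟩
    exact (MorphismProperty.of_isPullback (P := @Surjective)
      (isPullback_morphismRestrict G.s W).flip this).surj
  · exact Q.of_isPullback (isPullback_morphismRestrict G.s W).flip hsQ

end Groth.Agent.Lib.Helper11.GrpdStab
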