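import Mathlib
import Groth.Prelude.Def_Grpd
import Groth.Agent.Lib.Helper11.GrpdLib
import Groth.Agent.Lib.Helper11.GrpdStab
import Groth.Agent.Lib.Helper11.GrpdF
import Groth.Agent.Lib.Helper11.GrpdL
import Groth.Agent.Lib.Helper11.GrpdM1

/-!
# The stabilizer of a groupoid on a field has the same dimension as `R` (helper11)
-/

set_option autoImplicit false
universe u

open CategoryTheory CategoryTheory.Limits AlgebraicGeometry
open Groth.Agent.Lib.Helper11.GrpdLib
open Groth.Agent.Lib.Helper12 Groth.Agent.Lib.Helper12.SchemeDimFT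

namespace Groth.Agent.Lib.Helper11.GrpdM2

variable {S : Scheme.{u}} (G : Grpd.GroupoidScheme S)
variable {k : Type u} [Field k] (eU : G.U ≅ Spec (CommRingCat.of k))

include eU in
theorem isAffineHom_pU : IsAffineHom G.pU := by
  haveI : IsAffine G.U := IsAffine.of_isIso eU.hom
  haveI := GrpdF.subsingleton_U G eU
  constructor
  intro W hW
  by_cases h : ∃ x : G.U, x ∈ G.pU ⁻¹ᵁ W
  · obtain ⟨x, hx⟩ := h
    have h1 : G.pU ⁻¹ᵁ W = ⊤ := by
      rw [eq_top_iff]
      intro y _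
      rw [Subsingleton.elim y x]
      exact hx
    rw [h1]
    exact isAffineOpen_top _
  · have h1 : G.pU ⁻¹ᵁ W = ⊥ := by
      rw [eq_bot_iff]
      intro y hy
      exact (h ⟨y, hy⟩).elim
    rw [h1]
    exact isAffineOpen_bot _

include eU in
theorem isClosedImmersion_diag : IsClosedImmersion G.diag := by
  haveI := isAffineHom_pU G eU
  haveI : IsSeparated G.pU := inferInstance
  show IsClosedImmersion (pullback.diagonal G.pU)
  exact IsSeparated.isClosedImmersion_diagonal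

include eU in
/-- Abstract form of the key step: on an affine open neighbourhood `Spec B` of the unit, every
generization of the unit has equal source and target. -/
theorem mem_range_of_specializes [LocallyOfFiniteType G.s] (u : G.U) (B : CommRingCat.{u})
    (ι : Spec B ⟶ G.R) [IsOpenImmersion ι] (hu : G.e u ∈ Set.range ι)
    (𝔭 : PrimeSpectrum B) (h𝔭 : ι 𝔭 ⤳ G.e u) :
    ι 𝔭 ∈ Set.range (pullback.fst G.j G.diag) := by
  haveI := GrpdF.subsingleton_U G eU
  let φ : CommRingCat.of k ⟶ B := Spec.preimage (ι ≫ G.s ≫ eU.hom)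
  let ψ : CommRingCat.of k ⟶ B := Spec.preimage (ι ≫ G.t ≫ eU.hom)
  have hφσ : Spec.map φ = ι ≫ G.s ≫ eU.hom := Spec.map_preimage _
  have hψτ : Spec.map ψ = ι ≫ G.t ≫ eU.hom := Spec.map_preimage _
  have hrange : Set.range (eU.inv ≫ G.e) ⊆ Set.range ι := by
    rintro _ ⟨y, rfl⟩
    have h1 : eU.inv y = u := Subsingleton.elim _ _
    rw [Scheme.Hom.comp_apply, h1]
    exact hu
  let e' : Spec (CommRingCat.of k) ⟶ Spec B := IsOpenImmersion.lift ι (eU.inv ≫ G.e) hrange
  have he' : e' ≫ ι = eU.inv ≫ G.e := IsOpenImmersion.lift_fac _ _ _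
  let ε : B ⟶ CommRingCat.of k := Spec.preimage e'
  have hεe : Spec.map ε = e' := Spec.map_preimage e'
  have hφε : φ ≫ ε = 𝟙 _ := by
    apply Spec.map_injective
    rw [Spec.map_comp, hεe, hφσ, Spec.map_id, ← Category.assoc e' ι, he', Category.assoc,
      ← Category.assoc G.e, G.e_s, Category.id_comp, Iso.inv_hom_id]
  have hψε : ψ ≫ ε = 𝟙 _ := by
    apply Spec.map_injective
    rw [Spec.map_comp, hεe, hψτ, Spec.map_id, ← Category.assoc e' ι, he', Category.assoc,
      ← Category.assoc G.e, G.e_t, Category.id_comp, Iso.inv_hom_id]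
  have hφε' : ∀ a : k, ε.hom (φ.hom a) = a := fun a =>
    congrArg (fun f : CommRingCat.of k ⟶ CommRingCat.of k => f.hom a) hφε
  have hψε' : ∀ a : k, ε.hom (ψ.hom a) = a := fun a =>
    congrArg (fun f : CommRingCat.of k ⟶ CommRingCat.of k => f.hom a) hψε
  have hft : φ.hom.FiniteType := by
    have h1 : LocallyOfFiniteType (Spec.map φ) := by rw [hφσ]; infer_instance
    exact (HasRingHomProperty.Spec_iff (P := @LocallyOfFiniteType)).mp h1
  -- the point of `Spec B` over the unit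
  let pt₀ : PrimeSpectrum k := ⟨⊥, Ideal.isPrime_bot⟩
  let 𝔪 : PrimeSpectrum B := PrimeSpectrum.comap ε.hom pt₀
  have h𝔪' : (Spec.map ε) pt₀ = 𝔪 := rfl
  have h𝔪 : ι 𝔪 = G.e u := by
    rw [← h𝔪', hεe, ← Scheme.Hom.comp_apply, he', Scheme.Hom.comp_apply]
    congr 1
    exact Subsingleton.elim _ _
  have h𝔪ker : 𝔪.asIdeal = RingHom.ker ε.hom := rfl
  have hsp : 𝔭 ⤳ 𝔪 :=
    (ι.isOpenEmbedding.isInducing.specializes_iff (x := 𝔭) (y := 𝔪)).mp (by rw [h𝔪]; exact h𝔭)
  have hle : 𝔭.asIdeal ≤ RingHom.ker ε.hom := by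
    rw [← h𝔪ker]
    exact (PrimeSpectrum.le_iff_specializes 𝔭 𝔪).mpr hsp
  haveI : 𝔭.asIdeal.IsPrime := 𝔭.isPrime
  have hsub : ∀ a : k, ψ.hom a - φ.hom a ∈ 𝔭.asIdeal :=
    GrpdM1.sub_mem_of_le_ker φ.hom ψ.hom ε.hom hφε' hψε' hft 𝔭.asIdeal hle
  -- the quotient
  let π : B ⟶ CommRingCat.of (B ⧸ 𝔭.asIdeal) := CommRingCat.ofHom (Ideal.Quotient.mk 𝔭.asIdeal)
  have hπ : φ ≫ π = ψ ≫ π := by
    ext a
    show (Ideal.Quotient.mk 𝔭.asIdeal) (φ.hom a) = (Ideal.Quotient.mk 𝔭.asIdeal) (ψ.hom a)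
    exact (Ideal.Quotient.eq.mpr (hsub a)).symm
  have hq : Spec.map π ≫ ι ≫ G.s ≫ eU.hom = Spec.map π ≫ ι ≫ G.t ≫ eU.hom := by
    have := congrArg Spec.map hπ
    rw [Spec.map_comp, Spec.map_comp, hφσ, hψτ] at this
    exact this
  have hξ : (Spec.map π ≫ ι) ≫ G.s = (Spec.map π ≫ ι) ≫ G.t := by
    rw [← cancel_mono eU.hom]
    simpa only [Category.assoc] using hq
  obtain ⟨l, hl1, -⟩ := GrpdStab.exists_stabLift G (Spec.map π ≫ ι) ((Spec.map π ≫ ι) ≫ G.s)
    rfl hξ.symm
  haveI : IsDomain (B ⧸ 𝔭.asIdeal) := Ideal.Quotient.isDomain _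
  let pt : PrimeSpectrum (B ⧸ 𝔭.asIdeal) := ⟨⊥, Ideal.isPrime_bot⟩
  have hpt : (Spec.map π) pt = 𝔭 := by
    apply PrimeSpectrum.ext
    show Ideal.comap (Ideal.Quotient.mk 𝔭.asIdeal) ⊥ = 𝔭.asIdeal
    rw [← RingHom.ker_eq_comap_bot, Ideal.mk_ker]
  have hl1' : l ≫ pullback.fst G.j G.diag = Spec.map π ≫ ι := hl1
  have h2 : (l ≫ pullback.fst G.j G.diag) pt = (pullback.fst G.j G.diag) (l pt) :=
    Scheme.Hom.comp_apply _ _ _
  refine ⟨l pt, h2.symm.trans ?_⟩
  rw [hl1', Scheme.Hom.comp_apply, hpt]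

include eU in
theorem generization_unit_mem_range [LocallyOfFiniteType G.s] (u : G.U) (ζ : G.R)
    (hζ : ζ ⤳ G.e u) : ζ ∈ Set.range (pullback.fst G.j G.diag) := by
  obtain ⟨V, hV, hxV⟩ := exists_affineOpen_mem (X := G.R) (G.e u)
  have hζV : ζ ∈ V := hζ.mem_open V.2 hxV
  have hr : Set.range hV.fromSpec = V := hV.range_fromSpec
  obtain ⟨𝔭, h𝔭⟩ : ζ ∈ Set.range hV.fromSpec := by rw [hr]; exact hζV
  have h1 := mem_range_of_specializes G eU u Γ(G.R, V) hV.fromSpec (by rw [hr]; exact hxV) 𝔭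
    (by rw [h𝔭]; exact hζ)
  rw [h𝔭] at h1
  exact h1

include eU in
theorem dim_eq [LocallyOfFiniteType G.s] [LocallyOfFiniteType G.t] :
    topologicalKrullDim G.R = topologicalKrullDim G.stabilizer := by
  haveI := isClosedImmersion_diag G eU
  haveI : IsClosedImmersion (pullback.fst G.j G.diag) :=
    MorphismProperty.pullback_fst (P := @IsClosedImmersion) _ _ inferInstance
  have hce : Topology.IsClosedEmbedding (pullback.fst G.j G.diag) :=
    (pullback.fst G.j G.diag).isClosedEmbedding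
  apply le_antisymm
  · let u : G.U := eU.inv (⟨⊥, Ideal.isPrime_bot⟩ : PrimeSpectrum k)
    obtain ⟨η, hη, hηu⟩ := exists_isMaxPt_specializes (G.e u)
    have hηT : η ∈ Set.range (pullback.fst G.j G.diag) :=
      generization_unit_mem_range G eU u η hηu
    have hcl : closure {η} ⊆ Set.range (pullback.fst G.j G.diag) :=
      (hce.isClosed_range.closure_subset_iff).mpr (Set.singleton_subset_iff.mpr hηT)
    have hZ : closure {η} ∈ irreducibleComponents G.R :=
      (mem_irreducibleComponents_iff _).mpr ⟨η, hη, rfl⟩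
    have h1 := (GrpdL.equidim G eU).1 _ hZ
    rw [← h1]
    have h2 : topologicalKrullDim (closure {η} : Set G.R) ≤
        topologicalKrullDim (Set.range (pullback.fst G.j G.diag)) :=
      (Topology.IsEmbedding.inclusion hcl).isInducing.topologicalKrullDim_le
    have h3 : topologicalKrullDim G.stabilizer =
        topologicalKrullDim (Set.range (pullback.fst G.j G.diag)) :=
      IsHomeomorph.topologicalKrullDim_eq _ (hce.isEmbedding.toHomeomorph.isHomeomorph)
    rw [h3]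
    exact h2
  · exact hce.isInducing.topologicalKrullDim_le

end Groth.Agent.Lib.Helper11.GrpdM2
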