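import Mathlib
import Groth.Prelude.Def_Grpd
import Groth.Agent.Lib.Helper11.GrpdLib
import Groth.Agent.Lib.Helper11.OrbA

/-!
# Saturations of quasi-compact opens under flat quasi-compact groupoids (helper11)
-/

set_option autoImplicit false
universe u

open CategoryTheory CategoryTheory.Limits AlgebraicGeometry
open Groth.Agent.Lib.Helper11.GrpdLib

namespace Groth.Agent.Lib.Helper11.GrpdN

section top

variable {X : Scheme.{u}}

theorem exists_compact_open_superset (T : Set X) (hT : IsCompact T) (O : X.Opens)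
    (hTO : T ⊆ O) : ∃ V : X.Opens, IsCompact (V : Set X) ∧ T ⊆ V ∧ V ≤ O := by
  have h : ∀ x : T, ∃ V : X.Opens, IsAffineOpen V ∧ (x : X) ∈ V ∧ V ≤ O := fun x => by
    obtain ⟨V, hV, hxV, hVO⟩ := TopologicalSpace.Opens.isBasis_iff_nbhd.mp (X.isBasis_affineOpens)
      (hTO x.2)
    exact ⟨V, hV, hxV, hVO⟩
  choose Vx hVa hxV hVO using h
  obtain ⟨t, ht⟩ := hT.elim_nhds_subcover' (fun x hx => (Vx ⟨x, hx⟩ : Set X))
    (fun x hx => (Vx ⟨x, hx⟩).2.mem_nhds (hxV ⟨x, hx⟩))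
  refine ⟨⟨⋃ x ∈ t, (Vx x : Set X), isOpen_biUnion (fun x _ => (Vx x).2)⟩, ?_, ?_, ?_⟩
  · exact t.isCompact_biUnion (fun x _ => (hVa x).isCompact)
  · exact ht
  · intro y hy
    obtain ⟨x, hx, hy⟩ := Set.mem_iUnion₂.mp hy
    exact hVO x hy

theorem eq_iInter_of_isCompact_of_stableUnderGeneralization (T : Set X) (hT : IsCompact T)
    (hgen : StableUnderGeneralization T) :
    ∃ (ι : Type u) (_ : Nonempty ι) (V : ι → X.Opens), (∀ i, IsCompact (V i : Set X)) ∧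
      T = ⋂ i, (V i : Set X) := by
  refine ⟨{V : X.Opens // IsCompact (V : Set X) ∧ T ⊆ V}, ?_, fun i => i.1, fun i => i.2.1, ?_⟩
  · obtain ⟨V, hV, hTV, -⟩ := exists_compact_open_superset T hT ⊤ (fun _ _ => trivial)
    exact ⟨⟨V, hV, hTV⟩⟩
  · apply Set.Subset.antisymm
    · exact Set.subset_iInter fun i => i.2.2
    · intro x hx
      by_contra hxT
      have hO : IsOpen ((closure {x})ᶜ : Set X) := isClosed_closure.isOpen_compl
      have hTO : T ⊆ ((⟨(closure {x})ᶜ, hO⟩ : X.Opens) : Set X) := by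
        intro w hw hwx
        exact hxT (hgen (specializes_iff_mem_closure.mpr hwx) hw)
      obtain ⟨V, hV, hTV, hVO⟩ := exists_compact_open_superset T hT _ hTO
      have hxV : x ∈ (V : Set X) := Set.mem_iInter.mp hx ⟨V, hV, hTV⟩
      exact hVO hxV (subset_closure rfl)

end top

variable {S : Scheme.{u}} (G : Grpd.GroupoidScheme S)

theorem subset_sat (W : Set G.U) : W ⊆ ⇑G.t '' (⇑G.s ⁻¹' W) := by
  intro x hx
  exact ⟨G.e x, by rw [Set.mem_preimage, s_e_apply]; exact hx, t_e_apply x⟩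

theorem isCompact_sat [QuasiCompact G.s] (W : G.U.Opens) (hW : IsCompact (W : Set G.U)) :
    IsCompact (⇑G.t '' (⇑G.s ⁻¹' (W : Set G.U))) :=
  (QuasiCompact.isCompact_preimage (f := G.s) _ W.2 hW).image G.t.continuous

theorem stableUnderGeneralization_sat [Flat G.t] (W : Set G.U) (hW : IsOpen W) :
    StableUnderGeneralization (⇑G.t '' (⇑G.s ⁻¹' W)) := by
  rintro x y hyx ⟨r, hr, rfl⟩
  obtain ⟨r', hr', hr'y⟩ := (Flat.generalizingMap (f := G.t)) hyx
  exact ⟨r', hr'.mem_open (hW.preimage G.s.continuous) hr, hr'y⟩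

theorem exists_specializes_of_mem_closure_sat [QuasiCompact G.t] (Z : Set G.U) (hZ : IsClosed Z)
    (ξ : G.U) (hξ : ξ ∈ closure (⇑G.t '' (⇑G.s ⁻¹' Z))) :
    ∃ ξ' ∈ ⇑G.t '' (⇑G.s ⁻¹' Z), ξ' ⤳ ξ := by
  let C : TopologicalSpace.Closeds G.R := ⟨⇑G.s ⁻¹' Z, hZ.preimage G.s.continuous⟩
  let I := Scheme.IdealSheafData.vanishingIdeal C
  have hr : Set.range I.subschemeι = ⇑G.s ⁻¹' Z := by
    rw [Scheme.IdealSheafData.range_subschemeι, Scheme.IdealSheafData.coe_support_vanishingIdeal]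
    rfl
  have hr2 : Set.range (I.subschemeι ≫ G.t) = ⇑G.t '' (⇑G.s ⁻¹' Z) := by
    rw [← hr, ← Set.range_comp]
    rfl
  rw [← hr2] at hξ
  obtain ⟨a, ha⟩ := OrbA.exists_specializes_of_mem_closure_range_qc (I.subschemeι ≫ G.t) ξ hξ
  exact ⟨_, hr2 ▸ ⟨a, rfl⟩, ha⟩

/-- closure of a set-theoretically invariant subset whose closure consists of specializations
is invariant (for flat `s`, `t`). -/
theorem preimage_closure_invariant [Flat G.s] [Flat G.t] (T : Set G.U)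
    (hT : ⇑G.s ⁻¹' T = ⇑G.t ⁻¹' T) (hcl : ∀ ξ ∈ closure T, ∃ ξ' ∈ T, ξ' ⤳ ξ) :
    ⇑G.s ⁻¹' (closure T) = ⇑G.t ⁻¹' (closure T) := by
  ext r
  simp only [Set.mem_preimage]
  constructor
  · intro h
    obtain ⟨ξ', hξ'T, hξ'⟩ := hcl _ h
    obtain ⟨r', hr', hr'ξ⟩ := (Flat.generalizingMap (f := G.s)) hξ'
    have h1 : r' ∈ ⇑G.t ⁻¹' T := by rw [← hT]; show G.s r' ∈ T; rw [hr'ξ]; exact hξ'T
    exact (hr'.map G.t.continuous).mem_closed isClosed_closure (subset_closure h1)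
  · intro h
    obtain ⟨ξ', hξ'T, hξ'⟩ := hcl _ h
    obtain ⟨r', hr', hr'ξ⟩ := (Flat.generalizingMap (f := G.t)) hξ'
    have h1 : r' ∈ ⇑G.s ⁻¹' T := by rw [hT]; show G.t r' ∈ T; rw [hr'ξ]; exact hξ'T
    exact (hr'.map G.s.continuous).mem_closed isClosed_closure (subset_closure h1)

theorem sat_eq_iInter [QuasiCompact G.s] [Flat G.t] (W : G.U.Opens)
    (hW : IsCompact (W : Set G.U)) :
    ∃ (ι : Type u) (_ : Nonempty ι) (V : ι → G.U.Opens), (∀ i, IsCompact (V i : Set G.U)) ∧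
      ⇑G.t '' (⇑G.s ⁻¹' (W : Set G.U)) = ⋂ i, (V i : Set G.U) :=
  eq_iInter_of_isCompact_of_stableUnderGeneralization _ (isCompact_sat G W hW)
    (stableUnderGeneralization_sat G W W.2)

theorem exists_invariant_open_between [QuasiCompact G.s] [Flat G.s] [QuasiCompact G.t]
    [Flat G.t] (W : G.U.Opens) (hW : IsCompact (W : Set G.U)) :
    ∃ V W' : G.U.Opens, G.s ⁻¹ᵁ V = G.t ⁻¹ᵁ V ∧ IsCompact (W' : Set G.U) ∧ W ≤ V ∧ V ≤ W' := by
  set E : Set G.U := ⇑G.t '' (⇑G.s ⁻¹' (W : Set G.U)) with hE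
  have hEinv : ⇑G.s ⁻¹' E = ⇑G.t ⁻¹' E := preimage_image_invariant (G := G) (W : Set G.U)
  have hEgen : StableUnderGeneralization E := stableUnderGeneralization_sat G W W.2
  obtain ⟨W', hW', hEW', -⟩ := exists_compact_open_superset E (isCompact_sat G W hW) ⊤
    (fun _ _ => trivial)
  set Z : Set G.U := (W' : Set G.U)ᶜ with hZ
  have hZc : IsClosed Z := W'.2.isClosed_compl
  set T : Set G.U := ⇑G.t '' (⇑G.s ⁻¹' Z) with hT
  have hTinv : ⇑G.s ⁻¹' T = ⇑G.t ⁻¹' T := preimage_image_invariant (G := G) Z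
  have hET : ∀ x, x ∈ E → x ∈ T → False := by
    rintro x hxE ⟨r, hr, rfl⟩
    have h1 : r ∈ ⇑G.s ⁻¹' E := by rw [hEinv]; exact hxE
    exact hr (hEW' h1)
  have hcl : ∀ ξ ∈ closure T, ∃ ξ' ∈ T, ξ' ⤳ ξ :=
    fun ξ hξ => exists_specializes_of_mem_closure_sat G Z hZc ξ hξ
  have hEcl : ∀ x, x ∈ E → x ∉ closure T := by
    intro x hxE hxT
    obtain ⟨ξ', hξ'T, hξ'⟩ := hcl x hxT
    exact hET ξ' (hEgen hξ' hxE) hξ'T
  have hinv := preimage_closure_invariant G T hTinv hcl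
  refine ⟨⟨(closure T)ᶜ, isClosed_closure.isOpen_compl⟩, W', ?_, hW', ?_, ?_⟩
  · apply TopologicalSpace.Opens.ext
    show ⇑G.s ⁻¹' (closure T)ᶜ = ⇑G.t ⁻¹' (closure T)ᶜ
    rw [Set.preimage_compl, Set.preimage_compl, hinv]
  · intro x hx
    exact hEcl x (subset_sat G _ hx)
  · intro x hx
    by_contra hxW'
    exact hx (subset_closure (subset_sat G Z hxW'))

end Groth.Agent.Lib.Helper11.GrpdN
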