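import Mathlib
import Groth.Prelude.Def_Grpd
import Groth.Agent.Lib.Helper11.GrpdLib

/-!
# Norms along `s` are invariant (helper11)
-/

set_option autoImplicit false
universe u

open CategoryTheory CategoryTheory.Limits AlgebraicGeometry TensorProduct
open Groth.Agent.Lib.Helper11.GrpdLib

namespace Groth.Agent.Lib.Helper11.GrpdP

section alg

theorem norm_one_tmul {R S R' : Type*} [CommRing R] [CommRing S] [CommRing R'] [Algebra R S]
    [Algebra R R'] [Module.Free R R'] [Module.Finite R R'] (g : R') :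
    Algebra.norm S ((1 : S) ⊗ₜ[R] g) = algebraMap R S (Algebra.norm R g) := by
  rw [Algebra.norm_apply, ← Algebra.baseChange_lmul, LinearMap.det_baseChange, ← Algebra.norm_apply]

theorem norm_algebraMap_of_isPushout (R S R' S' : Type*) [CommRing R] [CommRing S] [CommRing R']
    [CommRing S'] [Algebra R S] [Algebra R R'] [Algebra S S'] [Algebra R' S'] [Algebra R S']
    [IsScalarTower R R' S'] [IsScalarTower R S S'] [Algebra.IsPushout R S R' S']
    [Module.Free R R'] [Module.Finite R R'] (g : R') :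
    Algebra.norm S (algebraMap R' S' g) = algebraMap R S (Algebra.norm R g) := by
  have h := Algebra.norm_eq_of_algEquiv (Algebra.IsPushout.equiv R S R' S') ((1 : S) ⊗ₜ[R] g)
  rw [Algebra.IsPushout.equiv_tmul, map_one, one_mul] at h
  rw [h, norm_one_tmul]

theorem norm_of_isPushout {A B A' B' : CommRingCat.{u}} {σ : A ⟶ B} {α : A ⟶ A'} {β : B ⟶ B'}
    {σ' : A' ⟶ B'} (h : IsPushout σ α β σ')
    (hfree : letI := σ.hom.toAlgebra; Module.Free A B)
    (hfin : letI := σ.hom.toAlgebra; Module.Finite A B) (g : B) :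
    (letI := σ'.hom.toAlgebra; Algebra.norm A' (β.hom g)) =
      α.hom (letI := σ.hom.toAlgebra; Algebra.norm A g) := by
  letI := σ.hom.toAlgebra
  letI := α.hom.toAlgebra
  letI := σ'.hom.toAlgebra
  letI := β.hom.toAlgebra
  letI := (σ ≫ β).hom.toAlgebra
  haveI : IsScalarTower A B B' := IsScalarTower.of_algebraMap_eq' rfl
  haveI : IsScalarTower A A' B' := IsScalarTower.of_algebraMap_eq' (by
    show (σ ≫ β).hom = σ'.hom.comp α.hom
    rw [h.w]; rfl)
  haveI : Algebra.IsPushout A A' B B' := CommRingCat.isPushout_iff_isPushout.mp h.flip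
  exact norm_algebraMap_of_isPushout A A' B B' g

end alg

variable {S : Scheme.{u}} (G : Grpd.GroupoidScheme S)

theorem normST_mem_invariants [IsAffine G.U] [IsAffine G.R] (f : Γ(G.U, ⊤)) :
    G.normST f ∈ G.invariants := by
  show G.s.appTop.hom (G.normST f) = G.t.appTop.hom (G.normST f)
  letI := G.s.appTop.hom.toAlgebra
  by_cases hfree : ∃ s : Finset Γ(G.R, ⊤), Nonempty (Module.Basis s Γ(G.U, ⊤) Γ(G.R, ⊤))
  · obtain ⟨s, ⟨b⟩⟩ := hfree
    have hfr : Module.Free Γ(G.U, ⊤) Γ(G.R, ⊤) := Module.Free.of_basis b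
    have hfi : Module.Finite Γ(G.U, ⊤) Γ(G.R, ⊤) := Module.Finite.of_basis b
    have h1 := norm_of_isPushout
      (isPushout_appTop_of_isPullback (IsPullback.of_hasPullback G.s G.t)) hfr hfi
      (G.t.appTop.hom f)
    have h2 := norm_of_isPushout
      (isPushout_appTop_of_isPullback (isPullback_c_snd (G := G))) hfr hfi (G.t.appTop.hom f)
    have h3 : (pullback.fst G.s G.t).appTop.hom (G.t.appTop.hom f) =
        G.c.appTop.hom (G.t.appTop.hom f) := by
      have h4 : (G.c ≫ G.t).appTop = (pullback.fst G.s G.t ≫ G.t).appTop := by rw [c_t]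
      rw [Scheme.Hom.comp_appTop, Scheme.Hom.comp_appTop] at h4
      exact (congrArg (fun φ => φ.hom f) h4).symm
    unfold Grpd.GroupoidScheme.normST
    rw [← h1, ← h2, h3]
  · have h1 : G.normST f = 1 := Algebra.norm_eq_one_of_not_exists_basis _ hfree _
    rw [h1, map_one, map_one]

end Groth.Agent.Lib.Helper11.GrpdP
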