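import Mathlib
import Groth.Prelude.Def_Grpd
import Groth.Agent.Lib.Helper11.FieldAuto

/-!
# Points of the restriction of a groupoid on a field to an algebraically closed extension (helper11)
-/

set_option autoImplicit false
universe u

open CategoryTheory CategoryTheory.Limits AlgebraicGeometry

namespace Groth.Agent.Lib.Helper11.GrpdQ

theorem isIso_residueFieldMap_of_comp_isIso {X : Scheme.{u}} {L : Type u} [Field L]
    (φ : Spec (CommRingCat.of L) ⟶ X) (f : X ⟶ Spec (CommRingCat.of L)) [IsIso (φ ≫ f)]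
    (pt : Spec (CommRingCat.of L)) : IsIso (f.residueFieldMap (φ pt)) := by
  have h1 : (φ ≫ f).residueFieldMap pt = f.residueFieldMap (φ pt) ≫ φ.residueFieldMap pt :=
    Scheme.residueFieldMap_comp φ f pt
  have h2 : Function.Bijective ((φ ≫ f).residueFieldMap pt).hom :=
    (ConcreteCategory.isIso_iff_bijective ((φ ≫ f).residueFieldMap pt)).mp inferInstance
  have hβ : Function.Injective (φ.residueFieldMap pt).hom := (φ.residueFieldMap pt).hom.injective
  have hα : Function.Injective (f.residueFieldMap (φ pt)).hom :=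
    (f.residueFieldMap (φ pt)).hom.injective
  rw [ConcreteCategory.isIso_iff_bijective]
  refine ⟨hα, fun y => ?_⟩
  obtain ⟨x, hx⟩ := h2.2 ((φ.residueFieldMap pt).hom y)
  refine ⟨x, hβ ?_⟩
  rw [← hx, h1]
  rfl

variable {S : Scheme.{u}} (G : Grpd.GroupoidScheme S) {k : Type u} [Field k]
  (eU : G.U ≅ Spec (CommRingCat.of k))

theorem exists_point (r : G.R) : ∃ (k' : Type u) (_ : Field k') (_ : IsAlgClosed k') (_ : Algebra k k'), ∃ r' : ↑(pullback (pullback.snd (Spec.map (CommRingCat.ofHom (algebraMap k k')) ≫ eU.inv) G.t ≫ G.s) (Spec.map (CommRingCat.ofHom (algebraMap k k')) ≫ eU.inv)), (pullback.fst (pullback.snd (Spec.map (CommRingCat.ofHom (algebraMap k k')) ≫ eU.inv) G.t ≫ G.s) (Spec.map (CommRingCat.ofHom (algebraMap k k')) ≫ eU.inv) ≫ pullback.snd (Spec.map (CommRingCat.ofHom (algebraMap k k')) ≫ eU.inv) G.t) r' = r ∧ IsIso ((pullback.snd (pullback.snd (Spec.map (CommRingCat.ofHom (algebraMap k k')) ≫ eU.inv) G.t ≫ G.s) (Spec.map (CommRingCat.ofHom (algebraMap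 k k')) ≫ eU.inv)).residueFieldMap r') ∧ IsIso ((pullback.fst (pullback.snd (Spec.map (CommRingCat.ofHom (algebraMap k k')) ≫ eU.inv) G.t ≫ G.s) (Spec.map (CommRingCat.ofHom (algebraMap k k')) ≫ eU.inv) ≫ pullback.fst (Spec.map (CommRingCat.ofHom (algebraMap k k')) ≫ eU.inv) G.t).residueFieldMap r') := by
  let K : CommRingCat.{u} := G.R.residueField r
  let τc : CommRingCat.of k ⟶ K := Spec.preimage (G.R.fromSpecResidueField r ≫ G.t ≫ eU.hom)
  let σc : CommRingCat.of k ⟶ K := Spec.preimage (G.R.fromSpecResidueField r ≫ G.s ≫ eU.hom)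
  have hτ : Spec.map τc = G.R.fromSpecResidueField r ≫ G.t ≫ eU.hom := Spec.map_preimage _
  have hσ : Spec.map σc = G.R.fromSpecResidueField r ≫ G.s ≫ eU.hom := Spec.map_preimage _
  obtain ⟨k', hF, hAC, j, Θ, hΘ⟩ :=
    FieldAuto.exists_algClosed_auto (k := k) (K := G.R.residueField r) σc.hom τc.hom
  letI : Algebra k k' := (j.comp τc.hom).toAlgebra
  refine ⟨k', hF, hAC, inferInstance, ?_⟩
  let ρ : Spec (CommRingCat.of k') ⟶ G.R :=
    Spec.map (CommRingCat.ofHom j) ≫ G.R.fromSpecResidueField r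
  have hρt : ρ ≫ G.t = Spec.map (CommRingCat.ofHom (algebraMap k k')) ≫ eU.inv := by
    rw [← cancel_mono eU.hom]
    simp only [ρ, Category.assoc, Iso.inv_hom_id, Category.comp_id]
    rw [← hτ, ← Spec.map_comp]
    rfl
  let b : Spec (CommRingCat.of k') ⟶ Spec (CommRingCat.of k') :=
    Spec.map (CommRingCat.ofHom Θ.toRingHom)
  haveI : IsIso b := by
    haveI : IsIso (CommRingCat.ofHom Θ.toRingHom) :=
      (ConcreteCategory.isIso_iff_bijective _).mpr Θ.bijective
    infer_instance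
  have hρs : ρ ≫ G.s = b ≫ Spec.map (CommRingCat.ofHom (algebraMap k k')) ≫ eU.inv := by
    rw [← cancel_mono eU.hom]
    simp only [ρ, b, Category.assoc, Iso.inv_hom_id, Category.comp_id]
    rw [← hσ, ← Spec.map_comp, ← Spec.map_comp]
    congr 1
    ext x
    exact (hΘ x).symm
  let p₁ : Spec (CommRingCat.of k') ⟶
      pullback (Spec.map (CommRingCat.ofHom (algebraMap k k')) ≫ eU.inv) G.t :=
    pullback.lift (𝟙 _) ρ (by rw [Category.id_comp, hρt])
  let ρ' : Spec (CommRingCat.of k') ⟶ pullback (pullback.snd (Spec.map (CommRingCat.ofHom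
      (algebraMap k k')) ≫ eU.inv) G.t ≫ G.s) (Spec.map (CommRingCat.ofHom (algebraMap k k')) ≫
        eU.inv) :=
    pullback.lift p₁ b (by rw [← Category.assoc, pullback.lift_snd, hρs])
  let pt : Spec (CommRingCat.of k') := IsLocalRing.closedPoint k'
  have h1 : ρ' ≫ pullback.fst _ _ ≫ pullback.snd _ _ = ρ := by
    rw [← Category.assoc, pullback.lift_fst, pullback.lift_snd]
  have h2 : ρ' ≫ pullback.snd _ _ = b := pullback.lift_snd _ _ _
  have h3 : ρ' ≫ pullback.fst _ _ ≫ pullback.fst _ _ = 𝟙 _ := by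
    rw [← Category.assoc, pullback.lift_fst, pullback.lift_fst]
  refine ⟨ρ' pt, ?_, ?_, ?_⟩
  · rw [← Scheme.Hom.comp_apply, h1]
    show G.R.fromSpecResidueField r _ = r
    exact Scheme.fromSpecResidueField_apply _ _
  · haveI : IsIso (ρ' ≫ pullback.snd (pullback.snd (Spec.map (CommRingCat.ofHom
      (algebraMap k k')) ≫ eU.inv) G.t ≫ G.s) (Spec.map (CommRingCat.ofHom (algebraMap k k')) ≫
        eU.inv)) := by rw [h2]; infer_instance
    exact isIso_residueFieldMap_of_comp_isIso ρ' _ pt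
  · haveI : IsIso (ρ' ≫ pullback.fst (pullback.snd (Spec.map (CommRingCat.ofHom
      (algebraMap k k')) ≫ eU.inv) G.t ≫ G.s) (Spec.map (CommRingCat.ofHom (algebraMap k k')) ≫
        eU.inv) ≫ pullback.fst (Spec.map (CommRingCat.ofHom (algebraMap k k')) ≫ eU.inv) G.t) := by
      rw [h3]; infer_instance
    exact isIso_residueFieldMap_of_comp_isIso ρ' _ pt

end Groth.Agent.Lib.Helper11.GrpdQ
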