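import Mathlib
import Groth.Prelude.Def_HilbD

/-!
# HB1: the Hilbert functor of one point of a separated morphism (helper11).
-/

set_option autoImplicit false
universe u
open CategoryTheory CategoryTheory.Limits AlgebraicGeometry

namespace Groth.Agent.Lib.Helper11.HB1

variable {X S : Scheme.{u}} (f : X ⟶ S)

/-- graph morphism -/
noncomputable def gr (T : Over S) (x : T.left ⟶ X) (hx : x ≫ f = T.hom) :
    T.left ⟶ PicF.XT f T :=
  pullback.lift x (𝟙 T.left) (by simpa using hx)

@[reassoc (attr := simp)]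
theorem gr_fst (T : Over S) (x : T.left ⟶ X) (hx : x ≫ f = T.hom) :
    gr f T x hx ≫ pullback.fst f T.hom = x := pullback.lift_fst _ _ _

@[reassoc (attr := simp)]
theorem gr_snd (T : Over S) (x : T.left ⟶ X) (hx : x ≫ f = T.hom) :
    gr f T x hx ≫ pullback.snd f T.hom = 𝟙 _ := pullback.lift_snd _ _ _

theorem secGraph_eq (T : Over S) (x : T.left ⟶ X) (hx : x ≫ f = T.hom) :
    HilbD.secGraph f T x hx = (gr f T x hx).ker := rfl

/-- the diagonal -/
noncomputable abbrev dg : X ⟶ PicF.XT f (Over.mk f) :=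
  gr f (Over.mk f) (𝟙 X) (Category.id_comp f)

instance [IsSeparated f] : IsClosedImmersion (dg f) := by
  change IsClosedImmersion (pullback.diagonal f)
  infer_instance

theorem XTmap_fst {T T' : Over S} (g : T' ⟶ T) :
    PicF.XTmap f g ≫ pullback.fst f T.hom = pullback.fst f T'.hom :=
  (pullback.lift_fst _ _ _).trans (Category.comp_id _)

theorem XTmap_snd {T T' : Over S} (g : T' ⟶ T) :
    PicF.XTmap f g ≫ pullback.snd f T.hom = pullback.snd f T'.hom ≫ g.left :=
  pullback.lift_snd _ _ _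

theorem isPullback_bot {T H : Over S} (g : T ⟶ H) :
    IsPullback (PicF.XTmap f g) (pullback.snd f T.hom) (pullback.snd f H.hom) g.left := by
  refine IsPullback.of_right (h₁₂ := pullback.fst f H.hom) (h₂₂ := H.hom) (v₁₃ := f) ?_
    (XTmap_snd f g) (IsPullback.of_hasPullback f H.hom)
  have e1 : PicF.XTmap f g ≫ pullback.fst f H.hom = pullback.fst f T.hom := XTmap_fst f g
  have e2 : g.left ≫ H.hom = T.hom := Over.w g
  rw [e1, e2]
  exact IsPullback.of_hasPullback f T.hom

theorem isPullback_gr {T : Over S} (g : T ⟶ Over.mk f) :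
    IsPullback g.left (gr f T g.left (Over.w g)) (dg f) (PicF.XTmap f g) := by
  have h1 : dg f ≫ pullback.fst f (Over.mk f).hom = 𝟙 _ :=
    gr_fst f (Over.mk f) (𝟙 X) (Category.id_comp f)
  have h2 : dg f ≫ pullback.snd f (Over.mk f).hom = 𝟙 _ :=
    gr_snd f (Over.mk f) (𝟙 X) (Category.id_comp f)
  refine IsPullback.of_bot (v₂₁ := pullback.snd f T.hom)
    (v₂₂ := pullback.snd f (Over.mk f).hom) (h₃₁ := g.left) ?_ ?_ (isPullback_bot f g)
  · rw [gr_snd, h2]
    exact IsPullback.id_vert g.left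
  · apply pullback.hom_ext
    · rw [Category.assoc, Category.assoc, h1, XTmap_fst, gr_fst]
      exact Category.comp_id _
    · rw [Category.assoc, Category.assoc, h2, XTmap_snd, gr_snd_assoc]
      exact Category.comp_id _

theorem isClosedImmersion_gr [IsSeparated f] {T : Over S} (g : T ⟶ Over.mk f) :
    IsClosedImmersion (gr f T g.left (Over.w g)) :=
  MorphismProperty.of_isPullback (P := @IsClosedImmersion) (isPullback_gr f g) inferInstance

theorem pull_dg [IsSeparated f] {T : Over S} (g : T ⟶ Over.mk f) :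
    HilbD.pull f g (dg f).ker = (gr f T g.left (Over.w g)).ker := by
  unfold HilbD.pull
  have h1 : (pullback.snd (dg f).ker.subschemeι (PicF.XTmap f g)).ker =
      (dg f).ker.comap (PicF.XTmap f g) := by
    unfold Scheme.IdealSheafData.comap
    rw [← Scheme.Hom.ker_comp_of_isIso (pullbackSymmetry _ _).hom, pullbackSymmetry_hom_comp_snd]
  rw [h1, ← Scheme.IdealSheafData.ker_fst_of_isClosedImmersion]
  have hp := (isPullback_gr f g).flip
  rw [← hp.isoPullback_hom_fst, Scheme.Hom.ker_comp_of_isIso]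

theorem subschemeι_ker_comp {Z Y W : Scheme.{u}} (i : Z ⟶ Y) [IsClosedImmersion i] (p : Y ⟶ W) :
    i.ker.subschemeι ≫ p = inv i.toImage ≫ i ≫ p := by
  rw [IsIso.eq_inv_comp, ← Category.assoc]
  congr 1
  exact i.toImage_imageι

theorem isFinLocFreeOfDeg_one_of_isIso {A B : Scheme.{u}} (p : A ⟶ B) [IsIso p] :
    Mor2.IsFinLocFreeOfDeg 1 p := by
  refine ⟨⟨inferInstance, inferInstance, inferInstance⟩, fun y => ?_⟩
  rw [Scheme.Hom.finrank_eq_one_of_isIso]
  rfl

theorem isIso_of_isFinLocFreeOfDeg_one {A B : Scheme.{u}} (p : A ⟶ B)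
    (h : Mor2.IsFinLocFreeOfDeg 1 p) : IsIso p := by
  obtain ⟨⟨h1, h2, h3⟩, h4⟩ := h
  exact (Scheme.Hom.isIso_iff_finrank_eq p).mpr (funext h4)

theorem obj_dg [IsSeparated f] :
    Mor2.IsFinLocFreeOfDeg 1 ((dg f).ker.subschemeι ≫ PicF.XTproj f (Over.mk f)) := by
  have h : (dg f).ker.subschemeι ≫ PicF.XTproj f (Over.mk f) = inv (dg f).toImage := by
    rw [subschemeι_ker_comp]
    have : dg f ≫ PicF.XTproj f (Over.mk f) = 𝟙 _ :=
      gr_snd f (Over.mk f) (𝟙 X) (Category.id_comp f)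
    rw [this, Category.comp_id]
  rw [h]
  exact isFinLocFreeOfDeg_one_of_isIso _

/-- two closed sections with comparable kernels agree -/
theorem eq_of_ker_le {T Y : Scheme.{u}} (i₁ i₂ : T ⟶ Y) [IsClosedImmersion i₁] (p : Y ⟶ T)
    (h₁ : i₁ ≫ p = 𝟙 _) (h₂ : i₂ ≫ p = 𝟙 _) (H : i₁.ker ≤ i₂.ker) : i₂ = i₁ := by
  have e : IsClosedImmersion.lift i₁ i₂ H = 𝟙 _ := by
    have := IsClosedImmersion.lift_fac i₁ i₂ H
    calc IsClosedImmersion.lift i₁ i₂ H = IsClosedImmersion.lift i₁ i₂ H ≫ i₁ ≫ p := by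
          rw [h₁, Category.comp_id]
      _ = i₂ ≫ p := by rw [← Category.assoc, this]
      _ = 𝟙 _ := h₂
  have := IsClosedImmersion.lift_fac i₁ i₂ H
  rw [e, Category.id_comp] at this
  exact this.symm

theorem universal [IsSeparated f] (Δ : HilbD.Obj f 1 (Over.mk f)) (hΔ : Δ.1 = (dg f).ker) :
    HilbD.IsUniversal f 1 (Over.mk f) Δ := by
  intro T Z'
  obtain ⟨I, hI⟩ := Z'
  haveI hiso : IsIso (I.subschemeι ≫ PicF.XTproj f T) := isIso_of_isFinLocFreeOfDeg_one _ hI
  let x : T.left ⟶ X := inv (I.subschemeι ≫ PicF.XTproj f T) ≫ I.subschemeι ≫ pullback.fst f T.hom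
  have hx : x ≫ f = T.hom := by
    simp only [x, Category.assoc]
    rw [pullback.condition, ← Category.assoc I.subschemeι, IsIso.inv_hom_id_assoc]
  have hgr : gr f T x hx = inv (I.subschemeι ≫ PicF.XTproj f T) ≫ I.subschemeι := by
    apply pullback.hom_ext
    · rw [gr_fst, Category.assoc]
    · rw [gr_snd, Category.assoc, IsIso.inv_hom_id]
  have hker : (gr f T x hx).ker = I := by
    rw [hgr, Scheme.Hom.ker_comp_of_isIso, Scheme.IdealSheafData.ker_subschemeι]
  refine ⟨Over.homMk x hx, ?_, ?_⟩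
  · show HilbD.pull f (Over.homMk x hx) Δ.1 = I
    rw [hΔ, pull_dg]
    exact hker
  · intro g' hg'
    have hg'' : HilbD.pull f g' Δ.1 = I := hg'
    rw [hΔ, pull_dg] at hg''
    haveI := isClosedImmersion_gr f g'
    have key := eq_of_ker_le (gr f T g'.left (Over.w g')) (gr f T x hx) (pullback.snd f T.hom)
      (gr_snd _ _ _ _) (gr_snd _ _ _ _) (by rw [hg'', hker])
    apply Over.OverMorphism.ext
    have := congrArg (· ≫ pullback.fst f T.hom) key
    simp only [gr_fst] at this
    exact this.symm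

end Groth.Agent.Lib.Helper11.HB1
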