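import Mathlib

/-!
# RFP1: the coefficient ideal of an ideal in a projective algebra (helper11)

`C → A` with `A` projective as a `C`-module, `I` an ideal of `A`.  The coefficient ideal `J ⊆ C` is
generated by `l h`, `l : A →ₗ[C] C`, `h ∈ I`.  For a `C`-algebra `D`, `I` dies in `A ⊗[C] D` iff
`J` dies in `D`.
-/

set_option autoImplicit false
universe u
open TensorProduct

namespace Groth.Agent.Lib.Helper11.RFP1

variable {C A : Type u} [CommRing C] [CommRing A] [Algebra C A]

/-- the coefficient ideal -/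
def coeffIdeal (I : Ideal A) : Ideal C :=
  Ideal.span {c | ∃ (l : A →ₗ[C] C) (h : A), h ∈ I ∧ l h = c}

theorem coeff_le_of_tmul_eq_zero (I : Ideal A) (D : Type u) [CommRing D] [Algebra C D]
    (H : ∀ h ∈ I, h ⊗ₜ[C] (1 : D) = 0) : coeffIdeal I ≤ RingHom.ker (algebraMap C D) := by
  refine Ideal.span_le.mpr ?_
  rintro c ⟨l, h, hh, rfl⟩
  show algebraMap C D (l h) = 0
  have e : (TensorProduct.lid C D) (LinearMap.rTensor D l (h ⊗ₜ[C] (1 : D))) =
      algebraMap C D (l h) := by
    rw [LinearMap.rTensor_tmul, TensorProduct.lid_tmul, Algebra.smul_def, mul_one]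
  rw [← e, H h hh, map_zero, map_zero]

theorem tmul_eq_zero_of_coeff_le [Module.Projective C A] (I : Ideal A) (D : Type u) [CommRing D]
    [Algebra C D] (H : coeffIdeal I ≤ RingHom.ker (algebraMap C D)) :
    ∀ h ∈ I, h ⊗ₜ[C] (1 : D) = 0 := by
  intro h hh
  obtain ⟨s, hs⟩ := Module.projective_def'.mp (inferInstance : Module.Projective C A)
  have e1 : h = Finsupp.linearCombination C id (s h) := (LinearMap.congr_fun hs h).symm
  rw [e1, Finsupp.linearCombination_apply, Finsupp.sum, TensorProduct.sum_tmul]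
  refine Finset.sum_eq_zero fun b _ => ?_
  have e2 : algebraMap C D ((s h) b) = 0 := by
    have : (s h) b ∈ coeffIdeal I :=
      Ideal.subset_span ⟨(Finsupp.lapply b).comp s, h, hh, rfl⟩
    exact H this
  show ((s h) b • id b) ⊗ₜ[C] (1 : D) = 0
  rw [TensorProduct.smul_tmul, Algebra.smul_def, mul_one, e2, TensorProduct.tmul_zero]

end Groth.Agent.Lib.Helper11.RFP1
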