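import Mathlib
import Groth.Agent.Lib.Helper11.RFP1
import Groth.Agent.Lib.Helper11.RFP2

/-!
# RFP3: Weil restriction of a closed subscheme along an affine morphism with locally projective
coordinate ring (helper11).

`π : P ⟶ Y` affine, `ε : E ⟶ P` a closed immersion.  A morphism `y : T ⟶ Y` is *fixed* when
`P ×_Y T ⟶ P` factors through `E`.
-/

set_option autoImplicit false
universe u
open CategoryTheory AlgebraicGeometry Opposite

namespace Groth.Agent.Lib.Helper11.RFP3

open Groth.Agent.Lib.Helper11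

variable {P Y E : Scheme.{u}} (π : P ⟶ Y) (ε : E ⟶ P)

/-- `y` is fixed: the base change of `π` along `y` lands in `E` -/
def FixS (T : Scheme.{u}) (y : T ⟶ Y) : Prop :=
  ∃ l : Limits.pullback π y ⟶ E, l ≫ ε = Limits.pullback.fst π y

theorem fixS_comp {T T' : Scheme.{u}} (t : T' ⟶ T) (y : T ⟶ Y) (hy : FixS π ε T y) :
    FixS π ε T' (t ≫ y) := by
  obtain ⟨l, hl⟩ := hy
  let m : Limits.pullback π (t ≫ y) ⟶ Limits.pullback π y :=
    Limits.pullback.lift (Limits.pullback.fst π (t ≫ y)) (Limits.pullback.snd π (t ≫ y) ≫ t)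
      (by rw [Limits.pullback.condition, Category.assoc])
  refine ⟨m ≫ l, ?_⟩
  rw [Category.assoc, hl]
  exact Limits.pullback.lift_fst _ _ _

theorem fixS_loc [Mono ε] {T : Scheme.{u}} (y : T ⟶ Y)
    (H : ∀ t : T, ∃ (U : Scheme.{u}) (j : U ⟶ T), IsOpenImmersion j ∧ t ∈ Set.range j ∧
      FixS π ε U (j ≫ y)) : FixS π ε T y := by
  choose U j hj hjr hF using H
  choose l hl using hF
  let 𝒰 : T.OpenCover := {
    I₀ := T, X := U, f := j,
    mem₀ := by
      rw [Scheme.presieve₀_mem_precoverage_iff]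
      exact ⟨fun x => ⟨x, hjr x⟩, hj⟩ }
  let 𝒱 := Scheme.Pullback.openCoverOfRight 𝒰 π y
  have hfst : ∀ i : T, 𝒱.f i ≫ Limits.pullback.fst π y = Limits.pullback.fst π (j i ≫ y) := by
    intro i
    simp only [𝒱, 𝒰, Scheme.Pullback.openCoverOfRight_f]
    exact (Limits.pullback.lift_fst _ _ _).trans (Category.comp_id _)
  let l' : ∀ i : 𝒱.I₀, 𝒱.X i ⟶ E := fun i => l i
  have hl' : ∀ i : 𝒱.I₀, l' i ≫ ε = 𝒱.f i ≫ Limits.pullback.fst π y :=
    fun i => (hl i).trans (hfst i).symm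
  refine ⟨𝒱.glueMorphisms l' ?_, ?_⟩
  · intro a b
    rw [← cancel_mono ε, Category.assoc, Category.assoc, hl', hl',
      Limits.pullback.condition_assoc]
  · apply 𝒱.hom_ext
    intro i
    rw [← Category.assoc, 𝒱.ι_glueMorphisms, hl']

theorem isLocalPred [Mono ε] : RFP2.IsLocalPred (FixS π ε) where
  comp := fixS_comp π ε
  loc := fixS_loc π ε

/-! ### affine-local description -/

section affine

variable {π ε}
variable {V : Y.Opens} (hV : IsAffineOpen V)

theorem isPullback_base [IsAffineHom π] :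
    IsPullback (Spec.map (π.app V)) (hV.preimage π).fromSpec hV.fromSpec π := by
  refine IsOpenImmersion.isPullback _ _ _ _ ?_ ?_
  · rw [Scheme.Hom.app_eq_appLE]
    exact (IsAffineOpen.SpecMap_appLE_fromSpec π hV (hV.preimage π) le_rfl).symm
  · rw [IsAffineOpen.opensRange_fromSpec, IsAffineOpen.opensRange_fromSpec]

theorem isPullback_affine [IsAffineHom π] {D : CommRingCat.{u}} (φ : Γ(Y, V) ⟶ D) :
    IsPullback (Spec.map (Limits.pushout.inl (π.app V) φ) ≫ (hV.preimage π).fromSpec)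
      (Spec.map (Limits.pushout.inr (π.app V) φ)) π (Spec.map φ ≫ hV.fromSpec) :=
  (isPullback_SpecMap_pushout (π.app V) φ).paste_horiz (isPullback_base hV).flip

theorem app_surjective [IsClosedImmersion ε] {W : P.Opens} (hW : IsAffineOpen W) :
    Function.Surjective (ε.app W).hom :=
  (isClosedImmersion_iff_isAffineHom.mp ‹IsClosedImmersion ε›).2 W hW

theorem fromSpec_comp [IsClosedImmersion ε] {W : P.Opens} (hW : IsAffineOpen W) :
    (hW.preimage ε).fromSpec ≫ ε = Spec.map (ε.app W) ≫ hW.fromSpec := by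
  rw [Scheme.Hom.app_eq_appLE]
  exact (IsAffineOpen.SpecMap_appLE_fromSpec ε hW (hW.preimage ε) le_rfl).symm

theorem factors_iff [IsClosedImmersion ε] {W : P.Opens} (hW : IsAffineOpen W)
    {A' : CommRingCat.{u}} (ψ : Γ(P, W) ⟶ A') :
    (∃ l : Spec A' ⟶ E, l ≫ ε = Spec.map ψ ≫ hW.fromSpec) ↔
      ∀ h ∈ RingHom.ker (ε.app W).hom, ψ.hom h = 0 := by
  constructor
  · rintro ⟨l, hl⟩ h hh
    have hr : Set.range l ⊆ Set.range (hW.preimage ε).fromSpec := by
      rintro _ ⟨x, rfl⟩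
      rw [IsAffineOpen.range_fromSpec]
      change ε (l x) ∈ W
      have h1 : ε (l x) = (Spec.map ψ ≫ hW.fromSpec) x := by
        rw [← hl]; rfl
      rw [h1]
      have h2 : (Spec.map ψ ≫ hW.fromSpec) x ∈ Set.range hW.fromSpec := ⟨Spec.map ψ x, rfl⟩
      rw [IsAffineOpen.range_fromSpec] at h2
      exact h2
    let l' := IsOpenImmersion.lift (hW.preimage ε).fromSpec l hr
    have hl' : l' ≫ (hW.preimage ε).fromSpec = l := IsOpenImmersion.lift_fac _ _ _
    have h3 : Spec.map (ε.app W ≫ Spec.preimage l') = Spec.map ψ := by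
      rw [Spec.map_comp, Spec.map_preimage, ← cancel_mono hW.fromSpec, Category.assoc,
        ← fromSpec_comp hW, ← Category.assoc, hl', hl]
    have h4 : ε.app W ≫ Spec.preimage l' = ψ := Spec.map_injective h3
    rw [← h4]
    change (Spec.preimage l').hom ((ε.app W).hom h) = 0
    rw [RingHom.mem_ker.mp hh, map_zero]
  · intro H
    let ψ' : Γ(E, ε ⁻¹ᵁ W) →+* A' :=
      (ε.app W).hom.liftOfSurjective (app_surjective hW) ⟨ψ.hom, fun h hh => H h hh⟩
    have hψ' : ψ'.comp (ε.app W).hom = ψ.hom :=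
      RingHom.liftOfSurjective_comp _ (app_surjective hW) ⟨ψ.hom, fun h hh => H h hh⟩
    refine ⟨Spec.map (CommRingCat.ofHom ψ') ≫ (hW.preimage ε).fromSpec, ?_⟩
    rw [Category.assoc, fromSpec_comp hW, ← Category.assoc, ← Spec.map_comp]
    congr 2
    ext x
    exact RingHom.congr_fun hψ' x

theorem fixS_iff_pushout [IsAffineHom π] [IsClosedImmersion ε] {D : CommRingCat.{u}}
    (φ : Γ(Y, V) ⟶ D) :
    FixS π ε _ (Spec.map φ ≫ hV.fromSpec) ↔
      ∀ h ∈ RingHom.ker (ε.app (π ⁻¹ᵁ V)).hom, (Limits.pushout.inl (π.app V) φ).hom h = 0 := by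
  rw [← factors_iff (hV.preimage π)]
  let e := (isPullback_affine (π := π) hV φ).isoPullback
  have he : e.hom ≫ Limits.pullback.fst π (Spec.map φ ≫ hV.fromSpec) =
      Spec.map (Limits.pushout.inl (π.app V) φ) ≫ (hV.preimage π).fromSpec :=
    IsPullback.isoPullback_hom_fst _
  constructor
  · rintro ⟨l, hl⟩
    exact ⟨e.hom ≫ l, by rw [Category.assoc, hl, he]⟩
  · rintro ⟨l, hl⟩
    refine ⟨e.inv ≫ l, ?_⟩
    rw [Category.assoc, hl, ← he, Iso.inv_hom_id_assoc]

end affine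

open TensorProduct in
theorem inl_eq_zero_iff {C A D : CommRingCat.{u}} (f : C ⟶ A) (φ : C ⟶ D) (h : A) :
    (Limits.pushout.inl f φ).hom h = 0 ↔
      @TensorProduct.tmul C _ A D _ _ f.hom.toAlgebra.toModule φ.hom.toAlgebra.toModule h 1 = 0 := by
  letI := f.hom.toAlgebra
  letI := φ.hom.toAlgebra
  have hp := CommRingCat.isPushout_tensorProduct C A D
  have h2 : hp.isoPushout.hom (h ⊗ₜ[C] (1 : D)) = (Limits.pushout.inl f φ).hom h :=
    congr($(hp.inl_isoPushout_hom).hom h)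
  constructor
  · intro h0
    rw [h0] at h2
    have hinj : Function.Injective hp.isoPushout.hom :=
      (ConcreteCategory.bijective_of_isIso hp.isoPushout.hom).1
    exact hinj (h2.trans (map_zero _).symm)
  · intro h0
    rw [← h2, h0, map_zero]

section main

variable {π ε}

/-- the coefficient ideal of the ideal of `E` over an affine open `V` of `Y` -/
noncomputable def coeffI (V : Y.Opens) : Ideal Γ(Y, V) :=
  @RFP1.coeffIdeal Γ(Y, V) Γ(P, π ⁻¹ᵁ V) _ _ (π.app V).hom.toAlgebra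
    (RingHom.ker (ε.app (π ⁻¹ᵁ V)).hom)

theorem fixS_iff_coeff [IsAffineHom π] [IsClosedImmersion ε] {V : Y.Opens} (hV : IsAffineOpen V)
    (hproj : @Module.Projective Γ(Y, V) _ Γ(P, π ⁻¹ᵁ V) _ (π.app V).hom.toAlgebra.toModule)
    {D : CommRingCat.{u}} (φ : Γ(Y, V) ⟶ D) :
    FixS π ε _ (Spec.map φ ≫ hV.fromSpec) ↔ coeffI (π := π) (ε := ε) V ≤ RingHom.ker φ.hom := by
  letI := (π.app V).hom.toAlgebra
  letI := φ.hom.toAlgebra
  rw [fixS_iff_pushout hV φ]
  simp only [inl_eq_zero_iff]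
  constructor
  · intro H
    exact RFP1.coeff_le_of_tmul_eq_zero _ D H
  · intro H
    exact RFP1.tmul_eq_zero_of_coeff_le _ D H

theorem nice_of_projective [IsAffineHom π] [IsClosedImmersion ε] {V : Y.Opens}
    (hV : IsAffineOpen V)
    (hproj : @Module.Projective Γ(Y, V) _ Γ(P, π ⁻¹ᵁ V) _ (π.app V).hom.toAlgebra.toModule) :
    RFP2.Nice (FixS π ε) hV := by
  unfold RFP2.Nice
  rw [fixS_iff_coeff hV hproj]
  intro c hc
  rw [RingHom.mem_ker]
  change Ideal.Quotient.mk _ c = 0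
  rw [Ideal.Quotient.eq_zero_iff_mem, RFP2.mem_N_iff]
  intro D φ hφ
  exact ((fixS_iff_coeff hV hproj φ).mp hφ) hc

/-- **Main theorem of RFP3**: if `π : P ⟶ Y` is affine with locally projective coordinate ring and
`ε : E ⟶ P` is a closed immersion, then "the fibre of `π` lies in `E`" is a closed condition. -/
theorem main [IsAffineHom π] [IsClosedImmersion ε]
    (hproj : ∀ y : Y, ∃ (V : Y.Opens) (_ : IsAffineOpen V), y ∈ V ∧
      ∀ (V' : Y.Opens) (_ : IsAffineOpen V'), V' ≤ V →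
        @Module.Projective Γ(Y, V') _ Γ(P, π ⁻¹ᵁ V') _ (π.app V').hom.toAlgebra.toModule) :
    ∃ (Z : Scheme.{u}) (i : Z ⟶ Y), IsClosedImmersion i ∧
      ∀ (T : Scheme.{u}) (y : T ⟶ Y), FixS π ε T y ↔ ∃ z : T ⟶ Z, z ≫ i = y := by
  refine RFP2.main (isLocalPred π ε) ?_
  intro y
  obtain ⟨V, hV, hy, H⟩ := hproj y
  exact ⟨V, hV, hy, fun V' hV' hle => nice_of_projective hV' (H V' hV' hle)⟩

end main

end Groth.Agent.Lib.Helper11.RFP3
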