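import Mathlib
import Groth.Agent.Lib.Helper11.RFP3

/-!
# RFP4: relative fixed points in `Over S` (helper11).

`F` affine over `S` with locally projective coordinate ring, `Y` any `S`-scheme,
`ε : E ⟶ F ×_S Y` a closed immersion.  The functor of `y : T ⟶ Y` such that `F ×_S T ⟶ F ×_S Y`
factors through `E` is represented by a closed subscheme of `Y`.
-/

set_option autoImplicit false
universe u
open CategoryTheory AlgebraicGeometry Opposite MonoidalCategory CartesianMonoidalCategory MonObj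

namespace Groth.Agent.Lib.Helper11.RFP4

open Groth.Agent.Lib.Helper11

open TensorProduct in
theorem projective_of_isPushout {R C B A : CommRingCat.{u}} {a : R ⟶ C} {b : R ⟶ B} {c : C ⟶ A}
    {d : B ⟶ A} (h : IsPushout a b c d)
    (hB : @Module.Projective R _ B _ b.hom.toAlgebra.toModule) :
    @Module.Projective C _ A _ c.hom.toAlgebra.toModule := by
  letI := a.hom.toAlgebra
  letI := b.hom.toAlgebra
  letI := c.hom.toAlgebra
  have hp := CommRingCat.isPushout_tensorProduct R C B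
  let e := hp.isoIsPushout _ _ h
  have he : ∀ x : C, e.hom.hom (x ⊗ₜ[R] (1 : B)) = c.hom x := fun x =>
    congr($(hp.inl_isoIsPushout_hom _ _ h).hom x)
  let el : (C ⊗[R] B) ≃ₗ[C] A :=
    { e.commRingCatIsoToRingEquiv.toAddEquiv with
      map_smul' := fun r x => by
        change e.hom.hom (r • x) = r • e.hom.hom x
        rw [Algebra.smul_def, Algebra.smul_def, map_mul, Algebra.TensorProduct.algebraMap_apply,
          RingHom.algebraMap_toAlgebra]
        change e.hom.hom (r ⊗ₜ[R] (1 : B)) * _ = _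
        rw [he]
        rfl }
  exact Module.Projective.of_equiv el

section pullback

variable {S F Y P : Scheme.{u}} {f : F ⟶ S} {g : Y ⟶ S} {π : P ⟶ Y} {pF : P ⟶ F}

theorem projective_pullback [IsAffineHom f] (H : IsPullback π pF g f)
    {U : S.Opens} (hU : IsAffineOpen U)
    (hproj : @Module.Projective Γ(S, U) _ Γ(F, f ⁻¹ᵁ U) _ (f.app U).hom.toAlgebra.toModule)
    {V : Y.Opens} (hV : IsAffineOpen V) (hVU : V ≤ g ⁻¹ᵁ U) :
    @Module.Projective Γ(Y, V) _ Γ(P, π ⁻¹ᵁ V) _ (π.app V).hom.toAlgebra.toModule := by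
  have hUY : π ⁻¹ᵁ V = π ⁻¹ᵁ V ⊓ pF ⁻¹ᵁ (f ⁻¹ᵁ U) := by
    refine le_antisymm (le_inf le_rfl ?_) inf_le_left
    intro x hx
    change f (pF x) ∈ U
    have h1 : g (π x) ∈ U := hVU hx
    have h2 : f (pF x) = g (π x) := by
      rw [← Scheme.Hom.comp_apply, ← Scheme.Hom.comp_apply, H.w]
    rw [h2]; exact h1
  haveI := isIso_pushoutSection_of_isAffineOpen H (US := U) (UT := f ⁻¹ᵁ U) (UX := V)
    le_rfl hVU hUY hU (hU.preimage f) hV
  have hpo := (isIso_pushoutSection_iff H (US := U) (UT := f ⁻¹ᵁ U) (UX := V)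
    le_rfl hVU hUY).mp this
  rw [Scheme.Hom.app_eq_appLE] at hproj ⊢
  exact projective_of_isPushout hpo hproj

/-- scheme-level main theorem for a pullback square -/
theorem main [IsAffineHom f] (H : IsPullback π pF g f) {E : Scheme.{u}} (ε : E ⟶ P)
    [IsClosedImmersion ε]
    (hproj : ∀ s : S, ∃ (U : S.Opens) (_ : IsAffineOpen U), s ∈ U ∧
      @Module.Projective Γ(S, U) _ Γ(F, f ⁻¹ᵁ U) _ (f.app U).hom.toAlgebra.toModule) :
    ∃ (Z : Scheme.{u}) (i : Z ⟶ Y), IsClosedImmersion i ∧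
      ∀ (T : Scheme.{u}) (y : T ⟶ Y), RFP3.FixS π ε T y ↔ ∃ z : T ⟶ Z, z ≫ i = y := by
  haveI : IsAffineHom π := MorphismProperty.of_isPullback (P := @IsAffineHom) H.flip ‹_›
  refine RFP3.main ?_
  intro y
  obtain ⟨U, hU, hyU, hp⟩ := hproj (g y)
  obtain ⟨V, hV, hyV, hVU⟩ := Y.isBasis_affineOpens.exists_subset_of_mem_open
    (show y ∈ ((g ⁻¹ᵁ U : Y.Opens) : Set Y) from hyU) (g ⁻¹ᵁ U).2
  obtain ⟨V', hV'a, rfl⟩ := hV
  refine ⟨V', hV'a, hyV, ?_⟩
  intro V'' hV'' hle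
  exact projective_pullback H hU hp hV'' (fun x hx => hVU (hle hx))

end pullback

section overS

variable {S : Scheme.{u}}

theorem isPullback_whisker (F : Over S) {T Y : Over S} (y : T ⟶ Y) :
    IsPullback (F ◁ y).left (snd F T).left (snd F Y).left y.left := by
  have t : IsPullback (fst F Y).left (snd F Y).left F.hom Y.hom :=
    IsPullback.of_hasPullback F.hom Y.hom
  have e1 : (F ◁ y).left ≫ (fst F Y).left = (fst F T).left := by
    rw [← Over.comp_left, whiskerLeft_fst]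
  have e2 : y.left ≫ Y.hom = T.hom := Over.w y
  have s : IsPullback ((F ◁ y).left ≫ (fst F Y).left) (snd F T).left F.hom (y.left ≫ Y.hom) := by
    rw [e1, e2]
    exact IsPullback.of_hasPullback F.hom T.hom
  have p : (F ◁ y).left ≫ (snd F Y).left = (snd F T).left ≫ y.left := by
    rw [← Over.comp_left, whiskerLeft_snd, Over.comp_left]
  exact IsPullback.of_right s p t

theorem isPullback_prod (F Y : Over S) :
    IsPullback (snd F Y).left (fst F Y).left Y.hom F.hom :=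
  (IsPullback.of_hasPullback F.hom Y.hom).flip

/-- the hypothesis: the coordinate ring of `F` is locally projective over `S` -/
def LocProj (F : Over S) : Prop :=
  ∀ s : S, ∃ (U : S.Opens) (_ : IsAffineOpen U), s ∈ U ∧
    @Module.Projective Γ(S, U) _ Γ(F.left, F.hom ⁻¹ᵁ U) _ (F.hom.app U).hom.toAlgebra.toModule

theorem over_main' (F Y : Over S) [IsAffineHom F.hom] (hproj : LocProj F) {E : Scheme.{u}}
    (ε : E ⟶ (F ⊗ Y).left) [IsClosedImmersion ε] :
    ∃ (Z : Scheme.{u}) (i : Z ⟶ Y.left), IsClosedImmersion i ∧ ∀ (T : Over S) (y : T ⟶ Y),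
      (∃ z : T.left ⟶ Z, z ≫ i = y.left) ↔
        ∃ l : (F ⊗ T).left ⟶ E, l ≫ ε = (F ◁ y).left := by
  obtain ⟨Z, i, hi, H⟩ := main (isPullback_prod F Y) ε hproj
  refine ⟨Z, i, hi, fun T y => ?_⟩
  rw [← H T.left y.left]
  let e := (isPullback_whisker F y).isoPullback
  have he : e.hom ≫ Limits.pullback.fst _ _ = (F ◁ y).left := IsPullback.isoPullback_hom_fst _
  constructor
  · rintro ⟨l, hl⟩
    exact ⟨e.hom ≫ l, by rw [Category.assoc, hl, he]⟩
  · rintro ⟨l, hl⟩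
    exact ⟨e.inv ≫ l, by rw [Category.assoc, hl, ← he, Iso.inv_hom_id_assoc]⟩

theorem over_eq' (F Y W : Over S) [IsAffineHom F.hom] (hproj : LocProj F) (u v : F ⊗ Y ⟶ W)
    {E : Scheme.{u}} (ε : E ⟶ (F ⊗ Y).left) [IsClosedImmersion ε]
    (hε : ε ≫ u.left = ε ≫ v.left)
    (huniv : ∀ {T : Scheme.{u}} (m : T ⟶ (F ⊗ Y).left), m ≫ u.left = m ≫ v.left →
      ∃ l : T ⟶ E, l ≫ ε = m) :
    ∃ (Z : Scheme.{u}) (i : Z ⟶ Y.left), IsClosedImmersion i ∧ ∀ (T : Over S) (y : T ⟶ Y),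
      (∃ z : T.left ⟶ Z, z ≫ i = y.left) ↔ (F ◁ y) ≫ u = (F ◁ y) ≫ v := by
  obtain ⟨Z, i, hi, H⟩ := over_main' F Y hproj ε
  refine ⟨Z, i, hi, fun T y => ?_⟩
  rw [H T y]
  constructor
  · rintro ⟨l, hl⟩
    ext1
    rw [Over.comp_left, Over.comp_left, ← hl, Category.assoc, Category.assoc, hε]
  · intro h
    exact huniv _ (by rw [← Over.comp_left, ← Over.comp_left, h])

/-- passing from a closed subscheme of `Y.left` to a closed `S`-subscheme of `Y` -/
theorem to_over {Y : Over S} {Z : Scheme.{u}} (i : Z ⟶ Y.left) (T : Over S) (y : T ⟶ Y) :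
    (∃ z : T ⟶ Over.mk (i ≫ Y.hom), z ≫ (Over.homMk i rfl : Over.mk (i ≫ Y.hom) ⟶ Y) = y) ↔
      ∃ z : T.left ⟶ Z, z ≫ i = y.left := by
  constructor
  · rintro ⟨z, rfl⟩
    exact ⟨z.left, rfl⟩
  · rintro ⟨z, hz⟩
    refine ⟨Over.homMk z ?_, ?_⟩
    · change z ≫ i ≫ Y.hom = T.hom
      rw [← Category.assoc, hz]
      exact Over.w y
    · ext1
      exact hz

/-- the separated case: the equalizer in `Over S` is a closed immersion -/
theorem over_eq_sep (F Y W : Over S) [IsAffineHom F.hom] (hproj : LocProj F) [IsSeparated W.hom]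
    (u v : F ⊗ Y ⟶ W) :
    ∃ (Z : Over S) (i : Z ⟶ Y), IsClosedImmersion i.left ∧ ∀ (T : Over S) (y : T ⟶ Y),
      (∃ z : T ⟶ Z, z ≫ i = y) ↔ (F ◁ y) ≫ u = (F ◁ y) ≫ v := by
  obtain ⟨Z, i, hi, H⟩ := over_eq' F Y W hproj u v (Limits.equalizer.ι u v).left
    (by rw [← Over.comp_left, ← Over.comp_left, Limits.equalizer.condition])
    (by
      intro T m hm
      let T' : Over S := Over.mk (m ≫ (F ⊗ Y).hom)
      let m' : T' ⟶ F ⊗ Y := Over.homMk m rfl
      have hm' : m' ≫ u = m' ≫ v := by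
        ext1
        exact hm
      refine ⟨(Limits.equalizer.lift m' hm').left, ?_⟩
      rw [← Over.comp_left, Limits.equalizer.lift_ι]
      rfl)
  refine ⟨Over.mk (i ≫ Y.hom), Over.homMk i rfl, hi, fun T y => ?_⟩
  rw [to_over, H T y]

theorem fixed_iff {F Y : Over S} (act : F ⊗ Y ⟶ Y) {T : Over S} (y : T ⟶ Y) :
    (∀ (T' : Over S) (t : T' ⟶ T) (g : T' ⟶ F), lift g (t ≫ y) ≫ act = t ≫ y) ↔
      (F ◁ y) ≫ act = (F ◁ y) ≫ snd F Y := by
  have e0 : lift (fst F T) (snd F T ≫ y) = F ◁ y := by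
    apply CartesianMonoidalCategory.hom_ext
    · rw [lift_fst, whiskerLeft_fst]
    · rw [lift_snd, whiskerLeft_snd]
  constructor
  · intro H
    have h1 := H (F ⊗ T) (snd F T) (fst F T)
    rw [e0] at h1
    rw [h1, whiskerLeft_snd]
  · intro H T' t g
    have e1 : lift g (t ≫ y) = lift g t ≫ (F ◁ y) := by
      apply CartesianMonoidalCategory.hom_ext
      · rw [lift_fst, Category.assoc, whiskerLeft_fst, lift_fst]
      · rw [lift_snd, Category.assoc, whiskerLeft_snd, lift_snd_assoc]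
    rw [e1, Category.assoc, H, whiskerLeft_snd, lift_snd_assoc]

theorem comm_iff {G Y : Over S} [GrpObj G] (y : Y ⟶ G) {X : Over S} (g : X ⟶ G) :
    (∀ (X' : Over S) (x : X' ⟶ X) (a : X' ⟶ Y), (x ≫ g) * (a ≫ y) = (a ≫ y) * (x ≫ g)) ↔
      (Y ◁ g) ≫ (snd Y G * (fst Y G ≫ y)) = (Y ◁ g) ≫ ((fst Y G ≫ y) * snd Y G) := by
  have e1 : (Y ◁ g) ≫ (snd Y G * (fst Y G ≫ y)) = (snd Y X ≫ g) * (fst Y X ≫ y) := by
    rw [MonObj.comp_mul, whiskerLeft_snd, whiskerLeft_fst_assoc]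
  have e2 : (Y ◁ g) ≫ ((fst Y G ≫ y) * snd Y G) = (fst Y X ≫ y) * (snd Y X ≫ g) := by
    rw [MonObj.comp_mul, whiskerLeft_snd, whiskerLeft_fst_assoc]
  rw [e1, e2]
  constructor
  · intro H
    exact H (Y ⊗ X) (snd Y X) (fst Y X)
  · intro H X' x a
    have h1 := congrArg (fun m => lift a x ≫ m) H
    simp only [MonObj.comp_mul, lift_snd_assoc, lift_fst_assoc] at h1
    exact h1

end overS

end Groth.Agent.Lib.Helper11.RFP4
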