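import Mathlib
import Groth.Agent.Lib.Helper11.RFP4

/-!
# RFP5: finite flat finitely presented ⇒ locally projective; pointed actions (helper11).
-/

set_option autoImplicit false
universe u
open CategoryTheory AlgebraicGeometry Opposite MonoidalCategory CartesianMonoidalCategory MonObj

namespace Groth.Agent.Lib.Helper11.RFP5

open Groth.Agent.Lib.Helper11

variable {S : Scheme.{u}}

theorem projective_of_finite_flat {X Y : Scheme.{u}} (f : X ⟶ Y) [IsFinite f] [Flat f]
    [LocallyOfFinitePresentation f] {U : Y.Opens} (hU : IsAffineOpen U) :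
    @Module.Projective Γ(Y, U) _ Γ(X, f ⁻¹ᵁ U) _ (f.app U).hom.toAlgebra.toModule := by
  have h1 : (f.app U).hom.Finite := IsFinite.finite_app f U hU
  have h2 : (f.app U).hom.Flat := by
    rw [Scheme.Hom.app_eq_appLE]
    exact f.flat_appLE hU (hU.preimage f) le_rfl
  have h3 : (f.app U).hom.FinitePresentation := by
    rw [Scheme.Hom.app_eq_appLE]
    exact f.finitePresentation_appLE hU (hU.preimage f) le_rfl
  letI := (f.app U).hom.toAlgebra
  haveI : Module.Finite Γ(Y, U) Γ(X, f ⁻¹ᵁ U) := h1
  haveI : Module.Flat Γ(Y, U) Γ(X, f ⁻¹ᵁ U) := h2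
  haveI : Algebra.FinitePresentation Γ(Y, U) Γ(X, f ⁻¹ᵁ U) := h3
  haveI : Module.FinitePresentation Γ(Y, U) Γ(X, f ⁻¹ᵁ U) :=
    Module.FinitePresentation.of_finite_of_finitePresentation _ _
  exact Module.Flat.projective_of_finitePresentation

theorem locProj_of_finite_flat (F : Over S) [IsFinite F.hom] [Flat F.hom]
    [LocallyOfFinitePresentation F.hom] : RFP4.LocProj F := by
  intro s
  obtain ⟨U, hU, hsU, -⟩ := S.isBasis_affineOpens.exists_subset_of_mem_open
    (Set.mem_univ s) isOpen_univ
  obtain ⟨U', hU'a, rfl⟩ := hU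
  exact ⟨U', hU'a, hsU, projective_of_finite_flat F.hom hU'a⟩

theorem isPullback_whiskerRight {F F' : Over S} (e : F' ⟶ F) (X : Over S) :
    IsPullback (e ▷ X).left (fst F' X).left (fst F X).left e.left := by
  have t : IsPullback (snd F X).left (fst F X).left X.hom F.hom :=
    (IsPullback.of_hasPullback F.hom X.hom).flip
  have e1 : (e ▷ X).left ≫ (snd F X).left = (snd F' X).left := by
    rw [← Over.comp_left, whiskerRight_snd]
  have e2 : e.left ≫ F.hom = F'.hom := Over.w e
  have s : IsPullback ((e ▷ X).left ≫ (snd F X).left) (fst F' X).left X.hom (e.left ≫ F.hom) := by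
    rw [e1, e2]
    exact (IsPullback.of_hasPullback F'.hom X.hom).flip
  have p : (e ▷ X).left ≫ (fst F X).left = (fst F' X).left ≫ e.left := by
    rw [← Over.comp_left, whiskerRight_fst, Over.comp_left]
  exact IsPullback.of_right s p t

theorem surjective_whiskerRight {F F' : Over S} (e : F' ⟶ F) (X : Over S) [Surjective e.left] :
    Surjective (e ▷ X).left :=
  MorphismProperty.of_isPullback (P := @Surjective) (isPullback_whiskerRight e X).flip ‹_›

/-- a pointed scheme `F` (with surjective point `e`) acting on `X`: the fixed points are a closed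
subscheme when `F` is affine with locally projective coordinate ring -/
theorem pointed_fixed (F X : Over S) (e : 𝟙_ (Over S) ⟶ F) (act : F ⊗ X ⟶ X)
    (he : (e ▷ X) ≫ act = (λ_ X).hom) [IsAffineHom F.hom] (hproj : RFP4.LocProj F)
    [Surjective e.left] :
    ∃ (Z : Scheme.{u}) (i : Z ⟶ X.left), IsClosedImmersion i ∧
      ∀ (T : Over S) (x : T ⟶ X), (∃ y : T.left ⟶ Z, y ≫ i = x.left) ↔
        ∀ (T' : Over S) (t : T' ⟶ T) (g : T' ⟶ F), lift g (t ≫ x) ≫ act = t ≫ x := by
  let ε := Limits.equalizer.ι act.left (snd F X).left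
  haveI := surjective_whiskerRight e X
  have hfac : (e ▷ X).left ≫ act.left = (e ▷ X).left ≫ (snd F X).left := by
    rw [← Over.comp_left, ← Over.comp_left, he, whiskerRight_snd, leftUnitor_hom]
  have hsurj : Function.Surjective ε := by
    intro p
    obtain ⟨q, rfl⟩ := (e ▷ X).left.surjective p
    refine ⟨Limits.equalizer.lift (e ▷ X).left hfac q, ?_⟩
    rw [← Scheme.Hom.comp_apply, Limits.equalizer.lift_ι]
  haveI : IsClosedImmersion ε := by
    refine IsClosedImmersion.of_isPreimmersion ε ?_
    rw [hsurj.range_eq]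
    exact isClosed_univ
  obtain ⟨Z, i, hi, H⟩ := RFP4.over_eq' F X X hproj act (snd F X) ε
    (Limits.equalizer.condition _ _)
    (fun m hm => ⟨Limits.equalizer.lift m hm, Limits.equalizer.lift_ι _ _⟩)
  refine ⟨Z, i, hi, fun T x => ?_⟩
  rw [H T x, RFP4.fixed_iff]

end Groth.Agent.Lib.Helper11.RFP5
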