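import Mathlib
import Groth.Prelude.Def_HilbD
import Groth.Agent.Lib.Helper11.HB1
import Groth.Agent.Lib.Helper11.RFP5

/-!
# HB2: the Hilbert functor of points is separated (helper11).
-/

set_option autoImplicit false
universe u
open CategoryTheory CategoryTheory.Limits AlgebraicGeometry

namespace Groth.Agent.Lib.Helper11.HB2

open Groth.Agent.Lib.Helper11

variable {X S : Scheme.{u}} (f : X ⟶ S)

theorem pull_eq_comap {T T' : Over S} (g : T' ⟶ T) (I : (PicF.XT f T).IdealSheafData) :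
    HilbD.pull f g I = I.comap (PicF.XTmap f g) := by
  unfold HilbD.pull Scheme.IdealSheafData.comap
  rw [← Scheme.Hom.ker_comp_of_isIso (pullbackSymmetry _ _).hom, pullbackSymmetry_hom_comp_snd]

theorem XTmap_comp {T T' T'' : Over S} (g' : T'' ⟶ T') (g : T' ⟶ T) :
    PicF.XTmap f (g' ≫ g) = PicF.XTmap f g' ≫ PicF.XTmap f g := by
  apply pullback.hom_ext
  · rw [Category.assoc, HB1.XTmap_fst, HB1.XTmap_fst, HB1.XTmap_fst]
  · rw [Category.assoc, HB1.XTmap_snd, HB1.XTmap_snd, ← Category.assoc, HB1.XTmap_snd,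
      Over.comp_left, Category.assoc]

theorem pull_comp {T T' T'' : Over S} (g' : T'' ⟶ T') (g : T' ⟶ T)
    (I : (PicF.XT f T).IdealSheafData) :
    HilbD.pull f (g' ≫ g) I = HilbD.pull f g' (HilbD.pull f g I) := by
  rw [pull_eq_comap, pull_eq_comap, pull_eq_comap, XTmap_comp,
    Scheme.IdealSheafData.comap_comp]

theorem isPullback_pull {T T' : Over S} (g : T' ⟶ T) (I : (PicF.XT f T).IdealSheafData) :
    IsPullback (pullback.fst I.subschemeι (PicF.XTmap f g))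
      (pullback.snd I.subschemeι (PicF.XTmap f g) ≫ PicF.XTproj f T')
      (I.subschemeι ≫ PicF.XTproj f T) g.left :=
  (IsPullback.of_hasPullback I.subschemeι (PicF.XTmap f g)).paste_vert (HB1.isPullback_bot f g)

theorem finLocFree_inv_comp {A B W : Scheme.{u}} (a : A ⟶ B) [IsIso a] (q : A ⟶ W) (d : ℕ)
    (h : Mor2.IsFinLocFreeOfDeg d q) : Mor2.IsFinLocFreeOfDeg d (inv a ≫ q) := by
  obtain ⟨⟨h1, h2, h3⟩, h4⟩ := h
  haveI := h1
  haveI := h2
  haveI := h3
  refine ⟨⟨inferInstance, inferInstance, inferInstance⟩, fun y => ?_⟩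
  rw [Scheme.Hom.finrank_comp_left_of_isIso]
  exact h4 y

theorem finLocFree_ker_comp {Z Y W : Scheme.{u}} (j : Z ⟶ Y) [IsClosedImmersion j] (p : Y ⟶ W)
    (d : ℕ) (h : Mor2.IsFinLocFreeOfDeg d (j ≫ p)) :
    Mor2.IsFinLocFreeOfDeg d (j.ker.subschemeι ≫ p) := by
  have := finLocFree_inv_comp j.toImage (j ≫ p) d h
  rw [HB1.subschemeι_ker_comp]
  exact this

theorem obj_pull {T T' : Over S} (g : T' ⟶ T) (I : (PicF.XT f T).IdealSheafData) (d : ℕ)
    (hI : Mor2.IsFinLocFreeOfDeg d (I.subschemeι ≫ PicF.XTproj f T)) :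
    Mor2.IsFinLocFreeOfDeg d ((HilbD.pull f g I).subschemeι ≫ PicF.XTproj f T') := by
  obtain ⟨⟨h1, h2, h3⟩, h4⟩ := hI
  have hp := isPullback_pull f g I
  have hq : Mor2.IsFinLocFreeOfDeg d
      (pullback.snd I.subschemeι (PicF.XTmap f g) ≫ PicF.XTproj f T') := by
    refine ⟨⟨MorphismProperty.of_isPullback (P := @IsFinite) hp h1,
      MorphismProperty.of_isPullback (P := @Flat) hp h2,
      MorphismProperty.of_isPullback (P := @LocallyOfFinitePresentation) hp h3⟩, fun y => ?_⟩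
    rw [Scheme.Hom.finrank_of_isPullback _ _ _ _ hp, h4]
  exact finLocFree_ker_comp (pullback.snd I.subschemeι (PicF.XTmap f g)) (PicF.XTproj f T') d hq

theorem fixS_iff_of_isPullback {P Y E Q T : Scheme.{u}} (π : P ⟶ Y) (ε : E ⟶ P) (y : T ⟶ Y)
    (a : Q ⟶ P) (b : Q ⟶ T) (hp : IsPullback a b π y) :
    RFP3.FixS π ε T y ↔ ∃ l : Q ⟶ E, l ≫ ε = a := by
  constructor
  · rintro ⟨l, hl⟩
    exact ⟨hp.isoPullback.hom ≫ l, by rw [Category.assoc, hl, hp.isoPullback_hom_fst]⟩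
  · rintro ⟨l, hl⟩
    exact ⟨hp.isoPullback.inv ≫ l, by rw [Category.assoc, hl, hp.isoPullback_inv_fst]⟩

theorem le_iff {P : Over S} (I₁ I₂ : (PicF.XT f P).IdealSheafData) {T : Over S} (t : T ⟶ P) :
    HilbD.pull f t I₂ ≤ HilbD.pull f t I₁ ↔
      RFP3.FixS (I₁.subschemeι ≫ PicF.XTproj f P)
        (pullback.fst I₁.subschemeι I₂.subschemeι) T.left t.left := by
  rw [fixS_iff_of_isPullback _ _ _ _ _ (isPullback_pull f t I₁)]
  constructor
  · intro h0
    have h : (pullback.snd I₂.subschemeι (PicF.XTmap f t)).ker ≤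
      (pullback.snd I₁.subschemeι (PicF.XTmap f t)).ker := h0
    have hm' : IsClosedImmersion.lift (pullback.snd I₂.subschemeι (PicF.XTmap f t))
        (pullback.snd I₁.subschemeι (PicF.XTmap f t)) h ≫
          pullback.snd I₂.subschemeι (PicF.XTmap f t) =
        pullback.snd I₁.subschemeι (PicF.XTmap f t) := IsClosedImmersion.lift_fac _ _ _
    refine ⟨pullback.lift (pullback.fst I₁.subschemeι (PicF.XTmap f t))
      (IsClosedImmersion.lift (pullback.snd I₂.subschemeι (PicF.XTmap f t))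
        (pullback.snd I₁.subschemeι (PicF.XTmap f t)) h ≫
          pullback.fst I₂.subschemeι (PicF.XTmap f t)) ?_, pullback.lift_fst _ _ _⟩
    rw [pullback.condition, Category.assoc, pullback.condition, ← Category.assoc, hm']
  · rintro ⟨l, hl⟩
    have hc : (l ≫ pullback.snd I₁.subschemeι I₂.subschemeι) ≫ I₂.subschemeι =
        pullback.snd I₁.subschemeι (PicF.XTmap f t) ≫ PicF.XTmap f t := by
      rw [Category.assoc, ← pullback.condition, ← Category.assoc, hl, pullback.condition]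
    have h2 : pullback.lift (l ≫ pullback.snd I₁.subschemeι I₂.subschemeι)
        (pullback.snd I₁.subschemeι (PicF.XTmap f t)) hc ≫
          pullback.snd I₂.subschemeι (PicF.XTmap f t) =
        pullback.snd I₁.subschemeι (PicF.XTmap f t) := pullback.lift_snd _ _ _
    show (pullback.snd I₂.subschemeι (PicF.XTmap f t)).ker ≤
      (pullback.snd I₁.subschemeι (PicF.XTmap f t)).ker
    rw [← h2]
    exact Scheme.Hom.le_ker_comp _ _

theorem exists_closed_le {P : Over S} (I₁ I₂ : (PicF.XT f P).IdealSheafData) (d : ℕ)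
    (h₁ : Mor2.IsFinLocFreeOfDeg d (I₁.subschemeι ≫ PicF.XTproj f P)) :
    ∃ (E : Scheme.{u}) (i : E ⟶ P.left), IsClosedImmersion i ∧
      ∀ (T : Over S) (t : T ⟶ P), HilbD.pull f t I₂ ≤ HilbD.pull f t I₁ ↔
        ∃ z : T.left ⟶ E, z ≫ i = t.left := by
  obtain ⟨⟨h1, h2, h3⟩, -⟩ := h₁
  haveI := h1
  haveI := h2
  haveI := h3
  obtain ⟨E, i, hi, H⟩ := RFP3.main (π := I₁.subschemeι ≫ PicF.XTproj f P)
    (ε := pullback.fst I₁.subschemeι I₂.subschemeι)
    (fun y => by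
      obtain ⟨_, ⟨V, hV, rfl⟩, hyV, -⟩ :=
        P.left.isBasis_affineOpens.exists_subset_of_mem_open (Set.mem_univ y) isOpen_univ
      exact ⟨V, hV, hyV, fun V' hV' _ => RFP5.projective_of_finite_flat _ hV'⟩)
  exact ⟨E, i, hi, fun T t => (le_iff f I₁ I₂ t).trans (H T.left t.left)⟩

theorem separated (d : ℕ) (H : Over S) (Z : HilbD.Obj f d H)
    (hZ : HilbD.IsUniversal f d H Z) : IsSeparated H.hom := by
  let P : Over S := Over.mk (pullback.fst H.hom H.hom ≫ H.hom)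
  let p₁ : P ⟶ H := Over.homMk (pullback.fst H.hom H.hom) rfl
  let p₂ : P ⟶ H := Over.homMk (pullback.snd H.hom H.hom) pullback.condition.symm
  have hI₁ := obj_pull f p₁ Z.1 d Z.2
  have hI₂ := obj_pull f p₂ Z.1 d Z.2
  obtain ⟨E₁, i₁, hi₁, H₁⟩ :=
    exists_closed_le f (HilbD.pull f p₁ Z.1) (HilbD.pull f p₂ Z.1) d hI₁
  obtain ⟨E₂, i₂, hi₂, H₂⟩ :=
    exists_closed_le f (HilbD.pull f p₂ Z.1) (HilbD.pull f p₁ Z.1) d hI₂
  have key : ∀ (T' : Scheme.{u}) (t : T' ⟶ pullback H.hom H.hom),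
      t ≫ pullback.fst H.hom H.hom = t ≫ pullback.snd H.hom H.hom ↔
        (∃ z : T' ⟶ E₁, z ≫ i₁ = t) ∧ (∃ z : T' ⟶ E₂, z ≫ i₂ = t) := by
    intro T' t
    let T : Over S := Over.mk (t ≫ P.hom)
    let t' : T ⟶ P := Over.homMk t rfl
    have e1 : HilbD.pull f t' (HilbD.pull f p₁ Z.1) = HilbD.pull f (t' ≫ p₁) Z.1 :=
      (pull_comp f t' p₁ Z.1).symm
    have e2 : HilbD.pull f t' (HilbD.pull f p₂ Z.1) = HilbD.pull f (t' ≫ p₂) Z.1 :=
      (pull_comp f t' p₂ Z.1).symm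
    have k1 := H₁ T t'
    have k2 := H₂ T t'
    rw [e1, e2] at k1 k2
    constructor
    · intro h
      have h12 : t' ≫ p₁ = t' ≫ p₂ := Over.OverMorphism.ext h
      refine ⟨k1.mp ?_, k2.mp ?_⟩
      · rw [h12]
      · rw [h12]
    · rintro ⟨h1, h2⟩
      have heq : HilbD.pull f (t' ≫ p₁) Z.1 = HilbD.pull f (t' ≫ p₂) Z.1 :=
        le_antisymm (k2.mpr h2) (k1.mpr h1)
      obtain ⟨g, -, hg⟩ := hZ T ⟨HilbD.pull f (t' ≫ p₁) Z.1, obj_pull f (t' ≫ p₁) Z.1 d Z.2⟩
      have h12 : t' ≫ p₁ = t' ≫ p₂ := (hg (t' ≫ p₁) rfl).trans (hg (t' ≫ p₂) heq.symm).symm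
      exact congrArg (fun q => q.left) h12
  haveI := hi₁
  haveI := hi₂
  let e : pullback i₁ i₂ ⟶ pullback H.hom H.hom := pullback.fst i₁ i₂ ≫ i₁
  haveI : IsClosedImmersion e := inferInstance
  have hδ : pullback.diagonal H.hom ≫ pullback.fst H.hom H.hom =
      pullback.diagonal H.hom ≫ pullback.snd H.hom H.hom := by
    rw [pullback.diagonal_fst, pullback.diagonal_snd]
  obtain ⟨⟨z₁, hz₁⟩, ⟨z₂, hz₂⟩⟩ := (key _ _).mp hδ
  let a : H.left ⟶ pullback i₁ i₂ := pullback.lift z₁ z₂ (hz₁.trans hz₂.symm)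
  have ha : a ≫ e = pullback.diagonal H.hom := by
    rw [← Category.assoc, pullback.lift_fst, hz₁]
  have he : e ≫ pullback.fst H.hom H.hom = e ≫ pullback.snd H.hom H.hom :=
    (key _ e).mpr ⟨⟨pullback.fst i₁ i₂, rfl⟩, ⟨pullback.snd i₁ i₂, pullback.condition.symm⟩⟩
  have hb : (e ≫ pullback.fst H.hom H.hom) ≫ pullback.diagonal H.hom = e := by
    apply pullback.hom_ext
    · rw [Category.assoc, pullback.diagonal_fst, Category.comp_id]
    · rw [Category.assoc, pullback.diagonal_snd, Category.comp_id, he]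
  have hab : a ≫ (e ≫ pullback.fst H.hom H.hom) = 𝟙 _ := by
    rw [← Category.assoc, ha, pullback.diagonal_fst]
  have hba : (e ≫ pullback.fst H.hom H.hom) ≫ a = 𝟙 _ := by
    rw [← cancel_mono e, Category.assoc, ha, hb, Category.id_comp]
  haveI : IsIso a := ⟨e ≫ pullback.fst H.hom H.hom, hab, hba⟩
  constructor
  rw [← ha]
  infer_instance

end Groth.Agent.Lib.Helper11.HB2
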