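import Mathlib
import Groth.Prelude.Def_HilbD
import Groth.Agent.Lib.Helper11.HB2

/-!
# HB3: the Hilbert functor of points of a closed subscheme (helper11).
-/

set_option autoImplicit false
universe u
open CategoryTheory CategoryTheory.Limits AlgebraicGeometry

namespace Groth.Agent.Lib.Helper11.HB3

open Groth.Agent.Lib.Helper11

variable {X Y S : Scheme.{u}} (i : X ⟶ Y) (g : Y ⟶ S)

/-- the closed immersion `X_T ⟶ Y_T` -/
noncomputable def cT (T : Over S) : PicF.XT (i ≫ g) T ⟶ PicF.XT g T :=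
  pullback.map (i ≫ g) T.hom g T.hom i (𝟙 _) (𝟙 S) (Category.comp_id _) (by simp)

theorem push_eq (T : Over S) (I : (PicF.XT (i ≫ g) T).IdealSheafData) :
    HilbD.push i g T I = (I.subschemeι ≫ cT i g T).ker := rfl

@[reassoc]
theorem cT_fst (T : Over S) :
    cT i g T ≫ pullback.fst g T.hom = pullback.fst (i ≫ g) T.hom ≫ i := pullback.lift_fst _ _ _

@[reassoc]
theorem cT_snd (T : Over S) :
    cT i g T ≫ pullback.snd g T.hom = pullback.snd (i ≫ g) T.hom :=
  (pullback.lift_snd _ _ _).trans (Category.comp_id _)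

@[reassoc]
theorem XTmap_fst {X' : Scheme.{u}} (f : X' ⟶ S) {T T' : Over S} (n : T' ⟶ T) :
    PicF.XTmap f n ≫ pullback.fst f T.hom = pullback.fst f T'.hom := HB1.XTmap_fst f n

@[reassoc]
theorem XTmap_snd {X' : Scheme.{u}} (f : X' ⟶ S) {T T' : Over S} (n : T' ⟶ T) :
    PicF.XTmap f n ≫ pullback.snd f T.hom = pullback.snd f T'.hom ≫ n.left := HB1.XTmap_snd f n

theorem isPullback_cT (T : Over S) :
    IsPullback (cT i g T) (pullback.fst (i ≫ g) T.hom) (pullback.fst g T.hom) i := by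
  refine IsPullback.of_right (h₁₂ := pullback.snd g T.hom) (h₂₂ := g) (v₁₃ := T.hom) ?_
    (cT_fst i g T) (IsPullback.of_hasPullback g T.hom).flip
  rw [cT_snd]
  exact (IsPullback.of_hasPullback (i ≫ g) T.hom).flip

theorem isClosedImmersion_cT [IsClosedImmersion i] (T : Over S) : IsClosedImmersion (cT i g T) :=
  MorphismProperty.of_isPullback (P := @IsClosedImmersion) (isPullback_cT i g T).flip ‹_›

theorem cT_map {T T' : Over S} (n : T' ⟶ T) :
    PicF.XTmap (i ≫ g) n ≫ cT i g T = cT i g T' ≫ PicF.XTmap g n := by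
  apply pullback.hom_ext
  · rw [Category.assoc, Category.assoc, cT_fst, XTmap_fst, XTmap_fst_assoc, cT_fst]
  · rw [Category.assoc, Category.assoc, cT_snd, XTmap_snd, XTmap_snd, cT_snd_assoc]

theorem isPullback_cT_map {T T' : Over S} (n : T' ⟶ T) :
    IsPullback (PicF.XTmap (i ≫ g) n) (cT i g T') (cT i g T) (PicF.XTmap g n) := by
  refine IsPullback.of_right (h₁₂ := pullback.fst (i ≫ g) T.hom) (h₂₂ := pullback.fst g T.hom)
    (v₁₃ := i) ?_ (cT_map i g n) (isPullback_cT i g T).flip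
  rw [XTmap_fst, XTmap_fst]
  exact (isPullback_cT i g T').flip

theorem push_pull [IsClosedImmersion i] {T T' : Over S} (n : T' ⟶ T)
    (I : (PicF.XT (i ≫ g) T).IdealSheafData) :
    HilbD.push i g T' (HilbD.pull (i ≫ g) n I) = HilbD.pull g n (HilbD.push i g T I) := by
  haveI := isClosedImmersion_cT i g T
  haveI := isClosedImmersion_cT i g T'
  have hL : HilbD.push i g T' (HilbD.pull (i ≫ g) n I) =
      (pullback.snd I.subschemeι (PicF.XTmap (i ≫ g) n) ≫ cT i g T').ker := by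
    show ((pullback.snd I.subschemeι (PicF.XTmap (i ≫ g) n)).ker.subschemeι ≫ cT i g T').ker = _
    rw [HB1.subschemeι_ker_comp, Scheme.Hom.ker_comp_of_isIso]
  have hR : HilbD.pull g n (HilbD.push i g T I) =
      (pullback.fst (PicF.XTmap g n) (I.subschemeι ≫ cT i g T)).ker := by
    rw [HB2.pull_eq_comap, push_eq, ← Scheme.IdealSheafData.ker_fst_of_isClosedImmersion]
  have hp : IsPullback (pullback.fst I.subschemeι (PicF.XTmap (i ≫ g) n))
      (pullback.snd I.subschemeι (PicF.XTmap (i ≫ g) n) ≫ cT i g T')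
      (I.subschemeι ≫ cT i g T) (PicF.XTmap g n) :=
    (IsPullback.of_hasPullback I.subschemeι (PicF.XTmap (i ≫ g) n)).paste_vert
      (isPullback_cT_map i g n)
  rw [hL, hR, ← hp.flip.isoPullback_hom_fst, Scheme.Hom.ker_comp_of_isIso]

theorem push_le [IsClosedImmersion i] {T : Over S} (I J : (PicF.XT (i ≫ g) T).IdealSheafData)
    (h : HilbD.push i g T I ≤ HilbD.push i g T J) : I ≤ J := by
  haveI := isClosedImmersion_cT i g T
  have h' : (I.subschemeι ≫ cT i g T).ker ≤ (J.subschemeι ≫ cT i g T).ker := h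
  have hl := IsClosedImmersion.lift_fac (I.subschemeι ≫ cT i g T) (J.subschemeι ≫ cT i g T) h'
  have h2 : IsClosedImmersion.lift (I.subschemeι ≫ cT i g T) (J.subschemeι ≫ cT i g T) h' ≫
      I.subschemeι = J.subschemeι := by
    rw [← cancel_mono (cT i g T), Category.assoc]
    exact hl
  calc I = I.subschemeι.ker := I.ker_subschemeι.symm
    _ ≤ (IsClosedImmersion.lift (I.subschemeι ≫ cT i g T) (J.subschemeι ≫ cT i g T) h' ≫
          I.subschemeι).ker := Scheme.Hom.le_ker_comp _ _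
    _ = J := by rw [h2, J.ker_subschemeι]

theorem push_injective [IsClosedImmersion i] {T : Over S}
    (I J : (PicF.XT (i ≫ g) T).IdealSheafData)
    (h : HilbD.push i g T I = HilbD.push i g T J) : I = J :=
  le_antisymm (push_le i g I J h.le) (push_le i g J I h.ge)

theorem finLocFree_iso_comp {A B W : Scheme.{u}} (a : A ⟶ B) [IsIso a] (q : B ⟶ W) (d : ℕ)
    (h : Mor2.IsFinLocFreeOfDeg d q) : Mor2.IsFinLocFreeOfDeg d (a ≫ q) := by
  obtain ⟨⟨h1, h2, h3⟩, h4⟩ := h
  haveI := h1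
  haveI := h2
  haveI := h3
  refine ⟨⟨inferInstance, inferInstance, inferInstance⟩, fun y => ?_⟩
  rw [Scheme.Hom.finrank_comp_left_of_isIso]
  exact h4 y

theorem obj_push_iff [IsClosedImmersion i] (T : Over S) (I : (PicF.XT (i ≫ g) T).IdealSheafData)
    (d : ℕ) :
    Mor2.IsFinLocFreeOfDeg d ((HilbD.push i g T I).subschemeι ≫ PicF.XTproj g T) ↔
      Mor2.IsFinLocFreeOfDeg d (I.subschemeι ≫ PicF.XTproj (i ≫ g) T) := by
  haveI := isClosedImmersion_cT i g T
  have e : (I.subschemeι ≫ cT i g T) ≫ PicF.XTproj g T = I.subschemeι ≫ PicF.XTproj (i ≫ g) T := by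
    rw [Category.assoc, cT_snd]
  constructor
  · intro h
    have h' : Mor2.IsFinLocFreeOfDeg d
        ((I.subschemeι ≫ cT i g T).ker.subschemeι ≫ PicF.XTproj g T) := h
    have := finLocFree_iso_comp (I.subschemeι ≫ cT i g T).toImage _ d h'
    have e2 : (I.subschemeι ≫ cT i g T).toImage ≫
        (I.subschemeι ≫ cT i g T).ker.subschemeι ≫ PicF.XTproj g T =
        (I.subschemeι ≫ cT i g T) ≫ PicF.XTproj g T := by
      rw [← Category.assoc]
      congr 1
      exact (I.subschemeι ≫ cT i g T).toImage_imageι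
    rw [e2, e] at this
    exact this
  · intro h
    rw [← e] at h
    exact HB2.finLocFree_ker_comp (I.subschemeι ≫ cT i g T) (PicF.XTproj g T) d h

theorem inX_iff [IsClosedImmersion i] {H : Over S} (Zi : (PicF.XT g H).IdealSheafData)
    {T : Over S} (t : T ⟶ H) :
    (∃ J : (PicF.XT (i ≫ g) T).IdealSheafData, HilbD.push i g T J = HilbD.pull g t Zi) ↔
      RFP3.FixS (Zi.subschemeι ≫ PicF.XTproj g H) (pullback.fst Zi.subschemeι (cT i g H))
        T.left t.left := by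
  haveI := isClosedImmersion_cT i g T
  haveI := isClosedImmersion_cT i g H
  rw [HB2.fixS_iff_of_isPullback _ _ _ _ _ (HB2.isPullback_pull g t Zi)]
  constructor
  · rintro ⟨J, hJ⟩
    have h' : (J.subschemeι ≫ cT i g T).ker ≤
        (pullback.snd Zi.subschemeι (PicF.XTmap g t)).ker := le_of_eq hJ
    have hl := IsClosedImmersion.lift_fac (J.subschemeι ≫ cT i g T)
      (pullback.snd Zi.subschemeι (PicF.XTmap g t)) h'
    refine ⟨pullback.lift (pullback.fst Zi.subschemeι (PicF.XTmap g t))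
      (IsClosedImmersion.lift (J.subschemeι ≫ cT i g T)
        (pullback.snd Zi.subschemeι (PicF.XTmap g t)) h' ≫ J.subschemeι ≫
          PicF.XTmap (i ≫ g) t) ?_, pullback.lift_fst _ _ _⟩
    rw [pullback.condition]
    have e3 : (IsClosedImmersion.lift (J.subschemeι ≫ cT i g T)
        (pullback.snd Zi.subschemeι (PicF.XTmap g t)) h' ≫ J.subschemeι ≫
          PicF.XTmap (i ≫ g) t) ≫ cT i g H =
        (IsClosedImmersion.lift (J.subschemeι ≫ cT i g T)
          (pullback.snd Zi.subschemeι (PicF.XTmap g t)) h' ≫ J.subschemeι ≫ cT i g T) ≫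
            PicF.XTmap g t := by
      simp only [Category.assoc]
      rw [cT_map]
    rw [e3, hl]
  · rintro ⟨l, hl⟩
    have hc : (l ≫ pullback.snd Zi.subschemeι (cT i g H)) ≫ cT i g H =
        pullback.snd Zi.subschemeι (PicF.XTmap g t) ≫ PicF.XTmap g t := by
      rw [Category.assoc, ← pullback.condition, ← Category.assoc, hl, pullback.condition]
    have hp := isPullback_cT_map i g t
    have h2 : hp.lift (l ≫ pullback.snd Zi.subschemeι (cT i g H))
        (pullback.snd Zi.subschemeι (PicF.XTmap g t)) hc ≫ cT i g T =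
        pullback.snd Zi.subschemeι (PicF.XTmap g t) := hp.lift_snd _ _ _
    haveI : IsClosedImmersion (hp.lift (l ≫ pullback.snd Zi.subschemeι (cT i g H))
        (pullback.snd Zi.subschemeι (PicF.XTmap g t)) hc ≫ cT i g T) := by
      rw [h2]
      infer_instance
    haveI : IsClosedImmersion (hp.lift (l ≫ pullback.snd Zi.subschemeι (cT i g H))
        (pullback.snd Zi.subschemeι (PicF.XTmap g t)) hc) :=
      IsClosedImmersion.of_comp_isClosedImmersion _ (cT i g T)
    refine ⟨(hp.lift (l ≫ pullback.snd Zi.subschemeι (cT i g H))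
        (pullback.snd Zi.subschemeι (PicF.XTmap g t)) hc).ker, ?_⟩
    rw [push_eq, HB1.subschemeι_ker_comp, Scheme.Hom.ker_comp_of_isIso, h2]
    rfl

theorem XTmap_id {X' : Scheme.{u}} (f : X' ⟶ S) (T : Over S) : PicF.XTmap f (𝟙 T) = 𝟙 _ := by
  apply pullback.hom_ext
  · rw [XTmap_fst, Category.id_comp]
  · rw [XTmap_snd, Category.id_comp, Over.id_left, Category.comp_id]

theorem pull_id {X' : Scheme.{u}} (f : X' ⟶ S) (T : Over S) (I : (PicF.XT f T).IdealSheafData) :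
    HilbD.pull f (𝟙 T) I = I := by
  rw [HB2.pull_eq_comap, XTmap_id, Scheme.IdealSheafData.comap_id]

theorem main [IsClosedImmersion i] (d : ℕ) (H : Over S) (Z : HilbD.Obj g d H)
    (hZ : HilbD.IsUniversal g d H Z) :
    ∃ (H' : Over S) (eH : H' ⟶ H) (Z' : HilbD.Obj (i ≫ g) d H'), IsClosedImmersion eH.left ∧
      HilbD.push i g H' Z'.1 = HilbD.pull g eH Z.1 ∧ HilbD.IsUniversal (i ≫ g) d H' Z' := by
  obtain ⟨⟨h1, h2, h3⟩, -⟩ := Z.2
  haveI := h1
  haveI := h2
  haveI := h3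
  haveI := isClosedImmersion_cT i g H
  obtain ⟨E, e, he, HE⟩ := RFP3.main (π := Z.1.subschemeι ≫ PicF.XTproj g H)
    (ε := pullback.fst Z.1.subschemeι (cT i g H))
    (fun y => by
      obtain ⟨_, ⟨V, hV, rfl⟩, hyV, -⟩ :=
        H.left.isBasis_affineOpens.exists_subset_of_mem_open (Set.mem_univ y) isOpen_univ
      exact ⟨V, hV, hyV, fun V' hV' _ => RFP5.projective_of_finite_flat _ hV'⟩)
  have HE' : ∀ (T : Over S) (t : T ⟶ H),
      (∃ J : (PicF.XT (i ≫ g) T).IdealSheafData, HilbD.push i g T J = HilbD.pull g t Z.1) ↔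
        ∃ z : T.left ⟶ E, z ≫ e = t.left :=
    fun T t => (inX_iff i g Z.1 t).trans (HE T.left t.left)
  let H' : Over S := Over.mk (e ≫ H.hom)
  let eH : H' ⟶ H := Over.homMk e rfl
  obtain ⟨J₀, hJ₀⟩ := (HE' H' eH).mpr ⟨𝟙 _, Category.id_comp _⟩
  have hobj : Mor2.IsFinLocFreeOfDeg d (J₀.subschemeι ≫ PicF.XTproj (i ≫ g) H') := by
    rw [← obj_push_iff, hJ₀]
    exact HB2.obj_pull g eH Z.1 d Z.2
  refine ⟨H', eH, ⟨J₀, hobj⟩, he, hJ₀, ?_⟩
  intro T W
  obtain ⟨m, hm, hmu⟩ := hZ T ⟨HilbD.push i g T W.1, (obj_push_iff i g T W.1 d).mpr W.2⟩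
  have hm' : HilbD.pull g m Z.1 = HilbD.push i g T W.1 := hm
  obtain ⟨z, hz⟩ := (HE' T m).mp ⟨W.1, hm'.symm⟩
  have hzw : z ≫ H'.hom = T.hom := by
    show z ≫ e ≫ H.hom = T.hom
    rw [← Category.assoc, hz, Over.w]
  let n : T ⟶ H' := Over.homMk z hzw
  have hn : n ≫ eH = m := Over.OverMorphism.ext hz
  refine ⟨n, ?_, ?_⟩
  · show HilbD.pull (i ≫ g) n J₀ = W.1
    apply push_injective i g
    rw [push_pull, hJ₀, ← HB2.pull_comp, hn]
    exact hm'
  · intro n' hn'
    have hn'' : HilbD.pull (i ≫ g) n' J₀ = W.1 := hn'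
    have h4 : n' ≫ eH = m := by
      apply hmu
      show HilbD.pull g (n' ≫ eH) Z.1 = HilbD.push i g T W.1
      rw [HB2.pull_comp, ← hJ₀, ← push_pull, hn'']
    apply Over.OverMorphism.ext
    have h5 : n'.left ≫ e = n.left ≫ e := congrArg (fun q => q.left) (h4.trans hn.symm)
    haveI := he
    exact (cancel_mono e).mp h5

theorem closedImmersion_of_universal [IsClosedImmersion i] (d : ℕ) (H : Over S)
    (Z : HilbD.Obj g d H) (hZ : HilbD.IsUniversal g d H Z)
    (H'' : Over S) (Z'' : HilbD.Obj (i ≫ g) d H'') (hZ'' : HilbD.IsUniversal (i ≫ g) d H'' Z'')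
    (m : H'' ⟶ H) (hm : HilbD.pull g m Z.1 = HilbD.push i g H'' Z''.1) :
    IsClosedImmersion m.left := by
  obtain ⟨H', eH, Z', he, hpush, hZ'⟩ := main i g d H Z hZ
  obtain ⟨φ, hφ, -⟩ := hZ' H'' Z''
  obtain ⟨ψ, hψ, -⟩ := hZ'' H' Z'
  have hφ' : HilbD.pull (i ≫ g) φ Z'.1 = Z''.1 := hφ
  have hψ' : HilbD.pull (i ≫ g) ψ Z''.1 = Z'.1 := hψ
  have h1 : φ ≫ ψ = 𝟙 _ := by
    obtain ⟨u, -, hu⟩ := hZ'' H'' Z''
    have a1 : φ ≫ ψ = u := hu _ (by
      show HilbD.pull (i ≫ g) (φ ≫ ψ) Z''.1 = Z''.1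
      rw [HB2.pull_comp, hψ', hφ'])
    have a2 : 𝟙 _ = u := hu _ (pull_id _ _ _)
    rw [a1, a2]
  have h2 : ψ ≫ φ = 𝟙 _ := by
    obtain ⟨u, -, hu⟩ := hZ' H' Z'
    have a1 : ψ ≫ φ = u := hu _ (by
      show HilbD.pull (i ≫ g) (ψ ≫ φ) Z'.1 = Z'.1
      rw [HB2.pull_comp, hφ', hψ'])
    have a2 : 𝟙 _ = u := hu _ (pull_id _ _ _)
    rw [a1, a2]
  have hm2 : m = φ ≫ eH := by
    obtain ⟨u, -, hu⟩ := hZ H'' ⟨HilbD.push i g H'' Z''.1, (obj_push_iff i g H'' Z''.1 d).mpr Z''.2⟩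
    have a1 : m = u := hu _ hm
    have a2 : φ ≫ eH = u := hu _ (by
      show HilbD.pull g (φ ≫ eH) Z.1 = HilbD.push i g H'' Z''.1
      rw [HB2.pull_comp, ← hpush, ← push_pull, hφ'])
    rw [a1, a2]
  haveI : IsIso φ := ⟨ψ, h1, h2⟩
  haveI : IsIso φ.left := (Over.forget S).map_isIso φ
  rw [hm2, Over.comp_left]
  infer_instance

end Groth.Agent.Lib.Helper11.HB3
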