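import Mathlib

/-!
# HensSum: a disjoint union of couples is henselian iff each couple is (helper11)
-/

set_option autoImplicit false
universe u

open CategoryTheory CategoryTheory.Limits AlgebraicGeometry

namespace Groth.Agent.Lib.Helper11.HensSum

section Top

variable {Y : Type*} [TopologicalSpace Y]

/-- topological form of the henselian condition for a closed subset -/
def Hen (R : Set Y) : Prop :=
  ∀ V : Set Y, V ⊆ R → IsClosed V → IsClosed (R \ V) → ∃! U : Set Y, IsClopen U ∧ U ∩ R = V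

theorem hen_iff {P : Type*} [TopologicalSpace P] (e : P → Y) (he : Topology.IsClosedEmbedding e) :
    (∀ V : Set P, IsClopen V → ∃! U : Set Y, IsClopen U ∧ e ⁻¹' U = V) ↔ Hen (Set.range e) := by
  constructor
  · intro h V' hV'R hV'c hV'c'
    have hV : IsClopen (e ⁻¹' V') := by
      refine ⟨hV'c.preimage he.continuous, ?_⟩
      have : e ⁻¹' V' = (e ⁻¹' (Set.range e \ V'))ᶜ := by
        ext p; simp
      rw [this]
      exact (hV'c'.preimage he.continuous).isOpen_compl
    obtain ⟨U, ⟨hU1, hU2⟩, hUu⟩ := h _ hV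
    have key : ∀ U' : Set Y, (U' ∩ Set.range e = V' ↔ e ⁻¹' U' = e ⁻¹' V') := by
      intro U'
      constructor
      · intro h1; rw [← h1]; ext p; simp
      · intro h1
        ext y
        constructor
        · rintro ⟨hy1, p, rfl⟩
          have : p ∈ e ⁻¹' U' := hy1
          rw [h1] at this; exact this
        · intro hy
          obtain ⟨p, rfl⟩ := hV'R hy
          have : p ∈ e ⁻¹' V' := hy
          rw [← h1] at this
          exact ⟨this, p, rfl⟩
    refine ⟨U, ⟨hU1, (key U).mpr hU2⟩, ?_⟩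
    rintro U' ⟨hU'1, hU'2⟩
    exact hUu U' ⟨hU'1, (key U').mp hU'2⟩
  · intro h V hV
    have hinj := he.injective
    have h1 : e '' V ⊆ Set.range e := Set.image_subset_range e V
    have h2 : IsClosed (e '' V) := he.isClosedMap _ hV.isClosed
    have h3 : IsClosed (Set.range e \ e '' V) := by
      have : Set.range e \ e '' V = e '' Vᶜ := by
        rw [← Set.image_univ, ← Set.image_sdiff hinj, Set.compl_eq_univ_sdiff]
      rw [this]; exact he.isClosedMap _ hV.compl.isClosed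
    obtain ⟨U, ⟨hU1, hU2⟩, hUu⟩ := h _ h1 h2 h3
    have key : ∀ U' : Set Y, (U' ∩ Set.range e = e '' V ↔ e ⁻¹' U' = V) := by
      intro U'
      constructor
      · intro h4
        ext p
        constructor
        · intro hp
          have : e p ∈ U' ∩ Set.range e := ⟨hp, p, rfl⟩
          rw [h4] at this
          obtain ⟨q, hq, hqp⟩ := this
          rw [← hinj hqp]; exact hq
        · intro hp
          have : e p ∈ e '' V := ⟨p, hp, rfl⟩
          rw [← h4] at this
          exact this.1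
      · intro h4
        rw [← h4, Set.image_preimage_eq_inter_range]
    exact ⟨U, ⟨hU1, (key U).mp hU2⟩, fun U' ⟨a, b⟩ => hUu U' ⟨a, (key U').mpr b⟩⟩

theorem hen_glue {ι : Type*} {T : ι → Type*} [∀ j, TopologicalSpace (T j)] (e : ∀ j, T j → Y)
    (he : ∀ j, Topology.IsOpenEmbedding (e j)) (hcov : ∀ y : Y, ∃ j t, e j t = y)
    (hdisj : ∀ j k (t : T j) (s : T k), e j t = e k s → j = k) (R : Set Y)
    (h : ∀ j, Hen ((e j) ⁻¹' R)) : Hen R := by
  intro V hVR hVc hVc'
  have hj : ∀ j, ∃! U : Set (T j), IsClopen U ∧ U ∩ (e j ⁻¹' R) = e j ⁻¹' V := by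
    intro j
    refine h j _ (Set.preimage_mono hVR) (hVc.preimage (he j).continuous) ?_
    rw [← Set.preimage_sdiff]
    exact hVc'.preimage (he j).continuous
  choose U hU hUu using hj
  have hmem : ∀ j (t : T j), e j t ∈ (⋃ k, e k '' U k) ↔ t ∈ U j := by
    intro j t
    constructor
    · intro ht
      obtain ⟨k, s, hs, hst⟩ := Set.mem_iUnion.mp ht
      obtain rfl := hdisj k j s t hst
      rw [← (he k).injective hst]; exact hs
    · intro ht; exact Set.mem_iUnion.mpr ⟨j, t, ht, rfl⟩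
  refine ⟨⋃ k, e k '' U k, ⟨⟨?_, ?_⟩, ?_⟩, ?_⟩
  · have : (⋃ k, e k '' U k)ᶜ = ⋃ k, e k '' (U k)ᶜ := by
      ext y
      obtain ⟨j, t, rfl⟩ := hcov y
      rw [Set.mem_compl_iff, hmem]
      constructor
      · intro ht; exact Set.mem_iUnion.mpr ⟨j, t, ht, rfl⟩
      · intro ht
        obtain ⟨k, s, hs, hst⟩ := Set.mem_iUnion.mp ht
        obtain rfl := hdisj k j s t hst
        rw [← (he k).injective hst]; exact hs
    rw [← isOpen_compl_iff, this]
    exact isOpen_iUnion fun k => (he k).isOpenMap _ (hU k).1.compl.isOpen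
  · exact isOpen_iUnion fun k => (he k).isOpenMap _ (hU k).1.isOpen
  · ext y
    obtain ⟨j, t, rfl⟩ := hcov y
    constructor
    · rintro ⟨h1, h2⟩
      have : t ∈ U j ∩ (e j ⁻¹' R) := ⟨(hmem j t).mp h1, h2⟩
      rw [(hU j).2] at this; exact this
    · intro hy
      have : t ∈ e j ⁻¹' V := hy
      rw [← (hU j).2] at this
      exact ⟨(hmem j t).mpr this.1, this.2⟩
  · rintro U' ⟨hU'1, hU'2⟩
    ext y
    obtain ⟨j, t, rfl⟩ := hcov y
    rw [hmem]
    have : e j ⁻¹' U' = U j :=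
      hUu j _ ⟨hU'1.preimage (he j).continuous, by rw [← Set.preimage_inter, hU'2]⟩
    rw [← this]; rfl

end Top

/-- the henselian condition for a closed immersion and a test morphism, in topological form -/
theorem hen_pullback {X X₀ Y : Scheme.{u}} (i : X₀ ⟶ X) [IsClosedImmersion i] (g : Y ⟶ X) :
    (∀ V : Set ↥(pullback g i), IsClopen V →
        ∃! U : Set ↥Y, IsClopen U ∧ (pullback.fst g i).base ⁻¹' U = V) ↔
      Hen (g.base ⁻¹' (Set.range i.base)) := by
  have he : Topology.IsClosedEmbedding (pullback.fst g i).base :=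
    (pullback.fst g i).isClosedEmbedding
  rw [hen_iff _ he]
  have : Set.range (pullback.fst g i).base = g.base ⁻¹' (Set.range i.base) :=
    Scheme.Pullback.range_fst g i
  rw [this]

variable {ι : Type u} (X X₀ : ι → Scheme.{u}) (i : ∀ j, X₀ j ⟶ X j)

theorem exists_sigmaι (y : ↥(∐ X)) : ∃ j x, Sigma.ι X j x = y := by
  obtain ⟨⟨j, x⟩, rfl⟩ := (sigmaMk X).surjective y
  exact ⟨j, x, (sigmaMk_mk X j x).symm⟩

theorem isClosed_range_sigmaι (j : ι) : IsClosed (Set.range (Sigma.ι X j)) := by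
  have : Set.range (Sigma.ι X j) =
      (sigmaMk X) '' Set.range (@_root_.Sigma.mk ι (fun k => ↥(X k)) j) := by
    ext y; constructor
    · rintro ⟨x, rfl⟩; exact ⟨⟨j, x⟩, ⟨x, rfl⟩, sigmaMk_mk X j x⟩
    · rintro ⟨_, ⟨x, rfl⟩, rfl⟩; exact ⟨x, (sigmaMk_mk X j x).symm⟩
  rw [this]; exact (sigmaMk X).isClosedMap _ isClosed_range_sigmaMk

instance (j : ι) : IsClosedImmersion (Sigma.ι X j) :=
  IsClosedImmersion.of_isPreimmersion _ (isClosed_range_sigmaι X j)

theorem preimage_range_sigmaMap (j : ι) :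
    (Sigma.ι X j).base ⁻¹' (Set.range (Limits.Sigma.map i).base) = Set.range (i j).base := by
  ext x
  constructor
  · rintro ⟨w, hw⟩
    obtain ⟨k, w₀, rfl⟩ := exists_sigmaι X₀ w
    have h1 : (Limits.Sigma.map i) (Sigma.ι X₀ k w₀) = Sigma.ι X k (i k w₀) := by
      rw [← Scheme.Hom.comp_apply, ← Scheme.Hom.comp_apply, Sigma.ι_map]
    have h2 : Sigma.ι X k (i k w₀) = Sigma.ι X j x := h1.symm.trans hw
    have h3 := (sigmaι_eq_iff X k j _ _).mp h2
    obtain ⟨rfl, h4⟩ := Sigma.mk.inj_iff.mp h3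
    exact ⟨w₀, eq_of_heq h4⟩
  · rintro ⟨x₀, rfl⟩
    refine ⟨Sigma.ι X₀ j x₀, ?_⟩
    rw [← Scheme.Hom.comp_apply, ← Scheme.Hom.comp_apply, Sigma.ι_map]

theorem isPullback_sigmaMap (j : ι) :
    IsPullback (Sigma.ι X₀ j) (i j) (Limits.Sigma.map i) (Sigma.ι X j) := by
  refine (IsOpenImmersion.isPullback (i j) (Sigma.ι X₀ j) (Sigma.ι X j) (Limits.Sigma.map i)
    (Sigma.ι_map _ _) ?_).flip
  ext w
  constructor
  · rintro ⟨x, hx⟩
    obtain ⟨k, w₀, rfl⟩ := exists_sigmaι X₀ w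
    have h1 : (Limits.Sigma.map i) (Sigma.ι X₀ k w₀) = Sigma.ι X k (i k w₀) := by
      rw [← Scheme.Hom.comp_apply, ← Scheme.Hom.comp_apply, Sigma.ι_map]
    have h2 : Sigma.ι X k (i k w₀) = Sigma.ι X j x := h1.symm.trans hx.symm
    have h3 := (sigmaι_eq_iff X k j _ _).mp h2
    obtain ⟨rfl, -⟩ := Sigma.mk.inj_iff.mp h3
    exact ⟨w₀, rfl⟩
  · rintro ⟨w₀, rfl⟩
    refine ⟨i j w₀, ?_⟩
    rw [← Scheme.Hom.comp_apply, ← Scheme.Hom.comp_apply, Sigma.ι_map]

instance [∀ j, IsClosedImmersion (i j)] : IsClosedImmersion (Limits.Sigma.map i) := by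
  rw [IsZariskiLocalAtTarget.iff_of_openCover (P := @IsClosedImmersion) (sigmaOpenCover X)]
  intro j
  have hpb := isPullback_sigmaMap X X₀ i j
  have h1 : Scheme.Cover.pullbackHom (sigmaOpenCover X) (Limits.Sigma.map i) j =
      hpb.isoPullback.inv ≫ i j := hpb.isoPullback_inv_snd.symm
  rw [h1]
  exact MorphismProperty.comp_mem _ _ _ (inferInstanceAs (IsClosedImmersion hpb.isoPullback.inv))
    (inferInstanceAs (IsClosedImmersion (i j)))

theorem main [∀ j, IsClosedImmersion (i j)] :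
    (∀ (Y : Scheme.{u}) (g : Y ⟶ ∐ X), IsFinite g →
      ∀ V : Set ↥(pullback g (Limits.Sigma.map i)), IsClopen V →
        ∃! U : Set ↥Y, IsClopen U ∧ (pullback.fst g (Limits.Sigma.map i)).base ⁻¹' U = V) ↔
    ∀ j : ι, ∀ (Y : Scheme.{u}) (g : Y ⟶ X j), IsFinite g →
      ∀ V : Set ↥(pullback g (i j)), IsClopen V →
        ∃! U : Set ↥Y, IsClopen U ∧ (pullback.fst g (i j)).base ⁻¹' U = V := by
  constructor
  · intro h j Y g hg
    rw [hen_pullback]
    haveI := hg
    have := (hen_pullback (Limits.Sigma.map i) (g ≫ Sigma.ι X j)).mp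
      (h Y (g ≫ Sigma.ι X j) inferInstance)
    have e : (g ≫ Sigma.ι X j).base ⁻¹' (Set.range (Limits.Sigma.map i).base) =
        g.base ⁻¹' (Set.range (i j).base) := by
      rw [← preimage_range_sigmaMap X X₀ i j]
      rfl
    rw [e] at this
    exact this
  · intro h Y g hg
    rw [hen_pullback]
    haveI := hg
    let O : ι → (∐ X).Opens := fun j => (Sigma.ι X j).opensRange
    refine hen_glue (fun j => (g ⁻¹ᵁ O j).ι.base) (fun j => (g ⁻¹ᵁ O j).ι.isOpenEmbedding) ?_ ?_ _ ?_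
    · intro y
      obtain ⟨j, x, hx⟩ := exists_sigmaι X (g y)
      exact ⟨j, ⟨y, ⟨x, hx⟩⟩, rfl⟩
    · intro j k t s hts
      by_contra hjk
      have hd := disjoint_opensRange_sigmaι X j k hjk
      have h1 : g ((g ⁻¹ᵁ O j).ι t) ∈ O j := t.2
      have h2 : g ((g ⁻¹ᵁ O j).ι t) ∈ O k := by
        have : (g ⁻¹ᵁ O j).ι t = (g ⁻¹ᵁ O k).ι s := hts
        rw [this]; exact s.2
      exact (disjoint_iff.mp hd ▸ (⟨h1, h2⟩ : g ((g ⁻¹ᵁ O j).ι t) ∈ O j ⊓ O k) :
        g ((g ⁻¹ᵁ O j).ι t) ∈ (⊥ : (∐ X).Opens))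
    · intro j
      let gj : (g ⁻¹ᵁ O j).toScheme ⟶ X j := (g ∣_ O j) ≫ (Sigma.ι X j).isoOpensRange.inv
      haveI : IsFinite gj := by
        unfold gj; infer_instance
      have hgj : gj ≫ Sigma.ι X j = (g ⁻¹ᵁ O j).ι ≫ g := by
        unfold gj
        rw [Category.assoc, Scheme.Hom.isoOpensRange_inv_comp, morphismRestrict_ι]
      have := (hen_pullback (i j) gj).mp (h j _ gj inferInstance)
      have e : (g ⁻¹ᵁ O j).ι.base ⁻¹' (g.base ⁻¹' Set.range (Limits.Sigma.map i).base) =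
          gj.base ⁻¹' (Set.range (i j).base) := by
        rw [← preimage_range_sigmaMap X X₀ i j, ← Set.preimage_comp, ← Set.preimage_comp]
        change ((g ⁻¹ᵁ O j).ι ≫ g).base ⁻¹' _ = (gj ≫ Sigma.ι X j).base ⁻¹' _
        rw [hgj]
      rw [e]
      exact this

end Groth.Agent.Lib.Helper11.HensSum
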