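import Mathlib

set_option autoImplicit false

namespace Groth.Agent.Lib.Helper11.IC1

open CategoryTheory CategoryTheory.Limits AlgebraicGeometry

universe u

theorem point_transitive {X S : Scheme.{u}} (q : X ⟶ S) {G : Type u} [Group G] (ρ : G →* Aut X)
    (htrans : ∀ (Ω : Type u) [Field Ω] [IsAlgClosed Ω] (τ₁ τ₂ : Spec (CommRingCat.of Ω) ⟶ X),
      τ₁ ≫ q = τ₂ ≫ q → ∃ g : G, τ₁ ≫ (ρ g).hom = τ₂)
    (x₁ x₂ : X) (h : q x₁ = q x₂) : ∃ g : G, (ρ g).hom x₁ = x₂ := by
  obtain ⟨z, hz1, hz2⟩ := Scheme.Pullback.exists_preimage_pullback (f := q) (g := q) x₁ x₂ h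
  let K := (pullback q q).residueField z
  let Ω := AlgebraicClosure K
  let τ : Spec (CommRingCat.of Ω) ⟶ pullback q q :=
    Spec.map (CommRingCat.ofHom (algebraMap K Ω)) ≫ (pullback q q).fromSpecResidueField z
  obtain ⟨g, hg⟩ := htrans Ω (τ ≫ pullback.fst _ _) (τ ≫ pullback.snd _ _) (by
    simp only [Category.assoc]; rw [pullback.condition])
  let pt : Spec (CommRingCat.of Ω) := IsLocalRing.closedPoint Ω
  have h4 : τ pt = z := by
    change ((pullback q q).fromSpecResidueField z) _ = z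
    exact Scheme.fromSpecResidueField_apply z _
  refine ⟨g, ?_⟩
  have h5 := congrArg (fun φ : Spec (CommRingCat.of Ω) ⟶ X => φ pt) hg
  simp only [Scheme.Hom.comp_apply] at h5
  rw [h4, hz1, hz2] at h5
  exact h5

theorem main {X S : Scheme.{u}} [IrreducibleSpace ↥S] (q : X ⟶ S) [IsFinite q] [Surjective q]
    {G : Type u} [Group G] (ρ : G →* Aut X) (hρ : ∀ g : G, (ρ g).hom ≫ q = q)
    (htrans : ∀ (Ω : Type u) [Field Ω] [IsAlgClosed Ω] (τ₁ τ₂ : Spec (CommRingCat.of Ω) ⟶ X),
      τ₁ ≫ q = τ₂ ≫ q → ∃ g : G, τ₁ ≫ (ρ g).hom = τ₂) :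
    (∀ T ∈ irreducibleComponents ↥X, Set.image (fun x => q x) T = Set.univ) ∧
      ∀ T₁ ∈ irreducibleComponents ↥X, ∀ T₂ ∈ irreducibleComponents ↥X,
        ∃ g : G, Set.image (fun x => (ρ g).hom x) T₁ = T₂ := by
  have H := point_transitive q ρ htrans
  have hq : ∀ (g : G) (x : X), q ((ρ g).hom x) = q x := fun g x => by
    rw [← Scheme.Hom.comp_apply, hρ]
  have hmul : ∀ (a b : G) (x : X), (ρ (a * b)).hom x = (ρ a).hom ((ρ b).hom x) := fun a b x => by
    rw [map_mul, ← Scheme.Hom.comp_apply]; rfl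
  have hone : ∀ x : X, (ρ 1).hom x = x := fun x => by rw [map_one]; rfl
  have himg_closed : ∀ (g : G) (T : Set X), IsClosed T →
      IsClosed ((fun x => (ρ g).hom x) '' T) :=
    fun g T hT => (ρ g).hom.homeomorph.isClosedMap _ hT
  have himg_irr : ∀ (g : G) (T : Set X), IsIrreducible T →
      IsIrreducible ((fun x => (ρ g).hom x) '' T) :=
    fun g T hT => hT.image _ (ρ g).hom.continuous.continuousOn
  obtain ⟨x, hx⟩ := q.surjective (genericPoint S)
  have hT₀ : irreducibleComponent x ∈ irreducibleComponents X :=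
    irreducibleComponent_mem_irreducibleComponents x
  have hT₀univ : (fun x => q x) '' (irreducibleComponent x) = Set.univ := by
    have hcl : IsClosed ((fun x => q x) '' (irreducibleComponent x)) :=
      q.isClosedMap _ isClosed_irreducibleComponent
    have hmem : genericPoint S ∈ (fun x => q x) '' (irreducibleComponent x) :=
      ⟨x, mem_irreducibleComponent, hx⟩
    have h1 : closure {genericPoint S} ⊆ (fun x => q x) '' (irreducibleComponent x) :=
      hcl.closure_subset_iff.mpr (Set.singleton_subset_iff.mpr hmem)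
    rw [(genericPoint_spec S).def] at h1
    exact Set.univ_subset_iff.mp h1
  have A : ∀ T ∈ irreducibleComponents X,
      ∃ g : G, (fun x => (ρ g).hom x) '' (irreducibleComponent x) = T := by
    intro T hT
    have hTirr : IsIrreducible T := hT.1
    have hTcl : IsClosed T := isClosed_of_mem_irreducibleComponents T hT
    obtain ⟨ξ, hξ⟩ := QuasiSober.sober hTirr hTcl
    have hmem : q ξ ∈ (fun x => q x) '' (irreducibleComponent x) := by
      rw [hT₀univ]; trivial
    obtain ⟨x₀, hx₀, hx₀q⟩ := hmem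
    obtain ⟨g, hg⟩ := H x₀ ξ hx₀q
    refine ⟨g, ?_⟩
    have hsub : T ⊆ (fun x => (ρ g).hom x) '' (irreducibleComponent x) := by
      rw [← hξ.def]
      exact (himg_closed g _ isClosed_irreducibleComponent).closure_subset_iff.mpr
        (Set.singleton_subset_iff.mpr ⟨x₀, hx₀, hg⟩)
    exact subset_antisymm (hT.2 (himg_irr g _ hT₀.1) hsub) hsub
  constructor
  · intro T hT
    obtain ⟨g, rfl⟩ := A T hT
    rw [Set.image_image]
    simp only [hq]
    exact hT₀univ
  · intro T₁ h₁ T₂ h₂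
    obtain ⟨g₁, rfl⟩ := A T₁ h₁
    obtain ⟨g₂, rfl⟩ := A T₂ h₂
    refine ⟨g₂ * g₁⁻¹, ?_⟩
    rw [Set.image_image]
    refine Set.image_congr' fun y => ?_
    rw [hmul, ← hmul g₁⁻¹ g₁, inv_mul_cancel, hone]

end Groth.Agent.Lib.Helper11.IC1
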