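import Mathlib
import Groth.Agent.Lib.Helper11.IM1
import Groth.Agent.Lib.Helper11.SubG
import Groth.Agent.Lib.Helper11.ActB

/-!
# IM2: scheme-theoretic images of quasi-compact homomorphisms of group schemes over a field
(no finiteness hypotheses).
-/

set_option autoImplicit false
universe u
open CategoryTheory MonoidalCategory CartesianMonoidalCategory MonObj AlgebraicGeometry

namespace Groth.Agent.Lib.Helper11.IM2

open Groth.Agent.Lib.Helper11

theorem isPullback_whiskerRight {S : Scheme.{u}} (H K A : Over S) (g : H ⟶ K) :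
    IsPullback (fst H A).left (g ▷ A).left g.left (fst K A).left := by
  have t : IsPullback (snd K A).left (fst K A).left A.hom K.hom :=
    (IsPullback.of_hasPullback K.hom A.hom).flip
  have s : IsPullback ((g ▷ A).left ≫ (snd K A).left) (fst H A).left A.hom (g.left ≫ K.hom) := by
    have e1 : (g ▷ A).left ≫ (snd K A).left = (snd H A).left := by
      rw [← Over.comp_left, whiskerRight_snd]
    have e2 : g.left ≫ K.hom = H.hom := Over.w g
    rw [e1, e2]
    exact (IsPullback.of_hasPullback H.hom A.hom).flip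
  have p : (g ▷ A).left ≫ (fst K A).left = (fst H A).left ≫ g.left := by
    rw [← Over.comp_left, whiskerRight_fst, Over.comp_left]
  exact (IsPullback.of_right s p t).flip

theorem isPullback_whiskerLeft {S : Scheme.{u}} (H K A : Over S) (g : H ⟶ K) :
    IsPullback (snd A H).left (A ◁ g).left g.left (snd A K).left := by
  have t : IsPullback (fst A K).left (snd A K).left A.hom K.hom :=
    IsPullback.of_hasPullback A.hom K.hom
  have s : IsPullback ((A ◁ g).left ≫ (fst A K).left) (snd A H).left A.hom (g.left ≫ K.hom) := by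
    have e1 : (A ◁ g).left ≫ (fst A K).left = (fst A H).left := by
      rw [← Over.comp_left, whiskerLeft_fst]
    have e2 : g.left ≫ K.hom = H.hom := Over.w g
    rw [e1, e2]
    exact IsPullback.of_hasPullback A.hom H.hom
  have p : (A ◁ g).left ≫ (snd A K).left = (snd A H).left ≫ g.left := by
    rw [← Over.comp_left, whiskerLeft_snd, Over.comp_left]
  exact (IsPullback.of_right s p t).flip

variable {k : Type u} [Field k]

local notation "𝕊" => Spec (CommRingCat.of k)

theorem dominant_whiskerRight (H K A : Over 𝕊) (g : H ⟶ K) [QuasiCompact g.left]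
    [IsSchemeTheoreticallyDominant g.left] :
    IsSchemeTheoreticallyDominant (g ▷ A).left := by
  haveI : Flat A.hom := inferInstance
  haveI : Flat (fst K A).left := by
    show Flat (Limits.pullback.fst K.hom A.hom); infer_instance
  exact IsSchemeTheoreticallyDominant.of_isPullback (isPullback_whiskerRight H K A g)

theorem dominant_whiskerLeft (H K A : Over 𝕊) (g : H ⟶ K) [QuasiCompact g.left]
    [IsSchemeTheoreticallyDominant g.left] :
    IsSchemeTheoreticallyDominant (A ◁ g).left := by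
  haveI : Flat A.hom := inferInstance
  haveI : Flat (snd A K).left := by
    show Flat (Limits.pullback.snd A.hom K.hom); infer_instance
  exact IsSchemeTheoreticallyDominant.of_isPullback (isPullback_whiskerLeft H K A g)

theorem quasiCompact_whiskerRight (H K A : Over 𝕊) (g : H ⟶ K) [QuasiCompact g.left] :
    QuasiCompact (g ▷ A).left :=
  MorphismProperty.of_isPullback (P := @QuasiCompact) (isPullback_whiskerRight H K A g)
    inferInstance

/-- The scheme-theoretic image of a quasi-compact homomorphism is a subgroup scheme. -/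
theorem image_grpObj (H G K : Over 𝕊) [GrpObj H] [GrpObj G] (f : H ⟶ G) [IsMonHom f]
    [QuasiCompact f.left] (i : K ⟶ G) [IsClosedImmersion i.left] (g : H ⟶ K) (hgi : g ≫ i = f)
    [IsSchemeTheoreticallyDominant g.left] :
    ∃ (_ : GrpObj K), IsMonHom i ∧ IsMonHom g := by
  have hgi' : g.left ≫ i.left = f.left := congrArg (·.left) hgi
  haveI : QuasiCompact (g.left ≫ i.left) := hgi' ▸ inferInstance
  haveI : QuasiCompact g.left := QuasiCompact.of_comp g.left i.left
  haveI : Mono i.left := inferInstance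
  haveI : Mono i := (Over.forget _).mono_of_mono_map (by exact ‹Mono i.left›)
  have he : (η[H] ≫ g) ≫ i = η[G] := by rw [Category.assoc, hgi, IsMonHom.one_hom]
  let d : K ⊗ K ⟶ G := (fst K K ≫ i)⁻¹ * (snd K K ≫ i)
  let gg : H ⊗ H ⟶ K ⊗ K := (g ▷ H) ≫ (K ◁ g)
  let q : H ⊗ H ⟶ K := ((fst H H)⁻¹ * snd H H) ≫ g
  have hgg1 : gg ≫ fst K K = fst H H ≫ g := by
    show ((g ▷ H) ≫ (K ◁ g)) ≫ fst K K = _
    rw [Category.assoc, whiskerLeft_fst, whiskerRight_fst]
  have hgg2 : gg ≫ snd K K = snd H H ≫ g := by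
    show ((g ▷ H) ≫ (K ◁ g)) ≫ snd K K = _
    rw [Category.assoc, whiskerLeft_snd, whiskerRight_snd_assoc]
  have hq : gg ≫ d = q ≫ i := by
    show gg ≫ ((fst K K ≫ i)⁻¹ * (snd K K ≫ i)) = (((fst H H)⁻¹ * snd H H) ≫ g) ≫ i
    rw [MonObj.comp_mul, GrpObj.comp_inv, ← Category.assoc, hgg1, ← Category.assoc gg, hgg2,
      Category.assoc, Category.assoc, Category.assoc, hgi, MonObj.mul_comp, GrpObj.inv_comp]
  haveI hdom : IsSchemeTheoreticallyDominant gg.left := by
    haveI := dominant_whiskerRight H K H g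
    haveI := dominant_whiskerLeft H K K g
    show IsSchemeTheoreticallyDominant ((g ▷ H) ≫ (K ◁ g)).left
    rw [Over.comp_left]
    infer_instance
  let π := Limits.pullback.fst d.left i.left
  let m' : (H ⊗ H).left ⟶ Limits.pullback d.left i.left :=
    Limits.pullback.lift gg.left q.left (congrArg (·.left) hq)
  have hm' : m' ≫ π = gg.left := Limits.pullback.lift_fst _ _ _
  haveI : IsIso π := IM1.isIso_of_dominant_factor π gg.left m' hm'
  let d'₀ : (K ⊗ K).left ⟶ K.left := inv π ≫ Limits.pullback.snd d.left i.left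
  have hd'₀ : d'₀ ≫ i.left = d.left := by
    show (inv π ≫ Limits.pullback.snd d.left i.left) ≫ i.left = d.left
    rw [Category.assoc, ← Limits.pullback.condition, IsIso.inv_hom_id_assoc]
  let d' : K ⊗ K ⟶ K := Over.homMk d'₀ (by
    rw [← Over.w i, ← Category.assoc, hd'₀, Over.w d])
  have hd' : d' ≫ i = d := by
    ext1
    exact hd'₀
  have hdiv : ∀ (T : Over 𝕊) (k₁ k₂ : T ⟶ K),
      ∃ k₃ : T ⟶ K, k₃ ≫ i = (k₁ ≫ i)⁻¹ * (k₂ ≫ i) := by
    intro T k₁ k₂
    refine ⟨lift k₁ k₂ ≫ d', ?_⟩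
    rw [Category.assoc, hd']
    show lift k₁ k₂ ≫ ((fst K K ≫ i)⁻¹ * (snd K K ≫ i)) = _
    rw [MonObj.comp_mul, GrpObj.comp_inv, lift_fst_assoc, lift_snd_assoc]
  obtain ⟨ιK, hιK⟩ : ∃ ιK : K ⟶ K, ιK ≫ i = i⁻¹ := by
    obtain ⟨k₃, hk₃⟩ := hdiv K (𝟙 K) (toUnit K ≫ η[H] ≫ g)
    refine ⟨k₃, ?_⟩
    rw [hk₃, Category.id_comp, Category.assoc, Category.assoc, hgi, IsMonHom.one_hom]
    have : toUnit K ≫ η[G] = 1 := rfl
    rw [this, _root_.mul_one]
  obtain ⟨mK, hmK⟩ : ∃ mK : K ⊗ K ⟶ K, mK ≫ i = (fst K K ≫ i) * (snd K K ≫ i) := by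
    obtain ⟨k₃, hk₃⟩ := hdiv (K ⊗ K) (fst K K ≫ ιK) (snd K K)
    refine ⟨k₃, ?_⟩
    rw [hk₃, Category.assoc, hιK, GrpObj.comp_inv, _root_.inv_inv]
  obtain ⟨GrK, hiK⟩ := SubG.exists_grpObj_of_mono i ⟨η[H] ≫ g, he⟩ ⟨mK, hmK⟩ ⟨ιK, hιK⟩
  refine ⟨GrK, hiK, ?_⟩
  letI := GrK
  haveI := hiK
  refine ⟨?_, ?_⟩
  · rw [← cancel_mono i, Category.assoc, hgi, IsMonHom.one_hom, IsMonHom.one_hom]
  · rw [← cancel_mono i, Category.assoc, hgi, IsMonHom.mul_hom, Category.assoc,
      IsMonHom.mul_hom, ← Category.assoc, MonoidalCategory.tensorHom_comp_tensorHom, hgi]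

/-- The image of a quasi-compact dominant morphism contains every maximal point. -/
theorem mem_range_of_isMaxPt {A Y : Scheme.{u}} (f : A ⟶ Y) [QuasiCompact f] [IsDominant f]
    (ξ : Y) (hξ : GrpA.IsMaxPt ξ) : ξ ∈ Set.range f := by
  have h1 : ξ ∈ closure (Set.range f) := by
    rw [f.denseRange.closure_eq]; trivial
  obtain ⟨a, ha⟩ := OrbA.exists_specializes_of_mem_closure_range_qc f ξ h1
  exact ⟨a, OrbA.eq_of_specializes_isMaxPt hξ ha⟩

/-- A quasi-compact scheme-theoretically dominant homomorphism of group schemes over a field is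
surjective. -/
theorem surjective_of_dominant_hom (H K : Over 𝕊) [GrpObj H] [GrpObj K] (g : H ⟶ K) [IsMonHom g]
    [QuasiCompact g.left] [IsSchemeTheoreticallyDominant g.left] : Surjective g.left := by
  refine ⟨fun y => ?_⟩
  let T : Over 𝕊 := Over.mk (K.left.fromSpecResidueField y ≫ K.hom)
  let yb : T ⟶ K := Over.homMk (K.left.fromSpecResidueField y) rfl
  let α : H ⊗ T ⟶ K ⊗ T := g ▷ T
  let τ : K ⊗ T ⟶ K ⊗ T := lift ((snd K T ≫ yb) * (fst K T)⁻¹) (snd K T)
  let τ' : K ⊗ T ⟶ K ⊗ T := lift ((fst K T)⁻¹ * (snd K T ≫ yb)) (snd K T)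
  have h1 : τ' ≫ fst K T = (fst K T)⁻¹ * (snd K T ≫ yb) := lift_fst _ _
  have h2 : τ' ≫ snd K T = snd K T := lift_snd _ _
  have h3 : τ ≫ fst K T = (snd K T ≫ yb) * (fst K T)⁻¹ := lift_fst _ _
  have h4 : τ ≫ snd K T = snd K T := lift_snd _ _
  have hττ' : τ ≫ τ' = 𝟙 _ := by
    apply CartesianMonoidalCategory.hom_ext
    · rw [Category.assoc, h1, MonObj.comp_mul, GrpObj.comp_inv, h3, ← Category.assoc, h4,
        Category.id_comp, _root_.mul_inv_rev, _root_.inv_inv, _root_.mul_assoc, inv_mul_cancel,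
        _root_.mul_one]
    · rw [Category.assoc, h2, h4, Category.id_comp]
  have hτ'τ : τ' ≫ τ = 𝟙 _ := by
    apply CartesianMonoidalCategory.hom_ext
    · rw [Category.assoc, h3, MonObj.comp_mul, GrpObj.comp_inv, h1, ← Category.assoc, h2,
        Category.id_comp, _root_.mul_inv_rev, _root_.inv_inv, ← _root_.mul_assoc, mul_inv_cancel,
        _root_.one_mul]
    · rw [Category.assoc, h4, h2, Category.id_comp]
  haveI : IsIso τ := ⟨τ', hττ', hτ'τ⟩
  haveI : IsIso τ.left := (Over.forget _).map_isIso τ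
  haveI := dominant_whiskerRight H K T g
  haveI := quasiCompact_whiskerRight H K T g
  haveI : IsDominant α.left := inferInstance
  haveI : QuasiCompact (α.left ≫ τ.left) := inferInstance
  haveI : IsDominant (α.left ≫ τ.left) := inferInstance
  -- a maximal point
  haveI : Nonempty ↥(K ⊗ T).left :=
    ⟨(lift yb (𝟙 T)).left (Classical.arbitrary ↥(Spec (K.left.residueField y)))⟩
  obtain ⟨ξ, hξ⟩ := ActB.exists_isMaxPt ↥(K ⊗ T).left
  obtain ⟨h₁, hh₁⟩ := mem_range_of_isMaxPt α.left ξ hξ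
  obtain ⟨h₂, hh₂⟩ := mem_range_of_isMaxPt (α.left ≫ τ.left) ξ hξ
  obtain ⟨v, hv1, hv2⟩ := Scheme.Pullback.exists_preimage_pullback (f := α.left)
    (g := α.left ≫ τ.left) h₁ h₂ (hh₁.trans hh₂.symm)
  -- the pullback as an object over the base
  let V : Over 𝕊 := Over.mk (Limits.pullback.fst α.left (α.left ≫ τ.left) ≫ (H ⊗ T).hom)
  let p₁ : V ⟶ H ⊗ T := Over.homMk (Limits.pullback.fst α.left (α.left ≫ τ.left)) rfl
  let p₂ : V ⟶ H ⊗ T := Over.homMk (Limits.pullback.snd α.left (α.left ≫ τ.left)) (by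
    show Limits.pullback.snd α.left (α.left ≫ τ.left) ≫ (H ⊗ T).hom =
      Limits.pullback.fst α.left (α.left ≫ τ.left) ≫ (H ⊗ T).hom
    calc Limits.pullback.snd α.left (α.left ≫ τ.left) ≫ (H ⊗ T).hom
        = Limits.pullback.snd α.left (α.left ≫ τ.left) ≫ (α ≫ τ).left ≫ (K ⊗ T).hom := by
          rw [Over.w (α ≫ τ)]
      _ = (Limits.pullback.snd α.left (α.left ≫ τ.left) ≫ (α.left ≫ τ.left)) ≫ (K ⊗ T).hom := by
          simp only [Over.comp_left, Category.assoc]
      _ = (Limits.pullback.fst α.left (α.left ≫ τ.left) ≫ α.left) ≫ (K ⊗ T).hom := by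
          rw [Limits.pullback.condition]
      _ = Limits.pullback.fst α.left (α.left ≫ τ.left) ≫ (H ⊗ T).hom := by
          rw [Category.assoc, Over.w α])
  have hp : p₁ ≫ α = p₂ ≫ α ≫ τ := by
    apply Over.OverMorphism.ext
    exact Limits.pullback.condition
  let a : V ⟶ H := p₁ ≫ fst H T
  let b : V ⟶ H := p₂ ≫ fst H T
  let t₂ : V ⟶ T := p₂ ≫ snd H T
  have e1 : (p₁ ≫ α) ≫ fst K T = a ≫ g := by
    have h5 : α ≫ fst K T = fst H T ≫ g := whiskerRight_fst _ _
    rw [Category.assoc, h5, Category.assoc]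
  have e2 : (p₂ ≫ α ≫ τ) ≫ fst K T = (t₂ ≫ yb) * (b ≫ g)⁻¹ := by
    rw [Category.assoc, Category.assoc, h3, MonObj.comp_mul, MonObj.comp_mul,
      GrpObj.comp_inv, GrpObj.comp_inv, whiskerRight_snd_assoc, whiskerRight_fst,
      ← Category.assoc p₂, ← Category.assoc p₂]
  have e3 : t₂ ≫ yb = (a * b) ≫ g := by
    have := e1.symm.trans ((congrArg (· ≫ fst K T) hp).trans e2)
    rw [MonObj.mul_comp, this, inv_mul_cancel_right]
  refine ⟨(a * b).left v, ?_⟩
  have e4 : g.left ((a * b).left v) = (t₂ ≫ yb).left v := by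
    rw [e3, Over.comp_left, Scheme.Hom.comp_apply]
  rw [e4, Over.comp_left, Scheme.Hom.comp_apply]
  exact Scheme.fromSpecResidueField_apply y _

end Groth.Agent.Lib.Helper11.IM2
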