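import Mathlib
import Groth.Agent.Lib.Helper11.IM2

/-!
# IM3: scheme-theoretic images of quasi-compact "multiplicatively closed" morphisms into group
schemes over a field (generalising IM2 from homomorphisms).
-/

set_option autoImplicit false
universe u
open CategoryTheory MonoidalCategory CartesianMonoidalCategory MonObj AlgebraicGeometry

namespace Groth.Agent.Lib.Helper11.IM3

open Groth.Agent.Lib.Helper11 Groth.Agent.Lib.Helper11.IM2

variable {k : Type u} [Field k]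

local notation "𝕊" => Spec (CommRingCat.of k)

/-- The scheme-theoretic image of a quasi-compact homomorphism is a subgroup scheme. -/
theorem image_grpObj' (H G K : Over 𝕊) [GrpObj G] (f : H ⟶ G)
    [QuasiCompact f.left] (i : K ⟶ G) [IsClosedImmersion i.left] (g : H ⟶ K) (hgi : g ≫ i = f)
    [IsSchemeTheoreticallyDominant g.left]
    (h1 : ∃ e : 𝟙_ (Over 𝕊) ⟶ H, e ≫ f = η[G])
    (hd : ∃ q₀ : H ⊗ H ⟶ H, q₀ ≫ f = (fst H H ≫ f)⁻¹ * (snd H H ≫ f)) :
    ∃ (_ : GrpObj K), IsMonHom i := by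
  obtain ⟨e, he0⟩ := h1
  obtain ⟨q₀, hq₀⟩ := hd
  have hgi' : g.left ≫ i.left = f.left := congrArg (·.left) hgi
  haveI : QuasiCompact (g.left ≫ i.left) := hgi' ▸ inferInstance
  haveI : QuasiCompact g.left := QuasiCompact.of_comp g.left i.left
  haveI : Mono i.left := inferInstance
  haveI : Mono i := (Over.forget _).mono_of_mono_map (by exact ‹Mono i.left›)
  have he : (e ≫ g) ≫ i = η[G] := by rw [Category.assoc, hgi, he0]
  let d : K ⊗ K ⟶ G := (fst K K ≫ i)⁻¹ * (snd K K ≫ i)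
  let gg : H ⊗ H ⟶ K ⊗ K := (g ▷ H) ≫ (K ◁ g)
  let q : H ⊗ H ⟶ K := q₀ ≫ g
  have hgg1 : gg ≫ fst K K = fst H H ≫ g := by
    show ((g ▷ H) ≫ (K ◁ g)) ≫ fst K K = _
    rw [Category.assoc, whiskerLeft_fst, whiskerRight_fst]
  have hgg2 : gg ≫ snd K K = snd H H ≫ g := by
    show ((g ▷ H) ≫ (K ◁ g)) ≫ snd K K = _
    rw [Category.assoc, whiskerLeft_snd, whiskerRight_snd_assoc]
  have hq : gg ≫ d = q ≫ i := by
    show gg ≫ ((fst K K ≫ i)⁻¹ * (snd K K ≫ i)) = (q₀ ≫ g) ≫ i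
    rw [MonObj.comp_mul, GrpObj.comp_inv, ← Category.assoc, hgg1, ← Category.assoc gg, hgg2,
      Category.assoc, Category.assoc, Category.assoc, hgi, hq₀]
  haveI hdom : IsSchemeTheoreticallyDominant gg.left := by
    haveI := dominant_whiskerRight H K H g
    haveI := dominant_whiskerLeft H K K g
    show IsSchemeTheoreticallyDominant ((g ▷ H) ≫ (K ◁ g)).left
    rw [Over.comp_left]
    infer_instance
  let π := Limits.pullback.fst d.left i.left
  let m' : (H ⊗ H).left ⟶ Limits.pullback d.left i.left :=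
    Limits.pullback.lift gg.left q.left (congrArg (·.left) hq)
  have hm' : m' ≫ π = gg.left := Limits.pullback.lift_fst _ _ _
  haveI : IsIso π := IM1.isIso_of_dominant_factor π gg.left m' hm'
  let d'₀ : (K ⊗ K).left ⟶ K.left := inv π ≫ Limits.pullback.snd d.left i.left
  have hd'₀ : d'₀ ≫ i.left = d.left := by
    show (inv π ≫ Limits.pullback.snd d.left i.left) ≫ i.left = d.left
    rw [Category.assoc, ← Limits.pullback.condition, IsIso.inv_hom_id_assoc]
  let d' : K ⊗ K ⟶ K := Over.homMk d'₀ (by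
    rw [← Over.w i, ← Category.assoc, hd'₀, Over.w d])
  have hd' : d' ≫ i = d := by
    ext1
    exact hd'₀
  have hdiv : ∀ (T : Over 𝕊) (k₁ k₂ : T ⟶ K),
      ∃ k₃ : T ⟶ K, k₃ ≫ i = (k₁ ≫ i)⁻¹ * (k₂ ≫ i) := by
    intro T k₁ k₂
    refine ⟨lift k₁ k₂ ≫ d', ?_⟩
    rw [Category.assoc, hd']
    show lift k₁ k₂ ≫ ((fst K K ≫ i)⁻¹ * (snd K K ≫ i)) = _
    rw [MonObj.comp_mul, GrpObj.comp_inv, lift_fst_assoc, lift_snd_assoc]
  obtain ⟨ιK, hιK⟩ : ∃ ιK : K ⟶ K, ιK ≫ i = i⁻¹ := by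
    obtain ⟨k₃, hk₃⟩ := hdiv K (𝟙 K) (toUnit K ≫ e ≫ g)
    refine ⟨k₃, ?_⟩
    rw [hk₃, Category.id_comp, Category.assoc, Category.assoc, hgi, he0]
    have : toUnit K ≫ η[G] = 1 := rfl
    rw [this, _root_.mul_one]
  obtain ⟨mK, hmK⟩ : ∃ mK : K ⊗ K ⟶ K, mK ≫ i = (fst K K ≫ i) * (snd K K ≫ i) := by
    obtain ⟨k₃, hk₃⟩ := hdiv (K ⊗ K) (fst K K ≫ ιK) (snd K K)
    refine ⟨k₃, ?_⟩
    rw [hk₃, Category.assoc, hιK, GrpObj.comp_inv, _root_.inv_inv]
  exact SubG.exists_grpObj_of_mono i ⟨e ≫ g, he⟩ ⟨mK, hmK⟩ ⟨ιK, hιK⟩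

/-- A quasi-compact scheme-theoretically dominant homomorphism of group schemes over a field is
surjective. -/
theorem surjective_of_dominant' (H K : Over 𝕊) [GrpObj K] (g : H ⟶ K)
    [QuasiCompact g.left] [IsSchemeTheoreticallyDominant g.left]
    (hmul : ∀ (T : Over 𝕊) (p₁ p₂ : T ⟶ H), ∃ p₃ : T ⟶ H, p₃ ≫ g = (p₁ ≫ g) * (p₂ ≫ g)) :
    Surjective g.left := by
  refine ⟨fun y => ?_⟩
  let T : Over 𝕊 := Over.mk (K.left.fromSpecResidueField y ≫ K.hom)
  let yb : T ⟶ K := Over.homMk (K.left.fromSpecResidueField y) rfl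
  let α : H ⊗ T ⟶ K ⊗ T := g ▷ T
  let τ : K ⊗ T ⟶ K ⊗ T := lift ((snd K T ≫ yb) * (fst K T)⁻¹) (snd K T)
  let τ' : K ⊗ T ⟶ K ⊗ T := lift ((fst K T)⁻¹ * (snd K T ≫ yb)) (snd K T)
  have h1 : τ' ≫ fst K T = (fst K T)⁻¹ * (snd K T ≫ yb) := lift_fst _ _
  have h2 : τ' ≫ snd K T = snd K T := lift_snd _ _
  have h3 : τ ≫ fst K T = (snd K T ≫ yb) * (fst K T)⁻¹ := lift_fst _ _
  have h4 : τ ≫ snd K T = snd K T := lift_snd _ _
  have hττ' : τ ≫ τ' = 𝟙 _ := by
    apply CartesianMonoidalCategory.hom_ext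
    · rw [Category.assoc, h1, MonObj.comp_mul, GrpObj.comp_inv, h3, ← Category.assoc, h4,
        Category.id_comp, _root_.mul_inv_rev, _root_.inv_inv, _root_.mul_assoc, inv_mul_cancel,
        _root_.mul_one]
    · rw [Category.assoc, h2, h4, Category.id_comp]
  have hτ'τ : τ' ≫ τ = 𝟙 _ := by
    apply CartesianMonoidalCategory.hom_ext
    · rw [Category.assoc, h3, MonObj.comp_mul, GrpObj.comp_inv, h1, ← Category.assoc, h2,
        Category.id_comp, _root_.mul_inv_rev, _root_.inv_inv, ← _root_.mul_assoc, mul_inv_cancel,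
        _root_.one_mul]
    · rw [Category.assoc, h4, h2, Category.id_comp]
  haveI : IsIso τ := ⟨τ', hττ', hτ'τ⟩
  haveI : IsIso τ.left := (Over.forget _).map_isIso τ
  haveI := dominant_whiskerRight H K T g
  haveI := quasiCompact_whiskerRight H K T g
  haveI : IsDominant α.left := inferInstance
  haveI : QuasiCompact (α.left ≫ τ.left) := inferInstance
  haveI : IsDominant (α.left ≫ τ.left) := inferInstance
  -- a maximal point
  haveI : Nonempty ↥(K ⊗ T).left :=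
    ⟨(lift yb (𝟙 T)).left (Classical.arbitrary ↥(Spec (K.left.residueField y)))⟩
  obtain ⟨ξ, hξ⟩ := ActB.exists_isMaxPt ↥(K ⊗ T).left
  obtain ⟨h₁, hh₁⟩ := mem_range_of_isMaxPt α.left ξ hξ
  obtain ⟨h₂, hh₂⟩ := mem_range_of_isMaxPt (α.left ≫ τ.left) ξ hξ
  obtain ⟨v, hv1, hv2⟩ := Scheme.Pullback.exists_preimage_pullback (f := α.left)
    (g := α.left ≫ τ.left) h₁ h₂ (hh₁.trans hh₂.symm)
  -- the pullback as an object over the base
  let V : Over 𝕊 := Over.mk (Limits.pullback.fst α.left (α.left ≫ τ.left) ≫ (H ⊗ T).hom)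
  let p₁ : V ⟶ H ⊗ T := Over.homMk (Limits.pullback.fst α.left (α.left ≫ τ.left)) rfl
  let p₂ : V ⟶ H ⊗ T := Over.homMk (Limits.pullback.snd α.left (α.left ≫ τ.left)) (by
    show Limits.pullback.snd α.left (α.left ≫ τ.left) ≫ (H ⊗ T).hom =
      Limits.pullback.fst α.left (α.left ≫ τ.left) ≫ (H ⊗ T).hom
    calc Limits.pullback.snd α.left (α.left ≫ τ.left) ≫ (H ⊗ T).hom
        = Limits.pullback.snd α.left (α.left ≫ τ.left) ≫ (α ≫ τ).left ≫ (K ⊗ T).hom := by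
          rw [Over.w (α ≫ τ)]
      _ = (Limits.pullback.snd α.left (α.left ≫ τ.left) ≫ (α.left ≫ τ.left)) ≫ (K ⊗ T).hom := by
          simp only [Over.comp_left, Category.assoc]
      _ = (Limits.pullback.fst α.left (α.left ≫ τ.left) ≫ α.left) ≫ (K ⊗ T).hom := by
          rw [Limits.pullback.condition]
      _ = Limits.pullback.fst α.left (α.left ≫ τ.left) ≫ (H ⊗ T).hom := by
          rw [Category.assoc, Over.w α])
  have hp : p₁ ≫ α = p₂ ≫ α ≫ τ := by
    apply Over.OverMorphism.ext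
    exact Limits.pullback.condition
  let a : V ⟶ H := p₁ ≫ fst H T
  let b : V ⟶ H := p₂ ≫ fst H T
  let t₂ : V ⟶ T := p₂ ≫ snd H T
  have e1 : (p₁ ≫ α) ≫ fst K T = a ≫ g := by
    have h5 : α ≫ fst K T = fst H T ≫ g := whiskerRight_fst _ _
    rw [Category.assoc, h5, Category.assoc]
  have e2 : (p₂ ≫ α ≫ τ) ≫ fst K T = (t₂ ≫ yb) * (b ≫ g)⁻¹ := by
    rw [Category.assoc, Category.assoc, h3, MonObj.comp_mul, MonObj.comp_mul,
      GrpObj.comp_inv, GrpObj.comp_inv, whiskerRight_snd_assoc, whiskerRight_fst,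
      ← Category.assoc p₂, ← Category.assoc p₂]
  have e3 : t₂ ≫ yb = (a ≫ g) * (b ≫ g) := by
    have := e1.symm.trans ((congrArg (· ≫ fst K T) hp).trans e2)
    rw [this, inv_mul_cancel_right]
  obtain ⟨c, hc⟩ := hmul V a b
  refine ⟨c.left v, ?_⟩
  have e4 : g.left (c.left v) = (t₂ ≫ yb).left v := by
    rw [e3, ← hc, Over.comp_left, Scheme.Hom.comp_apply]
  rw [e4, Over.comp_left, Scheme.Hom.comp_apply]
  exact Scheme.fromSpecResidueField_apply y _

end Groth.Agent.Lib.Helper11.IM3
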