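import Groth.Agent.Lib.Helper11.IQ1

/-!
# Helper11 ST1: quotients in stages
-/

set_option autoImplicit false

namespace Groth.Agent.Lib.Helper11.ST1

open CategoryTheory CategoryTheory.Limits AlgebraicGeometry

universe u

theorem appLE_congr_hom' {X Y : Scheme.{u}} {f f' : X ⟶ Y} (h : f = f') (U : Y.Opens) (V : X.Opens)
    (e : V ≤ f ⁻¹ᵁ U) (e' : V ≤ f' ⁻¹ᵁ U) : f.appLE U V e = f'.appLE U V e' := by
  subst h; rfl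

theorem isQuot_stages {Γ N H : Type u} [Group Γ] [Group N] [Group H] {Z Z₁ Z₂ : Scheme.{u}}
    (θ : Γ →* Aut Z) (ι : N →* Γ) (κ : Γ →* H) (hκ : Function.Surjective κ)
    (σ' : H →* Aut Z₁) (π₁ : Z ⟶ Z₁) (π₂ : Z₁ ⟶ Z₂)
    (h₁ : SGA1.IsQuot (θ.comp ι) π₁) (h₂ : SGA1.IsQuot σ' π₂)
    (hc : ∀ γ, (θ γ).hom ≫ π₁ = π₁ ≫ (σ' (κ γ)).hom) :
    SGA1.IsQuot θ (π₁ ≫ π₂) := by
  have hinv : ∀ γ : Γ, (θ γ).hom ≫ π₁ ≫ π₂ = π₁ ≫ π₂ := by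
    intro γ
    rw [reassoc_of% (hc γ), h₂.inv]
  haveI := h₁.affine
  haveI := h₂.affine
  have happ : ∀ (U : Z₂.Opens) (a : Γ(Z₂, U)), ((π₁ ≫ π₂).app U).hom a =
      (π₁.app (π₂ ⁻¹ᵁ U)).hom ((π₂.app U).hom a) := by
    intro U a
    exact congrArg (fun f => f.hom a) (Scheme.Hom.comp_app π₁ π₂ U)
  refine ⟨inferInstance, hinv, ?_, ?_⟩
  · intro U a b hab
    rw [happ, happ] at hab
    exact h₂.injective U (h₁.injective _ hab)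
  · intro U s
    constructor
    · rintro ⟨a, rfl⟩
      exact IQ1.app_inv θ (π₁ ≫ π₂) hinv U a
    · intro hs
      -- invariance under N
      have hsN : ∀ n : N, (((θ.comp ι) n).hom.appLE (π₁ ⁻¹ᵁ (π₂ ⁻¹ᵁ U)) (π₁ ⁻¹ᵁ (π₂ ⁻¹ᵁ U))
          (SGA1.preimage_le_of_inv (θ.comp ι) π₁ h₁.inv n (π₂ ⁻¹ᵁ U))).hom s = s := fun n => hs (ι n)
      obtain ⟨t, ht⟩ := (h₁.range_iff (π₂ ⁻¹ᵁ U) s).mpr hsN
      have htH : ∀ h : H, ((σ' h).hom.appLE (π₂ ⁻¹ᵁ U) (π₂ ⁻¹ᵁ U)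
          (SGA1.preimage_le_of_inv σ' π₂ h₂.inv h U)).hom t = t := by
        intro h
        obtain ⟨γ, rfl⟩ := hκ h
        apply h₁.injective (π₂ ⁻¹ᵁ U)
        have e1 := Scheme.Hom.appLE_comp_appLE π₁ (σ' (κ γ)).hom (π₂ ⁻¹ᵁ U) (π₂ ⁻¹ᵁ U)
          (π₁ ⁻¹ᵁ (π₂ ⁻¹ᵁ U)) (SGA1.preimage_le_of_inv σ' π₂ h₂.inv (κ γ) U) le_rfl
        have e2 := Scheme.Hom.appLE_comp_appLE (θ γ).hom π₁ (π₂ ⁻¹ᵁ U) (π₁ ⁻¹ᵁ (π₂ ⁻¹ᵁ U))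
          (π₁ ⁻¹ᵁ (π₂ ⁻¹ᵁ U)) le_rfl (SGA1.preimage_le_of_inv θ (π₁ ≫ π₂) hinv γ U)
        have e3 := appLE_congr_hom' (hc γ) (π₂ ⁻¹ᵁ U) (π₁ ⁻¹ᵁ (π₂ ⁻¹ᵁ U))
          (by rw [Scheme.Hom.comp_preimage]; exact SGA1.preimage_le_of_inv θ (π₁ ≫ π₂) hinv γ U)
          (by rw [Scheme.Hom.comp_preimage]
              exact π₁.preimage_mono (SGA1.preimage_le_of_inv σ' π₂ h₂.inv (κ γ) U))
        have e4 := congrArg (fun f => f.hom t) (e1.trans (e3.symm.trans e2.symm))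
        simp only [CommRingCat.hom_comp, RingHom.coe_comp, Function.comp_apply] at e4
        rw [Scheme.Hom.app_eq_appLE]
        refine e4.trans ?_
        rw [← Scheme.Hom.app_eq_appLE, ht]
        exact hs γ
      obtain ⟨r, hr⟩ := (h₂.range_iff U t).mpr htH
      refine ⟨r, ?_⟩
      rw [happ, hr, ht]

end Groth.Agent.Lib.Helper11.ST1
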