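import Groth.Agent.Lib.Helper11.IQ2
import Groth.Agent.Lib.Helper11.ST1

/-!
# Helper11 IR1: quotient of an induced action (`X = G ×^H Y`), `Y/H ≅ X/G`
-/

set_option autoImplicit false

namespace Groth.Agent.Lib.Helper11.IR1

open CategoryTheory AlgebraicGeometry TopologicalSpace Opposite
open Groth.Agent.Lib.Helper11.IQ1

universe u

theorem appLE_bijective_of_image_eq {A B : Scheme.{u}} (f : A ⟶ B) [IsOpenImmersion f]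
    (W : A.Opens) (O : B.Opens) (hO : f ''ᵁ W = O) (e : W ≤ f ⁻¹ᵁ O) :
    Function.Bijective (f.appLE O W e).hom := by
  subst hO
  have h1 := Scheme.Hom.appIso_hom' f W
  have hiso : IsIso (f.appLE (f ''ᵁ W) W e) := by
    rw [← h1]; infer_instance
  exact ConcreteCategory.bijective_of_isIso (f.appLE (f ''ᵁ W) W e)

section Xside

variable {X XG : Scheme.{u}} {G : Type u} [Group G] (ρ : G →* Aut X) (p : X ⟶ XG)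
  (hinv : ∀ g : G, (ρ g).hom ≫ p = p) (H : Subgroup G) (Y : X.Opens)

theorem hom_mul (g₁ g₂ : G) : (ρ (g₁ * g₂)).hom = (ρ g₂).hom ≫ (ρ g₁).hom := by
  rw [map_mul]; rfl

theorem hom_mul_apply (g₁ g₂ : G) (x : X) :
    (ρ (g₁ * g₂)).hom x = (ρ g₁).hom ((ρ g₂).hom x) := by
  rw [hom_mul, Scheme.Hom.comp_apply]

theorem hom_one : (ρ 1).hom = 𝟙 X := by
  rw [map_one]; rfl

/-- the translate `g⁻¹(Y ∩ p⁻¹U)` -/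
def Og (U : XG.Opens) (g : G) : X.Opens := (ρ g).hom ⁻¹ᵁ (Y ⊓ p ⁻¹ᵁ U)

include hinv in
theorem Og_le (U : XG.Opens) (g : G) : Og ρ p Y U g ≤ p ⁻¹ᵁ U := by
  intro x hx
  have h2 : p ((ρ g).hom x) ∈ U := hx.2
  rw [← Scheme.Hom.comp_apply, hinv g] at h2
  exact h2

include hinv in
theorem cover (hcov : ∀ x : X, ∃ g : G, x ∈ (ρ g).hom.base '' (Y : Set X)) (U : XG.Opens) :
    p ⁻¹ᵁ U ≤ ⨆ g : G, Og ρ p Y U g := by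
  intro x hx
  obtain ⟨g, y, hy, hyx⟩ := hcov x
  have hyx' : (ρ g).hom y = x := hyx
  refine Opens.mem_iSup.mpr ⟨g⁻¹, ?_⟩
  have e : (ρ g⁻¹).hom x = y := by
    rw [← hyx', ← hom_mul_apply, inv_mul_cancel, hom_one]; rfl
  show (ρ g⁻¹).hom x ∈ Y ⊓ p ⁻¹ᵁ U
  rw [e]
  refine ⟨hy, ?_⟩
  show p y ∈ U
  have hx' : p x ∈ U := hx
  rw [← hyx', ← Scheme.Hom.comp_apply, hinv g] at hx'
  exact hx'

theorem Og_inf_eq_bot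
    (hdisj : ∀ g : G, g ∉ H → Disjoint ((ρ g).hom.base '' (Y : Set X)) (Y : Set X))
    (U : XG.Opens) (g₁ g₂ : G) (hne : g₂ * g₁⁻¹ ∉ H) : Og ρ p Y U g₁ ⊓ Og ρ p Y U g₂ = ⊥ := by
  rw [eq_bot_iff]
  rintro x ⟨hx₁, hx₂⟩
  exfalso
  have h1 : (ρ g₁).hom x ∈ Y := hx₁.1
  have h2 : (ρ g₂).hom x ∈ Y := hx₂.1
  have e : (ρ (g₂ * g₁⁻¹)).hom ((ρ g₁).hom x) = (ρ g₂).hom x := by
    rw [← hom_mul_apply, inv_mul_cancel_right]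
  exact Set.disjoint_left.mp (hdisj _ hne) ⟨(ρ g₁).hom x, h1, e⟩ h2

include hinv in
theorem stab (hstab : ∀ h : H, Y ≤ (ρ (h : G)).hom ⁻¹ᵁ Y) (U : XG.Opens) (h : H) :
    Y ⊓ p ⁻¹ᵁ U ≤ (ρ (h : G)).hom ⁻¹ᵁ (Y ⊓ p ⁻¹ᵁ U) := by
  rintro x ⟨hx₁, hx₂⟩
  refine ⟨hstab h hx₁, ?_⟩
  show p ((ρ (h : G)).hom x) ∈ U
  rw [← Scheme.Hom.comp_apply, hinv]
  exact hx₂

theorem app_appLE (g₁ g₂ : G) (O O' : X.Opens) (e' : O' ≤ (ρ g₂).hom ⁻¹ᵁ ((ρ g₁).hom ⁻¹ᵁ O))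
    (e : O' ≤ (ρ (g₁ * g₂)).hom ⁻¹ᵁ O) (t : Γ(X, O)) :
    ((ρ g₂).hom.appLE ((ρ g₁).hom ⁻¹ᵁ O) O' e').hom (((ρ g₁).hom.app O).hom t) =
      ((ρ (g₁ * g₂)).hom.appLE O O' e).hom t := by
  rw [← CommRingCat.comp_apply, Scheme.Hom.app_eq_appLE, Scheme.Hom.appLE_comp_appLE,
    ST1.appLE_congr_hom' (hom_mul ρ g₁ g₂).symm]

theorem res_Og_of_inv (U : XG.Opens) (s : Γ(X, p ⁻¹ᵁ U)) (hs : IsInvSec ρ p hinv U s) (g : G) :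
    rX (Og_le ρ p hinv Y U g) s =
      ((ρ g).hom.app (Y ⊓ p ⁻¹ᵁ U)).hom (rX (inf_le_right : Y ⊓ p ⁻¹ᵁ U ≤ p ⁻¹ᵁ U) s) := by
  have e1 := Scheme.Hom.appLE_map (ρ g).hom (SGA1.preimage_le_of_inv ρ p hinv g U)
    (homOfLE (Og_le ρ p hinv Y U g)).op
  have e2 := Scheme.Hom.map_appLE (ρ g).hom (le_refl ((ρ g).hom ⁻¹ᵁ (Y ⊓ p ⁻¹ᵁ U)))
    (homOfLE (inf_le_right : Y ⊓ p ⁻¹ᵁ U ≤ p ⁻¹ᵁ U)).op
  have e3 := congrArg (fun f => f.hom s) (e1.trans e2.symm)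
  simp only [CommRingCat.comp_apply] at e3
  conv_lhs => rw [← hs g]
  rw [Scheme.Hom.app_eq_appLE]
  exact e3

theorem eq_of_res_eq (hcov : ∀ x : X, ∃ g : G, x ∈ (ρ g).hom.base '' (Y : Set X))
    (U : XG.Opens) (s₁ s₂ : Γ(X, p ⁻¹ᵁ U))
    (h₁ : IsInvSec ρ p hinv U s₁) (h₂ : IsInvSec ρ p hinv U s₂)
    (h : rX (inf_le_right : Y ⊓ p ⁻¹ᵁ U ≤ p ⁻¹ᵁ U) s₁ = rX inf_le_right s₂) : s₁ = s₂ := by
  refine X.sheaf.eq_of_locally_eq' (fun g : G => Og ρ p Y U g) (p ⁻¹ᵁ U)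
    (fun g => homOfLE (Og_le ρ p hinv Y U g)) (cover ρ p hinv Y hcov U) s₁ s₂ (fun g => ?_)
  show rX (Og_le ρ p hinv Y U g) s₁ = rX (Og_le ρ p hinv Y U g) s₂
  rw [res_Og_of_inv ρ p hinv Y U s₁ h₁, res_Og_of_inv ρ p hinv Y U s₂ h₂, h]

theorem exists_inv_extension (hcov : ∀ x : X, ∃ g : G, x ∈ (ρ g).hom.base '' (Y : Set X))
    (hdisj : ∀ g : G, g ∉ H → Disjoint ((ρ g).hom.base '' (Y : Set X)) (Y : Set X))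
    (hstab : ∀ h : H, Y ≤ (ρ (h : G)).hom ⁻¹ᵁ Y)
    (U : XG.Opens) (t : Γ(X, Y ⊓ p ⁻¹ᵁ U))
    (ht : ∀ h : H, ((ρ (h : G)).hom.appLE (Y ⊓ p ⁻¹ᵁ U) (Y ⊓ p ⁻¹ᵁ U)
      (stab ρ p hinv H Y hstab U h)).hom t = t) :
    ∃ s : Γ(X, p ⁻¹ᵁ U), IsInvSec ρ p hinv U s ∧
      rX (inf_le_right : Y ⊓ p ⁻¹ᵁ U ≤ p ⁻¹ᵁ U) s = t := by
  let sf : ∀ g : G, Γ(X, Og ρ p Y U g) := fun g => ((ρ g).hom.app (Y ⊓ p ⁻¹ᵁ U)).hom t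
  have hcompat : TopCat.Presheaf.IsCompatible X.sheaf.1 (fun g : G => Og ρ p Y U g) sf := by
    intro g₁ g₂
    by_cases hh : g₂ * g₁⁻¹ ∈ H
    · show rX (inf_le_left : Og ρ p Y U g₁ ⊓ Og ρ p Y U g₂ ≤ Og ρ p Y U g₁) (sf g₁) =
        rX (inf_le_right : Og ρ p Y U g₁ ⊓ Og ρ p Y U g₂ ≤ Og ρ p Y U g₂) (sf g₂)
      have hg₂ : g₂ = ((⟨g₂ * g₁⁻¹, hh⟩ : H) : G) * g₁ := by simp
      have a1 : rX (inf_le_left : Og ρ p Y U g₁ ⊓ Og ρ p Y U g₂ ≤ Og ρ p Y U g₁) (sf g₁) =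
          ((ρ g₁).hom.appLE (Y ⊓ p ⁻¹ᵁ U) (Og ρ p Y U g₁ ⊓ Og ρ p Y U g₂) inf_le_left).hom t := by
        have := Scheme.Hom.appLE_map (ρ g₁).hom (le_refl ((ρ g₁).hom ⁻¹ᵁ (Y ⊓ p ⁻¹ᵁ U)))
          (homOfLE (inf_le_left : Og ρ p Y U g₁ ⊓ Og ρ p Y U g₂ ≤ Og ρ p Y U g₁)).op
        have := congrArg (fun f => f.hom t) this
        simp only [CommRingCat.comp_apply] at this
        simp only [sf]
        rw [Scheme.Hom.app_eq_appLE]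
        exact this
      have a2 : rX (inf_le_right : Og ρ p Y U g₁ ⊓ Og ρ p Y U g₂ ≤ Og ρ p Y U g₂) (sf g₂) =
          ((ρ g₂).hom.appLE (Y ⊓ p ⁻¹ᵁ U) (Og ρ p Y U g₁ ⊓ Og ρ p Y U g₂) inf_le_right).hom t := by
        have := Scheme.Hom.appLE_map (ρ g₂).hom (le_refl ((ρ g₂).hom ⁻¹ᵁ (Y ⊓ p ⁻¹ᵁ U)))
          (homOfLE (inf_le_right : Og ρ p Y U g₁ ⊓ Og ρ p Y U g₂ ≤ Og ρ p Y U g₂)).op
        have := congrArg (fun f => f.hom t) this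
        simp only [CommRingCat.comp_apply] at this
        simp only [sf]
        rw [Scheme.Hom.app_eq_appLE]
        exact this
      rw [a1, a2]
      have hhom : (ρ g₂).hom = (ρ g₁).hom ≫ (ρ ((⟨g₂ * g₁⁻¹, hh⟩ : H) : G)).hom := by
        rw [← hom_mul]; congr 2
      have b1 : (ρ g₂).hom.appLE (Y ⊓ p ⁻¹ᵁ U) (Og ρ p Y U g₁ ⊓ Og ρ p Y U g₂) inf_le_right =
          (ρ ((⟨g₂ * g₁⁻¹, hh⟩ : H) : G)).hom.appLE (Y ⊓ p ⁻¹ᵁ U) (Y ⊓ p ⁻¹ᵁ U)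
            (stab ρ p hinv H Y hstab U ⟨g₂ * g₁⁻¹, hh⟩) ≫
          (ρ g₁).hom.appLE (Y ⊓ p ⁻¹ᵁ U) (Og ρ p Y U g₁ ⊓ Og ρ p Y U g₂) inf_le_left := by
        rw [Scheme.Hom.appLE_comp_appLE]
        exact ST1.appLE_congr_hom' hhom _ _ _ _
      rw [b1, CommRingCat.comp_apply, ht]
    · haveI : Subsingleton Γ(X, Og ρ p Y U g₁ ⊓ Og ρ p Y U g₂) := by
        rw [Og_inf_eq_bot ρ p H Y hdisj U g₁ g₂ hh]; infer_instance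
      show rX (inf_le_left : Og ρ p Y U g₁ ⊓ Og ρ p Y U g₂ ≤ Og ρ p Y U g₁) (sf g₁) =
        rX (inf_le_right : Og ρ p Y U g₁ ⊓ Og ρ p Y U g₂ ≤ Og ρ p Y U g₂) (sf g₂)
      exact Subsingleton.elim _ _
  obtain ⟨s, hs, -⟩ := X.sheaf.existsUnique_gluing' (fun g : G => Og ρ p Y U g) (p ⁻¹ᵁ U)
    (fun g => homOfLE (Og_le ρ p hinv Y U g)) (cover ρ p hinv Y hcov U) sf hcompat
  have hs' : ∀ g, rX (Og_le ρ p hinv Y U g) s = sf g := hs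
  refine ⟨s, ?_, ?_⟩
  · intro γ
    refine X.sheaf.eq_of_locally_eq' (fun g : G => Og ρ p Y U g) (p ⁻¹ᵁ U)
      (fun g => homOfLE (Og_le ρ p hinv Y U g)) (cover ρ p hinv Y hcov U) _ _ (fun g => ?_)
    show rX (Og_le ρ p hinv Y U g) (((ρ γ).hom.appLE (p ⁻¹ᵁ U) (p ⁻¹ᵁ U)
      (SGA1.preimage_le_of_inv ρ p hinv γ U)).hom s) = rX (Og_le ρ p hinv Y U g) s
    rw [hs' g]
    have e' : Og ρ p Y U g ≤ (ρ γ).hom ⁻¹ᵁ (Og ρ p Y U (g * γ⁻¹)) := by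
      apply le_of_eq
      unfold Og
      rw [← Scheme.Hom.comp_preimage, ← hom_mul, inv_mul_cancel_right]
    have c1 := Scheme.Hom.appLE_map (ρ γ).hom (SGA1.preimage_le_of_inv ρ p hinv γ U)
      (homOfLE (Og_le ρ p hinv Y U g)).op
    have c2 := Scheme.Hom.map_appLE (ρ γ).hom e' (homOfLE (Og_le ρ p hinv Y U (g * γ⁻¹))).op
    have c3 := congrArg (fun f => f.hom s) (c1.trans c2.symm)
    simp only [CommRingCat.comp_apply] at c3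
    have c4 : rX (Og_le ρ p hinv Y U g) (((ρ γ).hom.appLE (p ⁻¹ᵁ U) (p ⁻¹ᵁ U)
        (SGA1.preimage_le_of_inv ρ p hinv γ U)).hom s) =
        ((ρ γ).hom.appLE (Og ρ p Y U (g * γ⁻¹)) (Og ρ p Y U g) e').hom
          (rX (Og_le ρ p hinv Y U (g * γ⁻¹)) s) := c3
    rw [c4, hs' (g * γ⁻¹)]
    simp only [sf]
    have e'' : Og ρ p Y U g ≤ (ρ (g * γ⁻¹ * γ)).hom ⁻¹ᵁ (Y ⊓ p ⁻¹ᵁ U) := by
      rw [inv_mul_cancel_right]; exact le_refl _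
    refine (app_appLE ρ (g * γ⁻¹) γ (Y ⊓ p ⁻¹ᵁ U) (Og ρ p Y U g) e' e'' t).trans ?_
    rw [Scheme.Hom.app_eq_appLE]
    have hgg : (ρ (g * γ⁻¹ * γ)).hom = (ρ g).hom := by rw [inv_mul_cancel_right]
    exact congrArg (fun f => f.hom t) (ST1.appLE_congr_hom' hgg (Y ⊓ p ⁻¹ᵁ U) (Og ρ p Y U g) e''
      (le_refl ((ρ g).hom ⁻¹ᵁ (Y ⊓ p ⁻¹ᵁ U))))
  · have hle : Y ⊓ p ⁻¹ᵁ U ≤ Og ρ p Y U ((1 : H) : G) := stab ρ p hinv H Y hstab U 1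
    have d1 : rX (inf_le_right : Y ⊓ p ⁻¹ᵁ U ≤ p ⁻¹ᵁ U) s =
        rX hle (rX (Og_le ρ p hinv Y U ((1 : H) : G)) s) := (rX_rX _ _ _).symm
    rw [d1, hs']
    simp only [sf]
    have := Scheme.Hom.appLE_map (ρ ((1 : H) : G)).hom
      (le_refl ((ρ ((1 : H) : G)).hom ⁻¹ᵁ (Y ⊓ p ⁻¹ᵁ U))) (homOfLE hle).op
    have := congrArg (fun f => f.hom t) this
    simp only [CommRingCat.comp_apply] at this
    rw [Scheme.Hom.app_eq_appLE]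
    exact this.trans (ht 1)

end Xside

section Yside

variable {X XG : Scheme.{u}} {G : Type u} [Group G] (ρ : G →* Aut X) (p : X ⟶ XG)
  (H : Subgroup G) (Y : X.Opens)

theorem isQuot_restrict (hP : SGA1.IsQuot ρ p)
    (hcov : ∀ x : X, ∃ g : G, x ∈ (ρ g).hom.base '' (Y : Set X))
    (hdisj : ∀ g : G, g ∉ H → Disjoint ((ρ g).hom.base '' (Y : Set X)) (Y : Set X))
    (ρY : H →* Aut (Y : Scheme.{u})) (hρY : ∀ h : H, (ρY h).hom ≫ Y.ι = Y.ι ≫ (ρ (h : G)).hom) :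
    SGA1.IsQuot ρY (Y.ι ≫ p) := by
  have hinv := hP.inv
  haveI : IsAffineHom p := hP.affine
  have hstab : ∀ h : H, Y ≤ (ρ (h : G)).hom ⁻¹ᵁ Y := by
    intro h y hy
    show (ρ (h : G)).hom y ∈ Y
    have e : (ρ (h : G)).hom (Y.ι ⟨y, hy⟩) = Y.ι ((ρY h).hom ⟨y, hy⟩) := by
      rw [← Scheme.Hom.comp_apply, ← Scheme.Hom.comp_apply, hρY h]
    have e0 : Y.ι ⟨y, hy⟩ = y := rfl
    rw [e0] at e
    rw [e]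
    exact ((ρY h).hom ⟨y, hy⟩).2
  have hinv' : ∀ h : H, (ρY h).hom ≫ Y.ι ≫ p = Y.ι ≫ p := by
    intro h; rw [reassoc_of% (hρY h), hinv]
  have hYclosed : IsClosed (Y : Set X) := by
    rw [← isOpen_compl_iff]
    have hc : (Y : Set X)ᶜ = ⋃ g : {g : G // g ∉ H}, (ρ g.1).hom.base '' (Y : Set X) := by
      ext x
      simp only [Set.mem_compl_iff, Set.mem_iUnion]
      constructor
      · intro hx
        obtain ⟨g, hg⟩ := hcov x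
        by_cases hgH : g ∈ H
        · exfalso
          obtain ⟨y, hy, rfl⟩ := hg
          exact hx (hstab ⟨g, hgH⟩ hy)
        · exact ⟨⟨g, hgH⟩, hg⟩
      · rintro ⟨⟨g, hgH⟩, hg⟩ hxY
        exact Set.disjoint_left.mp (hdisj g hgH) hg hxY
    rw [hc]
    exact isOpen_iUnion fun g => (ρ g.1).hom.isOpenEmbedding.isOpenMap _ Y.2
  haveI : IsClosedImmersion Y.ι :=
    IsClosedImmersion.of_isPreimmersion Y.ι (by rw [Scheme.Opens.range_ι]; exact hYclosed)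
  haveI : IsAffineHom (Y.ι ≫ p) := inferInstance
  have hOW : ∀ U : XG.Opens, (Y.ι ≫ p) ⁻¹ᵁ U ≤ Y.ι ⁻¹ᵁ (Y ⊓ p ⁻¹ᵁ U) := by
    intro U y hy
    exact ⟨y.2, hy⟩
  have himg : ∀ U : XG.Opens, Y.ι ''ᵁ ((Y.ι ≫ p) ⁻¹ᵁ U) = Y ⊓ p ⁻¹ᵁ U := by
    intro U
    rw [Scheme.Hom.comp_preimage, Scheme.Hom.image_preimage_eq_opensRange_inf,
      Scheme.Opens.opensRange_ι]
  have hbij : ∀ U, Function.Bijective
      (Y.ι.appLE (Y ⊓ p ⁻¹ᵁ U) ((Y.ι ≫ p) ⁻¹ᵁ U) (hOW U)).hom :=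
    fun U => appLE_bijective_of_image_eq Y.ι _ _ (himg U) (hOW U)
  have happ : ∀ (U : XG.Opens) (a : Γ(XG, U)), ((Y.ι ≫ p).app U).hom a =
      (Y.ι.appLE (Y ⊓ p ⁻¹ᵁ U) ((Y.ι ≫ p) ⁻¹ᵁ U) (hOW U)).hom
        (rX (inf_le_right : Y ⊓ p ⁻¹ᵁ U ≤ p ⁻¹ᵁ U) ((p.app U).hom a)) := by
    intro U a
    have e1 : (Y.ι ≫ p).app U = p.appLE U (Y ⊓ p ⁻¹ᵁ U) inf_le_right ≫
        Y.ι.appLE (Y ⊓ p ⁻¹ᵁ U) ((Y.ι ≫ p) ⁻¹ᵁ U) (hOW U) := by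
      rw [Scheme.Hom.appLE_comp_appLE, Scheme.Hom.app_eq_appLE]
    have e2 : p.appLE U (Y ⊓ p ⁻¹ᵁ U) inf_le_right = p.app U ≫
        X.presheaf.map (homOfLE (inf_le_right : Y ⊓ p ⁻¹ᵁ U ≤ p ⁻¹ᵁ U)).op := rfl
    rw [e1, e2]
    rfl
  have hact : ∀ (U : XG.Opens) (h : H) (t : Γ(X, Y ⊓ p ⁻¹ᵁ U)),
      ((ρY h).hom.appLE ((Y.ι ≫ p) ⁻¹ᵁ U) ((Y.ι ≫ p) ⁻¹ᵁ U)
        (SGA1.preimage_le_of_inv ρY (Y.ι ≫ p) hinv' h U)).hom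
        ((Y.ι.appLE (Y ⊓ p ⁻¹ᵁ U) ((Y.ι ≫ p) ⁻¹ᵁ U) (hOW U)).hom t) =
      (Y.ι.appLE (Y ⊓ p ⁻¹ᵁ U) ((Y.ι ≫ p) ⁻¹ᵁ U) (hOW U)).hom
        (((ρ (h : G)).hom.appLE (Y ⊓ p ⁻¹ᵁ U) (Y ⊓ p ⁻¹ᵁ U)
          (stab ρ p hinv H Y hstab U h)).hom t) := by
    intro U h t
    rw [← CommRingCat.comp_apply, ← CommRingCat.comp_apply, Scheme.Hom.appLE_comp_appLE,
      Scheme.Hom.appLE_comp_appLE]
    exact congrArg (fun f : Γ(X, Y ⊓ p ⁻¹ᵁ U) ⟶ Γ(Y, (Y.ι ≫ p) ⁻¹ᵁ U) => f.hom t)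
      (ST1.appLE_congr_hom' (hρY h) _ _ _ _)
  refine ⟨inferInstance, hinv', fun U => ?_, fun U s => ⟨?_, ?_⟩⟩
  · intro a b hab
    rw [happ, happ] at hab
    have h1 := (hbij U).1 hab
    have h2 := eq_of_res_eq ρ p hinv Y hcov U _ _ (app_inv ρ p hinv U a) (app_inv ρ p hinv U b) h1
    exact hP.injective U h2
  · rintro ⟨a, rfl⟩
    exact app_inv ρY (Y.ι ≫ p) hinv' U a
  · intro hs
    obtain ⟨t, rfl⟩ := (hbij U).2 s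
    have ht : ∀ h : H, ((ρ (h : G)).hom.appLE (Y ⊓ p ⁻¹ᵁ U) (Y ⊓ p ⁻¹ᵁ U)
        (stab ρ p hinv H Y hstab U h)).hom t = t := by
      intro h
      apply (hbij U).1
      rw [← hact U h t]
      exact hs h
    obtain ⟨s', hs'inv, hs't⟩ := exists_inv_extension ρ p hinv H Y hcov hdisj hstab U t ht
    obtain ⟨a, ha⟩ := (hP.range_iff U s').mpr hs'inv
    refine ⟨a, ?_⟩
    rw [happ, ha, hs't]

end Yside

end Groth.Agent.Lib.Helper11.IR1
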