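import Mathlib
import Groth.Prelude.Def_MoreMor
import Groth.Agent.Lib.Helper11.QALib

universe u

open CategoryTheory Limits TopologicalSpace AlgebraicGeometry

namespace Groth.Agent.Lib.Helper11.IndQALib

open Groth.Agent.Lib.Helper11.QALib

/-- basic opens of sections over a compact open are compact -/
theorem isCompact_basicOpen' {X : Scheme.{u}} (U : X.Opens) (hc : IsCompact (U : Set X)) (s : Γ(X, U)) :
    IsCompact (X.basicOpen s : Set X) := by
  haveI : CompactSpace (U : Scheme.{u}) := isCompact_iff_compactSpace.mp hc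
  have h1 : IsCompact ((U.toScheme.basicOpen (U.topIso.inv s) : Set U)) := by
    have := isRetrocompact_basicOpen (X := U.toScheme) (U.topIso.inv s)
    simpa using this isCompact_univ isOpen_univ
  have h2 := h1.image U.ι.continuous
  have himg := Scheme.Opens.ι_image_basicOpen_topIso_inv (U := U) s
  rw [← himg]; exact h2

/-- compact sets inside an open are contained in a compact open inside that open -/
theorem exists_compact_open (Y : Scheme.{u}) (K : Set Y) (hK : IsCompact K) (O : Y.Opens)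
    (hKO : K ⊆ O) : ∃ V : Y.Opens, IsCompact (V : Set Y) ∧ K ⊆ V ∧ V ≤ O := by
  refine hK.induction_on (p := fun s => ∃ V : Y.Opens, IsCompact (V : Set Y) ∧ s ⊆ V ∧ V ≤ O)
    ?_ ?_ ?_ ?_
  · exact ⟨⊥, by simp, Set.empty_subset _, bot_le⟩
  · rintro s t hst ⟨V, h1, h2, h3⟩; exact ⟨V, h1, hst.trans h2, h3⟩
  · rintro s t ⟨V, h1, h2, h3⟩ ⟨V', h1', h2', h3'⟩
    refine ⟨V ⊔ V', by simpa using h1.union h1', ?_, sup_le h3 h3'⟩
    rintro y (hy | hy)
    · exact Or.inl (h2 hy)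
    · exact Or.inr (h2' hy)
  · intro x hx
    obtain ⟨W, hW, hxW, hWO⟩ := Opens.isBasis_iff_nbhd.mp Y.isBasis_affineOpens
      (U := O) (x := x) (hKO hx)
    exact ⟨W, mem_nhdsWithin_of_mem_nhds (W.2.mem_nhds hxW), W, IsAffineOpen.isCompact hW,
      subset_rfl, hWO⟩

/-- a compact open contained in the range of an open immersion from a quasi-affine scheme -/
theorem qa_of_subset_range {P X' : Scheme.{u}} (j : P ⟶ X') [IsOpenImmersion j] [P.IsQuasiAffine]
    (U : X'.Opens) (hc : IsCompact (U : Set X')) (hle : (U : Set X') ⊆ Set.range j) :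
    (U : Scheme.{u}).IsQuasiAffine := by
  have e1 : j ''ᵁ (j ⁻¹ᵁ U) = U := by
    rw [Scheme.Hom.image_preimage_eq_opensRange_inf]
    exact inf_eq_right.mpr (fun y hy => hle hy)
  let e : (j ⁻¹ᵁ U : Scheme.{u}) ≅ U := j.isoImage _ ≪≫ X'.isoOfEq e1
  haveI : CompactSpace (U : Scheme.{u}) := isCompact_iff_compactSpace.mp hc
  haveI : CompactSpace (j ⁻¹ᵁ U : Scheme.{u}) := (Scheme.homeoOfIso e).symm.compactSpace
  haveI : (j ⁻¹ᵁ U : Scheme.{u}).IsQuasiAffine :=
    Scheme.IsQuasiAffine.of_isImmersion (j ⁻¹ᵁ U).ι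
  exact qa_of_iso e.symm

theorem indqa_iff {X : Scheme.{u}} (A : X.Opens) :
    MoreMor.IsIndQuasiAffine (A : Scheme.{u}) ↔
      ∀ U : X.Opens, U ≤ A → IsCompact (U : Set X) → (U : Scheme.{u}).IsQuasiAffine := by
  constructor
  · intro h U hUA hc
    have hc' : IsCompact ((A.ι ⁻¹ᵁ U : A.toScheme.Opens) : Set A) :=
      A.ι.isOpenEmbedding.isInducing.isCompact_preimage' hc
        (by rw [Scheme.Opens.range_ι]; exact hUA)
    haveI := h _ hc'
    have e1 : A.ι ''ᵁ (A.ι ⁻¹ᵁ U) = U := by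
      rw [Scheme.Hom.image_preimage_eq_opensRange_inf, Scheme.Opens.opensRange_ι]
      exact inf_eq_right.mpr hUA
    exact qa_of_iso (A.ι.isoImage _ ≪≫ X.isoOfEq e1).symm
  · intro h U' hc'
    haveI := h (A.ι ''ᵁ U') (A.ι_image_le U') (hc'.image A.ι.continuous)
    exact qa_of_iso (A.ι.isoImage U')

theorem indqaHom_iff {X Y : Scheme.{u}} (f : X ⟶ Y) :
    MoreMor.IsIndQuasiAffineHom f ↔
      ∀ V : Y.Opens, IsAffineOpen V → ∀ U : X.Opens, U ≤ f ⁻¹ᵁ V → IsCompact (U : Set X) →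
        (U : Scheme.{u}).IsQuasiAffine :=
  forall₂_congr fun _ _ => indqa_iff _

/-- key lemma: a compact open mapping into a quasi-affine open is quasi-affine -/
theorem indqa_key {X Y : Scheme.{u}} (f : X ⟶ Y) (hf : MoreMor.IsIndQuasiAffineHom f)
    (V : Y.Opens) [(V : Scheme.{u}).IsQuasiAffine] (U : X.Opens) (hc : IsCompact (U : Set X))
    (hUV : U ≤ f ⁻¹ᵁ V) : (U : Scheme.{u}).IsQuasiAffine := by
  rw [indqaHom_iff] at hf
  refine qa_local' U hc fun x hx ↦ ?_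
  obtain ⟨r, hr, hxr, -⟩ := qa_basis' V (x := f x) (hUV hx) ⊤ trivial
  refine ⟨X.presheaf.map (homOfLE hUV).op (f.app V r), ?_, ?_⟩
  · rw [Scheme.basicOpen_res, ← Scheme.preimage_basicOpen]; exact ⟨hx, hxr⟩
  · refine hf _ hr _ ?_ (isCompact_basicOpen' U hc _)
    rw [Scheme.basicOpen_res, ← Scheme.preimage_basicOpen]; exact inf_le_right

/-- S1397 -/
theorem indqa_comp {X Y Z : Scheme.{u}} (f : X ⟶ Y) (g : Y ⟶ Z) (hf : MoreMor.IsIndQuasiAffineHom f)
    (hg : MoreMor.IsIndQuasiAffineHom g) : MoreMor.IsIndQuasiAffineHom (f ≫ g) := by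
  rw [indqaHom_iff]
  intro W hW U hUW hc
  have hK : IsCompact (f '' (U : Set X)) := hc.image f.continuous
  have hKO : f '' (U : Set X) ⊆ (g ⁻¹ᵁ W : Y.Opens) := by
    rintro _ ⟨x, hx, rfl⟩
    have := hUW hx
    rw [Scheme.Hom.comp_preimage] at this
    exact this
  obtain ⟨V, hV1, hV2, hV3⟩ := exists_compact_open Y _ hK _ hKO
  haveI := (indqaHom_iff g).mp hg W hW V hV3 hV1
  exact indqa_key f hf V U hc (fun x hx => hV2 ⟨x, hx, rfl⟩)

/-- S1399 -/
theorem indqa_of_comp {X Y Z : Scheme.{u}} (f : X ⟶ Y) (g : Y ⟶ Z)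
    (h : MoreMor.IsIndQuasiAffineHom (f ≫ g)) : MoreMor.IsIndQuasiAffineHom f := by
  rw [indqaHom_iff] at h ⊢
  intro V hV U hUV hc
  refine qa_local' U hc fun x hx ↦ ?_
  obtain ⟨W, hW, hzW⟩ := exists_affine_nbhd Z (g (f x))
  obtain ⟨b, hb1, hb2⟩ := hV.exists_basicOpen_le (V := V ⊓ g ⁻¹ᵁ W) ⟨f x, ⟨hUV hx, hzW⟩⟩ (hUV hx)
  refine ⟨X.presheaf.map (homOfLE hUV).op (f.app V b), ?_, ?_⟩
  · rw [Scheme.basicOpen_res, ← Scheme.preimage_basicOpen]; exact ⟨hx, hb2⟩
  · refine h W hW _ ?_ (isCompact_basicOpen' U hc _)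
    rw [Scheme.basicOpen_res, ← Scheme.preimage_basicOpen, Scheme.Hom.comp_preimage]
    intro y hy
    exact (hb1 hy.2).2

/-- S1400 -/
theorem indqa_baseChange {X S X' S' : Scheme.{u}} (f : X ⟶ S) (f' : X' ⟶ S') (g' : X' ⟶ X)
    (g : S' ⟶ S) (hc : IsPullback g' f' f g) (hf : MoreMor.IsIndQuasiAffineHom f) :
    MoreMor.IsIndQuasiAffineHom f' := by
  rw [indqaHom_iff]
  intro V' hV' U' hUV' hcU'
  refine qa_local' U' hcU' fun x' hx' ↦ ?_
  obtain ⟨V, hV, hyV⟩ := exists_affine_nbhd S (g (f' x'))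
  obtain ⟨b, hb1, hb2⟩ := hV'.exists_basicOpen_le (V := V' ⊓ g ⁻¹ᵁ V)
    ⟨f' x', ⟨hUV' hx', hyV⟩⟩ (hUV' hx')
  refine ⟨X'.presheaf.map (homOfLE hUV').op (f'.app V' b), ?_, ?_⟩
  · rw [Scheme.basicOpen_res, ← Scheme.preimage_basicOpen]; exact ⟨hx', hb2⟩
  · have hcU'' := isCompact_basicOpen' U' hcU' (X'.presheaf.map (homOfLE hUV').op (f'.app V' b))
    have hU''le : X'.basicOpen (X'.presheaf.map (homOfLE hUV').op (f'.app V' b)) ≤
        f' ⁻¹ᵁ (S'.basicOpen b) := by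
      rw [Scheme.basicOpen_res, ← Scheme.preimage_basicOpen]; exact inf_le_right
    generalize X'.basicOpen (X'.presheaf.map (homOfLE hUV').op (f'.app V' b)) = U'' at hcU'' hU''le ⊢
    have hD : IsAffineOpen (S'.basicOpen b) := hV'.basicOpen b
    have hDV : S'.basicOpen b ≤ g ⁻¹ᵁ V := fun y hy ↦ (hb1 hy).2
    -- a compact open `U` of `X` containing the image of `U''`
    have hK : IsCompact (g' '' (U'' : Set X')) := hcU''.image g'.continuous
    have hKO : g' '' (U'' : Set X') ⊆ (f ⁻¹ᵁ V : X.Opens) := by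
      rintro _ ⟨y, hy, rfl⟩
      show f (g' y) ∈ V
      rw [← Scheme.Hom.comp_apply, hc.w, Scheme.Hom.comp_apply]
      exact hDV (hU''le hy)
    obtain ⟨U, hU1, hU2, hU3⟩ := exists_compact_open X _ hK _ hKO
    haveI : (U : Scheme.{u}).IsQuasiAffine := (indqaHom_iff f).mp hf V hV U hU3 hU1
    haveI : IsAffine (S'.basicOpen b : Scheme.{u}) := hD
    haveI : IsAffine (V : Scheme.{u}) := hV
    have e₁ : f.resLE V U hU3 ≫ V.ι = U.ι ≫ f := Scheme.Hom.resLE_comp_ι f hU3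
    have e₂ : g.resLE V (S'.basicOpen b) hDV ≫ V.ι = (S'.basicOpen b).ι ≫ g :=
      Scheme.Hom.resLE_comp_ι g hDV
    haveI : IsAffineHom (pullback.fst (f.resLE V U hU3) (g.resLE V (S'.basicOpen b) hDV)) :=
      MorphismProperty.pullback_fst (P := @IsAffineHom) _ _ inferInstance
    haveI : (pullback (f.resLE V U hU3) (g.resLE V (S'.basicOpen b) hDV)).IsQuasiAffine :=
      Scheme.IsQuasiAffine.of_isAffineHom
        (pullback.fst (f.resLE V U hU3) (g.resLE V (S'.basicOpen b) hDV))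
    refine qa_of_subset_range
      (pullback.map (f.resLE V U hU3) (g.resLE V (S'.basicOpen b) hDV) f g U.ι (S'.basicOpen b).ι V.ι
        e₁ e₂ ≫ hc.isoPullback.inv) U'' hcU'' ?_
    intro y hy
    have h1 : hc.isoPullback.hom y ∈ Set.range (pullback.map (f.resLE V U hU3)
        (g.resLE V (S'.basicOpen b) hDV) f g U.ι (S'.basicOpen b).ι V.ι e₁ e₂) := by
      rw [Scheme.Pullback.range_map]
      refine ⟨?_, ?_⟩
      · show pullback.fst f g (hc.isoPullback.hom y) ∈ Set.range U.ι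
        rw [← Scheme.Hom.comp_apply, hc.isoPullback_hom_fst, Scheme.Opens.range_ι]
        exact hU2 ⟨y, hy, rfl⟩
      · show pullback.snd f g (hc.isoPullback.hom y) ∈ Set.range (S'.basicOpen b).ι
        rw [← Scheme.Hom.comp_apply, hc.isoPullback_hom_snd, Scheme.Opens.range_ι]
        exact hU''le hy
    obtain ⟨q, hq⟩ := h1
    refine ⟨q, ?_⟩
    rw [Scheme.Hom.comp_apply, hq, ← Scheme.Hom.comp_apply, Iso.hom_inv_id]
    rfl

/-- S1396 -/
theorem indqa_iff_resLE {X Y : Scheme.{u}} (f : X ⟶ Y) :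
    MoreMor.IsIndQuasiAffineHom f ↔ ∀ (V : Y.Opens), IsCompact (V : Set ↑Y) →
      IsQuasiSeparated (V : Set ↑Y) → ∀ (U : X.Opens) (hUV : U ≤ f ⁻¹ᵁ V),
        IsCompact (U : Set ↑X) → MoreMor.IsQuasiAffineHom (f.resLE V U hUV) := by
  constructor
  · intro hf V hVc hVqs U hUV hUc
    haveI : CompactSpace (U : Scheme.{u}) := isCompact_iff_compactSpace.mp hUc
    haveI : QuasiSeparatedSpace (V : Scheme.{u}) :=
      (isQuasiSeparated_iff_quasiSeparatedSpace _ V.2).mp hVqs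
    haveI : QuasiCompact (f.resLE V U hUV) := inferInstance
    refine ⟨inferInstance, fun A hA ↦ ?_⟩
    have hcA : IsCompact (((f.resLE V U hUV) ⁻¹ᵁ A : (U : Scheme.{u}).Opens) : Set U) :=
      (f.resLE V U hUV).isCompact_preimage hA.isCompact
    have hA' : IsAffineOpen (V.ι ''ᵁ A) := hA.image_of_isOpenImmersion V.ι
    have hle : U.ι ''ᵁ ((f.resLE V U hUV) ⁻¹ᵁ A) ≤ f ⁻¹ᵁ (V.ι ''ᵁ A) := by
      rintro _ ⟨y, hy, rfl⟩
      show f (U.ι y) ∈ V.ι ''ᵁ A
      rw [← Scheme.Hom.comp_apply, ← Scheme.Hom.resLE_comp_ι f hUV, Scheme.Hom.comp_apply]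
      exact ⟨_, hy, rfl⟩
    haveI := (indqaHom_iff f).mp hf _ hA' _ hle (hcA.image U.ι.continuous)
    exact qa_of_iso (U.ι.isoImage _)
  · intro h
    rw [indqaHom_iff]
    intro V hV U hUV hUc
    haveI : IsAffine (V : Scheme.{u}) := hV
    haveI := (h V hV.isCompact hV.isQuasiSeparated U hUV hUc).2 ⊤ (isAffineOpen_top _)
    have e : (U : Scheme.{u}) ≅
        ((f.resLE V U hUV) ⁻¹ᵁ (⊤ : (V : Scheme.{u}).Opens) : Scheme.{u}) :=
      (U : Scheme.{u}).topIso.symm ≪≫ (U : Scheme.{u}).isoOfEq rfl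
    exact qa_of_iso e

end Groth.Agent.Lib.Helper11.IndQALib
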