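import Mathlib
import Groth.Agent.Lib.Helper11.IM1

/-!
# Jac1: a quasi-compact morphism locally of finite presentation to a Jacobson scheme whose image
contains all closed points is surjective (helper11).
-/

set_option autoImplicit false
universe u
open CategoryTheory Limits AlgebraicGeometry Topology

namespace Groth.Agent.Lib.Helper11.Jac1

open Groth.Agent.Lib.Helper11

theorem surjective_of_closedPoints {P Y : Scheme.{u}} (Ψ : P ⟶ Y) [QuasiCompact Ψ]
    [LocallyOfFinitePresentation Ψ] [JacobsonSpace Y]
    (h : closedPoints Y ⊆ Set.range Ψ) : Surjective Ψ := by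
  refine ⟨fun z => ?_⟩
  let I : Y.IdealSheafData :=
    Scheme.IdealSheafData.vanishingIdeal ⟨closure {z}, isClosed_closure⟩
  let j : I.subscheme ⟶ Y := I.subschemeι
  have hrange : Set.range j = closure {z} := by
    rw [Scheme.IdealSheafData.range_subschemeι, Scheme.IdealSheafData.coe_support_vanishingIdeal]
    rfl
  haveI : JacobsonSpace I.subscheme := JacobsonSpace.of_isClosedEmbedding j.isClosedEmbedding
  let Ψ' := pullback.snd Ψ j
  have hC' : IsLocallyConstructible (Set.range Ψ') := by
    rw [← Set.image_univ]
    exact Ψ'.isLocallyConstructible_image IsLocallyConstructible.univ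
  have hcp : closedPoints I.subscheme ⊆ Set.range Ψ' := by
    intro c hc
    have hjc : IsClosed ({j c} : Set Y) := by
      have := j.isClosedEmbedding.isClosedMap _ hc
      rwa [Set.image_singleton] at this
    obtain ⟨p, hp⟩ := h hjc
    obtain ⟨w, -, hw⟩ := Scheme.Pullback.exists_preimage_pullback (f := Ψ) (g := j) p c hp
    exact ⟨w, hw⟩
  obtain ⟨z', hz'⟩ : z ∈ Set.range j := by
    rw [hrange]; exact subset_closure rfl
  have hcl : z' ∈ closure (Set.range Ψ') := by
    have : closure (closedPoints I.subscheme) ⊆ closure (Set.range Ψ') := closure_mono hcp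
    rw [closure_closedPoints] at this
    exact this trivial
  obtain ⟨e', he', hes⟩ := IM1.exists_specializes_of_isLocallyConstructible hC' z' hcl
  have hse : z' ⤳ e' := by
    rw [← j.isClosedEmbedding.isInducing.specializes_iff, hz', specializes_iff_mem_closure,
      ← hrange]
    exact Set.mem_range_self e'
  have heq : e' = z' := (hes.antisymm hse).eq
  obtain ⟨q, hq⟩ := he'
  refine ⟨pullback.fst Ψ j q, ?_⟩
  rw [← Scheme.Hom.comp_apply, pullback.condition, Scheme.Hom.comp_apply]
  show j (Ψ' q) = z
  rw [hq, heq, hz']

end Groth.Agent.Lib.Helper11.Jac1
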