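import Mathlib

/-!
# The largest open on which a source-local property holds

For a property `P` of morphisms of schemes which is local at the source for the precoverage of
jointly surjective families of `Q`-morphisms (`Q` = étale, or flat and locally finitely presented),
every `f : X ⟶ Y` has a largest open `W(f)` with `P (W.ι ≫ f)`, and `W(g ≫ f) = g⁻¹ W(f)` for `Q g`.
-/

universe u

open CategoryTheory AlgebraicGeometry

namespace Groth.Agent.Lib.Helper11.LargestOpen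

variable (Q : MorphismProperty Scheme.{u})

/-- Precomposition with a `Q`-morphism. -/
lemma precomp (hQid : ∀ (X : Scheme.{u}), Q (𝟙 X)) (P : MorphismProperty Scheme.{u})
    [P.IsLocalAtSource (Scheme.precoverage Q)] {Z X Y : Scheme.{u}} (j : Z ⟶ X) (hj : Q j)
    (f : X ⟶ Y) (hf : P f) : P (j ≫ f) := by
  let X' : Bool → Scheme.{u} := fun b => bif b then Z else X
  let f' : ∀ b, X' b ⟶ X := fun b => Bool.rec (motive := fun b => X' b ⟶ X) (𝟙 X) j b
  have hR : Presieve.ofArrows X' f' ∈ Scheme.precoverage Q X := by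
    rw [Scheme.ofArrows_mem_precoverage_iff]
    refine ⟨fun x => ⟨false, x, rfl⟩, fun b => ?_⟩
    cases b
    · exact hQid X
    · exact hj
  exact MorphismProperty.IsLocalAtSource.comp hR j (Presieve.ofArrows.mk true) hf

theorem exists_largest_open (hQid : ∀ (X : Scheme.{u}), Q (𝟙 X))
    (hQimm : ∀ {X Y : Scheme.{u}} (g : X ⟶ Y), IsOpenImmersion g → Q g)
    (hQopen : ∀ {X Y : Scheme.{u}} (g : X ⟶ Y), Q g → IsOpenMap g)
    (hQres : ∀ {X Y : Scheme.{u}} (g : X ⟶ Y) (U : Y.Opens) (V : X.Opens) (e : V ≤ g ⁻¹ᵁ U),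
      Q g → Q (g.resLE U V e))
    (P : MorphismProperty Scheme.{u}) [P.IsLocalAtSource (Scheme.precoverage Q)]
    {X Y : Scheme.{u}} (f : X ⟶ Y) :
    ∃ W : X.Opens, (P (W.ι ≫ f) ∧ ∀ W' : X.Opens, P (W'.ι ≫ f) → W' ≤ W) ∧
      ∀ (X' : Scheme.{u}) (g : X' ⟶ X), Q g → ∀ (V : X'.Opens),
        (P (V.ι ≫ g ≫ f) ∧ ∀ V' : X'.Opens, P (V'.ι ≫ g ≫ f) → V' ≤ V) → V = g ⁻¹ᵁ W := by
  classical
  have key : ∀ {X Y : Scheme.{u}} (f : X ⟶ Y),
      P ((sSup {W' : X.Opens | P (W'.ι ≫ f)}).ι ≫ f) := by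
    intro X Y f
    have hR : Presieve.ofArrows
        (fun W' : {W' : X.Opens | P (W'.ι ≫ f)} => ((W'.1 : X.Opens) : Scheme.{u}))
        (fun W' => X.homOfLE (le_sSup W'.2)) ∈
        Scheme.precoverage Q ((sSup {W' : X.Opens | P (W'.ι ≫ f)} : X.Opens) : Scheme.{u}) := by
      rw [Scheme.ofArrows_mem_precoverage_iff]
      refine ⟨fun x => ?_, fun W' => hQimm _ inferInstance⟩
      obtain ⟨W', hW', hxW'⟩ := TopologicalSpace.Opens.mem_sSup.mp x.2
      exact ⟨⟨W', hW'⟩, ⟨x.1, hxW'⟩, Scheme.homOfLE_apply' _ _ _⟩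
    refine MorphismProperty.IsLocalAtSource.of_forall_comp hR ?_
    rintro U g' ⟨W'⟩
    rw [← Category.assoc, X.homOfLE_ι]
    exact W'.2
  refine ⟨sSup {W' : X.Opens | P (W'.ι ≫ f)}, ⟨key f, fun W' h => le_sSup h⟩, ?_⟩
  intro X' g hg V ⟨hV1, hV2⟩
  apply le_antisymm
  · let gV : X.Opens := ⟨g '' (V : Set X'), hQopen g hg _ V.2⟩
    have e : V ≤ g ⁻¹ᵁ gV := fun x hx => ⟨x, hx, rfl⟩
    have hPgV : P (gV.ι ≫ f) := by
      have hR : Presieve.singleton (g.resLE gV V e) ∈ Scheme.precoverage Q (gV : Scheme.{u}) := by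
        rw [Scheme.singleton_mem_precoverage_iff]
        refine ⟨?_, hQres g gV V e hg⟩
        rintro ⟨y, x, hx, rfl⟩
        exact ⟨⟨x, hx⟩, Subtype.ext (Scheme.Hom.coe_resLE_apply g e ⟨x, hx⟩)⟩
      refine MorphismProperty.IsLocalAtSource.of_forall_comp hR ?_
      rintro U g' ⟨⟩
      rw [← Category.assoc, Scheme.Hom.resLE_comp_ι, Category.assoc]
      exact hV1
    have hle : gV ≤ sSup {W' : X.Opens | P (W'.ι ≫ f)} := le_sSup hPgV
    exact fun x hx => hle ⟨x, hx, rfl⟩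
  · apply hV2
    have := precomp Q hQid P (g.resLE (sSup {W' : X.Opens | P (W'.ι ≫ f)})
      (g ⁻¹ᵁ (sSup {W' : X.Opens | P (W'.ι ≫ f)})) le_rfl) (hQres g _ _ _ hg) _ (key f)
    rwa [← Category.assoc, Scheme.Hom.resLE_comp_ι, Category.assoc] at this

end Groth.Agent.Lib.Helper11.LargestOpen
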