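import Groth.Agent.Lib.Helper3.IdealMod
import Groth.Prelude.Def_UnitsSh
import Groth.Prelude.Def_ClSub2
import Groth.Prelude.Def_Coh
import Mathlib.Algebra.Homology.ShortComplex.ShortExact

/-!
# The units exact sequence of a square-zero thickening (on the Zariski site)
-/

set_option autoImplicit false
universe u
open CategoryTheory CategoryTheory.Limits AlgebraicGeometry TopologicalSpace Opposite
open Scheme.Modules

noncomputable section

namespace Groth.Agent.Lib.Helper11.UnitsSq

open Groth.Agent.Lib.Helper3 Groth.Agent.Lib.Helper3.QCSec Groth.Agent.Lib.Helper3.InvGen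

variable {X : Scheme.{u}} (J : X.IdealSheafData)

theorem preimage_mono {A B : X.Opens} (h : A ≤ B) :
    J.subschemeι ⁻¹ᵁ A ≤ J.subschemeι ⁻¹ᵁ B := fun _ hx => h hx

/-- naturality of `ι^♯` with respect to restriction -/
theorem app_rres {A B : X.Opens} (h : A ≤ B) (a : Γ(X, B)) :
    J.subschemeι.app A (rres X h a) =
      rres J.subscheme (preimage_mono J h) (J.subschemeι.app B a) := by
  have := J.subschemeι.naturality (homOfLE h).op
  exact congr($this a)

theorem app_rres_eq_zero {A B : X.Opens} (h : A ≤ B) (a : Γ(X, B))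
    (ha : J.subschemeι.app B a = 0) : J.subschemeι.app A (rres X h a) = 0 := by
  rw [app_rres, ha]
  exact map_zero _

theorem rres_add {A B : X.Opens} (h : A ≤ B) (a b : Γ(X, B)) :
    rres X h (a + b) = rres X h a + rres X h b :=
  map_add (X.presheaf.map (homOfLE h).op).hom a b

theorem rres_sub {A B : X.Opens} (h : A ≤ B) (a b : Γ(X, B)) :
    rres X h (a - b) = rres X h a - rres X h b :=
  map_sub (X.presheaf.map (homOfLE h).op).hom a b

variable (hJ : J * J = ⊥)

include hJ in
theorem mul_eq_zero' {U : X.Opens} (a b : Γ(X, U)) (ha : J.subschemeι.app U a = 0)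
    (hb : J.subschemeι.app U b = 0) : a * b = 0 := by
  let ι := {V : X.affineOpens // V.1 ≤ U}
  apply fun_eq_of_locally_eq (fun i : ι => i.1.1) U (fun i => i.2) ?_ (a * b) 0
  · intro i
    rw [rres_mul]
    have ha' : rres X i.2 a ∈ J.ideal i.1 := by
      rw [← Scheme.IdealSheafData.ker_subschemeι_app J i.1, RingHom.mem_ker]
      exact app_rres_eq_zero J i.2 a ha
    have hb' : rres X i.2 b ∈ J.ideal i.1 := by
      rw [← Scheme.IdealSheafData.ker_subschemeι_app J i.1, RingHom.mem_ker]
      exact app_rres_eq_zero J i.2 b hb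
    have h : rres X i.2 a * rres X i.2 b ∈ (J * J).ideal i.1 := Ideal.mul_mem_mul ha' hb'
    rw [hJ] at h
    have h0 : rres X i.2 a * rres X i.2 b = 0 := h
    rw [h0]
    exact (map_zero _).symm
  · intro x hx
    obtain ⟨V, hV, hxV, hVU⟩ := (Opens.isBasis_iff_nbhd.mp X.isBasis_affineOpens) hx
    exact Opens.mem_iSup.mpr ⟨⟨⟨V, hV⟩, hVU⟩, hxV⟩

/-- `1 + j` as a unit, for `j` in the square-zero ideal -/
def onePlus {U : X.Opens} (j : Γ(X, U)) (hj : J.subschemeι.app U j = 0) : (Γ(X, U))ˣ where
  val := 1 + j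
  inv := 1 - j
  val_inv := by
    have := mul_eq_zero' J hJ j j hj hj
    linear_combination (-1 : Γ(X, U)) * this
  inv_val := by
    have := mul_eq_zero' J hJ j j hj hj
    linear_combination (-1 : Γ(X, U)) * this

@[simp] theorem onePlus_val {U : X.Opens} (j : Γ(X, U)) (hj : J.subschemeι.app U j = 0) :
    (onePlus J hJ j hj).val = 1 + j := rfl

/-- `φ` on sections -/
def phiApp (U : X.Opens) : Γ(ClSub.idealMod J, U) →+ Additive (Γ(X, U))ˣ where
  toFun s := Additive.ofMul (onePlus J hJ (IdealMod.val J s) (IdealMod.app_val J s))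
  map_zero' := by
    apply Additive.toMul.injective
    apply Units.ext
    change 1 + IdealMod.val J (0 : Γ(ClSub.idealMod J, U)) = 1
    have : IdealMod.val J (0 : Γ(ClSub.idealMod J, U)) = 0 := by
      have h := IdealMod.val_add J (0 : Γ(ClSub.idealMod J, U)) 0
      rw [add_zero] at h
      exact left_eq_add.mp h
    rw [this, add_zero]
  map_add' s t := by
    apply Additive.toMul.injective
    apply Units.ext
    change 1 + IdealMod.val J (s + t) = (1 + IdealMod.val J s) * (1 + IdealMod.val J t)
    have := mul_eq_zero' J hJ _ _ (IdealMod.app_val J s) (IdealMod.app_val J t)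
    rw [IdealMod.val_add]
    linear_combination (-1 : Γ(X, U)) * this


theorem phiApp_val (U : X.Opens) (s : Γ(ClSub.idealMod J, U)) :
    (Additive.toMul (phiApp J hJ U s)).val = 1 + IdealMod.val J s := rfl

/-- the map `J ⟶ O_X^×`, `f ↦ 1 + f` -/
def phi : Coh.toAb (ClSub.idealMod J) ⟶ UnitsSh.unitsAb X :=
  ⟨{ app := fun U => (show (Coh.toAb (ClSub.idealMod J)).obj.obj U ⟶ (UnitsSh.unitsAb X).obj.obj U from
        AddCommGrpCat.ofHom (phiApp J hJ U.unop))
     naturality := by
      intro U V i
      ext (s : Γ(ClSub.idealMod J, U.unop))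
      apply Additive.toMul.injective
      apply Units.ext
      change 1 + IdealMod.val J (res _ (leOfHom i.unop) s) =
        rres X (leOfHom i.unop) (1 + IdealMod.val J s)
      rw [IdealMod.val_res, rres_add, rres_one] }⟩

theorem phi_val (U : X.Opens) (s : Γ(ClSub.idealMod J, U)) :
    (UnitsSh.unitOfSect ((phi J hJ).hom.app (op U) s)).val = (1 : Γ(X, U)) + IdealMod.val J s := rfl

theorem phi_comap : phi J hJ ≫ UnitsSh.comap J.subschemeι = 0 := by
  apply Sheaf.hom_ext
  ext U s
  apply Additive.toMul.injective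
  apply Units.ext
  change J.subschemeι.app U.unop (1 + IdealMod.val J s) = 1
  rw [map_add, map_one, IdealMod.app_val, add_zero]

instance mono_phi : Mono (phi J hJ) := by
  haveI : ∀ U, Mono ((phi J hJ).hom.app U) := by
    intro U
    apply (AddCommGrpCat.mono_iff_injective _).mpr
    intro (s : Γ(ClSub.idealMod J, U.unop)) (t : Γ(ClSub.idealMod J, U.unop)) hst
    apply IdealMod.val_injective J U.unop
    have h1 : (1 : Γ(X, U.unop)) + IdealMod.val J s = 1 + IdealMod.val J t :=
      congrArg (fun z => (Additive.toMul z : (Γ(X, U.unop))ˣ).val) hst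
    exact add_left_cancel h1
  haveI : Mono (phi J hJ).hom := NatTrans.mono_of_mono_app _
  exact Sheaf.Hom.mono_of_presheaf_mono _ _ _


section Kernel

variable {G : CohTop.Ab X.toTopCat} (k : G ⟶ UnitsSh.unitsAb X)
  (hk : k ≫ UnitsSh.comap J.subschemeι = 0)

/-- the unit attached by `k` to a section -/
def kunit (U : X.Opens) (s : G.obj.obj (op U)) : (Γ(X, U))ˣ :=
  UnitsSh.unitOfSect (k.hom.app (op U) s)

theorem kunit_add (U : X.Opens) (s t : G.obj.obj (op U)) :
    kunit k U (s + t) = kunit k U s * kunit k U t := by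
  change UnitsSh.unitOfSect (k.hom.app (op U) (s + t)) = _
  rw [map_add]
  rfl

theorem kunit_res {A B : X.Opens} (h : A ≤ B) (s : G.obj.obj (op B)) :
    (kunit k A (G.obj.map (homOfLE h).op s)).val = rres X h (kunit k B s).val := by
  have := k.hom.naturality (homOfLE h).op
  have h2 := congr($this s)
  exact congrArg (fun z => (UnitsSh.unitOfSect z).val) h2

include hk in
theorem app_kunit (U : X.Opens) (s : G.obj.obj (op U)) :
    J.subschemeι.app U ((kunit k U s).val - 1) = 0 := by
  have h1 : (k ≫ UnitsSh.comap J.subschemeι).hom.app (op U) s = 0 := by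
    rw [hk]; rfl
  have h2 : J.subschemeι.app U (kunit k U s).val = 1 :=
    congrArg (fun z => (Additive.toMul z : (Γ(J.subscheme, J.subschemeι ⁻¹ᵁ U))ˣ).val) h1
  rw [map_sub, h2, map_one, sub_self]

/-- the lift on sections -/
def liftFun (U : X.Opens) (s : G.obj.obj (op U)) : Γ(ClSub.idealMod J, U) :=
  (IdealMod.exists_val_eq J _ (app_kunit J k hk U s)).choose

theorem val_liftFun (U : X.Opens) (s : G.obj.obj (op U)) :
    IdealMod.val J (liftFun J k hk U s) = (kunit k U s).val - 1 :=
  (IdealMod.exists_val_eq J _ (app_kunit J k hk U s)).choose_spec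

include hJ in
theorem liftFun_add (U : X.Opens) (s t : G.obj.obj (op U)) :
    liftFun J k hk U (s + t) = liftFun J k hk U s + liftFun J k hk U t := by
  apply IdealMod.val_injective J U
  rw [IdealMod.val_add, val_liftFun, val_liftFun, val_liftFun, kunit_add]
  have := mul_eq_zero' J hJ _ _ (app_kunit J k hk U s) (app_kunit J k hk U t)
  rw [Units.val_mul]
  linear_combination this

/-- the lift as a morphism of sheaves -/
def lift : G ⟶ Coh.toAb (ClSub.idealMod J) :=
  ⟨{ app := fun U => (show G.obj.obj U ⟶ (Coh.toAb (ClSub.idealMod J)).obj.obj U from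
        AddCommGrpCat.ofHom (AddMonoidHom.mk' (liftFun J k hk U.unop) (liftFun_add J hJ k hk U.unop)))
     naturality := by
      intro U V i
      ext s
      apply IdealMod.val_injective J V.unop
      change IdealMod.val J (liftFun J k hk V.unop (G.obj.map i s)) =
        IdealMod.val J (res _ (leOfHom i.unop) (liftFun J k hk U.unop s))
      rw [IdealMod.val_res, val_liftFun, val_liftFun, rres_sub, rres_one]
      congr 1
      exact kunit_res k (leOfHom i.unop) s }⟩

theorem lift_phi : lift J hJ k hk ≫ phi J hJ = k := by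
  apply Sheaf.hom_ext
  ext U s
  apply Additive.toMul.injective
  apply Units.ext
  change (1 : Γ(X, U.unop)) + IdealMod.val J (liftFun J k hk U.unop s) = (kunit k U.unop s).val
  rw [val_liftFun]
  ring

end Kernel

theorem exact : (ShortComplex.mk (phi J hJ) (UnitsSh.comap J.subschemeι) (phi_comap J hJ)).Exact := by
  apply ShortComplex.exact_of_f_is_kernel
  exact KernelFork.IsLimit.ofι' _ _ (fun k hk => ⟨lift J hJ k hk, lift_phi J hJ k hk⟩)


include hJ in
theorem isUnit_of_app_isUnit {V : X.Opens} (hV : IsAffineOpen V) (a : Γ(X, V))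
    (ha : IsUnit (J.subschemeι.app V a)) : IsUnit a := by
  obtain ⟨w, hw⟩ := ha.exists_right_inv
  obtain ⟨b, rfl⟩ := J.subschemeι_app_surjective ⟨V, hV⟩ w
  have hj : J.subschemeι.app V (a * b - 1) = 0 := by
    rw [map_sub, map_mul, hw, map_one, sub_self]
  have := mul_eq_zero' J hJ _ _ hj hj
  refine IsUnit.of_mul_eq_one (b * (2 - a * b)) ?_
  linear_combination (-1 : Γ(X, V)) * this

include hJ in
theorem epi_comap : Epi (UnitsSh.comap J.subschemeι) := by
  haveI : Sheaf.IsLocallySurjective (UnitsSh.comap J.subschemeι) := by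
    constructor
    intro U s x hx
    obtain ⟨V, hV, hxV, hVU⟩ := (Opens.isBasis_iff_nbhd.mp X.isBasis_affineOpens) hx
    refine ⟨V, homOfLE hVU, ?_, hxV⟩
    let u₀ : (Γ(J.subscheme, J.subschemeι ⁻¹ᵁ V))ˣ :=
      Additive.toMul ((((CohTop.push J.subschemeι.base).obj (UnitsSh.unitsAb J.subscheme)).obj.map
        (homOfLE hVU).op) s)
    obtain ⟨a, ha⟩ := J.subschemeι_app_surjective ⟨V, hV⟩ u₀.val
    have hu : IsUnit a := isUnit_of_app_isUnit J hJ hV a (ha ▸ u₀.isUnit)
    refine ⟨(Additive.ofMul hu.unit : Additive (Γ(X, V))ˣ), ?_⟩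
    apply Additive.toMul.injective
    apply Units.ext
    exact ha
  exact Sheaf.epi_of_isLocallySurjective _

theorem shortExact :
    (ShortComplex.mk (phi J hJ) (UnitsSh.comap J.subschemeι) (phi_comap J hJ)).ShortExact where
  exact := exact J hJ
  mono_f := mono_phi J hJ
  epi_g := epi_comap J hJ

end Groth.Agent.Lib.Helper11.UnitsSq
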