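import Mathlib
import Groth.Prelude
import Groth.Agent.Lib.Helper11.LiftInvB

/-!
# Lifting invertible modules over square-zero thickenings, part C (helper11)

Variant of `LiftInvB.nonempty_iso_unit` with the cohomological hypothesis on `X`:
`nonempty_iso_unit_of_HH` assumes `H¹(X, J ⊗ N) = 0`, `nonempty_iso_unit_of_HH_ideal` assumes
`H¹(X, J) = 0`.
-/

set_option autoImplicit false
set_option linter.style.haveILetI false
universe u
open CategoryTheory CategoryTheory.Limits AlgebraicGeometry TopologicalSpace Opposite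
open Scheme.Modules

noncomputable section

namespace Groth.Agent.Lib.Helper11.LiftInvC

open Groth.Agent.Lib.Helper3 Groth.Agent.Lib.Helper3.QCSec Groth.Agent.Lib.Helper3.InvGen
  Groth.Agent.Lib.Helper3.PbTensor Groth.Agent.Lib.Helper3.PbBasic
  Groth.Agent.Lib.Helper3.InvMonoidal Groth.Agent.Lib.Helper3.InvTensor
  Groth.Agent.Lib.Helper7.TwFun Groth.Agent.Lib.Helper23.PbTwist
  Groth.Agent.Lib.Helper11.LiftInvA Groth.Agent.Lib.Helper11.UnitsDefA
  Groth.Agent.Lib.Helper11.LiftInvB

variable {X : Scheme.{u}} (J : X.IdealSheafData)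
variable (N N' : X.Modules) (hN : PicF.IsInvertible N)
  (eN : CohB1.tensorMod N N' ≅ Coh.structureModule X)
  (τ : (Scheme.Modules.pullback J.subschemeι).obj N ≅ Coh.structureModule J.subscheme)

/-- `J ⊗ N ≅ J` for a square-zero ideal `J` when `ι^* N` is trivial. -/
def twIdealIso (hJ : J ^ 2 = ⊥) : (twR N).obj (ClSub.idealMod J) ≅ ClSub.idealMod J :=
  haveI := isIso_unit_idealMod J hJ
  (twR N).mapIso
      (asIso ((pullbackPushforwardAdjunction J.subschemeι).unit.app (ClSub.idealMod J))) ≪≫
    pushTwIso J N hN τ _ ≪≫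
    (asIso ((pullbackPushforwardAdjunction J.subschemeι).unit.app (ClSub.idealMod J))).symm

include hN eN τ in
/-- variant of `LiftInvB.nonempty_iso_unit` assuming `H¹(X, J ⊗ N) = 0`. -/
theorem nonempty_iso_unit_of_HH (hJ : J ^ 2 = ⊥)
    (hH : Subsingleton (Coh.HH X ((twR N).obj (ClSub.idealMod J)) 1)) :
    Nonempty (Coh.structureModule X ≅ N) := by
  have hS := shortExact_twR N N' eN (S₀ J) (S₀_shortExact J)
  have hsurj : Function.Surjective (((twR N).map (ClSub.toSubscheme J)).app ⊤) :=
    Groth.Agent.Lib.Helper13.SerreCrit1.surjective_app_top_of_H1 ((S₀ J).map (twR N)) hS hH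
  let θ := pushTwIso J N hN τ (Coh.structureModule J.subscheme)
  let q : N ⟶ (pushforward J.subschemeι).obj (Coh.structureModule J.subscheme) :=
    (unitorL N).inv ≫ (twR N).map (ClSub.toSubscheme J) ≫ θ.hom
  obtain ⟨x', hx'⟩ := hsurj (θ.inv.app ⊤ ((ClSub.toSubscheme J).app ⊤ (1 : Γ(X, ⊤))))
  let s : Γ(N, ⊤) := (unitorL N).hom.app ⊤ x'
  let σ : Coh.structureModule X ⟶ N := ofGlobal N s
  have hq : σ ≫ q = ClSub.toSubscheme J := by
    apply hom_ext_unit
    change θ.hom.app ⊤ (((twR N).map (ClSub.toSubscheme J)).app ⊤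
      ((unitorL N).inv.app ⊤ ((ofGlobal N s).app ⊤ (1 : Γ(X, ⊤))))) = _
    rw [ofGlobal_app_top_one]
    change θ.hom.app ⊤ (((twR N).map (ClSub.toSubscheme J)).app ⊤
      ((unitorL N).inv.app ⊤ ((unitorL N).hom.app ⊤ x'))) = _
    rw [iso_inv_hom_app, hx', iso_hom_inv_app]
  -- pass to the adjunct
  let adj := pullbackPushforwardAdjunction J.subschemeι
  let qb : (Scheme.Modules.pullback J.subschemeι).obj N ⟶ Coh.structureModule J.subscheme :=
    (adj.homEquiv _ _).symm q
  have hqb : (Scheme.Modules.pullback J.subschemeι).map σ ≫ qb = pbUnitHom J.subschemeι := by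
    rw [← homEquiv_symm_toSubscheme J, ← hq]
    exact (adj.homEquiv_naturality_left_symm σ q).symm
  haveI : Epi qb := by
    have : Epi ((Scheme.Modules.pullback J.subschemeι).map σ ≫ qb) := by
      rw [hqb]; infer_instance
    exact epi_of_epi ((Scheme.Modules.pullback J.subschemeι).map σ) qb
  haveI : IsIso qb := isIso_of_epi_of_isInvertible
    (isInvertible_pullback J.subschemeι hN) (isInvertible_structureModule _) qb
  haveI : IsIso ((Scheme.Modules.pullback J.subschemeι).map σ) := by
    have : (Scheme.Modules.pullback J.subschemeι).map σ = pbUnitHom J.subschemeι ≫ inv qb := by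
      rw [← hqb, Category.assoc, IsIso.hom_inv_id, Category.comp_id]
    rw [this]; infer_instance
  -- Nakayama
  haveI : N.IsQuasicoherent := InvCoh.isQuasicoherent_of_isInvertible hN
  haveI : (Coh.structureModule X).IsQuasicoherent :=
    InvCoh.isQuasicoherent_of_isInvertible (isInvertible_structureModule X)
  haveI : (cokernel σ : X.Modules).IsQuasicoherent := QCProps.isQuasicoherent_cokernel σ
  have hz : IsZero ((Scheme.Modules.pullback J.subschemeι).obj (cokernel σ)) := by
    haveI : (Scheme.Modules.pullback J.subschemeι).PreservesEpimorphisms :=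
      (Scheme.Modules.pullback J.subschemeι).preservesEpimorphisms_of_adjunction adj
    have h0 : (Scheme.Modules.pullback J.subschemeι).map (cokernel.π σ) = 0 := by
      rw [← cancel_epi ((Scheme.Modules.pullback J.subschemeι).map σ), ← Functor.map_comp,
        cokernel.condition, Functor.map_zero, comp_zero]
    exact IsZero.of_epi_eq_zero _ h0
  have hC : IsZero (cokernel σ) := isZero_of_isZero_pullback J hJ _ hz
  haveI : Epi σ := Preadditive.epi_of_isZero_cokernel σ hC
  haveI : IsIso σ := isIso_of_epi_of_isInvertible (isInvertible_structureModule X) hN σ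
  exact ⟨asIso σ⟩


include hN eN τ in
/-- variant assuming `H¹(X, J) = 0`. -/
theorem nonempty_iso_unit_of_HH_ideal (hJ : J ^ 2 = ⊥)
    (h1 : Subsingleton (Coh.HH X (ClSub.idealMod J) 1)) :
    Nonempty (Coh.structureModule X ≅ N) :=
  nonempty_iso_unit_of_HH J N N' hN eN τ hJ
    (subsingleton_HH_of_iso (twIdealIso J N hN τ hJ) 1 h1)

end Groth.Agent.Lib.Helper11.LiftInvC
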