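import Mathlib

set_option autoImplicit false
universe u

open TensorProduct

namespace Groth.Agent.Lib.Helper11.MacLane

/-! ### Frobenius-twisted copy of `k` -/

/-- `k` regarded as a `k`-algebra through the Frobenius. -/
def FrobK (k : Type u) [Field k] (p : ℕ) [Fact p.Prime] [CharP k p] : Type u := k

section FrobK
variable (k : Type u) [Field k] (p : ℕ) [Fact p.Prime] [CharP k p]

noncomputable instance : Field (FrobK k p) := inferInstanceAs (Field k)
noncomputable instance : Algebra k (FrobK k p) := (frobenius k p).toAlgebra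

/-- The identity map into the twisted copy. -/
def toF (c : k) : FrobK k p := c

lemma toF_pow (c : k) : (toF k p c) ^ p = c • (1 : FrobK k p) := by
  rw [Algebra.smul_def, _root_.mul_one]
  rfl

/-- (3) ⇒ (2) of MacLane's criterion. -/
theorem linearIndepOn_pow_of_isReduced (L : Type*) [Field L] [Algebra k L]
    [IsReduced (FrobK k p ⊗[k] L)] (s : Finset L)
    (hs : LinearIndepOn k _root_.id (s : Set L)) : LinearIndepOn k (· ^ p) (s : Set L) := by
  classical
  haveI : Nontrivial (FrobK k p ⊗[k] L) :=
    Algebra.TensorProduct.nontrivial_of_algebraMap_injective_of_flat_left _ _ _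
      (algebraMap k L).injective
  haveI : CharP (FrobK k p ⊗[k] L) p :=
    charP_of_injective_algebraMap (algebraMap k (FrobK k p ⊗[k] L)).injective p
  rw [LinearIndepOn, Fintype.linearIndependent_iff]
  intro g hg i₀
  have hsum : (∑ i : (s : Set L), (toF k p (g i)) ⊗ₜ[k] (i : L)) ^ p = 0 := by
    have h1 := map_sum (frobenius (FrobK k p ⊗[k] L) p)
      (fun i : (s : Set L) => (toF k p (g i)) ⊗ₜ[k] (i : L)) Finset.univ
    simp only [frobenius_def] at h1
    rw [h1]
    have h2 : ∀ i : (s : Set L), ((toF k p (g i)) ⊗ₜ[k] (i : L)) ^ p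
        = (1 : FrobK k p) ⊗ₜ[k] (g i • (i : L) ^ p) := by
      intro i
      rw [Algebra.TensorProduct.tmul_pow, toF_pow, TensorProduct.smul_tmul]
    simp_rw [h2, ← TensorProduct.tmul_sum]
    rw [hg, TensorProduct.tmul_zero]
  have hz0 : (∑ i : (s : Set L), (toF k p (g i)) ⊗ₜ[k] (i : L)) = 0 :=
    IsNilpotent.eq_zero ⟨p, hsum⟩
  let b := Module.Basis.extend hs
  let j₀ : hs.extend (Set.subset_univ _) := ⟨i₀, Module.Basis.subset_extend hs i₀.2⟩
  have key : ∀ i : (s : Set L), b.coord j₀ (i : L) = if (i : L) = (i₀ : L) then 1 else 0 := by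
    intro i
    have hi : (i : L) = b ⟨i, Module.Basis.subset_extend hs i.2⟩ :=
      (Module.Basis.extend_apply_self hs ⟨i, Module.Basis.subset_extend hs i.2⟩).symm
    rw [hi, Module.Basis.coord_apply, Module.Basis.repr_self, Finsupp.single_apply]
    simp only [j₀, Subtype.mk.injEq]
    rw [← hi]
  let ψ : FrobK k p ⊗[k] L →ₗ[k] FrobK k p :=
    (TensorProduct.rid k (FrobK k p)).toLinearMap ∘ₗ ((b.coord j₀).lTensor (FrobK k p))
  have hψ : ∀ (c : FrobK k p) (x : L), ψ (c ⊗ₜ x) = (b.coord j₀ x) • c := by
    intro c x; simp [ψ]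
  have h0 := congrArg ψ hz0
  rw [map_sum, map_zero] at h0
  simp_rw [hψ, key] at h0
  rw [Finset.sum_eq_single i₀] at h0
  · simp only [if_true, one_smul] at h0
    exact h0
  · intro j _ hj
    rw [if_neg (fun h => hj (Subtype.ext h)), zero_smul]
  · intro h; exact absurd (Finset.mem_univ _) h

end FrobK

/-! ### Separable algebraic extensions are geometrically reduced -/

theorem isReduced_tensor_of_isSeparable (E Ω L : Type*) [Field E] [Field Ω] [Field L]
    [Algebra E Ω] [Algebra E L] [Algebra.IsSeparable E L] : IsReduced (Ω ⊗[E] L) := by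
  apply IsReduced.tensorProduct_of_flat_of_forall_fg
  intro B hB
  obtain ⟨t, ht⟩ := hB
  let F' : IntermediateField E L := IntermediateField.adjoin E (t : Set L)
  have hle : B ≤ F'.toSubalgebra := by
    rw [← ht]; exact IntermediateField.algebra_adjoin_le_adjoin E _
  haveI : FiniteDimensional E F' :=
    IntermediateField.finiteDimensional_adjoin (fun x _ => Algebra.IsSeparable.isIntegral E x)
  haveI : Algebra.IsSeparable E F' := inferInstance
  haveI : Algebra.FormallyUnramified E F' := Algebra.FormallyUnramified.of_isSeparable E F'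
  haveI : IsReduced (Ω ⊗[E] F') := Algebra.FormallyUnramified.isReduced_of_field Ω (Ω ⊗[E] F')
  exact isReduced_of_injective
    (Algebra.TensorProduct.map (AlgHom.id Ω Ω) (Subalgebra.inclusion hle))
    (Module.Flat.lTensor_preserves_injective_linearMap _ (Subalgebra.inclusion_injective hle))

/-! ### Purely transcendental extensions -/

theorem isDomain_fractionRing_tensor (k A K : Type*) [Field k] [CommRing A] [IsDomain A]
    [Algebra k A] [Field K] [Algebra k K] [IsDomain (A ⊗[k] K)] :
    IsDomain (FractionRing A ⊗[k] K) := by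
  letI : Algebra (A ⊗[k] K) (FractionRing A ⊗[k] K) :=
    (Algebra.TensorProduct.map (IsScalarTower.toAlgHom k A (FractionRing A))
      (AlgHom.id k K)).toRingHom.toAlgebra
  haveI : IsScalarTower A (A ⊗[k] K) (FractionRing A ⊗[k] K) :=
    IsScalarTower.of_algebraMap_eq' (by
      ext a
      simp [RingHom.algebraMap_toAlgebra, Algebra.TensorProduct.algebraMap_apply])
  have hloc : IsLocalization (Algebra.algebraMapSubmonoid (A ⊗[k] K) (nonZeroDivisors A))
      (FractionRing A ⊗[k] K) :=
    IsLocalization.tensorProduct_tensorProduct k K (nonZeroDivisors A) (FractionRing A) (by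
      ext x
      simp [RingHom.algebraMap_toAlgebra])
  haveI := hloc
  refine IsLocalization.isDomain_of_le_nonZeroDivisors (FractionRing A ⊗[k] K)
    (M := Algebra.algebraMapSubmonoid (A ⊗[k] K) (nonZeroDivisors A)) ?_
  rintro _ ⟨a, ha, rfl⟩
  apply mem_nonZeroDivisors_of_ne_zero
  have hinj : Function.Injective (Algebra.TensorProduct.includeLeft : A →ₐ[k] A ⊗[k] K) :=
    Algebra.TensorProduct.includeLeft_injective (algebraMap k K).injective
  intro h0
  have : a = 0 := hinj (by
    rw [map_zero]; rw [← h0]; rfl)
  exact nonZeroDivisors.ne_zero ha this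

theorem isDomain_mvPolynomial_tensor (k K : Type*) (σ : Type*) [Field k] [Field K] [Algebra k K] :
    IsDomain (MvPolynomial σ k ⊗[k] K) :=
  ((Algebra.TensorProduct.comm k (MvPolynomial σ k) K).toRingEquiv.trans
    (MvPolynomial.algebraTensorAlgEquiv k K).toRingEquiv).toMulEquiv.isDomain

theorem isDomain_adjoin_tensor {k L : Type*} (K : Type*) [Field k] [Field L] [Field K]
    [Algebra k L] [Algebra k K] {σ : Type*} (x : σ → L) (hx : AlgebraicIndependent k x) :
    IsDomain ((IntermediateField.adjoin k (Set.range x)) ⊗[k] K) := by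
  haveI := isDomain_mvPolynomial_tensor k K σ
  haveI := isDomain_fractionRing_tensor k (MvPolynomial σ k) K
  exact (Algebra.TensorProduct.congr hx.aevalEquivField.symm
    (AlgEquiv.refl (R := k) (A₁ := K))).toMulEquiv.isDomain

theorem isReduced_tensor_domain_of_isSeparable (E L D : Type*) [Field E] [Field L]
    [Algebra E L] [Algebra.IsSeparable E L] [CommRing D] [IsDomain D] [Algebra E D] :
    IsReduced (L ⊗[E] D) := by
  haveI : IsReduced (FractionRing D ⊗[E] L) := isReduced_tensor_of_isSeparable _ _ _
  haveI : IsReduced (L ⊗[E] FractionRing D) :=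
    isReduced_of_injective (Algebra.TensorProduct.comm E L (FractionRing D))
      (Algebra.TensorProduct.comm E L (FractionRing D)).injective
  exact isReduced_of_injective
      (Algebra.TensorProduct.map (AlgHom.id L L)
        (IsScalarTower.toAlgHom E D (FractionRing D)))
      (Module.Flat.lTensor_preserves_injective_linearMap _
        (show Function.Injective (IsScalarTower.toAlgHom E D (FractionRing D)).toLinearMap from
          IsFractionRing.injective D (FractionRing D)))

theorem isReduced_tensor_of_tower (k E L K : Type*) [Field k] [Field E] [Field L] [Field K]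
    [Algebra k E] [Algebra E L] [Algebra k L] [IsScalarTower k E L] [Algebra k K]
    [Algebra.IsSeparable E L] [IsDomain (E ⊗[k] K)] : IsReduced (K ⊗[k] L) := by
  haveI : IsReduced (L ⊗[E] (E ⊗[k] K)) := isReduced_tensor_domain_of_isSeparable _ _ _
  haveI : IsReduced (L ⊗[k] K) :=
    isReduced_of_injective
      (Algebra.TensorProduct.cancelBaseChange k E E L K).symm (AlgEquiv.injective _)
  exact isReduced_of_injective (Algebra.TensorProduct.comm k K L)
    (Algebra.TensorProduct.comm k K L).injective

/-- (1) ⇒ (4) of MacLane's criterion. -/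
theorem isReduced_tensor_of_sepGen {k L : Type*} (K : Type*) [Field k] [Field L] [Field K]
    [Algebra k L] [Algebra k K] {σ : Type*} (x : σ → L) (hx : AlgebraicIndependent k x)
    [Algebra.IsSeparable (IntermediateField.adjoin k (Set.range x)) L] :
    IsReduced (K ⊗[k] L) := by
  haveI : IsDomain ((IntermediateField.adjoin k (Set.range x)) ⊗[k] K) :=
    isDomain_adjoin_tensor K x hx
  exact isReduced_tensor_of_tower k (IntermediateField.adjoin k (Set.range x)) L K

/-! ### Reduced rings embed in the product of their localizations at minimal primes -/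

theorem eq_zero_of_forall_minimalPrimes {B : Type*} [CommRing B] [IsReduced B] (b : B)
    (h : ∀ (q : Ideal B) (hq : q ∈ minimalPrimes B), haveI := hq.1.1;
      algebraMap B (Localization.AtPrime q) b = 0) : b = 0 := by
  have hb : b ∈ sInf (minimalPrimes B) := by
    rw [Ideal.mem_sInf]
    intro q hq
    haveI hqp : q.IsPrime := hq.1.1
    obtain ⟨m, hm⟩ := (IsLocalization.map_eq_zero_iff q.primeCompl
      (Localization.AtPrime q) b).mp (h q hq)
    have hmem : (m : B) * b ∈ q := by rw [hm]; exact q.zero_mem
    exact (hqp.mem_or_mem hmem).resolve_left m.2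
  have h2 : sInf (minimalPrimes B) = nilradical B := Ideal.sInf_minimalPrimes (I := ⊥)
  rw [h2, nilradical_eq_zero] at hb
  exact hb

theorem tensor_eq_zero_of_forall_minimalPrimes {k : Type*} [Field k] {B : Type*} [CommRing B]
    [Algebra k B] [IsReduced B] (K : Type*) [AddCommGroup K] [Module k K] (z : K ⊗[k] B)
    (h : ∀ (q : Ideal B) (hq : q ∈ minimalPrimes B), haveI := hq.1.1;
      (IsScalarTower.toAlgHom k B (Localization.AtPrime q)).toLinearMap.lTensor K z = 0) :
    z = 0 := by
  classical
  let ℬ := Module.Basis.ofVectorSpace k K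
  apply (TensorProduct.equivFinsuppOfBasisLeft (N := B) ℬ).injective
  rw [map_zero]
  ext j
  rw [TensorProduct.equivFinsuppOfBasisLeft_apply, Finsupp.zero_apply]
  apply eq_zero_of_forall_minimalPrimes
  intro q hq
  haveI := hq.1.1
  have nat : ∀ w : K ⊗[k] B, algebraMap B (Localization.AtPrime q)
      (TensorProduct.lid k B ((ℬ.coord j).rTensor B w)) =
      TensorProduct.lid k _ ((ℬ.coord j).rTensor _
        ((IsScalarTower.toAlgHom k B (Localization.AtPrime q)).toLinearMap.lTensor K w)) := by
    intro w
    induction w using TensorProduct.induction_on with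
    | zero => simp
    | tmul c b =>
      simp only [LinearMap.rTensor_tmul, LinearMap.lTensor_tmul, TensorProduct.lid_tmul,
        AlgHom.toLinearMap_apply, IsScalarTower.coe_toAlgHom']
      rw [Algebra.smul_def, map_mul, ← IsScalarTower.algebraMap_apply, Algebra.smul_def]
    | add a b ha hb => simp only [map_add, ha, hb]
  rw [nat, h q hq]
  simp

section Main
variable (k : Type u) [Field k] (p : ℕ) [Fact p.Prime] [CharP k p]

theorem isReduced_frob_tensor_localization
    (B : Type u) [CommRing B] [Algebra k B] [IsReduced (FrobK k p ⊗[k] B)]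
    (q : Ideal B) [q.IsPrime] :
    IsReduced (FrobK k p ⊗[k] Localization.AtPrime q) := by
  letI : Algebra (FrobK k p ⊗[k] B) (FrobK k p ⊗[k] Localization.AtPrime q) :=
    (Algebra.TensorProduct.map (AlgHom.id (FrobK k p) (FrobK k p))
      (IsScalarTower.toAlgHom k B (Localization.AtPrime q))).toRingHom.toAlgebra
  haveI : IsScalarTower (FrobK k p) (FrobK k p ⊗[k] B)
      (FrobK k p ⊗[k] Localization.AtPrime q) :=
    IsScalarTower.of_algebraMap_eq' (by
      ext c
      simp [RingHom.algebraMap_toAlgebra, Algebra.TensorProduct.algebraMap_apply])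
  have hloc := IsLocalization.tensorProduct_tensorProduct_right k (FrobK k p) q.primeCompl
    (Localization.AtPrime q) (by
      ext b
      simp [RingHom.algebraMap_toAlgebra])
  haveI := hloc
  exact isReduced_localizationPreserves
    (q.primeCompl.map (Algebra.TensorProduct.includeRight (R := k) (A := FrobK k p)))
    (FrobK k p ⊗[k] Localization.AtPrime q) (inferInstance : IsReduced (FrobK k p ⊗[k] B))

theorem isReduced_tensor_localization
    (B : Type u) [CommRing B] [Algebra k B] [Algebra.FiniteType k B] [IsReduced B]
    [IsReduced (FrobK k p ⊗[k] B)] (K : Type u) [Field K] [Algebra k K]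
    (q : Ideal B) (hq : q ∈ minimalPrimes B) [q.IsPrime] :
    IsReduced (K ⊗[k] Localization.AtPrime q) := by
  haveI hred : IsReduced (FrobK k p ⊗[k] Localization.AtPrime q) :=
    isReduced_frob_tensor_localization k p B q
  haveI : Algebra.EssFiniteType B (Localization.AtPrime q) :=
    Algebra.EssFiniteType.of_isLocalization _ q.primeCompl
  haveI : Algebra.EssFiniteType k (Localization.AtPrime q) :=
    Algebra.EssFiniteType.comp k B _
  haveI : Ring.KrullDimLE 0 (Localization.AtPrime q) := .of_isLocalization _ hq _
  letI : Field (Localization.AtPrime q) := Ring.KrullDimLE.isField_of_isReduced.toField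
  have H := linearIndepOn_pow_of_isReduced k p (Localization.AtPrime q)
  obtain ⟨s, hs, hsep⟩ :=
    exists_isTranscendenceBasis_and_isSeparable_of_linearIndepOn_pow_of_essFiniteType
      p (Fact.out) H
  have hrange : Set.range ((↑) : s → Localization.AtPrime q) = (s : Set _) := by ext; simp
  haveI : Algebra.IsSeparable (IntermediateField.adjoin k
      (Set.range ((↑) : s → Localization.AtPrime q))) (Localization.AtPrime q) := by
    rw [hrange]; exact hsep
  exact isReduced_tensor_of_sepGen K ((↑) : s → Localization.AtPrime q) hs.1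

theorem isReduced_tensor_of_frob_fg
    (B : Type u) [CommRing B] [Algebra k B] [Algebra.FiniteType k B]
    [IsReduced (FrobK k p ⊗[k] B)] (K : Type u) [Field K] [Algebra k K] :
    IsReduced (K ⊗[k] B) := by
  haveI : IsReduced B := isReduced_of_injective
    (Algebra.TensorProduct.includeRight : B →ₐ[k] FrobK k p ⊗[k] B)
    (Algebra.TensorProduct.includeRight_injective (algebraMap k (FrobK k p)).injective)
  constructor
  intro z hz
  apply tensor_eq_zero_of_forall_minimalPrimes K z
  intro q hq
  haveI := hq.1.1
  haveI : IsReduced (K ⊗[k] Localization.AtPrime q) :=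
    isReduced_tensor_localization k p B K q hq
  have hz' : IsNilpotent ((Algebra.TensorProduct.map (AlgHom.id K K)
      (IsScalarTower.toAlgHom k B (Localization.AtPrime q))) z) := hz.map _
  exact hz'.eq_zero

/-- MacLane's criterion: if `A ⊗_{k,Frob} k` is reduced, then `A ⊗_k K` is reduced for every
field extension `K/k`. -/
theorem isReduced_tensor_of_frob
    (A : Type u) [CommRing A] [Algebra k A] [IsReduced (FrobK k p ⊗[k] A)]
    (K : Type u) [Field K] [Algebra k K] : IsReduced (K ⊗[k] A) := by
  apply IsReduced.tensorProduct_of_flat_of_forall_fg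
  intro B hB
  haveI : Algebra.FiniteType k B := (Subalgebra.fg_iff_finiteType B).mp hB
  haveI : IsReduced (FrobK k p ⊗[k] B) :=
    isReduced_of_injective (Algebra.TensorProduct.map (AlgHom.id _ _) B.val)
      (Module.Flat.lTensor_preserves_injective_linearMap _ Subtype.val_injective)
  exact isReduced_tensor_of_frob_fg k p B K

end Main

end Groth.Agent.Lib.Helper11.MacLane
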