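import Groth.Agent.Lib.Helper11.FppfLift
import Groth.Prelude.Def_W4c1extbt15Mult
import Mathlib.CategoryTheory.Monoidal.Cartesian.Over

/-!
# Multilinear alternating morphisms factor through epimorphisms of sheaves of points
-/

set_option autoImplicit false
universe u w

open CategoryTheory CategoryTheory.Limits Opposite MonObj MonoidalCategory
  CartesianMonoidalCategory AlgebraicGeometry CGrpSh

namespace Groth.Agent.Lib.Helper11.MultAlt

open Groth.Agent.Lib.Helper11.FppfLift

section Tuple

variable {C : Type*} [Category C] [CartesianMonoidalCategory C] [BraidedCategory C]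

theorem comp_tuple {M T T' : C} (f : T' ⟶ T) :
    ∀ {n : ℕ} (x : Fin n → (T ⟶ M)), f ≫ MultSch.tuple x = MultSch.tuple (fun l => f ≫ x l)
  | 0, _ => toUnit_unique _ _
  | n + 1, x => by
    change f ≫ (lift (x 0) (MultSch.tuple fun i => x i.succ) : T ⟶ M ⊗ MultSch.pow M n) =
      (lift (f ≫ x 0) (MultSch.tuple fun i => f ≫ x i.succ) : T' ⟶ M ⊗ MultSch.pow M n)
    exact (comp_lift f _ _).trans (by rw [comp_tuple f])

/-- coordinate projections of `pow M n` -/
def proj (M : C) : ∀ {n : ℕ}, Fin n → (MultSch.pow M n ⟶ M)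
  | 0, i => i.elim0
  | n + 1, i => Fin.cases (fst M (MultSch.pow M n)) (fun i' => snd M (MultSch.pow M n) ≫ proj M i') i

theorem proj_zero (M : C) (n : ℕ) : proj M (0 : Fin (n + 1)) = fst M (MultSch.pow M n) := rfl

theorem proj_succ (M : C) (n : ℕ) (i : Fin n) :
    proj M i.succ = snd M (MultSch.pow M n) ≫ proj M i := rfl

theorem tuple_proj {M T : C} :
    ∀ {n : ℕ} (x : Fin n → (T ⟶ M)) (l : Fin n), MultSch.tuple x ≫ proj M l = x l
  | 0, _, l => l.elim0
  | n + 1, x, l => by
    refine Fin.cases ?_ (fun l' => ?_) l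
    · change (lift (x 0) (MultSch.tuple fun i => x i.succ) : T ⟶ M ⊗ MultSch.pow M n) ≫
        fst M _ = x 0
      simp
    · rw [proj_succ]
      change (lift (x 0) (MultSch.tuple fun i => x i.succ) : T ⟶ M ⊗ MultSch.pow M n) ≫
        (snd M _ ≫ proj M l') = x l'.succ
      rw [lift_snd_assoc, tuple_proj]

theorem tuple_eta {M T : C} :
    ∀ {n : ℕ} (f : T ⟶ MultSch.pow M n), f = MultSch.tuple (fun l => f ≫ proj M l)
  | 0, f => toUnit_unique _ _
  | n + 1, f => by
    change f = (lift (f ≫ proj M 0) (MultSch.tuple fun i => f ≫ proj M i.succ) :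
      T ⟶ M ⊗ MultSch.pow M n)
    apply CartesianMonoidalCategory.hom_ext
    · rw [lift_fst, proj_zero]
      rfl
    · rw [lift_snd]
      have h := tuple_eta (show T ⟶ MultSch.pow M n from f ≫ snd M (MultSch.pow M n))
      refine h.trans ?_
      congr 1
      funext i
      rw [proj_succ, Category.assoc]
      rfl

theorem comp_update {M T T' : C} {n : ℕ} (f : T' ⟶ T) (x : Fin n → (T ⟶ M)) (i : Fin n)
    (v : T ⟶ M) :
    (fun l => f ≫ Function.update x i v l) = Function.update (fun l => f ≫ x l) i (f ≫ v) := by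
  funext l
  exact Function.apply_update (fun _ (t : T ⟶ M) => f ≫ t) x i v l

theorem update_comp {M M' T : C} {n : ℕ} (π : M ⟶ M') (x : Fin n → (T ⟶ M)) (i : Fin n)
    (v : T ⟶ M) :
    (fun l => Function.update x i v l ≫ π) = Function.update (fun l => x l ≫ π) i (v ≫ π) := by
  funext l
  exact Function.apply_update (fun _ (t : T ⟶ M) => t ≫ π) x i v l

end Tuple


section Main

variable {S : Scheme.{u}} (K : Precoverage Scheme.{u}) [(QuotSh.J K S).Subcanonical]
variable {M₁ M₂ M₃ N : Over S}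
  [GrpObj M₁] [IsCommMonObj M₁] [GrpObj M₂] [IsCommMonObj M₂] [GrpObj M₃] [IsCommMonObj M₃]
  [GrpObj N] [IsCommMonObj N]
  (j : M₁ ⟶ M₂) (π : M₂ ⟶ M₃) [IsMonHom j] [IsMonHom π]
  (w : j ≫ π = 1) (hex : (CGrpSh.seq K j π w).Exact) (hepi : Epi (CGrpSh.ptsMap K π))
  {n : ℕ} (hn : 1 ≤ n) (φ : MultSch.pow M₂ n ⟶ N)
  (hmult : MultSch.IsMultilinear φ) (halt : MultSch.IsAlternating φ)
  (hvan : ∀ (T : Over S) (y : T ⟶ M₁) (x : Fin n → (T ⟶ M₂)), x ⟨0, hn⟩ = y ≫ j →
      MultSch.tuple x ≫ φ = 1)

include hmult halt hvan in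
/-- vanishing when any coordinate comes from `M₁` -/
theorem van_any {T : Over S} (y : T ⟶ M₁) (x : Fin n → (T ⟶ M₂)) (i : Fin n)
    (hi : x i = y ≫ j) : MultSch.tuple x ≫ φ = 1 := by
  classical
  by_cases hio : i = ⟨0, hn⟩
  · subst hio
    exact hvan T y x hi
  · set o : Fin n := ⟨0, hn⟩ with ho
    set a := x o with ha
    set b := x i with hb
    let X : (T ⟶ M₂) → (T ⟶ M₂) → (Fin n → (T ⟶ M₂)) := fun s t =>
      Function.update (Function.update x i t) o s
    have hX' : ∀ s t, X s t = Function.update (Function.update x o s) i t := fun s t =>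
      (Function.update_comm (Ne.symm hio) s t x).symm
    have m1 : ∀ s s' t, MultSch.tuple (X (s * s') t) ≫ φ =
        (MultSch.tuple (X s t) ≫ φ) * (MultSch.tuple (X s' t) ≫ φ) := fun s s' t =>
      hmult T (Function.update x i t) o s s'
    have m2 : ∀ s t t', MultSch.tuple (X s (t * t')) ≫ φ =
        (MultSch.tuple (X s t) ≫ φ) * (MultSch.tuple (X s t') ≫ φ) := by
      intro s t t'
      rw [hX', hX', hX']
      exact hmult T (Function.update x o s) i t t'
    have alt : ∀ s, MultSch.tuple (X s s) ≫ φ = 1 := by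
      intro s
      apply halt T (X s s) o i (Ne.symm hio)
      simp only [X, Function.update_self, Function.update_of_ne hio]
    have hXab : X a b = x := by
      simp only [X, hb, ha, Function.update_eq_self]
    have hXba : MultSch.tuple (X b a) ≫ φ = 1 := by
      apply hvan T y (X b a)
      simp only [X, ← ho, Function.update_self]
      exact hi
    have h1 := alt (a * b)
    rw [m1, m2, m2, alt a, alt b, hXba, hXab] at h1
    simpa using h1

include hex hmult halt hvan in
/-- changing one coordinate within its class modulo `M₁` does not change the value -/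
theorem indep_one {T : Over S} (x : Fin n → (T ⟶ M₂)) (i : Fin n) (z : T ⟶ M₂)
    (hz : z ≫ π = x i ≫ π) :
    MultSch.tuple (Function.update x i z) ≫ φ = MultSch.tuple x ≫ φ := by
  classical
  let d : T ⟶ M₂ := z * (x i)⁻¹
  have hd : d ≫ π = 1 := by
    change (z * (x i)⁻¹) ≫ π = 1
    rw [MonObj.mul_comp, GrpObj.inv_comp, hz, mul_inv_cancel]
  have h1 : MultSch.tuple (Function.update x i d) ≫ φ = 1 := by
    obtain ⟨R, hR, hRl⟩ := exists_sieve_lift_of_exact K j π w hex d hd
    apply hom_ext_of_sieve K R hR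
    intro T' f hf
    obtain ⟨y, hy⟩ := hRl f hf
    rw [MonObj.comp_one, ← Category.assoc, comp_tuple, comp_update]
    apply van_any j hn φ hmult halt hvan y _ i
    rw [Function.update_self, hy]
  have h2 : z = d * x i := by
    change z = z * (x i)⁻¹ * x i
    rw [inv_mul_cancel_right]
  rw [h2, hmult, h1, _root_.one_mul, Function.update_eq_self]

include hex hmult halt hvan in
/-- the value only depends on the images of the coordinates in `M₃` -/
theorem indep {T : Over S} (x x' : Fin n → (T ⟶ M₂)) (h : ∀ l, x' l ≫ π = x l ≫ π) :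
    MultSch.tuple x' ≫ φ = MultSch.tuple x ≫ φ := by
  classical
  have key : ∀ s : Finset (Fin n),
      MultSch.tuple (fun l => if l ∈ s then x' l else x l) ≫ φ = MultSch.tuple x ≫ φ := by
    intro s
    induction s using Finset.induction_on with
    | empty => simp
    | insert i s his ih =>
      have e : (fun l => if l ∈ insert i s then x' l else x l) =
          Function.update (fun l => if l ∈ s then x' l else x l) i (x' i) := by
        funext l
        by_cases hl : l = i
        · subst hl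
          simp
        · rw [Function.update_of_ne hl]
          simp [Finset.mem_insert, hl]
      rw [e, indep_one K j π w hex hn φ hmult halt hvan _ i (x' i) (by simp [his, h i]), ih]
  simpa using key Finset.univ


include hepi in
/-- simultaneous local lifting of a tuple of points -/
theorem exists_sieve_lift_tuple {T : Over S} (x : Fin n → (T ⟶ M₃)) :
    ∃ R : Sieve T, R ∈ (QuotSh.J K S) T ∧
      ∀ ⦃T' : Over S⦄ (f : T' ⟶ T), R f ↔ ∃ z : Fin n → (T' ⟶ M₂), ∀ l, z l ≫ π = f ≫ x l := by
  classical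
  choose R' hR' hRl' using fun l => exists_sieve_lift_of_epi K π hepi (x l)
  refine ⟨Finset.univ.inf R', ?_, ?_⟩
  · exact Finset.inf_induction (p := fun Q : Sieve T => Q ∈ (QuotSh.J K S) T)
      ((QuotSh.J K S).top_mem T)
      (fun a ha b hb => (QuotSh.J K S).intersection_covering ha hb)
      (fun l _ => hR' l)
  · intro T' f
    constructor
    · intro hf
      have hf' : ∀ l, R' l f := fun l =>
        (Finset.inf_le (Finset.mem_univ l) : Finset.univ.inf R' ≤ R' l) _ hf
      choose z hz using fun l => (hRl' l f).mp (hf' l)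
      exact ⟨z, hz⟩
    · rintro ⟨z, hz⟩
      have hle : ∀ (s : Finset (Fin n)), (s.inf R') f := by
        intro s
        induction s using Finset.induction_on with
        | empty => trivial
        | insert i s _ ih =>
          rw [Finset.inf_insert]
          exact ⟨(hRl' i f).mpr ⟨z i, hz i⟩, ih⟩
      exact hle Finset.univ

include hex hepi hmult halt hvan in
theorem exists_factor :
    ∃ φ' : MultSch.pow M₃ n ⟶ N, ∀ (T : Over S) (x : Fin n → (T ⟶ M₂)),
      MultSch.tuple x ≫ φ = MultSch.tuple (fun l => x l ≫ π) ≫ φ' := by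
  obtain ⟨R, hR, hRl⟩ := exists_sieve_lift_tuple K π hepi (fun l => proj M₃ (n := n) l)
  let ξ : ∀ ⦃T' : Over S⦄ (f : T' ⟶ MultSch.pow M₃ n), R f → (T' ⟶ N) := fun T' f hf =>
    MultSch.tuple ((hRl f).mp hf).choose ≫ φ
  have hξ : ∀ ⦃T' T'' : Over S⦄ (f : T' ⟶ MultSch.pow M₃ n) (g : T'' ⟶ T') (hf : R f),
      ξ (g ≫ f) (R.downward_closed hf g) = g ≫ ξ f hf := by
    intro T' T'' f g hf
    have e1 := ((hRl (g ≫ f)).mp (R.downward_closed hf g)).choose_spec
    have e2 := ((hRl f).mp hf).choose_spec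
    have hR' : g ≫ MultSch.tuple ((hRl f).mp hf).choose ≫ φ =
        MultSch.tuple (fun l => g ≫ ((hRl f).mp hf).choose l) ≫ φ := by
      rw [← Category.assoc, comp_tuple]
    refine Eq.trans ?_ hR'.symm
    apply indep K j π w hex hn φ hmult halt hvan
    intro l
    exact (e1 l).trans ((Category.assoc g f _).trans
      ((congrArg (g ≫ ·) (e2 l).symm).trans (Category.assoc g _ π).symm))
  obtain ⟨φ', hφ'⟩ := exists_glue K R hR ξ hξ
  refine ⟨φ', ?_⟩
  intro T x
  have hf : R (MultSch.tuple (fun l => x l ≫ π)) :=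
    (hRl _).mpr ⟨x, fun l => (tuple_proj (fun l => x l ≫ π) l).symm⟩
  rw [hφ' _ hf]
  change _ = MultSch.tuple ((hRl _).mp hf).choose ≫ φ
  symm
  apply indep K j π w hex hn φ hmult halt hvan
  intro l
  exact (((hRl _).mp hf).choose_spec l).trans (tuple_proj (fun l => x l ≫ π) l)

variable {R : Type w} [CommRing R]
  (ρ₂ : MultSch.RMod R M₂) (ρ₃ : MultSch.RMod R M₃) (ρN : MultSch.RMod R N)
  (hπl : ∀ a : R, π ≫ ρ₃.act a = ρ₂.act a ≫ π)
  (hlin : MultSch.IsRLinear ρ₂ ρN φ)

include hex hepi hmult halt hvan hπl hlin in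
theorem main :
    ∃ φ' : MultSch.pow M₃ n ⟶ N,
      (∀ (T : Over S) (x : Fin n → (T ⟶ M₂)),
        MultSch.tuple x ≫ φ = MultSch.tuple (fun l => x l ≫ π) ≫ φ') ∧
      MultSch.IsMultilinear φ' ∧ MultSch.IsRLinear ρ₃ ρN φ' ∧ MultSch.IsAlternating φ' ∧
      ∀ φ'' : MultSch.pow M₃ n ⟶ N,
        (∀ (T : Over S) (x : Fin n → (T ⟶ M₂)),
          MultSch.tuple x ≫ φ = MultSch.tuple (fun l => x l ≫ π) ≫ φ'') → φ'' = φ' := by
  classical
  obtain ⟨φ', hF⟩ := exists_factor K j π w hex hepi hn φ hmult halt hvan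
  refine ⟨φ', hF, ?_, ?_, ?_, ?_⟩
  · -- multilinear
    intro T x i y z
    obtain ⟨R₀, hR₀, hl₀⟩ := exists_sieve_lift_tuple K π hepi x
    obtain ⟨R₁, hR₁, hl₁⟩ := exists_sieve_lift_of_epi K π hepi y
    obtain ⟨R₂, hR₂, hl₂⟩ := exists_sieve_lift_of_epi K π hepi z
    apply hom_ext_of_sieve K (R₀ ⊓ (R₁ ⊓ R₂))
      ((QuotSh.J K S).intersection_covering hR₀ ((QuotSh.J K S).intersection_covering hR₁ hR₂))
    rintro T' h ⟨h0, h1, h2⟩
    obtain ⟨x', hx'⟩ := (hl₀ h).mp h0
    obtain ⟨y', hy'⟩ := (hl₁ h).mp h1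
    obtain ⟨z', hz'⟩ := (hl₂ h).mp h2
    have hx'' : (fun l => h ≫ x l) = fun l => x' l ≫ π := funext fun l => (hx' l).symm
    rw [MonObj.comp_mul, ← Category.assoc, ← Category.assoc, ← Category.assoc, comp_tuple,
      comp_tuple, comp_tuple, comp_update, comp_update, comp_update, MonObj.comp_mul, hx'', ← hy',
      ← hz', ← MonObj.mul_comp, ← update_comp, ← update_comp, ← update_comp, ← hF, ← hF, ← hF]
    exact hmult T' x' i y' z'
  · -- R-linear
    intro T x i a
    obtain ⟨R₀, hR₀, hl₀⟩ := exists_sieve_lift_tuple K π hepi x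
    apply hom_ext_of_sieve K R₀ hR₀
    intro T' h h0
    obtain ⟨x', hx'⟩ := (hl₀ h).mp h0
    have hx'' : (fun l => h ≫ x l) = fun l => x' l ≫ π := funext fun l => (hx' l).symm
    have e1 : h ≫ x i ≫ ρ₃.act a = (x' i ≫ ρ₂.act a) ≫ π := by
      rw [← Category.assoc, ← hx' i, Category.assoc, hπl a, Category.assoc]
    rw [← Category.assoc, ← Category.assoc h, ← Category.assoc h, comp_tuple, comp_tuple,
      comp_update, e1, hx'', ← update_comp, ← hF, ← hF]
    exact hlin T' x' i a
  · -- alternating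
    intro T x i i' hii' hx
    obtain ⟨R₀, hR₀, hl₀⟩ := exists_sieve_lift_tuple K π hepi x
    apply hom_ext_of_sieve K R₀ hR₀
    intro T' h h0
    obtain ⟨x', hx'⟩ := (hl₀ h).mp h0
    let x'' : Fin n → (T' ⟶ M₂) := Function.update x' i' (x' i)
    have hx'' : (fun l => h ≫ x l) = fun l => x'' l ≫ π := by
      funext l
      by_cases hl : l = i'
      · subst hl
        simp only [x'', Function.update_self]
        rw [hx' i, hx]
      · simp only [x'', Function.update_of_ne hl]
        exact (hx' l).symm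
    rw [MonObj.comp_one, ← Category.assoc, comp_tuple, hx'', ← hF]
    apply halt T' x'' i i' hii'
    simp only [x'', Function.update_self, Function.update_of_ne hii']
  · -- uniqueness
    intro φ'' hφ''
    obtain ⟨R₀, hR₀, hl₀⟩ := exists_sieve_lift_tuple K π hepi (fun l => proj M₃ (n := n) l)
    apply hom_ext_of_sieve K R₀ hR₀
    intro T' f hf
    obtain ⟨z, hz⟩ := (hl₀ f).mp hf
    have e : f = MultSch.tuple (fun l => z l ≫ π) := by
      rw [tuple_eta f]
      congr 1
      funext l
      exact (hz l).symm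
    rw [e, ← hφ'', ← hF]

end Main

end Groth.Agent.Lib.Helper11.MultAlt
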