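import Groth.Agent.Lib.Helper11.FppfLift
import Groth.Prelude.Def_W4c1extbt15Mult
import Mathlib.CategoryTheory.Monoidal.Cartesian.Over

/-!
# Factoring a morphism additive in one slot through an epimorphism of sheaves of points
-/

set_option autoImplicit false
universe u w

open CategoryTheory CategoryTheory.Limits Opposite MonObj MonoidalCategory
  CartesianMonoidalCategory AlgebraicGeometry CGrpSh

namespace Groth.Agent.Lib.Helper11.MultSlot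

open Groth.Agent.Lib.Helper11.FppfLift

variable {S : Scheme.{u}} (K : Precoverage Scheme.{u}) [(QuotSh.J K S).Subcanonical]
variable {P Q M' M M'' N : Over S}
  [GrpObj M'] [IsCommMonObj M'] [GrpObj M] [IsCommMonObj M] [GrpObj M''] [IsCommMonObj M'']
  [GrpObj N] [IsCommMonObj N]
  (j : M' ⟶ M) (π : M ⟶ M'') [IsMonHom j] [IsMonHom π]
  (w : j ≫ π = 1) (hex : (CGrpSh.seq K j π w).Exact) (hepi : Epi (CGrpSh.ptsMap K π))
  (ψ : P ⊗ (M ⊗ Q) ⟶ N)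
  (hadd : ∀ (T : Over S) (p : T ⟶ P) (q : T ⟶ Q) (y z : T ⟶ M),
      lift p (lift (y * z) q) ≫ ψ = (lift p (lift y q) ≫ ψ) * (lift p (lift z q) ≫ ψ))
  (hvan : ∀ (T : Over S) (p : T ⟶ P) (q : T ⟶ Q) (y' : T ⟶ M'), lift p (lift (y' ≫ j) q) ≫ ψ = 1)

omit [IsCommMonObj M'] [IsCommMonObj M] [IsCommMonObj M''] [GrpObj M'] [GrpObj M] [GrpObj M'']
  [IsMonHom π] in
theorem lift_whisker {T : Over S} (p : T ⟶ P) (q : T ⟶ Q) (y : T ⟶ M) :
    lift p (lift (y ≫ π) q) = lift p (lift y q) ≫ (P ◁ (π ▷ Q)) := by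
  apply CartesianMonoidalCategory.hom_ext
  · simp
  · apply CartesianMonoidalCategory.hom_ext
    · simp
    · simp

theorem eta {A B C : Over S} {T : Over S} (f : T ⟶ A ⊗ (B ⊗ C)) :
    f = lift (f ≫ fst A _) (lift (f ≫ snd A _ ≫ fst B C) (f ≫ snd A _ ≫ snd B C)) := by
  apply CartesianMonoidalCategory.hom_ext
  · simp
  · apply CartesianMonoidalCategory.hom_ext
    · simp
    · simp

include hex hadd hvan in
/-- The value of `ψ` only depends on the image of the `M`-coordinate in `M''`. -/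
theorem indep {T : Over S} (p : T ⟶ P) (q : T ⟶ Q) (y₁ y₂ : T ⟶ M) (h : y₁ ≫ π = y₂ ≫ π) :
    lift p (lift y₁ q) ≫ ψ = lift p (lift y₂ q) ≫ ψ := by
  let d : T ⟶ M := y₁ * y₂⁻¹
  have hd : d ≫ π = 1 := by
    change (y₁ * y₂⁻¹) ≫ π = 1
    rw [MonObj.mul_comp, GrpObj.inv_comp, h, mul_inv_cancel]
  have h1 : lift p (lift d q) ≫ ψ = 1 := by
    obtain ⟨R, hR, hRl⟩ := exists_sieve_lift_of_exact K j π w hex d hd
    apply hom_ext_of_sieve K R hR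
    intro T' f hf
    obtain ⟨z, hz⟩ := hRl f hf
    rw [MonObj.comp_one, ← Category.assoc, comp_lift, comp_lift, ← hz]
    exact hvan T' _ _ z
  have h2 : y₁ = d * y₂ := by
    change y₁ = y₁ * y₂⁻¹ * y₂
    rw [inv_mul_cancel_right]
  rw [h2, hadd, h1, _root_.one_mul]

variable (P Q) in
/-- coordinate projections of `P ⊗ (M'' ⊗ Q)` -/
noncomputable abbrev y₀ : P ⊗ (M'' ⊗ Q) ⟶ M'' := snd P _ ≫ fst M'' Q

include hex hadd hvan hepi in
theorem exists_factor :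
    ∃ ψ' : P ⊗ (M'' ⊗ Q) ⟶ N, ∀ (T : Over S) (p : T ⟶ P) (q : T ⟶ Q) (y : T ⟶ M),
      lift p (lift (y ≫ π) q) ≫ ψ' = lift p (lift y q) ≫ ψ := by
  obtain ⟨R, hR, hRl⟩ := exists_sieve_lift_of_epi K π hepi (y₀ P Q (M'' := M''))
  let ξ : ∀ ⦃T' : Over S⦄ (f : T' ⟶ P ⊗ (M'' ⊗ Q)), R f → (T' ⟶ N) := fun T' f hf =>
    lift (f ≫ fst P _) (lift ((hRl f).mp hf).choose (f ≫ snd P _ ≫ snd M'' Q)) ≫ ψ
  have hξ : ∀ ⦃T' T'' : Over S⦄ (f : T' ⟶ P ⊗ (M'' ⊗ Q)) (g : T'' ⟶ T') (hf : R f),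
      ξ (g ≫ f) (R.downward_closed hf g) = g ≫ ξ f hf := by
    intro T' T'' f g hf
    have e1 := ((hRl (g ≫ f)).mp (R.downward_closed hf g)).choose_spec
    have e2 := ((hRl f).mp hf).choose_spec
    have hR' : g ≫ lift (f ≫ fst P _) (lift ((hRl f).mp hf).choose (f ≫ snd P _ ≫ snd M'' Q)) ≫ ψ =
        lift ((g ≫ f) ≫ fst P _)
          (lift (g ≫ ((hRl f).mp hf).choose) ((g ≫ f) ≫ snd P _ ≫ snd M'' Q)) ≫ ψ := by
      rw [← Category.assoc g, comp_lift, comp_lift]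
      simp only [Category.assoc]
    refine Eq.trans ?_ hR'.symm
    apply indep K j π w hex ψ hadd hvan
    exact e1.trans ((Category.assoc g f _).trans
      ((congrArg (g ≫ ·) e2.symm).trans (Category.assoc g _ π).symm))
  obtain ⟨ψ', hψ'⟩ := exists_glue K R hR ξ hξ
  refine ⟨ψ', ?_⟩
  intro T p q y
  have hf : R (lift p (lift (y ≫ π) q)) := (hRl _).mpr ⟨y, by simp [y₀]⟩
  rw [hψ' _ hf]
  change lift (lift p (lift (y ≫ π) q) ≫ fst P _)
    (lift _ (lift p (lift (y ≫ π) q) ≫ snd P _ ≫ snd M'' Q)) ≫ ψ = _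
  have e1 : lift p (lift (y ≫ π) q) ≫ fst P _ = p := by simp
  have e2 : lift p (lift (y ≫ π) q) ≫ snd P _ ≫ snd M'' Q = q := by simp
  rw [e1, e2]
  apply indep K j π w hex ψ hadd hvan
  have e3 := ((hRl _).mp hf).choose_spec
  exact e3.trans (by simp [y₀])


variable {R : Type w} [CommRing R]
  (ρ : MultSch.RMod R M) (ρ'' : MultSch.RMod R M'') (ρN : MultSch.RMod R N)
  (hπl : ∀ a : R, π ≫ ρ''.act a = ρ.act a ≫ π)
  (hlin : ∀ (T : Over S) (p : T ⟶ P) (q : T ⟶ Q) (y : T ⟶ M) (a : R),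
      lift p (lift (y ≫ ρ.act a) q) ≫ ψ = (lift p (lift y q) ≫ ψ) ≫ ρN.act a)

include hex hadd hvan hepi hπl hlin in
theorem main :
    ∃ ψ' : P ⊗ (M'' ⊗ Q) ⟶ N,
      (P ◁ (π ▷ Q)) ≫ ψ' = ψ ∧
      (∀ (T : Over S) (p : T ⟶ P) (q : T ⟶ Q) (y z : T ⟶ M''),
        lift p (lift (y * z) q) ≫ ψ' = (lift p (lift y q) ≫ ψ') * (lift p (lift z q) ≫ ψ')) ∧
      (∀ (T : Over S) (p : T ⟶ P) (q : T ⟶ Q) (y : T ⟶ M'') (a : R),
        lift p (lift (y ≫ ρ''.act a) q) ≫ ψ' = (lift p (lift y q) ≫ ψ') ≫ ρN.act a) ∧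
      ∀ ψ'' : P ⊗ (M'' ⊗ Q) ⟶ N, (P ◁ (π ▷ Q)) ≫ ψ'' = ψ → ψ'' = ψ' := by
  obtain ⟨ψ', hF⟩ := exists_factor K j π w hex hepi ψ hadd hvan (P := P) (Q := Q)
  have ha : (P ◁ (π ▷ Q)) ≫ ψ' = ψ := by
    have h1 := hF _ (fst P _) (snd P _ ≫ snd M Q) (snd P _ ≫ fst M Q)
    rw [lift_whisker] at h1
    have h2 : lift (fst P (M ⊗ Q)) (lift (snd P _ ≫ fst M Q) (snd P _ ≫ snd M Q)) = 𝟙 _ := by
      apply CartesianMonoidalCategory.hom_ext
      · simp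
      · apply CartesianMonoidalCategory.hom_ext
        · simp
        · simp
    rw [h2, Category.id_comp, Category.id_comp] at h1
    exact h1
  have hF' : ∀ ψ'' : P ⊗ (M'' ⊗ Q) ⟶ N, (P ◁ (π ▷ Q)) ≫ ψ'' = ψ →
      ∀ (T : Over S) (p : T ⟶ P) (q : T ⟶ Q) (y : T ⟶ M),
        lift p (lift (y ≫ π) q) ≫ ψ'' = lift p (lift y q) ≫ ψ := by
    intro ψ'' h T p q y
    rw [lift_whisker, Category.assoc, h]
  refine ⟨ψ', ha, ?_, ?_, ?_⟩
  · intro T p q y z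
    obtain ⟨R₁, hR₁, hl₁⟩ := exists_sieve_lift_of_epi K π hepi y
    obtain ⟨R₂, hR₂, hl₂⟩ := exists_sieve_lift_of_epi K π hepi z
    apply hom_ext_of_sieve K (R₁ ⊓ R₂) ((QuotSh.J K S).intersection_covering hR₁ hR₂)
    rintro T' h ⟨h1, h2⟩
    obtain ⟨y', hy'⟩ := (hl₁ h).mp h1
    obtain ⟨z', hz'⟩ := (hl₂ h).mp h2
    rw [MonObj.comp_mul, ← Category.assoc, ← Category.assoc, ← Category.assoc, comp_lift,
      comp_lift, comp_lift, comp_lift, comp_lift, comp_lift, MonObj.comp_mul, ← hy', ← hz',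
      ← MonObj.mul_comp, hF, hF, hF, hadd]
  · intro T p q y a
    obtain ⟨R₁, hR₁, hl₁⟩ := exists_sieve_lift_of_epi K π hepi y
    apply hom_ext_of_sieve K R₁ hR₁
    intro T' h h1
    obtain ⟨y', hy'⟩ := (hl₁ h).mp h1
    rw [← Category.assoc, ← Category.assoc, ← Category.assoc h, comp_lift, comp_lift, comp_lift,
      comp_lift, ← Category.assoc h y, ← hy', Category.assoc y', hπl a, ← Category.assoc y',
      hF, hF, hlin]
  · intro ψ'' hψ''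
    obtain ⟨R₀, hR₀, hRl⟩ := exists_sieve_lift_of_epi K π hepi (y₀ P Q (M'' := M''))
    apply hom_ext_of_sieve K R₀ hR₀
    intro T' f hf
    obtain ⟨z, hz⟩ := (hRl f).mp hf
    have hz' : f ≫ snd P _ ≫ fst M'' Q = z ≫ π := hz.symm
    have e := eta f
    rw [hz'] at e
    rw [e, hF' ψ'' hψ'', hF]

end Groth.Agent.Lib.Helper11.MultSlot
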