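import Mathlib
import Groth.Agent.Lib.Helper11.NC1

/-!
# Open subgroup schemes contain the neutral components of the fibres (helper11)
-/

set_option autoImplicit false
universe u

open CategoryTheory CategoryTheory.Limits MonoidalCategory CartesianMonoidalCategory MonObj GrpObj
  AlgebraicGeometry
open Groth.Agent.Lib.Helper11.NC1

namespace Groth.Agent.Lib.Helper11.NC3

variable {S : Scheme.{u}} {G H : Over S} [GrpObj G] [GrpObj H]

theorem unit_eq (i : H ⟶ G) [IsMonHom i] (p : ↥(𝟙_ (Over S)).left) :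
    i.left (η[H].left p) = η[G].left p := by
  have := apply_congr (congrArg Over.Hom.left (IsMonHom.one_hom (f := i))) p
  simpa only [Over.comp_left, Scheme.Hom.comp_apply] using this

theorem neutralSet_subset_range (i : H ⟶ G) [IsMonHom i] [IsOpenImmersion i.left] :
    SGA3x.neutralSet G ⊆ Set.range ⇑i.left := by
  intro x hx
  obtain ⟨p, hp⟩ := Set.mem_iUnion.mp hx
  obtain ⟨ζ, h1, h2, h3⟩ := KL G p x hp i.left.opensRange ⟨_, unit_eq i p⟩
  have hζ : ζ ∈ Set.range ⇑(i ⊗ₘ i).left := by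
    rw [Over.tensorHom_left, Scheme.Pullback.range_map]
    exact ⟨h1, h2⟩
  obtain ⟨ζH, rfl⟩ := hζ
  refine ⟨μ[H].left ζH, ?_⟩
  have := apply_congr (congrArg Over.Hom.left (IsMonHom.mul_hom (f := i))) ζH
  simp only [Over.comp_left, Scheme.Hom.comp_apply] at this
  rw [this, h3]

theorem image_neutralSet (i : H ⟶ G) [IsMonHom i] [IsOpenImmersion i.left] :
    ⇑i.left '' SGA3x.neutralSet H = SGA3x.neutralSet G := by
  apply Set.Subset.antisymm
  · rintro _ ⟨y, hy, rfl⟩
    obtain ⟨p, hp⟩ := Set.mem_iUnion.mp hy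
    refine Set.mem_iUnion.mpr ⟨p, ?_⟩
    change y ∈ connectedComponentIn (⇑H.hom ⁻¹' {(𝟙_ (Over S)).hom p}) (η[H].left p) at hp
    change i.left y ∈ connectedComponentIn (⇑G.hom ⁻¹' {(𝟙_ (Over S)).hom p}) (η[G].left p)
    have h1 := i.left.continuous.continuousOn.image_connectedComponentIn_subset
      (s := ⇑H.hom ⁻¹' {(𝟙_ (Over S)).hom p}) (a := η[H].left p) (hom_unit H p)
    have h2 : ⇑i.left '' (⇑H.hom ⁻¹' {(𝟙_ (Over S)).hom p}) ⊆
        ⇑G.hom ⁻¹' {(𝟙_ (Over S)).hom p} := by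
      rintro _ ⟨z, hz, rfl⟩
      show G.hom (i.left z) = _
      have h3 := apply_congr (Over.w i) z
      simp only [Scheme.Hom.comp_apply] at h3
      rw [h3]; exact hz
    have h4 := connectedComponentIn_mono (η[G].left p) h2
    rw [unit_eq i p] at h1
    exact h4 (h1 ⟨y, hp, rfl⟩)
  · intro x hx
    obtain ⟨y, rfl⟩ := neutralSet_subset_range i hx
    refine ⟨y, ?_, rfl⟩
    obtain ⟨p, hp⟩ := Set.mem_iUnion.mp hx
    refine Set.mem_iUnion.mpr ⟨p, ?_⟩
    change i.left y ∈ connectedComponentIn (⇑G.hom ⁻¹' {(𝟙_ (Over S)).hom p}) (η[G].left p) at hp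
    change y ∈ connectedComponentIn (⇑H.hom ⁻¹' {(𝟙_ (Over S)).hom p}) (η[H].left p)
    obtain ⟨C, hC⟩ : ∃ C, C = connectedComponentIn (⇑G.hom ⁻¹' {(𝟙_ (Over S)).hom p})
      (η[G].left p) := ⟨_, rfl⟩
    rw [← hC] at hp
    have hCsub : C ⊆ Set.range ⇑i.left := fun z hz =>
      neutralSet_subset_range i (Set.mem_iUnion.mpr ⟨p, by rw [hC] at hz; exact hz⟩)
    have hemb : Topology.IsEmbedding ⇑i.left := i.left.isOpenEmbedding.isEmbedding
    have hpre : _root_.IsPreconnected (⇑i.left ⁻¹' C) := by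
      rw [← hemb.isInducing.isPreconnected_image, Set.image_preimage_eq_inter_range,
        Set.inter_eq_left.mpr hCsub, hC]
      exact isPreconnected_connectedComponentIn
    have hsub : ⇑i.left ⁻¹' C ⊆ ⇑H.hom ⁻¹' {(𝟙_ (Over S)).hom p} := by
      intro z hz
      have h1 : i.left z ∈ ⇑G.hom ⁻¹' {(𝟙_ (Over S)).hom p} := by
        rw [hC] at hz
        exact connectedComponentIn_subset _ _ hz
      have h3 := apply_congr (Over.w i) z
      simp only [Scheme.Hom.comp_apply] at h3
      show H.hom z = _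
      rw [← h3]; exact h1
    have hmem : η[H].left p ∈ ⇑i.left ⁻¹' C := by
      show i.left (η[H].left p) ∈ C
      rw [unit_eq i p, hC]; exact mem_connectedComponentIn (hom_unit G p)
    exact hpre.subset_connectedComponentIn hmem hsub hp

end Groth.Agent.Lib.Helper11.NC3
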