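import Groth.Agent.Lib.Helper7.Gaeta1
import Groth.Agent.Lib.Helper7.RegSecMono
import Groth.Agent.Lib.Helper7.AvoidGen
import Groth.Agent.Lib.Helper3.InvSum
import Groth.Agent.Lib.Helper17.AssPt
import Groth.Agent.Lib.Helper1.AssPrim1

/-!
# Multiplication by a section of `L^m` on `Hom(L^n, F)` (helper11)

* `mulS L s n : L^n ⟶ L^(n+m)`, with the local formula `mulS_lpow`.
* `Div`: divisibility of `φ : L^n ⟶ F` by powers of `s`; local consequence `Div.exists_smul`.
* `VanOn φ W`: `φ` vanishes on all opens inside `W`; criterion `vanOn_iff` on a trivialising open.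
-/

set_option autoImplicit false
set_option linter.unusedSectionVars false
set_option linter.style.haveILetI false
universe u
open CategoryTheory CategoryTheory.Limits AlgebraicGeometry TopologicalSpace Opposite
open Scheme.Modules

noncomputable section

namespace Groth.Agent.Lib.Helper11.NegTwA

open Groth.Agent.Lib.Helper3 Groth.Agent.Lib.Helper3.QCSec Groth.Agent.Lib.Helper3.InvGen
  Groth.Agent.Lib.Helper3.InvTensor Groth.Agent.Lib.Helper3.InvMonoidal

variable {X : Scheme.{u}}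

/-- multiplication by a section `s` of `L^m`, as a map `L^n ⟶ L^(n+m)` -/
def mulS (L : X.Modules) {m : ℕ} (s : Coh.structureModule X ⟶ CohB1.tensorPow L m) (n : ℕ) :
    CohB1.tensorPow L n ⟶ CohB1.tensorPow L (n + m) :=
  (SecTwist.unitorR (CohB1.tensorPow L n)).inv ≫ tensorMap (𝟙 _) s ≫ (powAdd L n m).hom

theorem mulS_lpow (L : X.Modules) {m : ℕ} (s : Coh.structureModule X ⟶ CohB1.tensorPow L m)
    (n : ℕ) {U : X.Opens} (e : Γ(L, U)) (a : Γ(X, U)) (ha : sec s U = a • lpow L e m) :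
    (mulS L s n).app U (lpow L e n) = a • lpow L e (n + m) := by
  have h1 : (SecTwist.unitorR (CohB1.tensorPow L n)).inv.app U (lpow L e n) =
      tm _ _ U (lpow L e n) (ofFun U 1) := by
    have h := unitorR_hom_tm (CohB1.tensorPow L n) U (lpow L e n) 1
    rw [one_smul] at h
    rw [← h, iso_inv_hom_app, h]
  change (powAdd L n m).hom.app U ((tensorMap (𝟙 _) s).app U
    ((SecTwist.unitorR (CohB1.tensorPow L n)).inv.app U (lpow L e n))) = _
  rw [h1, tensorMap_tm]
  have h2 : s.app U (ofFun U 1) = a • lpow L e m := ha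
  have h3 : (𝟙 (CohB1.tensorPow L n) : _ ⟶ _).app U (lpow L e n) = lpow L e n := rfl
  rw [h2, h3, tm_smul_right, Scheme.Modules.Hom.app_smul, powAdd_hom_lpow]

variable {L : X.Modules} {m : ℕ} (s : Coh.structureModule X ⟶ CohB1.tensorPow L m)
  {F : X.Modules}

/-- `φ : L^n ⟶ F` is divisible by `s^i` -/
def Div : (i : ℕ) → (n : ℕ) → (CohB1.tensorPow L n ⟶ F) → Prop
  | 0, _, _ => True
  | i + 1, n, φ => ∃ ψ : CohB1.tensorPow L (n + m) ⟶ F, φ = mulS L s n ≫ ψ ∧ Div i (n + m) ψ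

theorem Div.exists_smul : ∀ (i n : ℕ) (φ : CohB1.tensorPow L n ⟶ F), Div s i n φ →
    ∀ {U : X.Opens} (e : Γ(L, U)) (a : Γ(X, U)), sec s U = a • lpow L e m →
      ∃ g : Γ(F, U), φ.app U (lpow L e n) = a ^ i • g
  | 0, n, φ, _, U, e, a, _ => ⟨φ.app U (lpow L e n), by rw [pow_zero, one_smul]⟩
  | i + 1, n, φ, h, U, e, a, ha => by
    obtain ⟨ψ, rfl, hψ⟩ := h
    obtain ⟨g, hg⟩ := Div.exists_smul i (n + m) ψ hψ e a ha
    refine ⟨g, ?_⟩
    change ψ.app U ((mulS L s n).app U (lpow L e n)) = _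
    rw [mulS_lpow L s n e a ha, Scheme.Modules.Hom.app_smul, hg, ← mul_smul, ← pow_succ']

/-- if precomposition with `mulS` is surjective from level `n₁` on, every map is infinitely
divisible -/
theorem div_of_surjective (n₁ : ℕ)
    (hsurj : ∀ n, n₁ ≤ n → ∀ φ : CohB1.tensorPow L n ⟶ F,
      ∃ ψ : CohB1.tensorPow L (n + m) ⟶ F, φ = mulS L s n ≫ ψ) :
    ∀ (i n : ℕ), n₁ ≤ n → ∀ φ : CohB1.tensorPow L n ⟶ F, Div s i n φ
  | 0, _, _, _ => trivial
  | i + 1, n, hn, φ => by
    obtain ⟨ψ, hψ⟩ := hsurj n hn φ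
    exact ⟨ψ, hψ, div_of_surjective n₁ hsurj i (n + m) (by omega) ψ⟩

/-- `φ` vanishes on every open contained in `W` -/
def VanOn {M N : X.Modules} (φ : M ⟶ N) (W : X.Opens) : Prop :=
  ∀ (V : X.Opens), V ≤ W → ∀ t : Γ(M, V), φ.app V t = 0

theorem VanOn.mono {M N : X.Modules} {φ : M ⟶ N} {W W' : X.Opens} (h : VanOn φ W)
    (hle : W' ≤ W) : VanOn φ W' := fun V hV t => h V (hV.trans hle) t

/-- on an open where `ε` generates `M`, `φ` vanishes on `W` iff `φ(ε)` restricts to zero on `W` -/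
theorem vanOn_iff {M N : X.Modules} (φ : M ⟶ N) {U : X.Opens} {ε : Γ(M, U)}
    (hg : IsGen M U ε) {W : X.Opens} (hW : W ≤ U) :
    VanOn φ W ↔ res N hW (φ.app U ε) = 0 := by
  constructor
  · intro h
    rw [← QCExact.app_res']
    exact h W le_rfl _
  · intro h V hV t
    obtain ⟨c, rfl⟩ := (hg V (hV.trans hW)).exists_coord t
    rw [Scheme.Modules.Hom.app_smul, QCExact.app_res', ← res_res N hV hW, h, res_zero, smul_zero]

/-- a morphism vanishing locally everywhere is zero -/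
theorem eq_zero_of_locally_vanOn {M N : X.Modules} (φ : M ⟶ N)
    (h : ∀ x : X, ∃ W : X.Opens, x ∈ W ∧ VanOn φ W) : φ = 0 := by
  choose W hxW hW using h
  apply Scheme.Modules.hom_ext
  intro U
  ext t
  change φ.app U t = 0
  have hcov : U ≤ ⨆ x : U, U ⊓ W x.1 := fun y hy =>
    Opens.mem_iSup.mpr ⟨⟨y, hy⟩, hy, hxW y⟩
  apply sec_eq_of_locally_eq N (fun x : U => U ⊓ W x.1) U (fun _ => inf_le_left) hcov
  intro x
  rw [res_zero, ← QCExact.app_res']
  exact hW x.1 _ inf_le_right _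

end Groth.Agent.Lib.Helper11.NegTwA
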