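import Groth.Agent.Lib.Helper11.NegTwA

/-!
# Geometric input for vanishing of negative twists (helper11)

* `exists_affine_section`: for `L` ample and finitely many points there is a section `s` of a
  power of `L` with `X_s` affine containing the points.
* `isClosed_singleton_of_subset_affine`: on a proper `k`-scheme, points of a closed subset
  contained in an affine open are closed points.
-/

set_option autoImplicit false
set_option linter.unusedSectionVars false
set_option linter.style.haveILetI false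
universe u
open CategoryTheory CategoryTheory.Limits AlgebraicGeometry TopologicalSpace Opposite
open Scheme.Modules

noncomputable section

namespace Groth.Agent.Lib.Helper11.NegTwB

open Groth.Agent.Lib.Helper3 Groth.Agent.Lib.Helper3.QCSec Groth.Agent.Lib.Helper3.InvGen
  Groth.Agent.Lib.Helper3.InvTensor Groth.Agent.Lib.Helper3.InvMonoidal
  Groth.Agent.Lib.Helper3.InvAmple

variable {X : Scheme.{u}}

theorem exists_affine_section [QuasiSeparatedSpace X] {L : X.Modules} (hA : CohB1.IsAmple L)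
    {E : Set X} (hE : E.Finite) :
    ∃ (m : ℕ) (s : Coh.structureModule X ⟶ CohB1.tensorPow L m),
      (∀ x ∈ E, x ∈ CohB1.genLocus _ s) ∧ IsAffineOpen (CohB1.genLocus _ s) := by
  classical
  haveI : CompactSpace X := hA.2.1
  have hL := hA.1
  have hcl : ∀ x : X, ∃ z : X, IsClosed ({z} : Set X) ∧ x ⤳ z := by
    intro x
    obtain ⟨z, hz, hzc⟩ := (isClosed_closure (s := ({x} : Set X))).exists_closed_singleton
      ⟨x, subset_closure rfl⟩
    exact ⟨z, hzc, specializes_iff_mem_closure.mpr hz⟩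
  choose cz hczcl hczsp using hcl
  let Zs : Finset X := hE.toFinset.image cz
  have hZcl : ∀ w ∈ Zs, IsClosed ({w} : Set X) := by
    intro w hw
    obtain ⟨x, -, rfl⟩ := Finset.mem_image.mp hw
    exact hczcl x
  have hsec : ∀ z ∈ Zs, ∃ d₀ : ℕ, ∀ d, d₀ ≤ d →
      ∃ t : Coh.structureModule X ⟶ CohB1.tensorPow L d,
        z ∈ CohB1.genLocus _ t ∧ IsAffineOpen (CohB1.genLocus _ t) ∧
          ∀ w ∈ Zs, w ≠ z → w ∉ CohB1.genLocus _ t := by
    intro z hz
    obtain ⟨n, t₀, hzt₀, haff⟩ := hA.2.2 z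
    let C : Set X := (↑(Zs.erase z) : Set X) ∪ ((CohB1.genLocus _ t₀ : X.Opens) : Set X)ᶜ
    have hC : IsClosed C := by
      refine IsClosed.union ?_ (CohB1.genLocus _ t₀).2.isClosed_compl
      have h1 : (↑(Zs.erase z) : Set X) = ⋃ w ∈ Zs.erase z, ({w} : Set X) := by
        ext y; simp [and_comm]
      rw [h1]
      refine Set.Finite.isClosed_biUnion (Finset.finite_toSet _) ?_
      intro w hw
      exact hZcl w (Finset.mem_of_mem_erase hw)
    have hzC : z ∉ C := by
      rintro (h | h)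
      · exact (Finset.notMem_erase z Zs) h
      · exact h hzt₀
    obtain ⟨d₀, hd₀⟩ := Groth.Agent.Lib.Helper7.AvoidGen.exists_sep_section hA
      (isInvertible_structureModule X) z C hC hzC
    refine ⟨d₀, fun d hd => ?_⟩
    obtain ⟨t, hzt, hCt⟩ := hd₀ d hd
    refine ⟨t ≫ (unitorL _).hom, ?_, ?_, ?_⟩
    · rw [genLocus_comp_iso]; exact hzt
    · rw [genLocus_comp_iso]
      have hle : CohB1.genLocus _ t ≤ CohB1.genLocus _ t₀ := by
        intro w hw
        by_contra hcon
        exact hCt w (Or.inr hcon) hw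
      have h2 := isAffineOpen_genLocus_inf (isInvertible_tensorMod (isInvertible_structureModule X)
        (isInvertible_tensorPow hL d)) t haff
      rwa [inf_eq_left.mpr hle] at h2
    · intro w hw hwz
      rw [genLocus_comp_iso]
      exact hCt w (Or.inl (Finset.mem_coe.mpr (Finset.mem_erase.mpr ⟨hwz, hw⟩)))
  choose! d₀ hd₀ using hsec
  let d := Zs.sup d₀
  have ht : ∀ z ∈ Zs, ∃ t : Coh.structureModule X ⟶ CohB1.tensorPow L d,
      z ∈ CohB1.genLocus _ t ∧ IsAffineOpen (CohB1.genLocus _ t) ∧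
        ∀ w ∈ Zs, w ≠ z → w ∉ CohB1.genLocus _ t :=
    fun z hz => hd₀ z hz d (Finset.le_sup hz)
  choose! t ht using ht
  refine ⟨d, ∑ z ∈ Zs, t z, ?_, ?_⟩
  · intro x hx
    have hz : cz x ∈ Zs := Finset.mem_image.mpr ⟨x, hE.mem_toFinset.mpr hx, rfl⟩
    have h3 := InvSum.mem_genLocus_sum_of_unique (isInvertible_tensorPow hL d) Zs t (cz x) (cz x)
      hz (ht _ hz).1 (fun w hw hne => (ht w hw).2.2 (cz x) hz (Ne.symm hne))
    exact (hczsp x).mem_open (CohB1.genLocus _ _).2 h3
  · exact InvSum.isAffineOpen_genLocus_sum (isInvertible_tensorPow hL d) Zs t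
      (fun z hz => (ht z hz).2.1)

theorem isClosed_singleton_of_subset_affine (k : Type u) [Field k] (X : Scheme.{u})
    [X.Over (Spec (CommRingCat.of k))] [IsProper (X ↘ Spec (CommRingCat.of k))]
    {W : X.Opens} (hW : IsAffineOpen W) {Z : Set X} (hZ : IsClosed Z) (hZW : Z ⊆ (W : Set X))
    {x : X} (hx : x ∈ Z) : IsClosed ({x} : Set X) := by
  let p : ↥(Spec Γ(X, W)) := hW.primeIdealOf ⟨x, hZW hx⟩
  have hpx : hW.fromSpec p = x := hW.fromSpec_primeIdealOf ⟨x, hZW hx⟩
  let q : Ideal Γ(X, W) := (hW.primeIdealOf ⟨x, hZW hx⟩).asIdeal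
  haveI : q.IsPrime := (hW.primeIdealOf ⟨x, hZW hx⟩).isPrime
  let T : Scheme.{u} := Spec (CommRingCat.of (Γ(X, W) ⧸ q))
  let i : T ⟶ Spec Γ(X, W) := Spec.map (CommRingCat.ofHom (Ideal.Quotient.mk q))
  let j : T ⟶ X := i ≫ hW.fromSpec
  have hemb : Topology.IsOpenEmbedding hW.fromSpec.base := hW.fromSpec.isOpenEmbedding
  have hri : Set.range i = closure ({p} : Set ↥(Spec Γ(X, W))) := by
    have h0 : closure ({p} : Set ↥(Spec Γ(X, W))) = PrimeSpectrum.zeroLocus (q : Set Γ(X, W)) :=
      PrimeSpectrum.closure_singleton (hW.primeIdealOf ⟨x, hZW hx⟩)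
    rw [h0]
    have h1 := range_comap_of_surjective _ (Ideal.Quotient.mk q) Ideal.Quotient.mk_surjective
    rw [Ideal.mk_ker] at h1
    exact h1
  have hj : Set.range j = hW.fromSpec '' (Set.range i) := by
    rw [← Set.range_comp]
    rfl
  have hrange : Set.range j = closure {x} := by
    rw [hj, hri]
    apply le_antisymm
    · refine (image_closure_subset_closure_image hW.fromSpec.continuous).trans ?_
      rw [Set.image_singleton, hpx]
    · intro y hy
      have hyW : y ∈ (W : Set X) :=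
        hZW ((hZ.closure_subset_iff.mpr (Set.singleton_subset_iff.mpr hx)) hy)
      have hyr : y ∈ Set.range hW.fromSpec := by
        rw [hW.range_fromSpec]; exact hyW
      obtain ⟨p', rfl⟩ := hyr
      refine ⟨p', ?_, rfl⟩
      have h2 := hemb.isInducing.closure_eq_preimage_closure_image ({p} : Set ↥(Spec Γ(X, W)))
      rw [h2, Set.image_singleton]
      show hW.fromSpec p' ∈ closure {hW.fromSpec p}
      rw [hpx]
      exact hy
  haveI : IsClosedImmersion j :=
    IsClosedImmersion.of_isPreimmersion j (hrange ▸ isClosed_closure)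
  let g : T ⟶ Spec (CommRingCat.of k) := j ≫ (X ↘ Spec (CommRingCat.of k))
  haveI : IsFinite g := IsFinite.iff_isProper_and_isAffineHom.mpr ⟨inferInstance, inferInstance⟩
  have hfin : RingHom.Finite g.appTop.hom := IsFinite.finite_app g ⊤ (isAffineOpen_top _)
  haveI : IsArtinianRing Γ(Spec (CommRingCat.of k), ⊤) :=
    (Scheme.ΓSpecIso (CommRingCat.of k)).commRingCatIsoToRingEquiv.symm.isArtinianRing
  algebraize [g.appTop.hom]
  haveI : IsArtinianRing Γ(T, ⊤) :=
    IsArtinianRing.of_finite Γ(Spec (CommRingCat.of k), ⊤) Γ(T, ⊤)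
  let eT : Γ(T, ⊤) ≃+* (Γ(X, W) ⧸ q) :=
    (Scheme.ΓSpecIso (CommRingCat.of (Γ(X, W) ⧸ q))).commRingCatIsoToRingEquiv
  haveI : IsDomain Γ(T, ⊤) := MulEquiv.isDomain (Γ(X, W) ⧸ q) eT.toMulEquiv
  have hfield : IsField Γ(T, ⊤) := IsArtinianRing.isField_of_isDomain _
  have hfq : IsField (Γ(X, W) ⧸ q) := MulEquiv.isField hfield eT.symm.toMulEquiv
  have hq : q.IsMaximal := Ideal.Quotient.maximal_of_isField q hfq
  have hpc : closure ({p} : Set ↥(Spec Γ(X, W))) = {p} :=
    ((PrimeSpectrum.isClosed_singleton_iff_isMaximal (hW.primeIdealOf ⟨x, hZW hx⟩)).mpr hq).closure_eq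
  have hfinal : closure ({x} : Set X) = {x} := by
    rw [← hrange, hj, hri, hpc, Set.image_singleton, hpx]
  rw [← hfinal]
  exact isClosed_closure

end Groth.Agent.Lib.Helper11.NegTwB
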