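import Groth.Agent.Lib.Helper11.NegTwB
import Groth.Agent.Lib.Helper7.AmpleRes2
import Groth.Agent.S0002

/-!
# `Hom(L^n, F) = 0` for `n ≫ 0`, `L` ample on a proper `k`-scheme, `F` coherent without closed
associated points (helper11)
-/

set_option autoImplicit false
set_option linter.unusedSectionVars false
set_option linter.style.haveILetI false
universe u
open CategoryTheory CategoryTheory.Limits AlgebraicGeometry TopologicalSpace Opposite
open Scheme.Modules

noncomputable section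

namespace Groth.Agent.Lib.Helper11.NegTwC

open Groth.Agent.Lib.Helper3 Groth.Agent.Lib.Helper3.QCSec Groth.Agent.Lib.Helper3.InvGen
  Groth.Agent.Lib.Helper3.InvTensor Groth.Agent.Lib.Helper3.InvMonoidal
  Groth.Agent.Lib.Helper3.InvAmple Groth.Agent.Lib.Helper7.TwFun Groth.Agent.Lib.Helper7.Gaeta
  Groth.Agent.Lib.Helper11.NegTwA Groth.Agent.Lib.Helper11.NegTwB

/-! ### arithmetic -/

theorem exists_stable (b : ℕ → ℕ) (hb : ∀ n, b (n + 1) ≤ b n) :
    ∃ n₁, ∀ n, n₁ ≤ n → b (n + 1) = b n := by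
  have hne : (Set.range b).Nonempty := ⟨b 0, 0, rfl⟩
  obtain ⟨n₁, hn₁⟩ := Nat.sInf_mem hne
  refine ⟨n₁, fun n hn => ?_⟩
  have hanti : Antitone b := antitone_nat_of_succ_le hb
  have h1 : b (n + 1) ≤ b n := hb n
  have h2 : b n ≤ b n₁ := hanti hn
  have h3 : b n₁ ≤ b (n + 1) := by rw [hn₁]; exact Nat.sInf_le ⟨n + 1, rfl⟩
  omega

theorem exists_periodic (a : ℕ → ℕ) (m : ℕ) (ha : ∀ n, a (n + m) ≤ a n) :
    ∃ n₁, ∀ n, n₁ ≤ n → a (n + m) = a n := by
  let b : ℕ → ℕ := fun n => ∑ j ∈ Finset.range m, a (n + j)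
  have key : ∀ n, b (n + 1) + a n = b n + a (n + m) := by
    intro n
    have h1 := Finset.sum_range_succ' (fun j => a (n + j)) m
    have h2 := Finset.sum_range_succ (fun j => a (n + j)) m
    have h3 : b (n + 1) = ∑ j ∈ Finset.range m, a (n + (j + 1)) := by
      apply Finset.sum_congr rfl
      intro j _
      congr 1
      omega
    have h4 : a (n + 0) = a n := rfl
    change b (n + 1) + a n = (∑ j ∈ Finset.range m, a (n + j)) + a (n + m)
    rw [h3, ← h2, h1, h4]
  obtain ⟨n₁, hn₁⟩ := exists_stable b (fun n => by have := key n; have := ha n; omega)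
  exact ⟨n₁, fun n hn => by have := key n; have := hn₁ n hn; omega⟩

variable {X : Scheme.{u}}

/-- `L^n ⊗ M^n ≅ O` from `L ⊗ M ≅ O` -/
def pairPow {L M : X.Modules} (e : CohB1.tensorMod L M ≅ Coh.structureModule X) (n : ℕ) :
    CohB1.tensorMod (CohB1.tensorPow L n) (CohB1.tensorPow M n) ≅ Coh.structureModule X :=
  (powTensor L M n).symm ≪≫ tensorPowIso e n ≪≫ powUnit X n

section Main

variable (k : Type u) [Field k] (X : Scheme.{u}) [X.Over (Spec (CommRingCat.of k))]
  [IsProper (X ↘ Spec (CommRingCat.of k))]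

theorem finite_hom {L M : X.Modules} (e : CohB1.tensorMod L M ≅ Coh.structureModule X)
    (hMi : PicF.IsInvertible M) (F : X.Modules) (hF : Coh.IsCoh F) (n : ℕ) :
    Module.Finite k (CohB1.tensorPow L n ⟶ F) := by
  haveI := hF.1
  haveI := hF.2
  let pair := pairPow e n
  have hb := dictT_bijective k (CohB1.tensorPow M n) (CohB1.tensorPow L n)
    (braid _ _ ≪≫ pair) pair F
  have hcoh : Coh.IsCoh (CohB1.tensorMod F (CohB1.tensorPow M n)) :=
    ⟨InvCoh.isQuasicoherent_tensorMod F _ (isInvertible_tensorPow hMi n),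
      InvCoh.isFiniteType_tensorMod F _ (isInvertible_tensorPow hMi n)⟩
  haveI : Module.Finite k (Coh.HH X ((twR (CohB1.tensorPow M n)).obj F) 0) :=
    Groth.Agent.S0002.result k X _ hcoh 0
  exact Module.Finite.of_injective (dictT k _ _ pair F) hb.1

include k in
theorem subsingleton_HH_of_hom_eq_zero {L M : X.Modules}
    (e : CohB1.tensorMod L M ≅ Coh.structureModule X) (F : X.Modules) (n : ℕ)
    (h : ∀ φ : CohB1.tensorPow L n ⟶ F, φ = 0) :
    Subsingleton (Coh.HH X (CohB1.tensorMod F (CohB1.tensorPow M n)) 0) := by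
  let pair := pairPow e n
  have hb := dictT_bijective k (CohB1.tensorPow M n) (CohB1.tensorPow L n)
    (braid _ _ ≪≫ pair) pair F
  refine ⟨fun x y => ?_⟩
  obtain ⟨φ, rfl⟩ := hb.2 x
  obtain ⟨ψ, rfl⟩ := hb.2 y
  rw [h φ, h ψ]

include k in
theorem hom_eq_zero (L : X.Modules) (hL : CohB1.IsAmple L) (M : X.Modules)
    (hM : ClSub.IsInverseOf L M) (F : X.Modules) (hF : Coh.IsCoh F)
    (hass : ∀ x : X, IsClosed ({x} : Set X) → ¬ Curv2.IsAssPoint F x) :
    ∃ n₀ : ℕ, ∀ n, n₀ ≤ n → ∀ φ : CohB1.tensorPow L n ⟶ F, φ = 0 := by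
  classical
  obtain ⟨e⟩ := hM
  have hLi := hL.1
  have hMi : PicF.IsInvertible M :=
    Groth.Agent.Lib.Helper7.AmpleRes2.isInvertible_of_isInverseOf hLi ⟨braid M L ≪≫ e⟩
  haveI := hF.1
  haveI := hF.2
  haveI : CompactSpace X := hL.2.1
  haveI : IsLocallyNoetherian X :=
    LocallyOfFiniteType.isLocallyNoetherian (X ↘ Spec (CommRingCat.of k))
  haveI : IsNoetherian X := {}
  haveI : QuasiSeparatedSpace X := inferInstance
  -- associated points
  have hEfin : (AssSch.Ass F).Finite := by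
    obtain ⟨ι, hι, U, hU, -, hcov⟩ := exists_finite_affine_cover (⊤ : X.Opens) isCompact_univ
    have hsub : AssSch.Ass F ⊆ ⋃ i, AssSch.Ass F ∩ (U i : Set X) := by
      intro x hx
      obtain ⟨i, hi⟩ := Opens.mem_iSup.mp (hcov (show x ∈ (⊤ : X.Opens) from trivial))
      exact Set.mem_iUnion.mpr ⟨i, hx, hi⟩
    exact (Set.finite_iUnion (fun i =>
      Groth.Agent.Lib.Helper1.AssPrim.finite_ass_inter F hF (hU i))).subset hsub
  obtain ⟨m, s, hsE, haff⟩ := exists_affine_section hL hEfin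
  -- local data
  have hloc : ∀ x : X, ∃ (U : X.Opens) (ε : Γ(L, U)) (a : Γ(X, U)), IsAffineOpen U ∧ x ∈ U ∧
      IsGen L U ε ∧ sec s U = a • lpow L ε m ∧ CohB1.genLocus _ s ⊓ U = X.basicOpen a := by
    intro x
    obtain ⟨U, ε, hU, hxU, hg⟩ := exists_affine_isGen hLi x
    obtain ⟨a, ha⟩ := (isGen_lpow hg m).self.exists_coord (sec s U)
    exact ⟨U, ε, a, hU, hxU, hg, ha.symm, genLocus_inf_eq_basicOpen s (isGen_lpow hg m) a ha.symm⟩
  -- injectivity
  have hinj : ∀ n (ψ : CohB1.tensorPow L (n + m) ⟶ F), mulS L s n ≫ ψ = 0 → ψ = 0 := by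
    intro n ψ hψ
    apply eq_zero_of_locally_vanOn
    intro x
    obtain ⟨U, ε, a, hU, hxU, hg, ha, hbo⟩ := hloc x
    refine ⟨U, hxU, ?_⟩
    rw [vanOn_iff ψ (isGen_lpow hg (n + m)) le_rfl, res_self]
    by_contra hne
    have h1 : a • ψ.app U (lpow L ε (n + m)) = 0 := by
      have h2 : (mulS L s n ≫ ψ).app U (lpow L ε n) = 0 := by rw [hψ]; rfl
      change ψ.app U ((mulS L s n).app U (lpow L ε n)) = 0 at h2
      rwa [mulS_lpow L s n ε a ha, Scheme.Modules.Hom.app_smul] at h2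
    -- a point where the germ is nonzero
    obtain ⟨y, hy⟩ : ∃ y : U, F.presheaf.germ U y.1 y.2 (ψ.app U (lpow L ε (n + m))) ≠ 0 := by
      by_contra hcon
      push Not at hcon
      apply hne
      apply TopCat.Presheaf.section_ext ⟨F.presheaf, F.isSheaf⟩ U
      intro y hyU
      rw [hcon ⟨y, hyU⟩, map_zero]
    obtain ⟨z, hzU, hzass, -, hzann⟩ :=
      Groth.Agent.Lib.Helper17.AssPt.exists_assPoint_specializes hU F y.1 y.2 _ hy
    have h3 := hzann a h1
    have h4 : z ∈ CohB1.genLocus _ s ⊓ U := ⟨hsE z hzass, hzU⟩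
    rw [hbo] at h4
    exact (mem_basicOpen_iff_notMem_primeIdealOf hU z hzU a).mp h4 h3
  -- dimensions
  haveI hfin : ∀ n, Module.Finite k (CohB1.tensorPow L n ⟶ F) := finite_hom k X e hMi F hF
  let pre : ∀ n, (CohB1.tensorPow L (n + m) ⟶ F) →ₗ[k] (CohB1.tensorPow L n ⟶ F) :=
    fun n => Linear.leftComp k F (mulS L s n)
  have hpre : ∀ n, Function.Injective (pre n) := by
    intro n
    rw [← LinearMap.ker_eq_bot, LinearMap.ker_eq_bot']
    intro ψ hψ
    exact hinj n ψ hψ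
  obtain ⟨n₁, hn₁⟩ := exists_periodic
    (fun n => Module.finrank k (CohB1.tensorPow L n ⟶ F)) m
    (fun n => LinearMap.finrank_le_finrank_of_injective (hpre n))
  have hsurj : ∀ n, n₁ ≤ n → ∀ φ : CohB1.tensorPow L n ⟶ F,
      ∃ ψ : CohB1.tensorPow L (n + m) ⟶ F, φ = mulS L s n ≫ ψ := by
    intro n hn φ
    have h1 : Function.Surjective (pre n) :=
      (LinearMap.injective_iff_surjective_of_finrank_eq_finrank (hn₁ n hn)).mp (hpre n)
    obtain ⟨ψ, hψ⟩ := h1 φ
    exact ⟨ψ, hψ.symm⟩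
  have hdiv := div_of_surjective s n₁ hsurj
  refine ⟨n₁, fun n hn φ => ?_⟩
  by_contra hφ
  -- the support of φ
  let Zc : Set X := {x | ∃ W : X.Opens, x ∈ W ∧ VanOn φ W}
  have hZc : IsOpen Zc := by
    rw [isOpen_iff_forall_mem_open]
    rintro x ⟨W, hxW, hW⟩
    exact ⟨W, fun y hy => ⟨W, hy, hW⟩, W.2, hxW⟩
  have hZne : ∃ x, x ∉ Zc := by
    by_contra hcon
    push Not at hcon
    exact hφ (eq_zero_of_locally_vanOn φ hcon)
  -- the support lies in `X_s`
  have hZs : Zcᶜ ⊆ ((CohB1.genLocus _ s : X.Opens) : Set X) := by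
    intro x hx
    by_contra hxs
    apply hx
    obtain ⟨U, ε, a, hU, hxU, hg, ha, hbo⟩ := hloc x
    haveI : IsNoetherianRing Γ(X, U) := IsLocallyNoetherian.component_noetherian ⟨U, hU⟩
    haveI : Module.Finite Γ(X, U) Γ(F, U) := QCProps.finite_sections F hU
    set f := φ.app U (lpow L ε n) with hf
    have hmem : f ∈ (⨅ i : ℕ, (Ideal.span {a}) ^ i • (⊤ : Submodule Γ(X, U) Γ(F, U))) := by
      rw [Submodule.mem_iInf]
      intro i
      obtain ⟨g, hg'⟩ := Div.exists_smul s i n φ (hdiv i n hn φ) ε a ha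
      rw [hf, hg']
      exact Submodule.smul_mem_smul (Ideal.pow_mem_pow (Ideal.mem_span_singleton_self a) i)
        Submodule.mem_top
    obtain ⟨⟨r, hr⟩, hrf⟩ := (Ideal.mem_iInf_smul_pow_eq_bot_iff (Ideal.span {a}) f).mp hmem
    obtain ⟨b, rfl⟩ := Ideal.mem_span_singleton'.mp hr
    have hxa : x ∉ X.basicOpen a := by
      rw [← hbo]
      exact fun h => hxs h.1
    have hxr : x ∉ X.basicOpen (b * a) := by
      rw [Scheme.basicOpen_mul]
      exact fun h => hxa h.2
    have hxc : x ∈ X.basicOpen (1 - b * a) := by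
      rw [Scheme.mem_basicOpen _ _ _ hxU] at hxr ⊢
      rw [map_sub, map_one]
      exact IsLocalRing.isUnit_one_sub_self_of_mem_nonunits _ hxr
    have hcf : (1 - b * a) • f = 0 := by
      rw [sub_smul, one_smul]
      exact sub_eq_zero.mpr hrf.symm
    refine ⟨X.basicOpen (1 - b * a), hxc, ?_⟩
    rw [vanOn_iff φ (isGen_lpow hg n) (X.basicOpen_le _)]
    have hu : IsUnit (rres X (X.basicOpen_le (1 - b * a)) (1 - b * a)) :=
      RingedSpace.isUnit_res_basicOpen X.toRingedSpace (1 - b * a)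
    apply Groth.Agent.Lib.Helper17.AssPt.eq_zero_of_isUnit_smul hu
    rw [← res_smul, hcf, res_zero]
  -- points of the support are closed
  have hclosed : ∀ x, x ∉ Zc → IsClosed ({x} : Set X) := fun x hx =>
    isClosed_singleton_of_subset_affine k X haff hZc.isClosed_compl hZs hx
  obtain ⟨x, hx⟩ := hZne
  obtain ⟨U, ε, a, hU, hxU, hg, ha, hbo⟩ := hloc x
  set f := φ.app U (lpow L ε n) with hf
  have hgerm : F.presheaf.germ U x hxU f ≠ 0 := by
    intro h0
    apply hx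
    have h1 : F.presheaf.germ U x hxU f = F.presheaf.germ U x hxU 0 := by rw [h0, map_zero]
    obtain ⟨W, hxW, iU, iV, hW⟩ := TopCat.Presheaf.germ_eq F.presheaf x hxU hxU f 0 h1
    refine ⟨W, hxW, ?_⟩
    rw [vanOn_iff φ (isGen_lpow hg n) iU.le]
    have h2 : F.presheaf.map iV.op (0 : Γ(F, U)) = 0 := map_zero _
    rw [h2] at hW
    exact hW
  obtain ⟨z, hzU, hzass, -, hzann⟩ :=
    Groth.Agent.Lib.Helper17.AssPt.exists_assPoint_specializes hU F x hxU f hgerm
  have hzZ : z ∉ Zc := by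
    rintro ⟨W', hzW', hW'⟩
    obtain ⟨c, hcle, hzc⟩ := hU.exists_basicOpen_le (V := W' ⊓ U) ⟨z, hzW', hzU⟩ hzU
    have h1 : VanOn φ (X.basicOpen c) := hW'.mono (hcle.trans inf_le_left)
    rw [vanOn_iff φ (isGen_lpow hg n) (X.basicOpen_le c)] at h1
    obtain ⟨N, hN⟩ := (isLocSec_of_isQuasicoherent F hU c _ rfl (X.basicOpen_le c)).inj f h1
    have h2 := hzann (c ^ N) hN
    have h3 : c ∈ (hU.primeIdealOf ⟨z, hzU⟩).asIdeal :=
      (hU.primeIdealOf ⟨z, hzU⟩).isPrime.mem_of_pow_mem N h2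
    exact (mem_basicOpen_iff_notMem_primeIdealOf hU z hzU c).mp hzc h3
  exact hass z (hclosed z hzZ) hzass

end Main

end Groth.Agent.Lib.Helper11.NegTwC
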