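import Mathlib
import Groth.Agent.Lib.Helper11.HensSum

/-!
# NeronSigma: unique-extension (Néron mapping) property and coproducts (helper11)
-/

set_option autoImplicit false
universe u

open CategoryTheory CategoryTheory.Limits AlgebraicGeometry

namespace Groth.Agent.Lib.Helper11.NeronSigma

/-- explicit form of bijectivity of restriction to `U` -/
theorem bij_iff {S : Scheme.{u}} (U : S.Opens) (Y Z : Over S) :
    Function.Bijective (fun g : Y ⟶ Z => (Over.pullback U.ι).map g) ↔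
    ∀ g₀ : ((Y.hom ⁻¹ᵁ U : Y.left.Opens) : Scheme.{u}) ⟶ Z.left,
      g₀ ≫ Z.hom = (Y.hom ⁻¹ᵁ U).ι ≫ Y.hom →
      ∃! g : Y.left ⟶ Z.left, g ≫ Z.hom = Y.hom ∧ (Y.hom ⁻¹ᵁ U).ι ≫ g = g₀ := by
  let adj := Over.mapPullbackAdj U.ι
  have h1 : (fun g : Y ⟶ Z => (Over.pullback U.ι).map g) =
      (adj.homEquiv _ _) ∘ (fun g : Y ⟶ Z => adj.counit.app Y ≫ g) := by
    funext g
    simp only [Function.comp_apply]
    rw [Adjunction.homEquiv_unit, Functor.map_comp, ← Category.assoc,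
      adj.right_triangle_components, Category.id_comp]
  rw [h1, Function.Bijective.of_comp_iff' (adj.homEquiv _ _).bijective,
    Function.bijective_iff_existsUnique]
  let e := pullbackRestrictIsoRestrict Y.hom U
  have hε : (adj.counit.app Y).left = e.hom ≫ (Y.hom ⁻¹ᵁ U).ι := by
    rw [pullbackRestrictIsoRestrict_hom_ι]
    simp [adj]
  constructor
  · intro H g₀ hg₀
    have hw : (e.hom ≫ g₀) ≫ Z.hom =
        ((Over.map U.ι).obj ((Over.pullback U.ι).obj Y)).hom := by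
      rw [Category.assoc, hg₀, ← Category.assoc, pullbackRestrictIsoRestrict_hom_ι]
      simp [pullback.condition]
    obtain ⟨g, hg, huniq⟩ := H (Over.homMk (e.hom ≫ g₀) hw)
    refine ⟨g.left, ⟨Over.w g, ?_⟩, ?_⟩
    · have h2 := congrArg (fun k => Over.Hom.left k) hg
      simp only [Over.comp_left, Over.homMk_left, hε, Category.assoc] at h2
      exact (cancel_epi e.hom).1 h2
    · rintro g' ⟨hg'1, hg'2⟩
      have : Over.homMk g' hg'1 = g := huniq _ (by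
        ext
        simp only [Over.comp_left, Over.homMk_left, hε, Category.assoc, hg'2])
      rw [← this]
      rfl
  · intro H h
    have hg₀ : (e.inv ≫ h.left) ≫ Z.hom = (Y.hom ⁻¹ᵁ U).ι ≫ Y.hom := by
      rw [Category.assoc, Over.w h, ← pullbackRestrictIsoRestrict_inv_fst, Category.assoc]
      congr 1
      simp [pullback.condition]
    obtain ⟨g, ⟨hg1, hg2⟩, huniq⟩ := H (e.inv ≫ h.left) hg₀
    refine ⟨Over.homMk g hg1, ?_, ?_⟩
    · ext
      simp only [Over.comp_left, Over.homMk_left, hε, Category.assoc, hg2, Iso.hom_inv_id_assoc]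
    · intro g' hg'
      ext
      simp only [Over.homMk_left]
      refine huniq g'.left ⟨Over.w g', ?_⟩
      have h2 := congrArg (fun k => Over.Hom.left k) hg'
      simp only [Over.comp_left, hε, Category.assoc] at h2
      rw [← h2, Iso.inv_hom_id_assoc]

/-- unique extension property -/
def Ext {S Z : Scheme.{u}} (F : Z ⟶ S) (U : S.Opens) : Prop :=
  ∀ (Y : Scheme.{u}) (y : Y ⟶ S), Smooth y →
    ∀ g₀ : ((y ⁻¹ᵁ U : Y.Opens) : Scheme.{u}) ⟶ Z, g₀ ≫ F = (y ⁻¹ᵁ U).ι ≫ y →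
      ∃! g : Y ⟶ Z, g ≫ F = y ∧ (y ⁻¹ᵁ U).ι ≫ g = g₀

theorem nmp_iff_ext {S Z : Scheme.{u}} (F : Z ⟶ S) (U : S.Opens) :
    (∀ Y : Over S, Smooth Y.hom →
      Function.Bijective (fun g : Y ⟶ Over.mk F => (Over.pullback U.ι).map g)) ↔ Ext F U := by
  constructor
  · intro H Y y hy g₀ hg₀
    exact (bij_iff U (Over.mk y) (Over.mk F)).1 (H (Over.mk y) hy) g₀ hg₀
  · intro H Y hY
    exact (bij_iff U Y (Over.mk F)).2 (fun g₀ hg₀ => H Y.left Y.hom hY g₀ hg₀)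

variable {I : Type u} (B N : I → Scheme.{u}) (f : ∀ i, N i ⟶ B i)

theorem smooth_sigmaMap_iff : Smooth (Limits.Sigma.map f) ↔ ∀ i, Smooth (f i) := by
  constructor
  · intro h i
    exact MorphismProperty.of_isPullback (P := @Smooth) (HensSum.isPullback_sigmaMap B N f i) h
  · intro h
    rw [IsZariskiLocalAtSource.iff_of_openCover (P := @Smooth) (sigmaOpenCover N)]
    intro (i : I)
    have : (sigmaOpenCover N).f i ≫ Limits.Sigma.map f = f i ≫ Sigma.ι B i :=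
      Sigma.ι_map f i
    rw [this]
    haveI h1 : Smooth (f i) := h i
    haveI h2 : Smooth (Sigma.ι B i) := inferInstance
    exact smooth_comp (f i) (Sigma.ι B i)

theorem ext_of_sigma (U : (∐ B).Opens) (H : Ext (Limits.Sigma.map f) U) (i : I) :
    Ext (f i) ((Sigma.ι B i) ⁻¹ᵁ U) := by
  intro Y y hy g₀ hg₀
  haveI := hy
  have hpb := HensSum.isPullback_sigmaMap B N f i
  have hsm : Smooth (y ≫ Sigma.ι B i) := inferInstance
  have hc : (g₀ ≫ Sigma.ι N i) ≫ Limits.Sigma.map f =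
      ((y ≫ Sigma.ι B i) ⁻¹ᵁ U).ι ≫ (y ≫ Sigma.ι B i) := by
    rw [Category.assoc, Sigma.ι_map, ← Category.assoc, hg₀, Category.assoc]
    rfl
  obtain ⟨g', ⟨hg'1, hg'2⟩, huniq⟩ := H Y (y ≫ Sigma.ι B i) hsm (g₀ ≫ Sigma.ι N i) hc
  refine ⟨hpb.lift g' y hg'1, ⟨hpb.lift_snd _ _ _, ?_⟩, ?_⟩
  · rw [← cancel_mono (Sigma.ι N i), Category.assoc, hpb.lift_fst]
    exact hg'2
  · rintro g ⟨hg1, hg2⟩
    apply hpb.hom_ext
    · rw [hpb.lift_fst]
      refine huniq _ ⟨?_, ?_⟩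
      · rw [Category.assoc, Sigma.ι_map, ← Category.assoc, hg1]
      · rw [← Category.assoc]
        congr 1
    · rw [hpb.lift_snd, hg1]

theorem sigma_of_ext (U : (∐ B).Opens) (H : ∀ i, Ext (f i) ((Sigma.ι B i) ⁻¹ᵁ U)) :
    Ext (Limits.Sigma.map f) U := by
  classical
  intro Y y hy g₀ hg₀
  haveI := hy
  let 𝒰 : Y.OpenCover := (sigmaOpenCover B).pullback₁ y
  -- components
  let p : ∀ i, pullback y (Sigma.ι B i) ⟶ Y := fun i => pullback.fst y (Sigma.ι B i)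
  let yi : ∀ i, pullback y (Sigma.ι B i) ⟶ B i := fun i => pullback.snd y (Sigma.ι B i)
  have hpy : ∀ i, p i ≫ y = yi i ≫ Sigma.ι B i := fun i => pullback.condition
  have h𝒰f : ∀ i : I, 𝒰.f i = p i := fun i => rfl
  have hpb := fun i => HensSum.isPullback_sigmaMap B N f i
  -- the opens
  let T : ∀ i, (pullback y (Sigma.ι B i)).Opens := fun i => (yi i) ⁻¹ᵁ ((Sigma.ι B i) ⁻¹ᵁ U)
  have hTle : ∀ i, Set.range ((T i).ι ≫ p i) ⊆ Set.range (y ⁻¹ᵁ U).ι := by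
    intro i
    rintro _ ⟨t, rfl⟩
    rw [Scheme.Opens.range_ι]
    show y (((T i).ι ≫ p i) t) ∈ U
    rw [← Scheme.Hom.comp_apply, Category.assoc, hpy i]
    exact t.2
  let j : ∀ i, ((T i : (pullback y (Sigma.ι B i)).Opens) : Scheme.{u}) ⟶ ((y ⁻¹ᵁ U : Y.Opens) : Scheme.{u}) :=
    fun i => IsOpenImmersion.lift (y ⁻¹ᵁ U).ι ((T i).ι ≫ p i) (hTle i)
  have hj : ∀ i, j i ≫ (y ⁻¹ᵁ U).ι = (T i).ι ≫ p i := fun i => IsOpenImmersion.lift_fac _ _ _
  have hcomp : ∀ i, (j i ≫ g₀) ≫ Limits.Sigma.map f = ((T i).ι ≫ yi i) ≫ Sigma.ι B i := by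
    intro i
    rw [Category.assoc, hg₀, ← Category.assoc, hj, Category.assoc, hpy, Category.assoc]
  let g0 : ∀ i, ((T i : (pullback y (Sigma.ι B i)).Opens) : Scheme.{u}) ⟶ N i :=
    fun i => (hpb i).lift (j i ≫ g₀) ((T i).ι ≫ yi i) (hcomp i)
  have hg0₁ : ∀ i, g0 i ≫ Sigma.ι N i = j i ≫ g₀ := fun i => (hpb i).lift_fst _ _ _
  have hg0₂ : ∀ i, g0 i ≫ f i = (T i).ι ≫ yi i := fun i => (hpb i).lift_snd _ _ _
  have hex : ∀ i, ∃! g : pullback y (Sigma.ι B i) ⟶ N i, g ≫ f i = yi i ∧ (T i).ι ≫ g = g0 i :=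
    fun i => H i _ (yi i) inferInstance (g0 i) (hg0₂ i)
  choose gi hgi hgiu using fun i => hex i
  -- empty overlaps
  have hempty : ∀ a b : I, a ≠ b → IsEmpty ↥(pullback (p a) (p b)) := by
    intro a b hab
    refine ⟨fun z => ?_⟩
    have h1 : y ((pullback.fst (p a) (p b) ≫ p a) z) = y ((pullback.snd (p a) (p b) ≫ p b) z) := by
      rw [pullback.condition]
    rw [← Scheme.Hom.comp_apply, ← Scheme.Hom.comp_apply, Category.assoc, Category.assoc, hpy, hpy,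
      ← Category.assoc, ← Category.assoc, Scheme.Hom.comp_apply, Scheme.Hom.comp_apply] at h1
    have h2 := (sigmaι_eq_iff B a b _ _).mp h1
    exact hab (Sigma.mk.inj_iff.mp h2).1
  have hglue : ∀ a b : 𝒰.I₀, pullback.fst (𝒰.f a) (𝒰.f b) ≫ (gi a ≫ Sigma.ι N a) =
      pullback.snd (𝒰.f a) (𝒰.f b) ≫ (gi b ≫ Sigma.ι N b) := by
    intro (a : I) (b : I)
    by_cases hab : a = b
    · subst hab
      have : pullback.fst (𝒰.f a) (𝒰.f a) = pullback.snd (𝒰.f a) (𝒰.f a) := by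
        rw [← cancel_mono (𝒰.f a)]
        exact pullback.condition
      rw [this]
    · haveI : IsEmpty ↥(pullback (𝒰.f a) (𝒰.f b)) := hempty a b hab
      exact (isInitialOfIsEmpty (X := pullback (𝒰.f a) (𝒰.f b))).hom_ext _ _
  let g : Y ⟶ ∐ N := 𝒰.glueMorphisms (fun i => gi i ≫ Sigma.ι N i) hglue
  have hgι : ∀ i : I, p i ≫ g = gi i ≫ Sigma.ι N i := fun i =>
    Scheme.Cover.ι_glueMorphisms 𝒰 (fun i => gi i ≫ Sigma.ι N i) hglue i
  have hgF : g ≫ Limits.Sigma.map f = y := by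
    refine Scheme.Cover.hom_ext 𝒰 _ _ (fun (i : I) => ?_)
    show p i ≫ (g ≫ Limits.Sigma.map f) = p i ≫ y
    rw [← Category.assoc, hgι, Category.assoc, Sigma.ι_map, ← Category.assoc, (hgi i).1, hpy]
  have hgU : (y ⁻¹ᵁ U).ι ≫ g = g₀ := by
    let 𝒱 : Scheme.OpenCover ((y ⁻¹ᵁ U : Y.Opens) : Scheme.{u}) := 𝒰.pullback₁ (y ⁻¹ᵁ U).ι
    refine Scheme.Cover.hom_ext 𝒱 _ _ (fun (i : I) => ?_)
    show pullback.fst (y ⁻¹ᵁ U).ι (p i) ≫ ((y ⁻¹ᵁ U).ι ≫ g) = pullback.fst (y ⁻¹ᵁ U).ι (p i) ≫ g₀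
    have hcond : pullback.fst (y ⁻¹ᵁ U).ι (p i) ≫ (y ⁻¹ᵁ U).ι = pullback.snd (y ⁻¹ᵁ U).ι (p i) ≫ p i :=
      pullback.condition
    have hk : Set.range (pullback.snd (y ⁻¹ᵁ U).ι (p i)) ⊆ Set.range (T i).ι := by
      rintro _ ⟨v, rfl⟩
      rw [Scheme.Opens.range_ι]
      show (Sigma.ι B i) ((yi i) ((pullback.snd (y ⁻¹ᵁ U).ι (p i)) v)) ∈ U
      rw [← Scheme.Hom.comp_apply, ← Scheme.Hom.comp_apply, ← hpy, ← Category.assoc, ← hcond,
        Category.assoc, Scheme.Hom.comp_apply, Scheme.Hom.comp_apply]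
      exact ((pullback.fst (y ⁻¹ᵁ U).ι (p i)) v).2
    let k := IsOpenImmersion.lift (T i).ι (pullback.snd (y ⁻¹ᵁ U).ι (p i)) hk
    have hkfac : k ≫ (T i).ι = pullback.snd (y ⁻¹ᵁ U).ι (p i) := IsOpenImmersion.lift_fac _ _ _
    have hkj : k ≫ j i = pullback.fst (y ⁻¹ᵁ U).ι (p i) := by
      rw [← cancel_mono (y ⁻¹ᵁ U).ι, Category.assoc, hj, ← Category.assoc, hkfac, hcond]
    rw [← Category.assoc, hcond, Category.assoc, hgι, ← hkfac, Category.assoc, ← Category.assoc (T i).ι,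
      (hgi i).2, hg0₁, ← Category.assoc, hkj]
  refine ⟨g, ⟨hgF, hgU⟩, ?_⟩
  rintro g' ⟨hg'1, hg'2⟩
  refine Scheme.Cover.hom_ext 𝒰 _ _ (fun (i : I) => ?_)
  show p i ≫ g' = p i ≫ g
  rw [hgι]
  have hc' : (p i ≫ g') ≫ Limits.Sigma.map f = yi i ≫ Sigma.ι B i := by
    rw [Category.assoc, hg'1, hpy]
  have h3 : (hpb i).lift (p i ≫ g') (yi i) hc' = gi i := by
    refine hgiu i _ ⟨(hpb i).lift_snd _ _ _, ?_⟩
    apply (hpb i).hom_ext
    · rw [Category.assoc, (hpb i).lift_fst, hg0₁, ← Category.assoc, ← hj, Category.assoc, hg'2]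
    · rw [Category.assoc, (hpb i).lift_snd, hg0₂]
  rw [← h3, (hpb i).lift_fst]

end Groth.Agent.Lib.Helper11.NeronSigma
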