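import Mathlib
import Groth.Prelude.Def_Pi1

/-!
# Integral birational morphisms onto normal schemes are isomorphisms (helper11)
-/

set_option autoImplicit false
universe u

open CategoryTheory CategoryTheory.Limits AlgebraicGeometry

namespace Groth.Agent.Lib.Helper11.NormalBir

theorem ring_core {A B KA KB : Type u} [CommRing A] [IsDomain A] [IsIntegrallyClosed A]
    [CommRing B] [Field KA] [Field KB] [Algebra A KA] [IsFractionRing A KA] (φ : A →+* B)
    (hφ : φ.IsIntegral) (ιB : B →+* KB) (hιB : Function.Injective ιB) (ψ : KA →+* KB)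
    (hψ : Function.Surjective ψ) (hcomm : ∀ a, ψ (algebraMap A KA a) = ιB (φ a)) :
    Function.Bijective φ := by
  constructor
  · intro a a' h
    have : ψ (algebraMap A KA a) = ψ (algebraMap A KA a') := by rw [hcomm, hcomm, h]
    exact IsFractionRing.injective A KA (ψ.injective this)
  · intro b
    obtain ⟨w, hw⟩ := hψ (ιB b)
    obtain ⟨p, hpm, hpb⟩ := hφ b
    have hw_int : IsIntegral A w := by
      refine ⟨p, hpm, ?_⟩
      apply ψ.injective
      rw [map_zero, Polynomial.hom_eval₂, hw]
      have : ψ.comp (algebraMap A KA) = ιB.comp φ := RingHom.ext hcomm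
      rw [this, ← Polynomial.hom_eval₂, hpb, map_zero]
    obtain ⟨a, ha⟩ := IsIntegrallyClosed.isIntegral_iff.mp hw_int
    refine ⟨a, hιB ?_⟩
    rw [← hcomm, ha, hw]

theorem ring_core2 {A B KA : Type u} [CommRing A] [IsDomain A] [IsIntegrallyClosed A]
    [CommRing B] [IsDomain B] [Field KA] [Algebra A KA] [IsFractionRing A KA] (φ : A →+* B)
    (hφ : φ.IsIntegral) (σ : B →+* KA) (hcomm : ∀ a, σ (φ a) = algebraMap A KA a) :
    Function.Bijective φ := by
  letI := φ.toAlgebra
  haveI : Algebra.IsIntegral A B := ⟨hφ⟩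
  have hσ : Function.Injective σ := by
    rw [RingHom.injective_iff_ker_eq_bot]
    apply Ideal.eq_bot_of_comap_eq_bot (R := A)
    ext a
    simp only [Ideal.mem_comap, RingHom.mem_ker, Ideal.mem_bot]
    show σ (φ a) = 0 ↔ a = 0
    rw [hcomm]
    exact map_eq_zero_iff _ (IsFractionRing.injective A KA)
  constructor
  · intro a a' h
    apply IsFractionRing.injective A KA
    rw [← hcomm, ← hcomm, h]
  · intro b
    have hb : IsIntegral A (σ b) := by
      obtain ⟨p, hpm, hpb⟩ := hφ b
      refine ⟨p, hpm, ?_⟩
      have : (algebraMap A KA) = σ.comp φ := RingHom.ext (fun a => (hcomm a).symm)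
      rw [this, ← Polynomial.hom_eval₂, hpb, map_zero]
    obtain ⟨a, ha⟩ := IsIntegrallyClosed.isIntegral_iff.mp hb
    exact ⟨a, hσ (by rw [hcomm, ha])⟩

theorem integrallyClosed_of_normal {V : Scheme.{u}} [IsIntegral V] (hN : Pi1.IsNormalScheme V)
    (W : V.Opens) (hW : IsAffineOpen W) [Nonempty W] : IsIntegrallyClosed Γ(V, W) := by
  apply IsIntegrallyClosed.of_localization_maximal
  intro p _ hp
  let y : PrimeSpectrum Γ(V, W) := ⟨p, hp.isPrime⟩
  have hy : hW.fromSpec y ∈ W := by
    have := hW.range_fromSpec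
    rw [← SetLike.mem_coe, ← this]
    exact ⟨y, rfl⟩
  letI := TopCat.Presheaf.algebra_section_stalk V.presheaf ⟨hW.fromSpec y, hy⟩
  haveI : IsLocalization.AtPrime (V.presheaf.stalk (hW.fromSpec y)) p :=
    hW.isLocalization_stalk' y hy
  haveI := (hN (hW.fromSpec y)).2
  exact (inferInstance : IsIntegrallyClosed (V.presheaf.stalk (hW.fromSpec y))).of_equiv
    (IsLocalization.algEquiv p.primeCompl _ (Localization.AtPrime p)).toRingEquiv

theorem isIso_of_forall_bijective_app {U V : Scheme.{u}} (h : U ⟶ V) [IsAffineHom h]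
    (H : ∀ (W : V.Opens), IsAffineOpen W → Nonempty W → Function.Bijective (h.app W).hom) :
    IsIso h := by
  have key : targetAffineLocally (fun X _ f _ ↦ IsAffine X ∧ IsIso (f.appTop)) h := by
    intro W
    refine ⟨IsAffineHom.isAffine_preimage _ W.2, ?_⟩
    by_cases hne : Nonempty W.1
    · rw [morphismRestrict_appTop]
      haveI : IsIso (h.app (W.1.ι ''ᵁ ⊤)) := by
        have hW' : IsAffineOpen (W.1.ι ''ᵁ ⊤) := by
          rw [Scheme.Opens.ι_image_top]; exact W.2
        have hne' : Nonempty ↥(W.1.ι ''ᵁ ⊤) := by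
          rw [Scheme.Opens.ι_image_top]; exact hne
        exact (ConcreteCategory.isIso_iff_bijective _).mpr (H _ hW' hne')
      exact IsIso.comp_isIso' this (by
        first
        | exact (U.presheaf.mapIso (eqToIso (image_morphismRestrict_preimage h W.1 ⊤)).op).isIso_hom
        | (rw [eqToHom_op, eqToHom_map]; exact (eqToIso _).isIso_hom)
        | (rw [eqToHom_op, eqToHom_map]; exact IsIso.of_iso (eqToIso _)))
    · haveI : IsEmpty ↥W.1.toScheme := not_nonempty_iff.mp hne
      haveI : IsIso (h ∣_ W.1) := isIso_of_isEmpty _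
      exact inferInstanceAs (IsIso ((h ∣_ W.1).app ⊤))
  have : (MorphismProperty.isomorphisms Scheme) h := by
    rw [HasAffineProperty.eq_targetAffineLocally (P := MorphismProperty.isomorphisms Scheme)]
    exact key
  exact this

/-- Integral + birational (surjective stalk map at the generic point) onto a normal integral
scheme ⇒ iso. -/
theorem isIso_of_integral_birational {U V : Scheme.{u}} [IsIntegral U] [IsIntegral V]
    (hN : Pi1.IsNormalScheme V) (h : U ⟶ V) [IsIntegralHom h]
    (hgen : h.base (genericPoint U) = genericPoint V)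
    (hsm : Function.Surjective (h.stalkMap (genericPoint U)).hom) : IsIso h := by
  apply isIso_of_forall_bijective_app
  intro W hW hne
  have hηV : genericPoint V ∈ W :=
    ((genericPoint_spec V).mem_open_set_iff W.isOpen).mpr (by simpa using hne)
  have hηU : genericPoint U ∈ h ⁻¹ᵁ W := by
    show h.base (genericPoint U) ∈ W
    rw [hgen]; exact hηV
  haveI : Nonempty ↥(h ⁻¹ᵁ W).toScheme := ⟨⟨_, hηU⟩⟩
  haveI : IsIntegrallyClosed Γ(V, W) := integrallyClosed_of_normal hN W hW
  haveI := functionField_isFractionRing_of_isAffineOpen V W hW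
  have hinv : V.presheaf.stalkSpecializes (specializes_of_eq hgen.symm) ≫
      V.presheaf.stalkSpecializes (specializes_of_eq hgen) = 𝟙 _ := by
    rw [TopCat.Presheaf.stalkSpecializes_comp]
    exact TopCat.Presheaf.stalkSpecializes_refl _ _
  refine ring_core (KA := V.functionField) (KB := U.functionField) (h.app W).hom
    (h.isIntegral_app W hW) (U.germToFunctionField (h ⁻¹ᵁ W)).hom
    (U.germToFunctionField_injective _)
    (V.presheaf.stalkSpecializes (specializes_of_eq hgen) ≫ h.stalkMap (genericPoint U)).hom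
    ?_ ?_
  · intro z
    obtain ⟨w, hw⟩ := hsm z
    refine ⟨(V.presheaf.stalkSpecializes (specializes_of_eq hgen.symm)).hom w, ?_⟩
    have := congr($hinv w)
    simp only [CommRingCat.hom_comp, RingHom.comp_apply, CommRingCat.hom_id, RingHom.id_apply] at this ⊢
    rw [this, hw]
  · intro a
    have key : V.germToFunctionField W ≫ V.presheaf.stalkSpecializes (specializes_of_eq hgen) ≫
        h.stalkMap (genericPoint U) = h.app W ≫ U.germToFunctionField (h ⁻¹ᵁ W) := by
      rw [← Category.assoc]
      erw [TopCat.Presheaf.germ_stalkSpecializes]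
      exact Scheme.Hom.germ_stalkMap h W (genericPoint U) _
    exact congr($key a)

end Groth.Agent.Lib.Helper11.NormalBir
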