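import Mathlib
import Groth.Prelude.Def_Models

/-!
# Numerical types: Cartan integers and row inequalities

For a numerical type `T` we put `c i j = a i j / w i` (exact division). Then
`∑ l, c i l * m l = 0`, and for every sub-configuration `v : Fin k ↪ Fin n` the partial row sums
`∑ t, c (v s) (v t) * m (v t)` are `≤ 0`, with strict inequality for some `s` when `k < n`.
-/

namespace Groth.Agent.Lib.Helper11.NumType

open Finset Models

variable {n : ℕ} (T : Models.NumericalType n)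

/-- Cartan integer `a i j / w i`. -/
def c (i j : Fin n) : ℤ := T.a i j / T.w i

lemma a_eq (i j : Fin n) : T.a i j = T.w i * c T i j := by
  unfold c
  exact (Int.mul_ediv_cancel' (T.w_dvd i j)).symm

lemma a_symm (i j : Fin n) : T.a i j = T.a j i := T.symm.apply j i

lemma w_mul_c_symm (i j : Fin n) : T.w i * c T i j = T.w j * c T j i := by
  rw [← a_eq, ← a_eq, a_symm]

lemma c_nonneg {i j : Fin n} (h : i ≠ j) : 0 ≤ c T i j :=
  Int.ediv_nonneg (T.offDiag_nonneg i j h) (T.w_pos i).le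

lemma c_eq_zero {i j : Fin n} (ha : T.a i j = 0) : c T i j = 0 := by
  unfold c
  rw [ha]
  simp

lemma one_le_c {i j : Fin n} (h : i ≠ j) (ha : T.a i j ≠ 0) : 1 ≤ c T i j := by
  have h0 := c_nonneg T h
  rcases h0.eq_or_lt with h0 | h0
  · exfalso
    apply ha
    rw [a_eq, ← h0, mul_zero]
  · omega

lemma c_pos_symm {i j : Fin n} (h : i ≠ j) (hc : 1 ≤ c T i j) : 1 ≤ c T j i := by
  apply one_le_c T (Ne.symm h)
  rw [a_symm, a_eq]
  have := T.w_pos i
  positivity

lemma c_eq_zero_symm {i j : Fin n} (hc : c T i j = 0) : c T j i = 0 := by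
  apply c_eq_zero
  rw [a_symm, a_eq, hc, mul_zero]

lemma c_diag_of_isMinusTwo {i : Fin n} (h : T.IsMinusTwo i) : c T i i = -2 := by
  unfold c
  rw [h.2]
  exact Int.mul_ediv_cancel _ (T.w_pos i).ne'

lemma sum_c_mul_m (i : Fin n) : ∑ l, c T i l * T.m l = 0 := by
  have h := congrFun T.mulVec_m i
  simp only [Matrix.mulVec, dotProduct, Pi.zero_apply] at h
  have h2 : T.w i * ∑ l, c T i l * T.m l = 0 := by
    rw [Finset.mul_sum, ← h]
    exact Finset.sum_congr rfl (fun l _ => by rw [a_eq T i l]; ring)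
  exact (mul_eq_zero.mp h2).resolve_left (T.w_pos i).ne'

variable {k : ℕ}

lemma sum_config_le (v : Fin k ↪ Fin n) (s : Fin k) :
    ∑ t, c T (v s) (v t) * T.m (v t) ≤ 0 := by
  classical
  have h := sum_c_mul_m T (v s)
  rw [← Finset.sum_add_sum_compl (Finset.univ.map v), Finset.sum_map] at h
  have hc : 0 ≤ ∑ l ∈ (Finset.univ.map v)ᶜ, c T (v s) l * T.m l :=
    Finset.sum_nonneg (fun l hl => mul_nonneg (c_nonneg T (by
      rintro rfl
      exact (Finset.mem_compl.mp hl) (Finset.mem_map_of_mem v (Finset.mem_univ s))))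
      (T.m_pos l).le)
  linarith

lemma exists_sum_config_lt (v : Fin k ↪ Fin n) (hk0 : 0 < k) (hkn : k < n) :
    ∃ s, ∑ t, c T (v s) (v t) * T.m (v t) < 0 := by
  classical
  have hne : (Finset.univ.map v).Nonempty :=
    ⟨v ⟨0, hk0⟩, Finset.mem_map_of_mem v (Finset.mem_univ _)⟩
  have hne' : Finset.univ.map v ≠ Finset.univ := by
    intro h
    have := congrArg Finset.card h
    simp at this
    omega
  obtain ⟨i, hi, j, hj, hij⟩ := T.connected _ hne hne'
  obtain ⟨s, -, rfl⟩ := Finset.mem_map.mp hi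
  refine ⟨s, ?_⟩
  have h := sum_c_mul_m T (v s)
  rw [← Finset.sum_add_sum_compl (Finset.univ.map v), Finset.sum_map] at h
  have hjne : v s ≠ j := fun h' => hj (h' ▸ hi)
  have hc : 0 < ∑ l ∈ (Finset.univ.map v)ᶜ, c T (v s) l * T.m l := by
    refine Finset.sum_pos' (fun l hl => mul_nonneg (c_nonneg T (by
      rintro rfl
      exact (Finset.mem_compl.mp hl) (Finset.mem_map_of_mem v (Finset.mem_univ s))))
      (T.m_pos l).le) ⟨j, Finset.mem_compl.mpr hj, mul_pos ?_ (T.m_pos j)⟩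
    have := one_le_c T hjne hij
    omega
  linarith

lemma sum_sum_config_lt (v : Fin k ↪ Fin n) (hk0 : 0 < k) (hkn : k < n) :
    ∑ s, ∑ t, c T (v s) (v t) * T.m (v t) < 0 := by
  obtain ⟨s₀, hs₀⟩ := exists_sum_config_lt T v hk0 hkn
  have := Finset.sum_lt_sum (s := Finset.univ) (fun s _ => sum_config_le T v s)
    ⟨s₀, Finset.mem_univ _, hs₀⟩
  simpa using this

/-- Facts about a sub-configuration of `(-2)`-indices, in the form used by `linarith`. -/
lemma config_diag (v : Fin k ↪ Fin n) (hv : ∀ j, T.IsMinusTwo (v j)) (s : Fin k) :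
    c T (v s) (v s) = -2 := c_diag_of_isMinusTwo T (hv s)

lemma config_nonneg (v : Fin k ↪ Fin n) {s t : Fin k} (h : s ≠ t) : 0 ≤ c T (v s) (v t) :=
  c_nonneg T (fun h' => h (v.injective h'))

lemma config_mul_nonneg (v : Fin k ↪ Fin n) {s t : Fin k} (h : s ≠ t) :
    0 ≤ c T (v s) (v t) * T.m (v t) :=
  mul_nonneg (config_nonneg T v h) (T.m_pos _).le

lemma config_one_le (v : Fin k ↪ Fin n) {s t : Fin k} (h : s ≠ t) (ha : T.a (v s) (v t) ≠ 0) :
    1 ≤ c T (v s) (v t) := one_le_c T (fun h' => h (v.injective h')) ha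

lemma config_one_le' (v : Fin k ↪ Fin n) {s t : Fin k} (h : s ≠ t) (ha : T.a (v s) (v t) ≠ 0) :
    1 ≤ c T (v t) (v s) :=
  c_pos_symm T (fun h' => h (v.injective h')) (config_one_le T v h ha)

end Groth.Agent.Lib.Helper11.NumType

namespace Groth.Agent.Lib.Helper11.NumType

lemma sum_univ_nine {M : Type*} [AddCommMonoid M] (f : Fin 9 → M) :
    ∑ i, f i = f 0 + f 1 + f 2 + f 3 + f 4 + f 5 + f 6 + f 7 + f 8 := by
  rw [Fin.sum_univ_castSucc, Fin.sum_univ_eight]
  rfl

lemma sum_univ_ten {M : Type*} [AddCommMonoid M] (f : Fin 10 → M) :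
    ∑ i, f i = f 0 + f 1 + f 2 + f 3 + f 4 + f 5 + f 6 + f 7 + f 8 + f 9 := by
  rw [Fin.sum_univ_castSucc, sum_univ_nine]
  rfl

end Groth.Agent.Lib.Helper11.NumType
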