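import Mathlib
import Groth.Agent.Lib.Helper11.NumType

/-!
# Numerical types: the finite-type criterion for proper sub-configurations

For a family `f : ι → Fin n` injective on a finset `S` with `#S < n` there is no positive vector
`y` on `S` all of whose column sums `∑ s ∈ S, y s * c (f s) (f t)` are nonnegative.
Also: a minimal numerical type of genus one on at least two indices has only `(-2)`-indices.
-/

namespace Groth.Agent.Lib.Helper11.NumType

open Finset Models

variable {n : ℕ} (T : Models.NumericalType n) {ι : Type*}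

lemma sum_sub_le (S : Finset ι) (f : ι → Fin n) (hf : Set.InjOn f S) {s : ι} (hs : s ∈ S) :
    ∑ t ∈ S, c T (f s) (f t) * T.m (f t) ≤ 0 := by
  classical
  have h := sum_c_mul_m T (f s)
  rw [← Finset.sum_add_sum_compl (S.image f), Finset.sum_image hf] at h
  have hc : 0 ≤ ∑ l ∈ (S.image f)ᶜ, c T (f s) l * T.m l :=
    Finset.sum_nonneg (fun l hl => mul_nonneg (c_nonneg T (by
      rintro rfl
      exact (Finset.mem_compl.mp hl) (Finset.mem_image_of_mem f hs))) (T.m_pos l).le)
  linarith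

lemma exists_sum_sub_lt (S : Finset ι) (f : ι → Fin n) (hf : Set.InjOn f S) (hS : S.Nonempty)
    (hcard : S.card < n) : ∃ s ∈ S, ∑ t ∈ S, c T (f s) (f t) * T.m (f t) < 0 := by
  classical
  have hne : (S.image f).Nonempty := hS.image f
  have hne' : S.image f ≠ Finset.univ := by
    intro h
    have := congrArg Finset.card h
    rw [Finset.card_image_of_injOn hf, Finset.card_univ, Fintype.card_fin] at this
    omega
  obtain ⟨i, hi, j, hj, hij⟩ := T.connected _ hne hne'
  obtain ⟨s, hs, rfl⟩ := Finset.mem_image.mp hi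
  refine ⟨s, hs, ?_⟩
  have h := sum_c_mul_m T (f s)
  rw [← Finset.sum_add_sum_compl (S.image f), Finset.sum_image hf] at h
  have hjne : f s ≠ j := fun h' => hj (h' ▸ hi)
  have hc : 0 < ∑ l ∈ (S.image f)ᶜ, c T (f s) l * T.m l := by
    refine Finset.sum_pos' (fun l hl => mul_nonneg (c_nonneg T (by
      rintro rfl
      exact (Finset.mem_compl.mp hl) (Finset.mem_image_of_mem f hs))) (T.m_pos l).le)
      ⟨j, Finset.mem_compl.mpr hj, mul_pos ?_ (T.m_pos j)⟩
    have := one_le_c T hjne hij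
    omega
  linarith

/-- Finite-type criterion: on a proper sub-configuration no positive vector has all column sums
nonnegative. -/
theorem not_col_nonneg (S : Finset ι) (f : ι → Fin n) (hf : Set.InjOn f S) (hS : S.Nonempty)
    (hcard : S.card < n) (y : ι → ℤ) (hy : ∀ s ∈ S, 0 < y s)
    (h : ∀ t ∈ S, 0 ≤ ∑ s ∈ S, y s * c T (f s) (f t)) : False := by
  obtain ⟨s₀, hs₀, hlt⟩ := exists_sum_sub_lt T S f hf hS hcard
  have h1 : 0 ≤ ∑ t ∈ S, (∑ s ∈ S, y s * c T (f s) (f t)) * T.m (f t) :=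
    Finset.sum_nonneg (fun t ht => mul_nonneg (h t ht) (T.m_pos _).le)
  have h2 : ∑ t ∈ S, (∑ s ∈ S, y s * c T (f s) (f t)) * T.m (f t)
      = ∑ s ∈ S, y s * ∑ t ∈ S, c T (f s) (f t) * T.m (f t) := by
    simp_rw [Finset.sum_mul, Finset.mul_sum]
    rw [Finset.sum_comm]
    exact Finset.sum_congr rfl (fun s _ => Finset.sum_congr rfl (fun t _ => by ring))
  have h3 : ∑ s ∈ S, y s * ∑ t ∈ S, c T (f s) (f t) * T.m (f t) < 0 :=
    Finset.sum_neg' (fun s hs => mul_nonpos_of_nonneg_of_nonpos (hy s hs).le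
      (sum_sub_le T S f hf hs)) ⟨s₀, hs₀, mul_neg_of_pos_of_neg (hy s₀ hs₀) hlt⟩
  linarith

lemma col_sum_ge [DecidableEq ι] (S N : Finset ι) (f : ι → Fin n) (hf : Set.InjOn f S) (y : ι → ℤ)
    (hy : ∀ s ∈ S, 0 ≤ y s) (t : ι) (hN : N ⊆ S) (ht : t ∈ N) :
    ∑ s ∈ N, y s * c T (f s) (f t) ≤ ∑ s ∈ S, y s * c T (f s) (f t) := by
  refine Finset.sum_le_sum_of_subset_of_nonneg hN (fun s hs hsN => mul_nonneg (hy s hs)
    (c_nonneg T ?_))
  intro h
  exact hsN (hf hs (hN ht) h ▸ ht)

lemma col_nonneg_one [DecidableEq ι] (S : Finset ι) (f : ι → Fin n) (hf : Set.InjOn f S)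
    (y : ι → ℤ) (hy : ∀ s ∈ S, 0 ≤ y s) {t s1 : ι} (ht : t ∈ S) (h1 : s1 ∈ S) (h1t : s1 ≠ t)
    (hb : 0 ≤ y t * c T (f t) (f t) + y s1 * c T (f s1) (f t)) :
    0 ≤ ∑ s ∈ S, y s * c T (f s) (f t) := by
  refine le_trans ?_ (col_sum_ge T S {t, s1} f hf y hy t ?_ (by simp))
  · rw [Finset.sum_pair (Ne.symm h1t)]
    exact hb
  · intro x hx
    simp only [Finset.mem_insert, Finset.mem_singleton] at hx
    rcases hx with rfl | rfl <;> assumption

lemma col_nonneg_two [DecidableEq ι] (S : Finset ι) (f : ι → Fin n) (hf : Set.InjOn f S)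
    (y : ι → ℤ) (hy : ∀ s ∈ S, 0 ≤ y s) {t s1 s2 : ι} (ht : t ∈ S) (h1 : s1 ∈ S) (h2 : s2 ∈ S)
    (h1t : s1 ≠ t) (h2t : s2 ≠ t) (h12 : s1 ≠ s2)
    (hb : 0 ≤ y t * c T (f t) (f t) + y s1 * c T (f s1) (f t) + y s2 * c T (f s2) (f t)) :
    0 ≤ ∑ s ∈ S, y s * c T (f s) (f t) := by
  refine le_trans ?_ (col_sum_ge T S {t, s1, s2} f hf y hy t ?_ (by simp))
  · rw [Finset.sum_insert (by simp [Ne.symm h1t, Ne.symm h2t]), Finset.sum_pair h12]
    linarith
  · intro x hx
    simp only [Finset.mem_insert, Finset.mem_singleton] at hx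
    rcases hx with rfl | rfl | rfl <;> assumption

lemma col_nonneg_three [DecidableEq ι] (S : Finset ι) (f : ι → Fin n) (hf : Set.InjOn f S)
    (y : ι → ℤ) (hy : ∀ s ∈ S, 0 ≤ y s) {t s1 s2 s3 : ι} (ht : t ∈ S) (h1 : s1 ∈ S) (h2 : s2 ∈ S)
    (h3 : s3 ∈ S) (h1t : s1 ≠ t) (h2t : s2 ≠ t) (h3t : s3 ≠ t) (h12 : s1 ≠ s2) (h13 : s1 ≠ s3)
    (h23 : s2 ≠ s3)
    (hb : 0 ≤ y t * c T (f t) (f t) + y s1 * c T (f s1) (f t) + y s2 * c T (f s2) (f t)
      + y s3 * c T (f s3) (f t)) :
    0 ≤ ∑ s ∈ S, y s * c T (f s) (f t) := by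
  refine le_trans ?_ (col_sum_ge T S {t, s1, s2, s3} f hf y hy t ?_ (by simp))
  · rw [Finset.sum_insert (by simp [Ne.symm h1t, Ne.symm h2t, Ne.symm h3t]),
      Finset.sum_insert (by simp [h12, h13]), Finset.sum_pair h23]
    linarith
  · intro x hx
    simp only [Finset.mem_insert, Finset.mem_singleton] at hx
    rcases hx with rfl | rfl | rfl | rfl <;> assumption

/-! ### Genus one -/

lemma c_diag_neg (hn : 2 ≤ n) (i : Fin n) : c T i i ≤ -1 := by
  classical
  have hne : ({i} : Finset (Fin n)).Nonempty := Finset.singleton_nonempty i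
  have hne' : ({i} : Finset (Fin n)) ≠ Finset.univ := by
    intro h
    have := congrArg Finset.card h
    rw [Finset.card_singleton, Finset.card_univ, Fintype.card_fin] at this
    omega
  obtain ⟨i', hi', j, hj, hij⟩ := T.connected _ hne hne'
  obtain rfl := Finset.mem_singleton.mp hi'
  have hji : i' ≠ j := fun h => hj (h ▸ hi')
  have h := sum_c_mul_m T i'
  rw [← Finset.add_sum_erase _ _ (Finset.mem_univ i')] at h
  have hc : 0 < ∑ l ∈ Finset.univ.erase i', c T i' l * T.m l := by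
    refine Finset.sum_pos' (fun l hl => mul_nonneg (c_nonneg T (Finset.ne_of_mem_erase hl).symm)
      (T.m_pos l).le) ⟨j, Finset.mem_erase.mpr ⟨hji.symm, Finset.mem_univ _⟩,
      mul_pos ?_ (T.m_pos j)⟩
    have := one_le_c T hji hij
    omega
  have hm := T.m_pos i'
  by_contra hcon
  have h0 : 0 ≤ c T i' i' := by omega
  have := mul_nonneg h0 hm.le
  linarith

theorem all_minusTwo (hn : 2 ≤ n) (hmin : T.IsMinimal) (hg : T.genus = 1) (i : Fin n) :
    T.IsMinusTwo i := by
  classical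
  -- κ_i := w_i (2 g_i - 2) - a_ii ≥ 0
  have hk : ∀ i, 0 ≤ T.w i * (2 * T.g i - 2) - T.a i i ∧
      (T.w i * (2 * T.g i - 2) - T.a i i = 0 → T.IsMinusTwo i) := by
    intro i
    have hw := T.w_pos i
    have hgi := T.g_nonneg i
    have hc := c_diag_neg T hn i
    have ha := a_eq T i i
    rcases hgi.eq_or_lt with h0 | hpos
    · -- g i = 0
      have hc2 : c T i i ≤ -2 := by
        by_contra hcon
        have h1 : c T i i = -1 := by omega
        exact hmin i ⟨h0.symm, by rw [ha, h1]; ring⟩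
      rw [← h0, ha]
      constructor
      · nlinarith
      · intro h
        have : T.w i * (-2 - c T i i) = 0 := by linarith
        rcases mul_eq_zero.mp this with h' | h'
        · omega
        · exact ⟨h0.symm, by rw [ha]; have : c T i i = -2 := by omega
                             rw [this]; ring⟩
    · have h1 : 1 ≤ T.g i := hpos
      have h2 : 0 < T.w i * (2 * T.g i - 2) - T.a i i := by
        rw [ha]
        nlinarith
      exact ⟨h2.le, fun h => absurd h h2.ne'⟩
  have hsum : ∑ i, T.m i * (T.w i * (2 * T.g i - 2) - T.a i i) ≤ 0 := by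
    unfold Models.NumericalType.genus at hg
    have e : ∑ i, T.m i * (T.w i * (2 * T.g i - 2) - T.a i i)
        = 2 * (∑ i, T.m i * T.w i * (T.g i - 1)) - ∑ i, T.m i * T.a i i := by
      rw [Finset.mul_sum, ← Finset.sum_sub_distrib]
      exact Finset.sum_congr rfl (fun i _ => by ring)
    rw [e]
    omega
  have hzero : ∀ i ∈ Finset.univ, T.m i * (T.w i * (2 * T.g i - 2) - T.a i i) = 0 := by
    have hnn : ∀ i ∈ Finset.univ, 0 ≤ T.m i * (T.w i * (2 * T.g i - 2) - T.a i i) :=
      fun i _ => mul_nonneg (T.m_pos i).le (hk i).1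
    have := Finset.sum_nonneg hnn
    exact (Finset.sum_eq_zero_iff_of_nonneg hnn).mp (le_antisymm hsum this)
  have := hzero i (Finset.mem_univ i)
  rcases mul_eq_zero.mp this with h | h
  · exact absurd h (T.m_pos i).ne'
  · exact (hk i).2 h

end Groth.Agent.Lib.Helper11.NumType
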