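import Mathlib
import Groth.Agent.Lib.Helper11.NumType
import Groth.Agent.Lib.Helper11.NumTypeGen

/-!
# Numerical types: basic facts on the genus
-/

namespace Groth.Agent.Lib.Helper11.NumType

open Finset Models

variable {n : ℕ} (T : Models.NumericalType n)

/-- `κ_i = w_i (2 g_i - 2) - a_ii ≥ 0` for a minimal numerical type with at least two indices. -/
lemma kappa_nonneg (hn : 2 ≤ n) (hmin : T.IsMinimal) (i : Fin n) :
    0 ≤ T.w i * (2 * T.g i - 2) - T.a i i := by
  have hw := T.w_pos i
  have hgi := T.g_nonneg i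
  have hc := c_diag_neg T hn i
  have ha := a_eq T i i
  rcases hgi.eq_or_lt with h0 | hpos
  · have hc2 : c T i i ≤ -2 := by
      by_contra hcon
      have h1 : c T i i = -1 := by omega
      exact hmin i ⟨h0.symm, by rw [ha, h1]; ring⟩
    rw [← h0, ha]
    nlinarith
  · have h1 : 1 ≤ T.g i := hpos
    rw [ha]
    nlinarith

lemma sum_kappa :
    ∑ i, T.m i * (T.w i * (2 * T.g i - 2) - T.a i i)
      = 2 * (∑ i, T.m i * T.w i * (T.g i - 1)) - ∑ i, T.m i * T.a i i := by
  rw [Finset.mul_sum, ← Finset.sum_sub_distrib]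
  exact Finset.sum_congr rfl (fun i _ => by ring)

lemma one_le_genus (hn : 2 ≤ n) (hmin : T.IsMinimal) : 1 ≤ T.genus := by
  have h := Finset.sum_nonneg (fun i (_ : i ∈ Finset.univ) =>
    mul_nonneg (T.m_pos i).le (kappa_nonneg T hn hmin i))
  rw [sum_kappa] at h
  unfold Models.NumericalType.genus
  omega

/-- the row relation `∑ l, a i l * m l = 0` -/
lemma sum_a_mul_m (i : Fin n) : ∑ l, T.a i l * T.m l = 0 := by
  have h := congrFun T.mulVec_m i
  simpa [Matrix.mulVec, dotProduct] using h

lemma single_a_zero (T : Models.NumericalType 1) : T.a 0 0 = 0 := by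
  have h := sum_a_mul_m T 0
  rw [Fin.sum_univ_one] at h
  exact (mul_eq_zero.mp h).resolve_right (T.m_pos 0).ne'

lemma single_genus (T : Models.NumericalType 1) :
    T.genus = 1 + T.m 0 * T.w 0 * (T.g 0 - 1) := by
  unfold Models.NumericalType.genus
  rw [Fin.sum_univ_one, Fin.sum_univ_one, single_a_zero T]
  simp

end Groth.Agent.Lib.Helper11.NumType
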