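import Mathlib
import Groth.Agent.Lib.Helper11.NumType
import Groth.Agent.Lib.Helper11.NumTypeGen

/-!
# Numerical types: chains of `(-2)`-indices of arbitrary length

Pure arithmetic window lemmas (`chain5_arith`, `d4_arith`), their application to windows of a
sequence `x : ℕ → Fin n`, and the structure `ChainData` with the resulting chain facts.
-/

namespace Groth.Agent.Lib.Helper11.NumType

open Finset Models

variable {n : ℕ} (T : Models.NumericalType n)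

theorem chain5_arith (m0 m1 m2 m3 m4 : ℤ)
    (c0_1 c0_2 c0_3 c0_4 c1_0 c1_2 c1_3 c1_4 c2_0 c2_1 c2_3 c2_4 c3_0 c3_1 c3_2 c3_4 c4_0 c4_1 c4_2 c4_3 : ℤ)
    (hm0 : 0 < m0) (hm1 : 0 < m1) (hm2 : 0 < m2) (hm3 : 0 < m3) (hm4 : 0 < m4)
    (n0_1 : 0 ≤ c0_1) (n0_2 : 0 ≤ c0_2) (n0_3 : 0 ≤ c0_3) (n0_4 : 0 ≤ c0_4) (n1_0 : 0 ≤ c1_0) (n1_2 : 0 ≤ c1_2) (n1_3 : 0 ≤ c1_3) (n1_4 : 0 ≤ c1_4) (n2_0 : 0 ≤ c2_0) (n2_1 : 0 ≤ c2_1) (n2_3 : 0 ≤ c2_3) (n2_4 : 0 ≤ c2_4) (n3_0 : 0 ≤ c3_0) (n3_1 : 0 ≤ c3_1) (n3_2 : 0 ≤ c3_2) (n3_4 : 0 ≤ c3_4) (n4_0 : 0 ≤ c4_0) (n4_1 : 0 ≤ c4_1) (n4_2 : 0 ≤ c4_2) (n4_3 : 0 ≤ c4_3)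
    (l0_1 : 1 ≤ c0_1) (l1_0 : 1 ≤ c1_0) (l1_2 : 1 ≤ c1_2) (l2_1 : 1 ≤ c2_1) (l2_3 : 1 ≤ c2_3) (l3_2 : 1 ≤ c3_2) (l3_4 : 1 ≤ c3_4) (l4_3 : 1 ≤ c4_3)
    (s0_2 : 1 ≤ c0_2 → 1 ≤ c2_0) (s0_3 : 1 ≤ c0_3 → 1 ≤ c3_0) (s0_4 : 1 ≤ c0_4 → 1 ≤ c4_0) (s1_3 : 1 ≤ c1_3 → 1 ≤ c3_1) (s1_4 : 1 ≤ c1_4 → 1 ≤ c4_1) (s2_4 : 1 ≤ c2_4 → 1 ≤ c4_2)
    (r0 : -2 * m0 + c0_1 * m1 + c0_2 * m2 + c0_3 * m3 + c0_4 * m4 ≤ 0)
    (r1 : c1_0 * m0 + -2 * m1 + c1_2 * m2 + c1_3 * m3 + c1_4 * m4 ≤ 0)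
    (r2 : c2_0 * m0 + c2_1 * m1 + -2 * m2 + c2_3 * m3 + c2_4 * m4 ≤ 0)
    (r3 : c3_0 * m0 + c3_1 * m1 + c3_2 * m2 + -2 * m3 + c3_4 * m4 ≤ 0)
    (r4 : c4_0 * m0 + c4_1 * m1 + c4_2 * m2 + c4_3 * m3 + -2 * m4 ≤ 0)
    (htot : (-2 * m0 + c0_1 * m1 + c0_2 * m2 + c0_3 * m3 + c0_4 * m4) + (c1_0 * m0 + -2 * m1 + c1_2 * m2 + c1_3 * m3 + c1_4 * m4) + (c2_0 * m0 + c2_1 * m1 + -2 * m2 + c2_3 * m3 + c2_4 * m4) + (c3_0 * m0 + c3_1 * m1 + c3_2 * m2 + -2 * m3 + c3_4 * m4) + (c4_0 * m0 + c4_1 * m1 + c4_2 * m2 + c4_3 * m3 + -2 * m4) < 0) :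
    c0_2 = 0 ∧ c0_3 = 0 ∧ c0_4 = 0 ∧ c1_3 = 0 ∧ c1_4 = 0 ∧ c2_4 = 0 ∧ c1_2 = 1 ∧ c2_1 = 1 ∧ c2_3 = 1 ∧ c3_2 = 1 ∧ c0_1 ≤ 2 ∧ c1_0 ≤ 2 ∧ c3_4 ≤ 2 ∧ c4_3 ≤ 2 ∧ c0_1 + c1_0 ≤ 3 ∧ c0_1 + c3_4 ≤ 3 ∧ c0_1 + c4_3 ≤ 3 ∧ c1_0 + c3_4 ≤ 3 ∧ c1_0 + c4_3 ≤ 3 ∧ c3_4 + c4_3 ≤ 3 := by
  have p0_1 : 0 ≤ c0_1 * m1 := mul_nonneg n0_1 hm1.le
  have p0_2 : 0 ≤ c0_2 * m2 := mul_nonneg n0_2 hm2.le
  have p0_3 : 0 ≤ c0_3 * m3 := mul_nonneg n0_3 hm3.le
  have p0_4 : 0 ≤ c0_4 * m4 := mul_nonneg n0_4 hm4.le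
  have p1_0 : 0 ≤ c1_0 * m0 := mul_nonneg n1_0 hm0.le
  have p1_2 : 0 ≤ c1_2 * m2 := mul_nonneg n1_2 hm2.le
  have p1_3 : 0 ≤ c1_3 * m3 := mul_nonneg n1_3 hm3.le
  have p1_4 : 0 ≤ c1_4 * m4 := mul_nonneg n1_4 hm4.le
  have p2_0 : 0 ≤ c2_0 * m0 := mul_nonneg n2_0 hm0.le
  have p2_1 : 0 ≤ c2_1 * m1 := mul_nonneg n2_1 hm1.le
  have p2_3 : 0 ≤ c2_3 * m3 := mul_nonneg n2_3 hm3.le
  have p2_4 : 0 ≤ c2_4 * m4 := mul_nonneg n2_4 hm4.le
  have p3_0 : 0 ≤ c3_0 * m0 := mul_nonneg n3_0 hm0.le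
  have p3_1 : 0 ≤ c3_1 * m1 := mul_nonneg n3_1 hm1.le
  have p3_2 : 0 ≤ c3_2 * m2 := mul_nonneg n3_2 hm2.le
  have p3_4 : 0 ≤ c3_4 * m4 := mul_nonneg n3_4 hm4.le
  have p4_0 : 0 ≤ c4_0 * m0 := mul_nonneg n4_0 hm0.le
  have p4_1 : 0 ≤ c4_1 * m1 := mul_nonneg n4_1 hm1.le
  have p4_2 : 0 ≤ c4_2 * m2 := mul_nonneg n4_2 hm2.le
  have p4_3 : 0 ≤ c4_3 * m3 := mul_nonneg n4_3 hm3.le
  have e0_1 : m1 ≤ c0_1 * m1 := le_mul_of_one_le_left hm1.le l0_1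
  have e1_0 : m0 ≤ c1_0 * m0 := le_mul_of_one_le_left hm0.le l1_0
  have e1_2 : m2 ≤ c1_2 * m2 := le_mul_of_one_le_left hm2.le l1_2
  have e2_1 : m1 ≤ c2_1 * m1 := le_mul_of_one_le_left hm1.le l2_1
  have e2_3 : m3 ≤ c2_3 * m3 := le_mul_of_one_le_left hm3.le l2_3
  have e3_2 : m2 ≤ c3_2 * m2 := le_mul_of_one_le_left hm2.le l3_2
  have e3_4 : m4 ≤ c3_4 * m4 := le_mul_of_one_le_left hm4.le l3_4
  have e4_3 : m3 ≤ c4_3 * m3 := le_mul_of_one_le_left hm3.le l4_3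
  have z0_2 : c0_2 = 0 := by
    by_contra hne
    have h1 : 1 ≤ c0_2 := by omega
    have h1' := s0_2 h1
    have hp : m2 ≤ c0_2 * m2 := le_mul_of_one_le_left hm2.le h1
    have hp' : m0 ≤ c2_0 * m0 := le_mul_of_one_le_left hm0.le h1'
    linarith
  have z0_3 : c0_3 = 0 := by
    by_contra hne
    have h1 : 1 ≤ c0_3 := by omega
    have h1' := s0_3 h1
    have hp : m3 ≤ c0_3 * m3 := le_mul_of_one_le_left hm3.le h1
    have hp' : m0 ≤ c3_0 * m0 := le_mul_of_one_le_left hm0.le h1'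
    linarith
  have z0_4 : c0_4 = 0 := by
    by_contra hne
    have h1 : 1 ≤ c0_4 := by omega
    have h1' := s0_4 h1
    have hp : m4 ≤ c0_4 * m4 := le_mul_of_one_le_left hm4.le h1
    have hp' : m0 ≤ c4_0 * m0 := le_mul_of_one_le_left hm0.le h1'
    linarith
  have z1_3 : c1_3 = 0 := by
    by_contra hne
    have h1 : 1 ≤ c1_3 := by omega
    have h1' := s1_3 h1
    have hp : m3 ≤ c1_3 * m3 := le_mul_of_one_le_left hm3.le h1
    have hp' : m1 ≤ c3_1 * m1 := le_mul_of_one_le_left hm1.le h1'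
    linarith
  have z1_4 : c1_4 = 0 := by
    by_contra hne
    have h1 : 1 ≤ c1_4 := by omega
    have h1' := s1_4 h1
    have hp : m4 ≤ c1_4 * m4 := le_mul_of_one_le_left hm4.le h1
    have hp' : m1 ≤ c4_1 * m1 := le_mul_of_one_le_left hm1.le h1'
    linarith
  have z2_4 : c2_4 = 0 := by
    by_contra hne
    have h1 : 1 ≤ c2_4 := by omega
    have h1' := s2_4 h1
    have hp : m4 ≤ c2_4 * m4 := le_mul_of_one_le_left hm4.le h1
    have hp' : m2 ≤ c4_2 * m2 := le_mul_of_one_le_left hm2.le h1'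
    linarith
  have u1_2 : c1_2 = 1 := by
    by_contra hne
    have h2 : 2 ≤ c1_2 := by omega
    have hp : 2 * m2 ≤ c1_2 * m2 := mul_le_mul_of_nonneg_right h2 hm2.le
    linarith
  have u2_1 : c2_1 = 1 := by
    by_contra hne
    have h2 : 2 ≤ c2_1 := by omega
    have hp : 2 * m1 ≤ c2_1 * m1 := mul_le_mul_of_nonneg_right h2 hm1.le
    linarith
  have u2_3 : c2_3 = 1 := by
    by_contra hne
    have h2 : 2 ≤ c2_3 := by omega
    have hp : 2 * m3 ≤ c2_3 * m3 := mul_le_mul_of_nonneg_right h2 hm3.le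
    linarith
  have u3_2 : c3_2 = 1 := by
    by_contra hne
    have h2 : 2 ≤ c3_2 := by omega
    have hp : 2 * m2 ≤ c3_2 * m2 := mul_le_mul_of_nonneg_right h2 hm2.le
    linarith
  have b0_1 : c0_1 ≤ 2 := by
    by_contra hne
    have h3 : 3 ≤ c0_1 := by omega
    have hp : 3 * m1 ≤ c0_1 * m1 := mul_le_mul_of_nonneg_right h3 hm1.le
    linarith
  have b1_0 : c1_0 ≤ 2 := by
    by_contra hne
    have h3 : 3 ≤ c1_0 := by omega
    have hp : 3 * m0 ≤ c1_0 * m0 := mul_le_mul_of_nonneg_right h3 hm0.le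
    linarith
  have b3_4 : c3_4 ≤ 2 := by
    by_contra hne
    have h3 : 3 ≤ c3_4 := by omega
    have hp : 3 * m4 ≤ c3_4 * m4 := mul_le_mul_of_nonneg_right h3 hm4.le
    linarith
  have b4_3 : c4_3 ≤ 2 := by
    by_contra hne
    have h3 : 3 ≤ c4_3 := by omega
    have hp : 3 * m3 ≤ c4_3 * m3 := mul_le_mul_of_nonneg_right h3 hm3.le
    linarith
  have x0_1_1_0 : c0_1 + c1_0 ≤ 3 := by
    by_contra hne
    have h2 : 2 ≤ c0_1 := by omega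
    have h2' : 2 ≤ c1_0 := by omega
    have hp : 2 * m1 ≤ c0_1 * m1 := mul_le_mul_of_nonneg_right h2 hm1.le
    have hp' : 2 * m0 ≤ c1_0 * m0 := mul_le_mul_of_nonneg_right h2' hm0.le
    linarith
  have x0_1_3_4 : c0_1 + c3_4 ≤ 3 := by
    by_contra hne
    have h2 : 2 ≤ c0_1 := by omega
    have h2' : 2 ≤ c3_4 := by omega
    have hp : 2 * m1 ≤ c0_1 * m1 := mul_le_mul_of_nonneg_right h2 hm1.le
    have hp' : 2 * m4 ≤ c3_4 * m4 := mul_le_mul_of_nonneg_right h2' hm4.le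
    linarith
  have x0_1_4_3 : c0_1 + c4_3 ≤ 3 := by
    by_contra hne
    have h2 : 2 ≤ c0_1 := by omega
    have h2' : 2 ≤ c4_3 := by omega
    have hp : 2 * m1 ≤ c0_1 * m1 := mul_le_mul_of_nonneg_right h2 hm1.le
    have hp' : 2 * m3 ≤ c4_3 * m3 := mul_le_mul_of_nonneg_right h2' hm3.le
    linarith
  have x1_0_3_4 : c1_0 + c3_4 ≤ 3 := by
    by_contra hne
    have h2 : 2 ≤ c1_0 := by omega
    have h2' : 2 ≤ c3_4 := by omega
    have hp : 2 * m0 ≤ c1_0 * m0 := mul_le_mul_of_nonneg_right h2 hm0.le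
    have hp' : 2 * m4 ≤ c3_4 * m4 := mul_le_mul_of_nonneg_right h2' hm4.le
    linarith
  have x1_0_4_3 : c1_0 + c4_3 ≤ 3 := by
    by_contra hne
    have h2 : 2 ≤ c1_0 := by omega
    have h2' : 2 ≤ c4_3 := by omega
    have hp : 2 * m0 ≤ c1_0 * m0 := mul_le_mul_of_nonneg_right h2 hm0.le
    have hp' : 2 * m3 ≤ c4_3 * m3 := mul_le_mul_of_nonneg_right h2' hm3.le
    linarith
  have x3_4_4_3 : c3_4 + c4_3 ≤ 3 := by
    by_contra hne
    have h2 : 2 ≤ c3_4 := by omega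
    have h2' : 2 ≤ c4_3 := by omega
    have hp : 2 * m4 ≤ c3_4 * m4 := mul_le_mul_of_nonneg_right h2 hm4.le
    have hp' : 2 * m3 ≤ c4_3 * m3 := mul_le_mul_of_nonneg_right h2' hm3.le
    linarith
  exact ⟨z0_2, z0_3, z0_4, z1_3, z1_4, z2_4, u1_2, u2_1, u2_3, u3_2, b0_1, b1_0, b3_4, b4_3, x0_1_1_0, x0_1_3_4, x0_1_4_3, x1_0_3_4, x1_0_4_3, x3_4_4_3⟩

theorem d4_arith (m0 m1 m2 m3 : ℤ)
    (c0_1 c0_2 c0_3 c1_0 c1_2 c1_3 c2_0 c2_1 c2_3 c3_0 c3_1 c3_2 : ℤ)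
    (hm0 : 0 < m0) (hm1 : 0 < m1) (hm2 : 0 < m2) (hm3 : 0 < m3)
    (n0_1 : 0 ≤ c0_1) (n0_2 : 0 ≤ c0_2) (n0_3 : 0 ≤ c0_3) (n1_0 : 0 ≤ c1_0) (n1_2 : 0 ≤ c1_2) (n1_3 : 0 ≤ c1_3) (n2_0 : 0 ≤ c2_0) (n2_1 : 0 ≤ c2_1) (n2_3 : 0 ≤ c2_3) (n3_0 : 0 ≤ c3_0) (n3_1 : 0 ≤ c3_1) (n3_2 : 0 ≤ c3_2)
    (l0_1 : 1 ≤ c0_1) (l1_0 : 1 ≤ c1_0) (l1_2 : 1 ≤ c1_2) (l2_1 : 1 ≤ c2_1) (l1_3 : 1 ≤ c1_3) (l3_1 : 1 ≤ c3_1)
    (s0_2 : 1 ≤ c0_2 → 1 ≤ c2_0) (s0_3 : 1 ≤ c0_3 → 1 ≤ c3_0) (s2_3 : 1 ≤ c2_3 → 1 ≤ c3_2)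
    (r0 : -2 * m0 + c0_1 * m1 + c0_2 * m2 + c0_3 * m3 ≤ 0)
    (r1 : c1_0 * m0 + -2 * m1 + c1_2 * m2 + c1_3 * m3 ≤ 0)
    (r2 : c2_0 * m0 + c2_1 * m1 + -2 * m2 + c2_3 * m3 ≤ 0)
    (r3 : c3_0 * m0 + c3_1 * m1 + c3_2 * m2 + -2 * m3 ≤ 0)
    (htot : (-2 * m0 + c0_1 * m1 + c0_2 * m2 + c0_3 * m3) + (c1_0 * m0 + -2 * m1 + c1_2 * m2 + c1_3 * m3) + (c2_0 * m0 + c2_1 * m1 + -2 * m2 + c2_3 * m3) + (c3_0 * m0 + c3_1 * m1 + c3_2 * m2 + -2 * m3) < 0) :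
    c0_2 = 0 ∧ c0_3 = 0 ∧ c2_3 = 0 ∧ c0_1 = 1 ∧ c1_0 = 1 ∧ c1_2 = 1 ∧ c2_1 = 1 ∧ c1_3 = 1 ∧ c3_1 = 1 := by
  have p0_1 : 0 ≤ c0_1 * m1 := mul_nonneg n0_1 hm1.le
  have p0_2 : 0 ≤ c0_2 * m2 := mul_nonneg n0_2 hm2.le
  have p0_3 : 0 ≤ c0_3 * m3 := mul_nonneg n0_3 hm3.le
  have p1_0 : 0 ≤ c1_0 * m0 := mul_nonneg n1_0 hm0.le
  have p1_2 : 0 ≤ c1_2 * m2 := mul_nonneg n1_2 hm2.le
  have p1_3 : 0 ≤ c1_3 * m3 := mul_nonneg n1_3 hm3.le
  have p2_0 : 0 ≤ c2_0 * m0 := mul_nonneg n2_0 hm0.le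
  have p2_1 : 0 ≤ c2_1 * m1 := mul_nonneg n2_1 hm1.le
  have p2_3 : 0 ≤ c2_3 * m3 := mul_nonneg n2_3 hm3.le
  have p3_0 : 0 ≤ c3_0 * m0 := mul_nonneg n3_0 hm0.le
  have p3_1 : 0 ≤ c3_1 * m1 := mul_nonneg n3_1 hm1.le
  have p3_2 : 0 ≤ c3_2 * m2 := mul_nonneg n3_2 hm2.le
  have e0_1 : m1 ≤ c0_1 * m1 := le_mul_of_one_le_left hm1.le l0_1
  have e1_0 : m0 ≤ c1_0 * m0 := le_mul_of_one_le_left hm0.le l1_0
  have e1_2 : m2 ≤ c1_2 * m2 := le_mul_of_one_le_left hm2.le l1_2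
  have e2_1 : m1 ≤ c2_1 * m1 := le_mul_of_one_le_left hm1.le l2_1
  have e1_3 : m3 ≤ c1_3 * m3 := le_mul_of_one_le_left hm3.le l1_3
  have e3_1 : m1 ≤ c3_1 * m1 := le_mul_of_one_le_left hm1.le l3_1
  have z0_2 : c0_2 = 0 := by
    by_contra hne
    have h1 : 1 ≤ c0_2 := by omega
    have h1' := s0_2 h1
    have hp : m2 ≤ c0_2 * m2 := le_mul_of_one_le_left hm2.le h1
    have hp' : m0 ≤ c2_0 * m0 := le_mul_of_one_le_left hm0.le h1'
    linarith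
  have z0_3 : c0_3 = 0 := by
    by_contra hne
    have h1 : 1 ≤ c0_3 := by omega
    have h1' := s0_3 h1
    have hp : m3 ≤ c0_3 * m3 := le_mul_of_one_le_left hm3.le h1
    have hp' : m0 ≤ c3_0 * m0 := le_mul_of_one_le_left hm0.le h1'
    linarith
  have z2_3 : c2_3 = 0 := by
    by_contra hne
    have h1 : 1 ≤ c2_3 := by omega
    have h1' := s2_3 h1
    have hp : m3 ≤ c2_3 * m3 := le_mul_of_one_le_left hm3.le h1
    have hp' : m2 ≤ c3_2 * m2 := le_mul_of_one_le_left hm2.le h1'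
    linarith
  have u0_1 : c0_1 = 1 := by
    by_contra hne
    have h2 : 2 ≤ c0_1 := by omega
    have hp : 2 * m1 ≤ c0_1 * m1 := mul_le_mul_of_nonneg_right h2 hm1.le
    linarith
  have u1_0 : c1_0 = 1 := by
    by_contra hne
    have h2 : 2 ≤ c1_0 := by omega
    have hp : 2 * m0 ≤ c1_0 * m0 := mul_le_mul_of_nonneg_right h2 hm0.le
    linarith
  have u1_2 : c1_2 = 1 := by
    by_contra hne
    have h2 : 2 ≤ c1_2 := by omega
    have hp : 2 * m2 ≤ c1_2 * m2 := mul_le_mul_of_nonneg_right h2 hm2.le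
    linarith
  have u2_1 : c2_1 = 1 := by
    by_contra hne
    have h2 : 2 ≤ c2_1 := by omega
    have hp : 2 * m1 ≤ c2_1 * m1 := mul_le_mul_of_nonneg_right h2 hm1.le
    linarith
  have u1_3 : c1_3 = 1 := by
    by_contra hne
    have h2 : 2 ≤ c1_3 := by omega
    have hp : 2 * m3 ≤ c1_3 * m3 := mul_le_mul_of_nonneg_right h2 hm3.le
    linarith
  have u3_1 : c3_1 = 1 := by
    by_contra hne
    have h2 : 2 ≤ c3_1 := by omega
    have hp : 2 * m1 ≤ c3_1 * m1 := mul_le_mul_of_nonneg_right h2 hm1.le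
    linarith
  exact ⟨z0_2, z0_3, z2_3, u0_1, u1_0, u1_2, u2_1, u1_3, u3_1⟩

theorem chain5_window (x : ℕ → Fin n) (N : ℕ) (hN : N < n)
    (hinj : ∀ i j, i < N → j < N → x i = x j → i = j) (hmt : ∀ i, i < N → T.IsMinusTwo (x i))
    {k : ℕ} (hk : k + 5 ≤ N) (h01 : T.a (x k) (x (k + 1)) ≠ 0) (h12 : T.a (x (k + 1)) (x (k + 2)) ≠ 0) (h23 : T.a (x (k + 2)) (x (k + 3)) ≠ 0) (h34 : T.a (x (k + 3)) (x (k + 4)) ≠ 0) :
    c T (x k) (x (k + 2)) = 0 ∧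
    c T (x k) (x (k + 3)) = 0 ∧
    c T (x k) (x (k + 4)) = 0 ∧
    c T (x (k + 1)) (x (k + 3)) = 0 ∧
    c T (x (k + 1)) (x (k + 4)) = 0 ∧
    c T (x (k + 2)) (x (k + 4)) = 0 ∧
    c T (x (k + 1)) (x (k + 2)) = 1 ∧
    c T (x (k + 2)) (x (k + 1)) = 1 ∧
    c T (x (k + 2)) (x (k + 3)) = 1 ∧
    c T (x (k + 3)) (x (k + 2)) = 1 ∧
    c T (x k) (x (k + 1)) ≤ 2 ∧
    c T (x (k + 1)) (x k) ≤ 2 ∧
    c T (x (k + 3)) (x (k + 4)) ≤ 2 ∧
    c T (x (k + 4)) (x (k + 3)) ≤ 2 ∧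
    c T (x k) (x (k + 1)) + c T (x (k + 1)) (x k) ≤ 3 ∧
    c T (x k) (x (k + 1)) + c T (x (k + 3)) (x (k + 4)) ≤ 3 ∧
    c T (x k) (x (k + 1)) + c T (x (k + 4)) (x (k + 3)) ≤ 3 ∧
    c T (x (k + 1)) (x k) + c T (x (k + 3)) (x (k + 4)) ≤ 3 ∧
    c T (x (k + 1)) (x k) + c T (x (k + 4)) (x (k + 3)) ≤ 3 ∧
    c T (x (k + 3)) (x (k + 4)) + c T (x (k + 4)) (x (k + 3)) ≤ 3 := by
  let w : Fin 5 ↪ Fin n := ⟨fun s => x (k + s.val), fun a b e => Fin.ext (by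
    have ha := a.isLt
    have hb := b.isLt
    have := hinj _ _ (by omega) (by omega) e
    omega)⟩
  have hd := config_diag T w (fun s => hmt _ (by have := s.isLt; omega))
  have htot := sum_sum_config_lt T w (by norm_num) (by omega)
  have r0 := sum_config_le T w 0
  have r1 := sum_config_le T w 1
  have r2 := sum_config_le T w 2
  have r3 := sum_config_le T w 3
  have r4 := sum_config_le T w 4
  simp only [Fin.sum_univ_five, hd] at htot r0 r1 r2 r3 r4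
  exact chain5_arith
    (T.m (w 0))
    (T.m (w 1))
    (T.m (w 2))
    (T.m (w 3))
    (T.m (w 4))
    (c T (w 0) (w 1))
    (c T (w 0) (w 2))
    (c T (w 0) (w 3))
    (c T (w 0) (w 4))
    (c T (w 1) (w 0))
    (c T (w 1) (w 2))
    (c T (w 1) (w 3))
    (c T (w 1) (w 4))
    (c T (w 2) (w 0))
    (c T (w 2) (w 1))
    (c T (w 2) (w 3))
    (c T (w 2) (w 4))
    (c T (w 3) (w 0))
    (c T (w 3) (w 1))
    (c T (w 3) (w 2))
    (c T (w 3) (w 4))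
    (c T (w 4) (w 0))
    (c T (w 4) (w 1))
    (c T (w 4) (w 2))
    (c T (w 4) (w 3))
    (T.m_pos _)
    (T.m_pos _)
    (T.m_pos _)
    (T.m_pos _)
    (T.m_pos _)
    (config_nonneg T w (show (0 : Fin 5) ≠ 1 by decide))
    (config_nonneg T w (show (0 : Fin 5) ≠ 2 by decide))
    (config_nonneg T w (show (0 : Fin 5) ≠ 3 by decide))
    (config_nonneg T w (show (0 : Fin 5) ≠ 4 by decide))
    (config_nonneg T w (show (1 : Fin 5) ≠ 0 by decide))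
    (config_nonneg T w (show (1 : Fin 5) ≠ 2 by decide))
    (config_nonneg T w (show (1 : Fin 5) ≠ 3 by decide))
    (config_nonneg T w (show (1 : Fin 5) ≠ 4 by decide))
    (config_nonneg T w (show (2 : Fin 5) ≠ 0 by decide))
    (config_nonneg T w (show (2 : Fin 5) ≠ 1 by decide))
    (config_nonneg T w (show (2 : Fin 5) ≠ 3 by decide))
    (config_nonneg T w (show (2 : Fin 5) ≠ 4 by decide))
    (config_nonneg T w (show (3 : Fin 5) ≠ 0 by decide))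
    (config_nonneg T w (show (3 : Fin 5) ≠ 1 by decide))
    (config_nonneg T w (show (3 : Fin 5) ≠ 2 by decide))
    (config_nonneg T w (show (3 : Fin 5) ≠ 4 by decide))
    (config_nonneg T w (show (4 : Fin 5) ≠ 0 by decide))
    (config_nonneg T w (show (4 : Fin 5) ≠ 1 by decide))
    (config_nonneg T w (show (4 : Fin 5) ≠ 2 by decide))
    (config_nonneg T w (show (4 : Fin 5) ≠ 3 by decide))
    (config_one_le T w (show (0 : Fin 5) ≠ 1 by decide) h01)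
    (config_one_le' T w (show (0 : Fin 5) ≠ 1 by decide) h01)
    (config_one_le T w (show (1 : Fin 5) ≠ 2 by decide) h12)
    (config_one_le' T w (show (1 : Fin 5) ≠ 2 by decide) h12)
    (config_one_le T w (show (2 : Fin 5) ≠ 3 by decide) h23)
    (config_one_le' T w (show (2 : Fin 5) ≠ 3 by decide) h23)
    (config_one_le T w (show (3 : Fin 5) ≠ 4 by decide) h34)
    (config_one_le' T w (show (3 : Fin 5) ≠ 4 by decide) h34)
    (c_pos_symm T (fun h' => absurd (w.injective h') (by decide)))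
    (c_pos_symm T (fun h' => absurd (w.injective h') (by decide)))
    (c_pos_symm T (fun h' => absurd (w.injective h') (by decide)))
    (c_pos_symm T (fun h' => absurd (w.injective h') (by decide)))
    (c_pos_symm T (fun h' => absurd (w.injective h') (by decide)))
    (c_pos_symm T (fun h' => absurd (w.injective h') (by decide)))
    r0
    r1
    r2
    r3
    r4
    htot

theorem star4_window (x : ℕ → Fin n) (N : ℕ) (hN : N < n)
    (hinj : ∀ i j, i < N → j < N → x i = x j → i = j) (hmt : ∀ i, i < N → T.IsMinusTwo (x i))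
    {k : ℕ} (hk : k + 4 ≤ N) (h01 : T.a (x k) (x (k + 1)) ≠ 0) (h12 : T.a (x (k + 1)) (x (k + 2)) ≠ 0) (h13 : T.a (x (k + 1)) (x (k + 3)) ≠ 0) :
    c T (x k) (x (k + 2)) = 0 ∧
    c T (x k) (x (k + 3)) = 0 ∧
    c T (x (k + 2)) (x (k + 3)) = 0 ∧
    c T (x k) (x (k + 1)) = 1 ∧
    c T (x (k + 1)) (x k) = 1 ∧
    c T (x (k + 1)) (x (k + 2)) = 1 ∧
    c T (x (k + 2)) (x (k + 1)) = 1 ∧
    c T (x (k + 1)) (x (k + 3)) = 1 ∧
    c T (x (k + 3)) (x (k + 1)) = 1 := by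
  let w : Fin 4 ↪ Fin n := ⟨fun s => x (k + s.val), fun a b e => Fin.ext (by
    have ha := a.isLt
    have hb := b.isLt
    have := hinj _ _ (by omega) (by omega) e
    omega)⟩
  have hd := config_diag T w (fun s => hmt _ (by have := s.isLt; omega))
  have htot := sum_sum_config_lt T w (by norm_num) (by omega)
  have r0 := sum_config_le T w 0
  have r1 := sum_config_le T w 1
  have r2 := sum_config_le T w 2
  have r3 := sum_config_le T w 3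
  simp only [Fin.sum_univ_four, hd] at htot r0 r1 r2 r3
  exact d4_arith
    (T.m (w 0))
    (T.m (w 1))
    (T.m (w 2))
    (T.m (w 3))
    (c T (w 0) (w 1))
    (c T (w 0) (w 2))
    (c T (w 0) (w 3))
    (c T (w 1) (w 0))
    (c T (w 1) (w 2))
    (c T (w 1) (w 3))
    (c T (w 2) (w 0))
    (c T (w 2) (w 1))
    (c T (w 2) (w 3))
    (c T (w 3) (w 0))
    (c T (w 3) (w 1))
    (c T (w 3) (w 2))
    (T.m_pos _)
    (T.m_pos _)
    (T.m_pos _)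
    (T.m_pos _)
    (config_nonneg T w (show (0 : Fin 4) ≠ 1 by decide))
    (config_nonneg T w (show (0 : Fin 4) ≠ 2 by decide))
    (config_nonneg T w (show (0 : Fin 4) ≠ 3 by decide))
    (config_nonneg T w (show (1 : Fin 4) ≠ 0 by decide))
    (config_nonneg T w (show (1 : Fin 4) ≠ 2 by decide))
    (config_nonneg T w (show (1 : Fin 4) ≠ 3 by decide))
    (config_nonneg T w (show (2 : Fin 4) ≠ 0 by decide))
    (config_nonneg T w (show (2 : Fin 4) ≠ 1 by decide))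
    (config_nonneg T w (show (2 : Fin 4) ≠ 3 by decide))
    (config_nonneg T w (show (3 : Fin 4) ≠ 0 by decide))
    (config_nonneg T w (show (3 : Fin 4) ≠ 1 by decide))
    (config_nonneg T w (show (3 : Fin 4) ≠ 2 by decide))
    (config_one_le T w (show (0 : Fin 4) ≠ 1 by decide) h01)
    (config_one_le' T w (show (0 : Fin 4) ≠ 1 by decide) h01)
    (config_one_le T w (show (1 : Fin 4) ≠ 2 by decide) h12)
    (config_one_le' T w (show (1 : Fin 4) ≠ 2 by decide) h12)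
    (config_one_le T w (show (1 : Fin 4) ≠ 3 by decide) h13)
    (config_one_le' T w (show (1 : Fin 4) ≠ 3 by decide) h13)
    (c_pos_symm T (fun h' => absurd (w.injective h') (by decide)))
    (c_pos_symm T (fun h' => absurd (w.injective h') (by decide)))
    (c_pos_symm T (fun h' => absurd (w.injective h') (by decide)))
    r0
    r1
    r2
    r3
    htot

/-- A chain `x 0, …, x (t-1)` of distinct `(-2)`-indices with consecutive ones adjacent. -/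
structure ChainData (T : Models.NumericalType n) (t : ℕ) (x : ℕ → Fin n) : Prop where
  lt : t < n
  inj : ∀ i j, i < t → j < t → x i = x j → i = j
  mt : ∀ i, i < t → T.IsMinusTwo (x i)
  adj : ∀ i, i + 1 < t → T.a (x i) (x (i + 1)) ≠ 0

namespace ChainData

variable {T} {t : ℕ} {x : ℕ → Fin n} (h : ChainData T t x)
include h

lemma ne {i j : ℕ} (hi : i < t) (hj : j < t) (hij : i ≠ j) : x i ≠ x j :=
  fun e => hij (h.inj i j hi hj e)

lemma diag {i : ℕ} (hi : i < t) : c T (x i) (x i) = -2 := c_diag_of_isMinusTwo T (h.mt i hi)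

lemma nonneg {i j : ℕ} (hi : i < t) (hj : j < t) (hij : i ≠ j) : 0 ≤ c T (x i) (x j) :=
  c_nonneg T (h.ne hi hj hij)

lemma adj_c {i : ℕ} (hi : i + 1 < t) :
    1 ≤ c T (x i) (x (i + 1)) ∧ 1 ≤ c T (x (i + 1)) (x i) := by
  have hne := h.ne (by omega : i < t) hi (by omega)
  exact ⟨one_le_c T hne (h.adj i hi), c_pos_symm T hne (one_le_c T hne (h.adj i hi))⟩

lemma adj_pred {i : ℕ} (h1 : 1 ≤ i) (hi : i < t) :
    1 ≤ c T (x (i - 1)) (x i) ∧ 1 ≤ c T (x i) (x (i - 1)) := by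
  obtain ⟨k, rfl⟩ : ∃ k, i = k + 1 := ⟨i - 1, by omega⟩
  simpa using h.adj_c (i := k) hi

lemma injOn (S : Finset ℕ) (hS : ∀ i ∈ S, i < t) : Set.InjOn x (S : Set ℕ) :=
  fun i hi j hj e => h.inj i j (hS i (Finset.mem_coe.mp hi)) (hS j (Finset.mem_coe.mp hj)) e

/-- The reversed chain. -/
lemma rev : ChainData T t (fun i => x (t - 1 - i)) where
  lt := h.lt
  inj := fun i j hi hj e => by
    have := h.inj _ _ (by omega) (by omega) e
    omega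
  mt := fun i hi => h.mt _ (by omega)
  adj := fun i hi => by
    have := h.adj (t - 1 - (i + 1)) (by omega)
    rw [a_symm]
    have e : t - 1 - (i + 1) + 1 = t - 1 - i := by omega
    rw [e] at this
    exact this

/-- Non-adjacent members of a chain do not meet (otherwise there is a cycle). -/
lemma nonadj {i j : ℕ} (hij : i + 1 < j) (hj : j < t) : c T (x i) (x j) = 0 := by
  classical
  by_contra hne
  have hi : i < t := by omega
  have h0 := h.nonneg hi hj (by omega : i ≠ j)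
  have h1 : 1 ≤ c T (x i) (x j) := by omega
  have h1' : 1 ≤ c T (x j) (x i) := c_pos_symm T (h.ne hi hj (by omega)) h1
  have hS : ∀ s ∈ Finset.Icc i j, s < t := fun s hs => by
    have := (Finset.mem_Icc.mp hs).2
    omega
  have hf := h.injOn (Finset.Icc i j) hS
  have hlt := h.lt
  refine not_col_nonneg T (Finset.Icc i j) x hf ⟨i, Finset.mem_Icc.mpr ⟨le_refl _, by omega⟩⟩ ?_
    (fun _ => 1) (fun _ _ => one_pos) ?_
  · rw [Nat.card_Icc]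
    omega
  · intro t' ht'
    obtain ⟨h1t, h2t⟩ := Finset.mem_Icc.mp ht'
    have ht't : t' < t := by omega
    have hd := h.diag ht't
    have hy0 : ∀ s ∈ Finset.Icc i j, (0 : ℤ) ≤ (fun _ : ℕ => (1 : ℤ)) s := fun _ _ => zero_le_one
    have mem : ∀ s, i ≤ s → s ≤ j → s ∈ Finset.Icc i j := fun s a b => Finset.mem_Icc.mpr ⟨a, b⟩
    rcases (show t' = i ∨ t' = j ∨ (i < t' ∧ t' < j) by omega) with e | e | ⟨ha, hb⟩
    · have a1 := (h.adj_c (by omega : i + 1 < t)).2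
      refine col_nonneg_two T _ x hf _ hy0 ht' (mem (i + 1) (by omega) (by omega))
        (mem j (by omega) le_rfl) (by omega) (by omega) (by omega) ?_
      simp only [one_mul]
      rw [hd, e]
      linarith
    · have a1 := (h.adj_pred (by omega : 1 ≤ j) hj).1
      refine col_nonneg_two T _ x hf _ hy0 ht' (mem (j - 1) (by omega) (by omega))
        (mem i le_rfl (by omega)) (by omega) (by omega) (by omega) ?_
      simp only [one_mul]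
      rw [hd, e]
      linarith
    · have a1 := (h.adj_pred (by omega : 1 ≤ t') ht't).1
      have a2 := (h.adj_c (by omega : t' + 1 < t)).2
      refine col_nonneg_two T _ x hf _ hy0 ht' (mem (t' - 1) (by omega) (by omega))
        (mem (t' + 1) (by omega) (by omega)) (by omega) (by omega) (by omega) ?_
      simp only [one_mul]
      rw [hd]
      linarith

lemma nonadj' {i j : ℕ} (hij : i + 1 < j) (hj : j < t) : c T (x j) (x i) = 0 :=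
  c_eq_zero_symm T (h.nonadj hij hj)

lemma window5 {k : ℕ} (hk : k + 5 ≤ t) :
    c T (x (k + 1)) (x (k + 2)) = 1 ∧ c T (x (k + 2)) (x (k + 1)) = 1 ∧
    c T (x (k + 2)) (x (k + 3)) = 1 ∧ c T (x (k + 3)) (x (k + 2)) = 1 ∧
    c T (x k) (x (k + 1)) ≤ 2 ∧ c T (x (k + 1)) (x k) ≤ 2 ∧
    c T (x k) (x (k + 1)) + c T (x (k + 1)) (x k) ≤ 3 ∧
    c T (x (k + 3)) (x (k + 4)) ≤ 2 ∧ c T (x (k + 4)) (x (k + 3)) ≤ 2 ∧
    c T (x (k + 3)) (x (k + 4)) + c T (x (k + 4)) (x (k + 3)) ≤ 3 := by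
  obtain ⟨-, -, -, -, -, -, u12, u21, u23, u32, b01, b10, b34, b43, x0110, -, -, -, -, x3443⟩ :=
    chain5_window T x t h.lt h.inj h.mt hk (h.adj k (by omega)) (h.adj (k + 1) (by omega))
      (h.adj (k + 2) (by omega)) (h.adj (k + 3) (by omega))
  exact ⟨u12, u21, u23, u32, b01, b10, x0110, b34, b43, x3443⟩

/-- Interior edges of a chain of at least five vertices are simple. -/
lemma interior (ht : 5 ≤ t) {s : ℕ} (h1 : 1 ≤ s) (h2 : s + 2 < t) :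
    c T (x s) (x (s + 1)) = 1 ∧ c T (x (s + 1)) (x s) = 1 := by
  by_cases h3 : s + 3 < t
  · obtain ⟨k, rfl⟩ : ∃ k, s = k + 1 := ⟨s - 1, by omega⟩
    have := h.window5 (k := k) (by omega)
    exact ⟨this.1, this.2.1⟩
  · obtain ⟨k, rfl⟩ : ∃ k, s = k + 2 := ⟨s - 2, by omega⟩
    have := h.window5 (k := k) (by omega)
    exact ⟨this.2.2.1, this.2.2.2.1⟩

lemma left_end (ht : 5 ≤ t) :
    c T (x 0) (x 1) ≤ 2 ∧ c T (x 1) (x 0) ≤ 2 ∧ c T (x 0) (x 1) + c T (x 1) (x 0) ≤ 3 := by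
  have := h.window5 (k := 0) (by omega)
  exact ⟨this.2.2.2.2.1, this.2.2.2.2.2.1, this.2.2.2.2.2.2.1⟩

lemma right_end (ht : 5 ≤ t) {p : ℕ} (hp : p + 2 = t) :
    c T (x p) (x (p + 1)) ≤ 2 ∧ c T (x (p + 1)) (x p) ≤ 2 ∧
      c T (x p) (x (p + 1)) + c T (x (p + 1)) (x p) ≤ 3 := by
  obtain ⟨k, rfl⟩ : ∃ k, p = k + 3 := ⟨p - 3, by omega⟩
  have := h.window5 (k := k) (by omega)
  exact ⟨this.2.2.2.2.2.2.2.1, this.2.2.2.2.2.2.2.2.1, this.2.2.2.2.2.2.2.2.2⟩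

/-- The two end edges of a chain are not both double. -/
lemma not_both_double (ht : 4 ≤ t) {p : ℕ} (hp : p + 2 = t)
    (hL : c T (x 0) (x 1) + c T (x 1) (x 0) = 3)
    (hR : c T (x p) (x (p + 1)) + c T (x (p + 1)) (x p) = 3) : False := by
  classical
  obtain ⟨l01, l10⟩ := h.adj_c (i := 0) (by omega)
  obtain ⟨lp, lp'⟩ := h.adj_c (i := p) (by omega)
  simp only [zero_add] at l01 l10
  have prodL : c T (x 1) (x 0) * c T (x 0) (x 1) = 2 := by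
    rcases (show (c T (x 0) (x 1) = 1 ∧ c T (x 1) (x 0) = 2) ∨
      (c T (x 0) (x 1) = 2 ∧ c T (x 1) (x 0) = 1) by omega) with ⟨e1, e2⟩ | ⟨e1, e2⟩ <;>
    rw [e1, e2] <;> norm_num
  have prodR : c T (x p) (x (p + 1)) * c T (x (p + 1)) (x p) = 2 := by
    rcases (show (c T (x p) (x (p + 1)) = 1 ∧ c T (x (p + 1)) (x p) = 2) ∨
      (c T (x p) (x (p + 1)) = 2 ∧ c T (x (p + 1)) (x p) = 1) by omega) with ⟨e1, e2⟩ | ⟨e1, e2⟩ <;>
    rw [e1, e2] <;> norm_num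
  let y : ℕ → ℤ := fun s => if s = 0 then c T (x 1) (x 0) else
    if s = p + 1 then c T (x p) (x (p + 1)) else 2
  have hy_0 : y 0 = c T (x 1) (x 0) := if_pos rfl
  have hy_last : y (p + 1) = c T (x p) (x (p + 1)) := by
    show (if p + 1 = 0 then _ else if p + 1 = p + 1 then _ else _) = _
    rw [if_neg (by omega), if_pos rfl]
  have hy_mid : ∀ s, s ≠ 0 → s ≠ p + 1 → y s = 2 := by
    intro s h1 h2
    show (if s = 0 then _ else if s = p + 1 then _ else _) = _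
    rw [if_neg h1, if_neg h2]
  have hypos : ∀ s ∈ Finset.range t, 0 < y s := by
    intro s _
    by_cases h1 : s = 0
    · rw [h1, hy_0]; omega
    · by_cases h2 : s = p + 1
      · rw [h2, hy_last]; omega
      · rw [hy_mid s h1 h2]; norm_num
  have hy0 : ∀ s ∈ Finset.range t, 0 ≤ y s := fun s hs => (hypos s hs).le
  have hS : ∀ s ∈ Finset.range t, s < t := fun s hs => Finset.mem_range.mp hs
  have hf := h.injOn (Finset.range t) hS
  have hlt := h.lt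
  have mem : ∀ s, s < t → s ∈ Finset.range t := fun s hs => Finset.mem_range.mpr hs
  refine not_col_nonneg T (Finset.range t) x hf ⟨0, mem 0 (by omega)⟩ (by rw [Finset.card_range]; exact hlt)
    y hypos ?_
  intro t' ht'
  have ht't := hS t' ht'
  have hd := h.diag ht't
  rcases (show t' = 0 ∨ t' = 1 ∨ (2 ≤ t' ∧ t' < p) ∨ t' = p ∨ t' = p + 1 by omega) with
    e | e | ⟨e1, e2⟩ | e | e
  · refine col_nonneg_one T _ x hf y hy0 ht' (mem 1 (by omega)) (by omega) ?_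
    rw [hd, e, hy_0, hy_mid 1 (by omega) (by omega)]
    linarith
  · have a2 := (h.adj_c (i := 1) (by omega)).2
    refine col_nonneg_two T _ x hf y hy0 ht' (mem 0 (by omega)) (mem 2 (by omega))
      (by omega) (by omega) (by omega) ?_
    rw [hd, e, hy_0, hy_mid 1 (by omega) (by omega), hy_mid 2 (by omega) (by omega)]
    linarith
  · have a1 := (h.adj_pred (by omega : 1 ≤ t') ht't).1
    have a2 := (h.adj_c (by omega : t' + 1 < t)).2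
    refine col_nonneg_two T _ x hf y hy0 ht' (mem (t' - 1) (by omega)) (mem (t' + 1) (by omega))
      (by omega) (by omega) (by omega) ?_
    rw [hd, hy_mid t' (by omega) (by omega), hy_mid (t' - 1) (by omega) (by omega),
      hy_mid (t' + 1) (by omega) (by omega)]
    linarith
  · have a1 := (h.adj_pred (by omega : 1 ≤ p) (by omega : p < t)).1
    refine col_nonneg_two T _ x hf y hy0 ht' (mem (p - 1) (by omega)) (mem (p + 1) (by omega))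
      (by omega) (by omega) (by omega) ?_
    rw [hd, e, hy_mid p (by omega) (by omega), hy_mid (p - 1) (by omega) (by omega), hy_last]
    linarith
  · refine col_nonneg_one T _ x hf y hy0 ht' (mem p (by omega)) (by omega) ?_
    rw [hd, e, hy_last, hy_mid p (by omega) (by omega)]
    linarith

end ChainData

end Groth.Agent.Lib.Helper11.NumType
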