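import Mathlib

/-!
# Sums of invariant functions over a finite set with a cyclic action (helper11)
-/

set_option autoImplicit false

namespace Groth.Agent.Lib.Helper11.OrbitSum

open MulAction

variable {X : Type*} [Fintype X] {K : Type*} [CommRing K]

/-- general orbit decomposition for the sum of an invariant function -/
theorem sum_eq_sum_orbits {G : Type*} [Group G] [MulAction G X] (F : X → K)
    (hF : ∀ (g : G) x, F (g • x) = F x) :
    ∑ x, F x = ∑ᶠ ω : orbitRel.Quotient G X,
      (Nat.card (orbit G (Quotient.out ω)) : K) * F (Quotient.out ω) := by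
  classical
  rw [finsum_eq_sum_of_fintype]
  rw [← Fintype.sum_equiv (selfEquivSigmaOrbits' G X).symm (fun p => F p.2) F (fun _ => rfl)]
  rw [Fintype.sum_sigma]
  refine Fintype.sum_congr _ _ (fun ω => ?_)
  have hω : ω.orbit = orbit G (Quotient.out ω) :=
    orbitRel.Quotient.orbit_eq_orbit_out ω Quotient.out_eq'
  have h1 : ∀ b : ω.orbit, F b = F (Quotient.out ω) := by
    intro b
    have hb : (b : X) ∈ orbit G (Quotient.out ω) := hω ▸ b.2
    obtain ⟨g, hg⟩ := hb
    rw [← hg]
    exact hF g _
  rw [Fintype.sum_congr _ _ h1, Finset.sum_const, Finset.card_univ, nsmul_eq_mul]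
  congr 2
  rw [← Nat.card_eq_fintype_card, hω]


/-- the permutations leaving `F` invariant. -/
def invSub (F : X → K) : Subgroup (Equiv.Perm X) where
  carrier := {g | ∀ x, F (g x) = F x}
  mul_mem' := by
    intro a b ha hb x
    show F (a (b x)) = F x
    rw [ha, hb]
  one_mem' := fun x => rfl
  inv_mem' := by
    intro a ha x
    have := ha (a⁻¹ x)
    have e : a (a⁻¹ x) = x := Equiv.apply_symm_apply a x
    rw [e] at this
    exact this.symm

theorem sum_eq_sum_fixed [DecidableEq X] (T : Equiv.Perm X) (Q : ℕ) (hT : T ^ Q = 1)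
    (hchar : ∀ n : ℕ, 1 < n → n ∣ Q → (n : K) = 0) (F : X → K) (hF : ∀ x, F (T x) = F x) :
    ∑ x, F x = ∑ x, if T x = x then F x else 0 := by
  classical
  set F₀ : X → K := fun x => if T x = x then F x else 0 with hF₀
  have hF₀T : ∀ x, F₀ (T x) = F₀ x := by
    intro x
    simp only [hF₀, T.injective.eq_iff, hF]
  have hle : Subgroup.zpowers T ≤ invSub F := by
    rw [Subgroup.zpowers_le]; exact hF
  have hle₀ : Subgroup.zpowers T ≤ invSub F₀ := by
    rw [Subgroup.zpowers_le]; exact hF₀T
  have h1 := sum_eq_sum_orbits (G := Subgroup.zpowers T) F (fun g x => hle g.2 x)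
  have h2 := sum_eq_sum_orbits (G := Subgroup.zpowers T) F₀ (fun g x => hle₀ g.2 x)
  rw [h1, h2]
  refine finsum_congr (fun ω => ?_)
  set y := Quotient.out ω with hy
  by_cases hfix : T y = y
  · simp only [hF₀, hfix, if_true]
  · have hn : ((Nat.card (orbit (Subgroup.zpowers T) y) : ℕ) : K) = 0 := by
      apply hchar
      · by_contra hle1
        rw [not_lt, Finite.card_le_one_iff_subsingleton] at hle1
        apply hfix
        have h3 : (⟨T y, ⟨⟨T, Subgroup.mem_zpowers T⟩, rfl⟩⟩ : orbit (Subgroup.zpowers T) y) =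
            ⟨y, mem_orbit_self y⟩ := Subsingleton.elim _ _
        exact congrArg Subtype.val h3
      · have h4 : Nat.card (orbit (Subgroup.zpowers T) y) ∣ Nat.card (Subgroup.zpowers T) := by
          rw [Nat.card_congr (orbitEquivQuotientStabilizer (Subgroup.zpowers T) y)]
          exact Subgroup.card_quotient_dvd_card _
        rw [Nat.card_zpowers] at h4
        exact h4.trans (orderOf_dvd_of_pow_eq_one hT)
    rw [hn, zero_mul, zero_mul]

end Groth.Agent.Lib.Helper11.OrbitSum
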