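import Mathlib
import Groth.Prelude.Def_P1

/-!
# P1Alg: the standard charts of the projective line over a ring are polynomial rings (helper11)
-/

set_option autoImplicit false
universe u

open MvPolynomial HomogeneousLocalization CategoryTheory AlgebraicGeometry

namespace Groth.Agent.Lib.Helper11.P1Alg

variable (R : Type u) [CommRing R]

theorem X_mem (i : Fin 2) : (X i : MvPolynomial (Fin 2) R) ∈ CohB1.polyGrading 1 R 1 :=
  (mem_homogeneousSubmodule _ _).mpr (isHomogeneous_X R i)

lemma adjoin_X_eq_top :
    Algebra.adjoin (CohB1.polyGrading 1 R 0)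
      (Set.range (MvPolynomial.X : Fin 2 → MvPolynomial (Fin 2) R)) = ⊤ := by
  refine top_unique fun p hp0 => ?_
  clear hp0
  induction p using MvPolynomial.induction_on with
  | C a =>
    have h0 : (MvPolynomial.C a : MvPolynomial (Fin 2) R) ∈ CohB1.polyGrading 1 R 0 :=
      MvPolynomial.isHomogeneous_C _ a
    exact Subalgebra.algebraMap_mem _ (⟨MvPolynomial.C a, h0⟩ : CohB1.polyGrading 1 R 0)
  | add p q hp hq => exact Subalgebra.add_mem _ hp hq
  | mul_X p i hp => exact Subalgebra.mul_mem _ hp (Algebra.subset_adjoin (Set.mem_range_self i))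

lemma algebraMap_zero_surjective :
    Function.Surjective (algebraMap R (CohB1.polyGrading 1 R 0)) := by
  rintro ⟨x, hx⟩
  have hx' : MvPolynomial.IsHomogeneous x 0 := hx
  have h0 : x.totalDegree = 0 := Nat.le_zero.1 hx'.totalDegree_le
  rw [MvPolynomial.totalDegree_eq_zero_iff_eq_C] at h0
  exact ⟨MvPolynomial.coeff 0 x, Subtype.ext h0.symm⟩

/-- the inclusion of constants into the chart ring. -/
noncomputable def constHom (i : Fin 2) :
    R →+* Away (CohB1.polyGrading 1 R) (X i : MvPolynomial (Fin 2) R) :=
  (fromZeroRingHom (CohB1.polyGrading 1 R) _).comp (algebraMap R (CohB1.polyGrading 1 R 0))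

/-- the coordinate `X j / X i` on the chart `X i ≠ 0`. -/
noncomputable def coord (i j : Fin 2) :
    Away (CohB1.polyGrading 1 R) (X i : MvPolynomial (Fin 2) R) :=
  Away.mk (CohB1.polyGrading 1 R) (X_mem R i) 1 (X j)
    (by simpa using X_mem R j)

theorem mk_prod_eq (i j : Fin 2) (hij : i ≠ j) (a : ℕ) (ai : Fin 2 → ℕ)
    (hai : ∑ l, ai l • (1 : ℕ) = a • 1)
    (h : (∏ l, (X l : MvPolynomial (Fin 2) R) ^ ai l) ∈ CohB1.polyGrading 1 R (a • 1)) :
    Away.mk (CohB1.polyGrading 1 R) (X_mem R i) a
      (∏ l, (X l : MvPolynomial (Fin 2) R) ^ ai l) h = coord R i j ^ ai j := by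
  apply HomogeneousLocalization.val_injective
  rw [Away.val_mk, HomogeneousLocalization.val_pow, coord, Away.val_mk, Localization.mk_pow]
  rw [Localization.mk_eq_mk_iff, Localization.r_iff_exists]
  refine ⟨1, ?_⟩
  have ha : a = ai i + ai j := by
    have : ∑ l, ai l • (1 : ℕ) = ai 0 + ai 1 := by simp [Fin.sum_univ_two]
    fin_cases i <;> fin_cases j <;> simp_all <;> omega
  simp only [OneMemClass.coe_one, one_mul, SubmonoidClass.coe_pow, Fin.prod_univ_two]
  fin_cases i <;> fin_cases j <;> simp_all <;> ring

/-- the chart ring is a quotient of `R[t]`. -/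
theorem eval₂_surjective (i j : Fin 2) (hij : i ≠ j) :
    Function.Surjective (Polynomial.eval₂RingHom (constHom R i) (coord R i j)) := by
  let S : Subalgebra (CohB1.polyGrading 1 R 0)
      (Away (CohB1.polyGrading 1 R) (X i : MvPolynomial (Fin 2) R)) :=
    { (Polynomial.eval₂RingHom (constHom R i) (coord R i j)).range with
      algebraMap_mem' := by
        intro r
        obtain ⟨c, rfl⟩ := algebraMap_zero_surjective R r
        refine ⟨Polynomial.C c, ?_⟩
        rw [Polynomial.coe_eval₂RingHom, Polynomial.eval₂_C]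
        rfl }
  have htop := Away.adjoin_mk_prod_pow_eq_top (𝒜 := CohB1.polyGrading 1 R) (X_mem R i) (Fin 2)
    (fun l => (X l : MvPolynomial (Fin 2) R))
    (adjoin_X_eq_top R) (fun _ => 1) (fun l => X_mem R l)
  have hle : (⊤ : Subalgebra (CohB1.polyGrading 1 R 0) _) ≤ S := by
    rw [← htop]
    apply Algebra.adjoin_le
    rintro _ ⟨a, ai, hai, -, rfl⟩
    rw [mk_prod_eq R i j hij a ai hai]
    refine ⟨Polynomial.X ^ ai j, ?_⟩
    rw [map_pow, Polynomial.coe_eval₂RingHom, Polynomial.eval₂_X]
  intro y
  exact hle (Algebra.mem_top : y ∈ (⊤ : Subalgebra (CohB1.polyGrading 1 R 0) _))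

/-- a general chart map: `X i ↦ 1`, the other coordinate `↦ b`, coefficients through `φ` -/
noncomputable def chart {B : Type u} [CommRing B] (φ : R →+* B) (i : Fin 2) (b : B) :
    Away (CohB1.polyGrading 1 R) (X i : MvPolynomial (Fin 2) R) →+* B :=
  (IsLocalization.Away.lift (S := Localization.Away (X i : MvPolynomial (Fin 2) R))
      (X i : MvPolynomial (Fin 2) R)
      (g := MvPolynomial.eval₂Hom φ (Function.update (fun _ => b) i 1))
      (by simp)).comp
    (algebraMap (Away (CohB1.polyGrading 1 R) (X i : MvPolynomial (Fin 2) R))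
      (Localization.Away (X i : MvPolynomial (Fin 2) R)))

theorem chart_apply {B : Type u} [CommRing B] (φ : R →+* B) (i : Fin 2) (b : B)
    (x : Away (CohB1.polyGrading 1 R) (X i : MvPolynomial (Fin 2) R)) :
    chart R φ i b x =
      IsLocalization.Away.lift (S := Localization.Away (X i : MvPolynomial (Fin 2) R))
      (X i : MvPolynomial (Fin 2) R)
      (g := MvPolynomial.eval₂Hom φ (Function.update (fun _ => b) i 1))
      (by simp) x.val := rfl

theorem chart_mk {B : Type u} [CommRing B] (φ : R →+* B) (i : Fin 2) (b : B) (n : ℕ)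
    (a : MvPolynomial (Fin 2) R) (ha : a ∈ CohB1.polyGrading 1 R (n • 1)) :
    chart R φ i b (Away.mk (CohB1.polyGrading 1 R) (X_mem R i) n a ha) =
      MvPolynomial.eval₂Hom φ (Function.update (fun _ => b) i 1) a := by
  rw [chart_apply, Away.val_mk, Localization.mk_eq_mk', IsLocalization.Away.lift,
    IsLocalization.lift_mk'_spec]
  simp

theorem chart_constHom {B : Type u} [CommRing B] (φ : R →+* B) (i : Fin 2) (b : B) (r : R) :
    chart R φ i b (constHom R i r) = φ r := by
  rw [chart_apply, constHom, RingHom.comp_apply]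
  have : (fromZeroRingHom (CohB1.polyGrading 1 R)
      (Submonoid.powers (X i : MvPolynomial (Fin 2) R))
      (algebraMap R (CohB1.polyGrading 1 R 0) r)).val =
      Localization.mk (MvPolynomial.C r) 1 := by
    rw [HomogeneousLocalization.fromZeroRingHom]
    rfl
  rw [this, Localization.mk_eq_mk', IsLocalization.Away.lift, IsLocalization.lift_mk'_spec]
  simp

theorem chart_coord {B : Type u} [CommRing B] (φ : R →+* B) (i j : Fin 2) (hij : i ≠ j) (b : B) :
    chart R φ i b (coord R i j) = b := by
  rw [coord, chart_mk, MvPolynomial.coe_eval₂Hom, MvPolynomial.eval₂_X,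
    Function.update_of_ne hij.symm]

theorem eval₂_bijective (i j : Fin 2) (hij : i ≠ j) :
    Function.Bijective (Polynomial.eval₂RingHom (constHom R i) (coord R i j)) := by
  refine ⟨?_, eval₂_surjective R i j hij⟩
  have hcomp : (chart R Polynomial.C i Polynomial.X).comp
      (Polynomial.eval₂RingHom (constHom R i) (coord R i j)) = RingHom.id _ := by
    apply Polynomial.ringHom_ext
    · intro r
      rw [RingHom.comp_apply, Polynomial.coe_eval₂RingHom, Polynomial.eval₂_C, chart_constHom]
      rfl
    · rw [RingHom.comp_apply, Polynomial.coe_eval₂RingHom, Polynomial.eval₂_X,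
        chart_coord R _ i j hij]
      rfl
  intro p q hpq
  have := congrArg (chart R Polynomial.C i Polynomial.X) hpq
  rw [← RingHom.comp_apply, ← RingHom.comp_apply, hcomp] at this
  exact this

/-- the chart ring is a polynomial ring -/
noncomputable def chartEquiv (i j : Fin 2) (hij : i ≠ j) :
    Polynomial R ≃+* Away (CohB1.polyGrading 1 R) (X i : MvPolynomial (Fin 2) R) :=
  RingEquiv.ofBijective _ (eval₂_bijective R i j hij)

end Groth.Agent.Lib.Helper11.P1Alg
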