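import Mathlib
import Groth.Prelude.Def_P1
import Groth.Agent.Lib.Helper11.P1Alg

/-!
# P1Conn: the projective line over a field is connected; clopen subsets of `P^1_S` missing the
zero section are empty (helper11)
-/

set_option autoImplicit false
universe u

open CategoryTheory CategoryTheory.Limits AlgebraicGeometry

namespace Groth.Agent.Lib.Helper11.P1Conn

theorem isPullback_of_isTerminal {C : Type*} [Category C] {P X X' Y T T' : C}
    (hT : IsTerminal T) (hT' : IsTerminal T')
    {p : P ⟶ X} {q : P ⟶ Y} {f : X ⟶ T} {g : Y ⟶ T} (h : IsPullback p q f g) (θ : X ≅ X')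
    (f' : X' ⟶ T') (g' : Y ⟶ T') : IsPullback (p ≫ θ.hom) q f' g' := by
  refine ⟨⟨hT'.hom_ext _ _⟩, ⟨PullbackCone.IsLimit.mk _
    (fun s => h.lift (s.fst ≫ θ.inv) s.snd (hT.hom_ext _ _)) ?_ ?_ ?_⟩⟩
  · intro s; simp
  · intro s; simp
  · intro s m h1 h2
    apply h.hom_ext
    · simp [← h1]
    · simp [← h2]

/-- the chart ring -/
abbrev A (i : Fin 2) : Type u := HomogeneousLocalization.Away P1.grading.{u} (P1.T i)

/-- unfolded `P^1_ℤ` -/
noncomputable abbrev PZ : Scheme.{u} := Proj P1.grading.{u}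

/-- its structure map -/
noncomputable abbrev aZ : PZ.{u} ⟶ Spec (CommRingCat.of P1.R0.{u}) :=
  CohB1.ProjSpace.toSpec 1 P1.R0.{u}

/-- unfolded `P^1_S` -/
noncomputable abbrev PS (S : Scheme.{u}) : Scheme.{u} :=
  pullback aZ.{u} (specULiftZIsTerminal.from S)

/-- the chart -/
noncomputable abbrev aι (i : Fin 2) :
    Spec (CommRingCat.of (A.{u} i)) ⟶ PZ.{u} :=
  Proj.awayι P1.grading (P1.T i) (P1.X_mem i) one_pos

/-- the chart of `P^1_S` -/
noncomputable def piece (S : Scheme.{u}) (i : Fin 2) :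
    pullback (aι.{u} i ≫ aZ.{u}) (specULiftZIsTerminal.from S) ⟶
      PS S :=
  pullback.map _ _ _ _ (aι i) (𝟙 S) (𝟙 _) (by simp) (by simp)

theorem range_aι (i : Fin 2) :
    Set.range (aι.{u} i) = (Proj.basicOpen P1.grading.{u} (P1.T i) : Set (Proj P1.grading.{u})) := by
  have := Proj.opensRange_awayι P1.grading.{u} (P1.T i) (P1.X_mem i) one_pos
  rw [← this]
  rfl

theorem range_piece (S : Scheme.{u}) (i : Fin 2) :
    Set.range (piece S i) =
      (pullback.fst (aZ.{u}) (specULiftZIsTerminal.from S)) ⁻¹'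
        (Proj.basicOpen P1.grading.{u} (P1.T i) : Set (Proj P1.grading.{u})) := by
  rw [piece, Scheme.Pullback.range_map, range_aι]
  have : Set.range (𝟙 S : S ⟶ S) = Set.univ := by
    ext x; simp
  rw [this, Set.preimage_univ, Set.inter_univ]

theorem cover (S : Scheme.{u}) (y : PS S) :
    y ∈ Set.range (piece S 0) ∨ y ∈ Set.range (piece S 1) := by
  rw [range_piece, range_piece]
  have hcov : ⨆ j : Fin 2, Proj.basicOpen P1.grading.{u} (P1.T j) = ⊤ :=
    Proj.iSup_basicOpen_eq_top' P1.grading.{u} (fun j : Fin 2 => P1.T j)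
      (fun j => ⟨1, P1.X_mem j⟩) (P1Alg.adjoin_X_eq_top P1.R0.{u})
  have hy : pullback.fst (aZ.{u}) (specULiftZIsTerminal.from S) y ∈
      (⊤ : (Proj P1.grading.{u}).Opens) := trivial
  rw [← hcov, TopologicalSpace.Opens.mem_iSup] at hy
  obtain ⟨j, hj⟩ := hy
  fin_cases j
  · exact Or.inl hj
  · exact Or.inr hj

section Field

variable (K : Type u) [Field K]

/-- the chart of the projective line over a field is an affine line -/
noncomputable def pieceIso (i j : Fin 2) (hij : i ≠ j) :
    pullback (aι.{u} i ≫ aZ.{u}) (specULiftZIsTerminal.from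
      (Spec (CommRingCat.of K))) ≅ AffineSpace PUnit.{u+1} (Spec (CommRingCat.of K)) := by
  let e : MvPolynomial PUnit.{u+1} P1.R0.{u} ≃+* A.{u} i :=
    (MvPolynomial.uniqueAlgEquiv P1.R0.{u} PUnit.{u+1}).toRingEquiv.trans (P1Alg.chartEquiv P1.R0.{u} i j hij)
  let θ : Spec (CommRingCat.of (A.{u} i)) ≅
      Spec (CommRingCat.of (MvPolynomial PUnit.{u+1} P1.R0.{u})) :=
    Scheme.Spec.mapIso e.toCommRingCatIso.op
  have h := IsPullback.of_hasPullback (aι.{u} i ≫ aZ.{u})
    (specULiftZIsTerminal.from (Spec (CommRingCat.of K)))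
  have h' := (isPullback_of_isTerminal specULiftZIsTerminal terminalIsTerminal h θ
    (terminal.from _) (terminal.from _)).flip
  exact h'.isoPullback

instance : IrreducibleSpace (Spec (CommRingCat.of K)) :=
  inferInstanceAs (IrreducibleSpace (PrimeSpectrum K))

theorem connectedSpace_piece (i j : Fin 2) (hij : i ≠ j) :
    ConnectedSpace ↥(pullback (aι.{u} i ≫ aZ.{u})
      (specULiftZIsTerminal.from (Spec (CommRingCat.of K)))) := by
  haveI : IrreducibleSpace ↥(AffineSpace PUnit.{u+1} (Spec (CommRingCat.of K))) := inferInstance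
  exact (pieceIso K i j hij).inv.homeomorph.surjective.connectedSpace
    (pieceIso K i j hij).inv.continuous

/-- the point `[1 : 1]` -/
noncomputable def onePt : Spec (CommRingCat.of K) ⟶ PS (Spec (CommRingCat.of K)) :=
  pullback.lift
    (Spec.map (CommRingCat.ofHom (P1Alg.chart P1.R0.{u}
      ((Int.castRingHom K).comp ULift.ringEquiv.toRingHom) 0 1)) ≫ aι.{u} 0)
    (𝟙 _) (specULiftZIsTerminal.hom_ext _ _)

theorem onePt_mem (x : Spec (CommRingCat.of K)) (i : Fin 2) :
    onePt K x ∈ Set.range (piece (Spec (CommRingCat.of K)) i) := by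
  rw [range_piece, Set.mem_preimage, ← Scheme.Hom.comp_apply, onePt, pullback.lift_fst,
    Scheme.Hom.comp_apply]
  set φ := P1Alg.chart P1.R0.{u} ((Int.castRingHom K).comp ULift.ringEquiv.toRingHom) 0 1 with hφ
  set p := Spec.map (CommRingCat.ofHom φ) x with hp
  change p ∈ (aι.{u} 0) ⁻¹ᵁ (Proj.basicOpen P1.grading.{u} (P1.T i))
  rw [Proj.awayι_preimage_basicOpen P1.grading.{u} (P1.X_mem 0) one_pos (P1.X_mem i) one_pos]
  change ¬ (HomogeneousLocalization.Away.isLocalizationElem (P1.X_mem 0) (P1.X_mem i) ∈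
    p.asIdeal)
  intro hmem
  have h1 : φ (HomogeneousLocalization.Away.isLocalizationElem (P1.X_mem 0) (P1.X_mem i)) ∈
      x.asIdeal := hmem
  have h2 : φ (HomogeneousLocalization.Away.isLocalizationElem (P1.X_mem 0) (P1.X_mem i)) = 1 := by
    rw [HomogeneousLocalization.Away.isLocalizationElem]
    erw [P1Alg.chart_mk]
    rw [MvPolynomial.coe_eval₂Hom, MvPolynomial.eval₂_pow, MvPolynomial.eval₂_X]
    fin_cases i <;> simp
  rw [h2] at h1
  exact x.2.ne_top ((Ideal.eq_top_iff_one _).mpr h1)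

theorem preconnectedSpace_P1 :
    PreconnectedSpace ↥(PS (Spec (CommRingCat.of K))) := by
  haveI := connectedSpace_piece K 0 1 (by decide)
  haveI := connectedSpace_piece K 1 0 (by decide)
  have h0 : _root_.IsPreconnected (Set.range (piece (Spec (CommRingCat.of K)) 0)) :=
    isPreconnected_range (piece (Spec (CommRingCat.of K)) 0).continuous
  have h1 : _root_.IsPreconnected (Set.range (piece (Spec (CommRingCat.of K)) 1)) :=
    isPreconnected_range (piece (Spec (CommRingCat.of K)) 1).continuous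
  have hne : (Set.range (piece (Spec (CommRingCat.of K)) 0) ∩
      Set.range (piece (Spec (CommRingCat.of K)) 1)).Nonempty :=
    ⟨onePt K (IsLocalRing.closedPoint K), onePt_mem K _ 0, onePt_mem K _ 1⟩
  have hu := IsPreconnected.union' hne h0 h1
  have : Set.range (piece (Spec (CommRingCat.of K)) 0) ∪
      Set.range (piece (Spec (CommRingCat.of K)) 1) = Set.univ := by
    ext y
    simp only [Set.mem_union, Set.mem_univ, iff_true]
    exact cover _ y
  rw [this] at hu
  exact ⟨hu⟩

end Field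

/-- unfolded `P1.toP1` -/
noncomputable def toP1' {X Y : Scheme.{u}} (f : X ⟶ Y) : PS X ⟶ PS Y :=
  pullback.map _ _ _ _ (𝟙 _) f (𝟙 _) ((Category.comp_id _).trans (Category.id_comp _).symm)
    (specULiftZIsTerminal.hom_ext _ _)

/-- unfolded `P1.sect` -/
noncomputable def sect' (X : Scheme.{u}) (i : Fin 2) : X ⟶ PS X :=
  pullback.lift (specULiftZIsTerminal.from X ≫ (P1.point i : _ ⟶ PZ.{u})) (𝟙 X)
    (specULiftZIsTerminal.hom_ext _ _)

theorem isPullback_toP1' {X Y : Scheme.{u}} (f : X ⟶ Y) :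
    IsPullback (toP1' f) (pullback.snd aZ.{u} (specULiftZIsTerminal.from X))
      (pullback.snd aZ.{u} (specULiftZIsTerminal.from Y)) f := by
  have hbig : IsPullback (pullback.fst aZ.{u} (specULiftZIsTerminal.from X)) (pullback.snd _ _)
      (aZ.{u}) (specULiftZIsTerminal.from X) := IsPullback.of_hasPullback _ _
  have hright : IsPullback (pullback.fst aZ.{u} (specULiftZIsTerminal.from Y)) (pullback.snd _ _)
      (aZ.{u}) (specULiftZIsTerminal.from Y) := IsPullback.of_hasPullback _ _
  have e1 : toP1' f ≫ pullback.fst aZ.{u} (specULiftZIsTerminal.from Y) = pullback.fst _ _ := by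
    rw [toP1']
    exact (pullback.lift_fst _ _ _).trans (Category.comp_id _)
  have e2 : f ≫ specULiftZIsTerminal.from Y = specULiftZIsTerminal.from X :=
    specULiftZIsTerminal.hom_ext _ _
  have hbig' : IsPullback (toP1' f ≫ pullback.fst aZ.{u} (specULiftZIsTerminal.from Y))
      (pullback.snd aZ.{u} (specULiftZIsTerminal.from X)) (aZ.{u})
      (f ≫ specULiftZIsTerminal.from Y) := by
    rw [e1, e2]; exact hbig
  refine IsPullback.of_right hbig' ?_ hright
  rw [toP1']
  exact pullback.lift_snd _ _ _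

theorem sect_toP1' {X Y : Scheme.{u}} (f : X ⟶ Y) (i : Fin 2) :
    sect' X i ≫ toP1' f = f ≫ sect' Y i := by
  apply pullback.hom_ext
  · have e1 : toP1' f ≫ pullback.fst aZ.{u} (specULiftZIsTerminal.from Y) = pullback.fst _ _ := by
      rw [toP1']
      exact (pullback.lift_fst _ _ _).trans (Category.comp_id _)
    rw [Category.assoc, e1, sect', sect', pullback.lift_fst, Category.assoc, pullback.lift_fst,
      ← Category.assoc]
    congr 1
    exact specULiftZIsTerminal.hom_ext _ _
  · have e2 : toP1' f ≫ pullback.snd aZ.{u} (specULiftZIsTerminal.from Y) =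
        pullback.snd _ _ ≫ f := by
      rw [toP1']
      exact pullback.lift_snd _ _ _
    rw [Category.assoc, e2, sect', sect', pullback.lift_snd_assoc, Category.assoc,
      pullback.lift_snd, Category.id_comp, Category.comp_id]

theorem exists_preimage_of_isPullback {P X Y Z : Scheme.{u}} {fst : P ⟶ X} {snd : P ⟶ Y}
    {f : X ⟶ Z} {g : Y ⟶ Z} (h : IsPullback fst snd f g) (x : X) (y : Y) (hxy : f x = g y) :
    ∃ z : P, fst z = x ∧ snd z = y := by
  obtain ⟨w, hw1, hw2⟩ := Scheme.Pullback.exists_preimage_pullback x y hxy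
  refine ⟨h.isoPullback.inv w, ?_, ?_⟩
  · rw [← Scheme.Hom.comp_apply, h.isoPullback_inv_fst, hw1]
  · rw [← Scheme.Hom.comp_apply, h.isoPullback_inv_snd, hw2]

theorem clopen_eq_empty' (S : Scheme.{u}) (C : Set (PS S)) (hC : IsClopen C)
    (h0 : ∀ s : S, sect' S 0 s ∉ C) : C = ∅ := by
  by_contra hne
  rw [← Set.not_nonempty_iff_eq_empty, not_not] at hne
  obtain ⟨c, hc⟩ := hne
  set s : S := pullback.snd aZ.{u} (specULiftZIsTerminal.from S) c with hs
  let ιs : Spec (S.residueField s) ⟶ S := S.fromSpecResidueField s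
  have hpb := isPullback_toP1' ιs
  obtain ⟨z, hz1, hz2⟩ := exists_preimage_of_isPullback hpb c
    (IsLocalRing.closedPoint (S.residueField s)) (by
      rw [← hs]; exact (Scheme.fromSpecResidueField_apply s _).symm)
  haveI := preconnectedSpace_P1 (S.residueField s)
  have hC' : IsClopen ((toP1' ιs) ⁻¹' C) := hC.preimage (toP1' ιs).continuous
  have huniv : (toP1' ιs) ⁻¹' C = Set.univ := by
    rcases isClopen_iff.mp hC' with h | h
    · exfalso
      have : z ∈ (toP1' ιs) ⁻¹' C := by rw [Set.mem_preimage, hz1]; exact hc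
      rw [h] at this
      exact this
    · exact h
  have hmem : sect' (Spec (S.residueField s)) 0 (IsLocalRing.closedPoint _) ∈
      (toP1' ιs) ⁻¹' C := by rw [huniv]; trivial
  rw [Set.mem_preimage, ← Scheme.Hom.comp_apply, sect_toP1', Scheme.Hom.comp_apply] at hmem
  exact h0 _ hmem

theorem main' (S X : Scheme.{u})
    (g : X ⟶ PS S) [IsFinite g] [Flat g] [LocallyOfFinitePresentation g]
    (W : Set X) (hW : IsClopen W)
    (h0 : ∀ x : X, g x ∈ Set.range (sect' S 0) → x ∈ W) : W = Set.univ := by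
  have hcl : IsClosed (g '' Wᶜ) := g.isClosedMap _ hW.compl.isClosed
  have hop : IsOpen (g '' Wᶜ) := g.isOpenMap _ hW.compl.isOpen
  have hempty := clopen_eq_empty' S (g '' Wᶜ) ⟨hcl, hop⟩ (by
    rintro s ⟨x, hx, hxs⟩
    exact hx (h0 x ⟨s, hxs.symm⟩))
  rw [Set.image_eq_empty, Set.compl_empty_iff] at hempty
  exact hempty

theorem main (S X : Scheme.{u})
    (g : X ⟶ CohB1.ProjSpaceOver 1 S) [IsFinite g] [Flat g] [LocallyOfFinitePresentation g]
    (W : Set X) (hW : IsClopen W)
    (h0 : ∀ x : X, g x ∈ Set.range (P1.sect S 0) → x ∈ W) : W = Set.univ := by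
  have h1 : @IsFinite X (PS S) g := ‹IsFinite g›
  have h2 : @Flat X (PS S) g := ‹Flat g›
  have h3 : @LocallyOfFinitePresentation X (PS S) g := ‹LocallyOfFinitePresentation g›
  exact @main' S X g h1 h2 h3 W hW h0

end Groth.Agent.Lib.Helper11.P1Conn
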