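import Mathlib
import Groth.Agent.Lib.Helper7.RedLib
import Groth.Agent.Lib.Helper2.ProperOver

/-!
# PC1: a proper connected reduced scheme over a field with a rational point has only constant
global functions; translates of connected closed subsets of proper group schemes (via rigidity).
-/

set_option autoImplicit false
universe u
open CategoryTheory MonoidalCategory CartesianMonoidalCategory MonObj AlgebraicGeometry

namespace Groth.Agent.Lib.Helper11.PC1

/-- Algebra: a reduced ring `R`, integral over a field `k`, with only trivial idempotents and a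
retraction `R → k`, is `k`. -/
theorem surj_of_integral {k R : Type*} [Field k] [CommRing R] [IsReduced R] (F : k →+* R)
    (G : R →+* k) (hGF : ∀ c, G (F c) = c) (hint : F.IsIntegral)
    (hidem : ∀ e : R, IsIdempotentElem e → e = 0 ∨ e = 1) : Function.Surjective F := by
  classical
  letI : Algebra k R := F.toAlgebra
  let σ : R →ₐ[k] k := { G with commutes' := hGF }
  have key : ∀ t : R, G t = 0 → t = 0 := by
    intro t hσ
    have ht : IsIntegral k t := hint t
    set P := minpoly k t with hP
    have hPt : Polynomial.aeval t P = 0 := minpoly.aeval k t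
    have hP0 : P ≠ 0 := minpoly.ne_zero ht
    have h1 : Polynomial.X ∣ P := by
      rw [Polynomial.X_dvd_iff]
      have h2 : σ (Polynomial.aeval t P) = 0 := by rw [hPt, map_zero]
      rw [← Polynomial.aeval_algHom_apply] at h2
      have h3 : σ t = 0 := hσ
      rw [h3] at h2
      rw [Polynomial.coeff_zero_eq_aeval_zero]
      exact h2
    obtain ⟨Q, hQ⟩ := h1
    have htu : t * Polynomial.aeval t Q = 0 := by
      have := hPt
      rw [hQ] at this
      simpa using this
    have hcop : IsCoprime (Polynomial.X : Polynomial k) Q := by
      rcases (Polynomial.irreducible_X).isCoprime_or_dvd Q with h | h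
      · exact h
      · exfalso
        obtain ⟨Q', hQ'⟩ := h
        have h4 : t * (t * Polynomial.aeval t Q') = 0 := by
          have := htu
          rw [hQ'] at this
          simpa using this
        have hz : (t * Polynomial.aeval t Q') ^ 2 = 0 := by
          calc (t * Polynomial.aeval t Q') ^ 2
              = (t * (t * Polynomial.aeval t Q')) * Polynomial.aeval t Q' := by ring
            _ = 0 := by rw [h4, zero_mul]
        have hz' : t * Polynomial.aeval t Q' = 0 := IsReduced.eq_zero _ ⟨2, hz⟩
        have hdvd : P ∣ Polynomial.X * Q' := minpoly.dvd k t (by simpa using hz')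
        have hne : Polynomial.X * Q' ≠ 0 := by
          intro h0
          apply hP0
          rw [hQ, hQ', h0, mul_zero]
        have hd1 := Polynomial.natDegree_le_of_dvd hdvd hne
        have hd2 : P.natDegree = (Polynomial.X * Q').natDegree + 1 := by
          rw [hQ, hQ']
          exact Polynomial.natDegree_X_mul hne
        omega
    obtain ⟨a, b, hab⟩ := hcop
    have hAB : Polynomial.aeval t a * t + Polynomial.aeval t b * Polynomial.aeval t Q = 1 := by
      have := congrArg (Polynomial.aeval t) hab
      simpa using this
    set A := Polynomial.aeval t a with hA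
    set e := Polynomial.aeval t b * Polynomial.aeval t Q with he
    have het : e * t = 0 := by
      calc e * t = Polynomial.aeval t b * (t * Polynomial.aeval t Q) := by rw [he]; ring
        _ = 0 := by rw [htu, mul_zero]
    have he1 : e = 1 - A * t := by rw [← hAB]; ring
    have hidem' : IsIdempotentElem e := by
      show e * e = e
      calc e * e = e * (1 - A * t) := by rw [← he1]
        _ = e - A * (e * t) := by ring
        _ = e := by rw [het]; ring
    rcases hidem e hidem' with h0 | h1
    · exfalso
      have h5 : A * t = 1 := by
        rw [h0] at he1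
        exact (sub_eq_zero.mp he1.symm).symm
      have h6 := congrArg G h5
      rw [map_mul, hσ, mul_zero, map_one] at h6
      exact zero_ne_one h6
    · calc t = e * t := by rw [h1, _root_.one_mul]
        _ = 0 := het
  intro s
  refine ⟨G s, ?_⟩
  have := key (s - F (G s)) (by rw [map_sub, hGF, sub_self])
  exact (sub_eq_zero.mp this).symm

/-- Idempotent global functions on a connected reduced scheme are trivial. -/
theorem idem_trivial {C : Scheme.{u}} [IsReduced C] [ConnectedSpace C] (e : Γ(C, ⊤))
    (he : IsIdempotentElem e) : e = 0 ∨ e = 1 := by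
  have hdisj : C.basicOpen e ⊓ C.basicOpen (1 - e) = ⊥ := by
    rw [← Scheme.basicOpen_mul]
    have : e * (1 - e) = 0 := by rw [mul_sub, _root_.mul_one, he.eq, sub_self]
    rw [this, Scheme.basicOpen_zero]
  have hcov : ∀ x : C, x ∈ C.basicOpen e ∨ x ∈ C.basicOpen (1 - e) := by
    intro x
    rw [Scheme.mem_basicOpen_top, Scheme.mem_basicOpen_top]
    apply IsLocalRing.isUnit_or_isUnit_of_add_one
    rw [← map_add]
    simp
  have hnot : ∀ x : C, x ∈ C.basicOpen e → x ∈ C.basicOpen (1 - e) → False := by
    intro x h1 h2
    have : x ∈ C.basicOpen e ⊓ C.basicOpen (1 - e) := ⟨h1, h2⟩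
    rw [hdisj] at this
    exact this
  have hclopen : IsClopen (C.basicOpen e : Set C) := by
    refine ⟨?_, (C.basicOpen e).isOpen⟩
    have : (C.basicOpen e : Set C)ᶜ = (C.basicOpen (1 - e) : Set C) := by
      ext x
      constructor
      · intro hx
        rcases hcov x with h | h
        · exact absurd h hx
        · exact h
      · intro hx hx'
        exact hnot x hx' hx
    rw [← isOpen_compl_iff, this]
    exact (C.basicOpen (1 - e)).isOpen
  rcases isClopen_iff.mp hclopen with h | h
  · left
    rw [← AlgebraicGeometry.basicOpen_eq_bot_iff]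
    exact TopologicalSpace.Opens.ext h
  · right
    have h2 : C.basicOpen (1 - e) = ⊥ := by
      apply TopologicalSpace.Opens.ext
      ext x
      simp only [TopologicalSpace.Opens.coe_bot, Set.mem_empty_iff_false, iff_false]
      intro hx
      have hx' : x ∈ (C.basicOpen e : Set C) := by rw [h]; trivial
      exact hnot x hx' hx
    rw [AlgebraicGeometry.basicOpen_eq_bot_iff] at h2
    exact (sub_eq_zero.mp h2).symm

/-- A universally closed, connected, reduced scheme over a field with a rational point has only
constant global functions. -/
theorem bijective_of_proper_connected {k : Type u} [Field k] {C : Scheme.{u}}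
    (p : C ⟶ Spec (CommRingCat.of k)) [UniversallyClosed p] [IsReduced C] [ConnectedSpace C]
    (σ : Spec (CommRingCat.of k) ⟶ C) (hσ : σ ≫ p = 𝟙 _) :
    Function.Bijective ((Scheme.ΓSpecIso (CommRingCat.of k)).inv ≫ p.appTop).hom := by
  let F := (Scheme.ΓSpecIso (CommRingCat.of k)).inv ≫ p.appTop
  let G := σ.appTop ≫ (Scheme.ΓSpecIso (CommRingCat.of k)).hom
  have hFG : F ≫ G = 𝟙 _ := by
    show ((Scheme.ΓSpecIso (CommRingCat.of k)).inv ≫ p.appTop) ≫
      σ.appTop ≫ (Scheme.ΓSpecIso (CommRingCat.of k)).hom = 𝟙 _
    rw [Category.assoc, ← Category.assoc p.appTop, ← Scheme.Hom.comp_appTop, hσ]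
    simp
  have hGF : ∀ c, G.hom (F.hom c) = c := fun c => by
    have := congrArg (fun h => h.hom c) hFG
    simpa using this
  have hint : F.hom.IsIntegral := by
    apply RingHom.isIntegral_respectsIso.2
      (e := (Scheme.ΓSpecIso _).symm.commRingCatIsoToRingEquiv)
    exact isIntegral_appTop_of_universallyClosed p
  exact ⟨Function.LeftInverse.injective hGF,
    surj_of_integral F.hom G.hom hGF hint idem_trivial⟩

end Groth.Agent.Lib.Helper11.PC1
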