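import Mathlib
import Groth.Agent.Lib.Helper11.AA6
import Groth.Agent.Lib.Helper11.PC1
import Groth.Agent.Lib.Helper11.FBaseLib

/-!
# PA1: actions on products of complete varieties are product actions (tools)
-/

set_option autoImplicit false
universe u
open CategoryTheory MonoidalCategory CartesianMonoidalCategory MonObj AlgebraicGeometry

namespace Groth.Agent.Lib.Helper11.PA1

section general
universe v' u'
variable {C : Type u'} [Category.{v'} C] [CartesianMonoidalCategory C]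

/-- An action descends along an equivariant split epimorphism. -/
theorem action_descends {G W X : C} [GrpObj G] (act : G ⊗ W ⟶ W)
    (h1 : (η[G] ▷ W) ≫ act = (λ_ W).hom)
    (h2 : (μ[G] ▷ W) ≫ act = (α_ G G W).hom ≫ (G ◁ act) ≫ act)
    (π : W ⟶ X) (σ : X ⟶ W) (hσ : σ ≫ π = 𝟙 X) (b : G ⊗ X ⟶ X)
    (hb : (G ◁ π) ≫ b = act ≫ π) :
    (η[G] ▷ X) ≫ b = (λ_ X).hom ∧ (μ[G] ▷ X) ≫ b = (α_ G G X).hom ≫ (G ◁ b) ≫ b := by
  have hb' : b = (G ◁ σ) ≫ act ≫ π := by
    rw [← hb, ← Category.assoc, ← MonoidalCategory.whiskerLeft_comp, hσ,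
      MonoidalCategory.whiskerLeft_id, Category.id_comp]
  constructor
  · rw [hb', ← Category.assoc, ← whisker_exchange, Category.assoc, ← Category.assoc _ act,
      h1, leftUnitor_naturality_assoc, hσ, Category.comp_id]
  · haveI : IsSplitEpi ((G ⊗ G) ◁ π) := IsSplitEpi.mk' ⟨(G ⊗ G) ◁ σ, by
      rw [← MonoidalCategory.whiskerLeft_comp, hσ, MonoidalCategory.whiskerLeft_id]⟩
    rw [← cancel_epi ((G ⊗ G) ◁ π)]
    calc ((G ⊗ G) ◁ π) ≫ (μ[G] ▷ X) ≫ b
        = (μ[G] ▷ W) ≫ (G ◁ π) ≫ b := by rw [← Category.assoc, whisker_exchange, Category.assoc]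
      _ = ((α_ G G W).hom ≫ (G ◁ act) ≫ act) ≫ π := by rw [hb, ← Category.assoc, h2]
      _ = (α_ G G W).hom ≫ (G ◁ ((G ◁ π) ≫ b)) ≫ b := by
          rw [hb, MonoidalCategory.whiskerLeft_comp]
          simp only [Category.assoc]
          rw [hb]
      _ = ((G ⊗ G) ◁ π) ≫ (α_ G G X).hom ≫ (G ◁ b) ≫ b := by
          rw [MonoidalCategory.whiskerLeft_comp, ← Category.assoc _ _ b, ← Category.assoc,
            ← Category.assoc, ← associator_naturality_right]
          simp only [Category.assoc]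

end general

variable {k : Type u} [Field k]

local notation "𝕊" => Spec (CommRingCat.of k)

/-- Independence of the proper factor (rigidity). -/
theorem indep [IsAlgClosed k] (P Y Z : Over 𝕊)
    [LocallyOfFiniteType P.hom] [ConnectedSpace P.left] [IsProper Y.hom] [IsIntegral Y.left]
    [IsSeparated Z.hom]
    (p₀ : 𝟙_ (Over 𝕊) ⟶ P) (y₀ : 𝟙_ (Over 𝕊) ⟶ Y) (F : P ⊗ Y ⟶ Z)
    (hF : lift (toUnit Y ≫ p₀) (𝟙 Y) ≫ F = toUnit Y ≫ lift p₀ y₀ ≫ F) :
    F = fst P Y ≫ lift (𝟙 P) (toUnit P ≫ y₀) ≫ F := by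
  have hσ : y₀.left ≫ Y.hom = 𝟙 _ := Over.w y₀
  have hX := PC1.bijective_of_proper_connected Y.hom y₀.left hσ
  set f_r : Y ⊗ P ⟶ Z := lift (snd Y P) (fst Y P) ≫ F with hf_r
  set g_r : P ⟶ Z := lift (𝟙 P) (toUnit P ≫ y₀) ≫ F with hg_r
  have key : f_r = snd Y P ≫ g_r := by
    apply AA6.rigidity_connected Y P Z hX y₀ p₀ f_r g_r
    · rw [hf_r, hg_r, ← Category.assoc, ← Category.assoc, ← Category.assoc]
      congr 1
      apply CartesianMonoidalCategory.hom_ext
      · simp
      · simp only [Category.assoc, lift_snd, comp_lift, whiskerRight_fst]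
        rw [← Category.assoc, ← Category.assoc]
        congr 1
        exact toUnit_unique _ _
    · have e1 : (Y ◁ p₀) ≫ lift (snd Y P) (fst Y P) =
          fst Y (𝟙_ (Over 𝕊)) ≫ lift (toUnit Y ≫ p₀) (𝟙 Y) := by
        apply CartesianMonoidalCategory.hom_ext
        · simp only [Category.assoc, lift_fst, whiskerLeft_snd]
          rw [← Category.assoc]
          congr 1
          exact toUnit_unique _ _
        · simp
      rw [hf_r, ← Category.assoc, e1, Category.assoc, hF, hg_r]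
      have e2 : p₀ ≫ lift (𝟙 P) (toUnit P ≫ y₀) = lift p₀ y₀ := by
        apply CartesianMonoidalCategory.hom_ext
        · simp
        · simp only [Category.assoc, lift_snd]
          rw [← Category.assoc]
          have : p₀ ≫ toUnit P = 𝟙 _ := toUnit_unique _ _
          rw [this, Category.id_comp]
      rw [← Category.assoc p₀, e2]
      have e4 : fst Y (𝟙_ (Over 𝕊)) ≫ toUnit Y = toUnit (Y ⊗ 𝟙_ (Over 𝕊)) := toUnit_unique _ _
      rw [← Category.assoc (fst Y (𝟙_ (Over 𝕊))), e4]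
  have e3 : lift (snd P Y) (fst P Y) ≫ lift (snd Y P) (fst Y P) = 𝟙 (P ⊗ Y) := by
    apply CartesianMonoidalCategory.hom_ext <;> simp
  calc F = (lift (snd P Y) (fst P Y) ≫ lift (snd Y P) (fst Y P)) ≫ F := by
        rw [e3, Category.id_comp]
    _ = lift (snd P Y) (fst P Y) ≫ f_r := by rw [Category.assoc]
    _ = fst P Y ≫ g_r := by rw [key, ← Category.assoc, lift_snd]

end Groth.Agent.Lib.Helper11.PA1
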