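import Mathlib
import Groth.Agent.Lib.Helper11.PC1

/-!
# PC2: translates of connected closed subsets of proper group schemes, via a rigidity hypothesis.
-/

set_option autoImplicit false
universe u
open CategoryTheory MonoidalCategory CartesianMonoidalCategory MonObj AlgebraicGeometry

namespace Groth.Agent.Lib.Helper11.PC2

open Groth.Agent.Lib.Helper11.PC1

/-- Pure group calculus: from rigidity for `C' × X → Y'` deduce constancy of translates. -/
theorem translate_const_of_rigid {𝒞 : Type*} [Category 𝒞] [CartesianMonoidalCategory 𝒞]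
    (X : 𝒞) [MonObj X] (C' Y' : 𝒞) (j : C' ⟶ X) (f' : X ⟶ Y') (c₀' : 𝟙_ 𝒞 ⟶ C') (b : 𝟙_ 𝒞 ⟶ X)
    (hconst : j ≫ f' = toUnit C' ≫ c₀' ≫ j ≫ f')
    (hrig : ∀ (φ : C' ⊗ X ⟶ Y'), (C' ◁ η[X]) ≫ φ = toUnit _ ≫ lift c₀' η[X] ≫ φ →
      φ = snd C' X ≫ lift (toUnit X ≫ c₀') (𝟙 X) ≫ φ) :
    j ≫ (lift (toUnit X ≫ b) (𝟙 X) ≫ μ[X]) ≫ f' =
      toUnit C' ≫ (lift b (c₀' ≫ j) ≫ μ[X]) ≫ f' := by
  set φ : C' ⊗ X ⟶ Y' := lift (snd C' X) (fst C' X ≫ j) ≫ μ[X] ≫ f' with hφ
  have h1 : (C' ◁ η[X]) ≫ φ = toUnit _ ≫ lift c₀' η[X] ≫ φ := by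
    have e1 : (C' ◁ η[X]) ≫ lift (snd C' X) (fst C' X ≫ j) ≫ μ[X] = fst C' (𝟙_ 𝒞) ≫ j := by
      rw [← Category.assoc, comp_lift, whiskerLeft_snd, whiskerLeft_fst_assoc]
      exact lift_comp_one_left _ _
    have e2 : lift c₀' η[X] ≫ lift (snd C' X) (fst C' X ≫ j) ≫ μ[X] = c₀' ≫ j := by
      rw [← Category.assoc, comp_lift, lift_snd, lift_fst_assoc]
      have := lift_comp_one_left (𝟙 (𝟙_ 𝒞)) (c₀' ≫ j)
      rwa [Category.id_comp] at this
    have e1' : (C' ◁ η[X]) ≫ lift (snd C' X) (fst C' X ≫ j) ≫ μ[X] ≫ f' =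
        fst C' (𝟙_ 𝒞) ≫ j ≫ f' := by
      have := congrArg (· ≫ f') e1
      simpa only [Category.assoc] using this
    have e2' : lift c₀' η[X] ≫ lift (snd C' X) (fst C' X ≫ j) ≫ μ[X] ≫ f' = c₀' ≫ j ≫ f' := by
      have := congrArg (· ≫ f') e2
      simpa only [Category.assoc] using this
    rw [hφ, e1', e2']
    conv_lhs => rw [hconst]
    rw [← Category.assoc (fst C' (𝟙_ 𝒞))]
    congr 1
    exact toUnit_unique _ _
  have h2 := hrig φ h1
  have h3 := congrArg (fun ψ => lift (𝟙 C') (toUnit C' ≫ b) ≫ ψ) h2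
  simp only [hφ] at h3
  have e3 : lift (𝟙 C') (toUnit C' ≫ b) ≫ lift (snd C' X) (fst C' X ≫ j) =
      j ≫ lift (toUnit X ≫ b) (𝟙 X) := by
    rw [comp_lift, comp_lift, lift_snd, lift_fst_assoc, Category.id_comp, Category.comp_id,
      ← Category.assoc j]
    congr 2
    exact toUnit_unique _ _
  have e4 : lift (𝟙 C') (toUnit C' ≫ b) ≫ snd C' X ≫ lift (toUnit X ≫ c₀') (𝟙 X) ≫
      lift (snd C' X) (fst C' X ≫ j) = toUnit C' ≫ lift b (c₀' ≫ j) := by
    have hb : b ≫ toUnit X = 𝟙 _ := toUnit_unique _ _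
    have hb' : b ≫ toUnit X ≫ c₀' = c₀' := by rw [← Category.assoc, hb, Category.id_comp]
    rw [lift_snd_assoc, Category.assoc, comp_lift, comp_lift, comp_lift, lift_snd, lift_fst_assoc,
      Category.comp_id, comp_lift]
    simp only [Category.assoc, reassoc_of% hb]
  calc j ≫ (lift (toUnit X ≫ b) (𝟙 X) ≫ μ[X]) ≫ f'
      = (lift (𝟙 C') (toUnit C' ≫ b) ≫ lift (snd C' X) (fst C' X ≫ j)) ≫ μ[X] ≫ f' := by
        rw [e3]; simp only [Category.assoc]
    _ = (lift (𝟙 C') (toUnit C' ≫ b) ≫ snd C' X ≫ lift (toUnit X ≫ c₀') (𝟙 X) ≫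
          lift (snd C' X) (fst C' X ≫ j)) ≫ μ[X] ≫ f' := by
        simp only [Category.assoc] at h3 ⊢
        exact h3
    _ = toUnit C' ≫ (lift b (c₀' ≫ j) ≫ μ[X]) ≫ f' := by
        rw [e4]; simp only [Category.assoc]

section field
variable {k : Type u} [Field k]

local notation "𝕊" => Spec (CommRingCat.of k)

/-- The reduced induced closed subscheme on a closed subset, as an object over `Spec k`. -/
noncomputable def sub (X : Over 𝕊) (C : TopologicalSpace.Closeds X.left) : Over 𝕊 :=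
  Over.mk ((Scheme.IdealSheafData.vanishingIdeal C).subschemeι ≫ X.hom)

/-- The inclusion of the reduced induced closed subscheme. -/
noncomputable def subι (X : Over 𝕊) (C : TopologicalSpace.Closeds X.left) : sub X C ⟶ X :=
  Over.homMk (Scheme.IdealSheafData.vanishingIdeal C).subschemeι rfl

instance (X : Over 𝕊) (C : TopologicalSpace.Closeds X.left) :
    IsClosedImmersion (subι X C).left := by
  show IsClosedImmersion (Scheme.IdealSheafData.vanishingIdeal C).subschemeι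
  infer_instance

instance (X : Over 𝕊) (C : TopologicalSpace.Closeds X.left) : IsReduced (sub X C).left :=
  Groth.Agent.Lib.Helper7.isReduced_vanishingIdeal_subscheme C

theorem range_subι (X : Over 𝕊) (C : TopologicalSpace.Closeds X.left) :
    Set.range (subι X C).left = (C : Set X.left) :=
  Groth.Agent.Lib.Helper2.range_vanishingIdeal_subschemeι C

theorem connectedSpace_sub (X : Over 𝕊) (C : TopologicalSpace.Closeds X.left)
    (hC : _root_.IsConnected (C : Set X.left)) : ConnectedSpace (sub X C).left := by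
  have hemb := (subι X C).left.isClosedEmbedding
  have hr := range_subι X C
  have hpre : _root_.IsPreconnected (Set.univ : Set (sub X C).left) := by
    rw [← hemb.isInducing.isPreconnected_image, Set.image_univ, hr]
    exact hC.isPreconnected
  have hne : Nonempty (sub X C).left := by
    obtain ⟨x, hx⟩ := hC.nonempty
    rw [← hr] at hx
    obtain ⟨y, _⟩ := hx
    exact ⟨y⟩
  exact { toPreconnectedSpace := ⟨hpre⟩, toNonempty := hne }

theorem sub_hom (X : Over 𝕊) (C : TopologicalSpace.Closeds X.left) :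
    (sub X C).hom = (subι X C).left ≫ X.hom := rfl

instance (X : Over 𝕊) [IsProper X.hom] (C : TopologicalSpace.Closeds X.left) :
    IsProper (sub X C).hom := by
  rw [sub_hom]; infer_instance

theorem exists_lift_pt (X : Over 𝕊) (C : TopologicalSpace.Closeds X.left)
    (c : 𝟙_ (Over 𝕊) ⟶ X) (hc : c.left (IsLocalRing.closedPoint k) ∈ C) :
    ∃ c' : 𝟙_ (Over 𝕊) ⟶ sub X C, c' ≫ subι X C = c := by
  haveI : IsReduced (𝟙_ (Over 𝕊)).left := by
    show IsReduced (Spec (CommRingCat.of k)); infer_instance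
  have h : Set.range c.left ⊆ Set.range (subι X C).left := by
    rintro _ ⟨y, rfl⟩
    rw [range_subι]
    have : y = IsLocalRing.closedPoint k := Subsingleton.elim (α := ↥(Spec (CommRingCat.of k))) _ _
    rw [this]; exact hc
  obtain ⟨g, hg⟩ := Groth.Agent.Lib.Helper7.exists_lift_of_isReduced_of_range_subset c.left
    (subι X C).left h
  refine ⟨Over.homMk g ?_, ?_⟩
  · rw [sub_hom, ← Category.assoc, hg]; exact Over.w c
  · ext1; exact hg

theorem const_on_sub (X : Over 𝕊) (C : TopologicalSpace.Closeds X.left)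
    {Y : Over 𝕊} [IsSeparated Y.hom] (f : X ⟶ Y) (c : 𝟙_ (Over 𝕊) ⟶ X)
    (hfC : ∀ a ∈ C, f.left a = f.left (c.left (IsLocalRing.closedPoint k))) :
    subι X C ≫ f = toUnit (sub X C) ≫ c ≫ f := by
  have hid : (c ≫ f).left ≫ Y.hom = 𝟙 _ := Over.w (c ≫ f)
  haveI : IsClosedImmersion ((c ≫ f).left ≫ Y.hom) := by rw [hid]; infer_instance
  haveI : IsClosedImmersion (c ≫ f).left := IsClosedImmersion.of_comp _ Y.hom
  have h : Set.range (subι X C ≫ f).left ⊆ Set.range (c ≫ f).left := by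
    rintro _ ⟨a', rfl⟩
    refine ⟨IsLocalRing.closedPoint k, ?_⟩
    rw [Over.comp_left, Over.comp_left, Scheme.Hom.comp_apply, Scheme.Hom.comp_apply]
    refine (hfC _ ?_).symm
    rw [← SetLike.mem_coe, ← range_subι X C]
    exact ⟨a', rfl⟩
  obtain ⟨g, hg⟩ := Groth.Agent.Lib.Helper7.exists_lift_of_isReduced_of_range_subset
    (subι X C ≫ f).left (c ≫ f).left h
  have hg' : g = (sub X C).hom := by
    calc g = g ≫ ((c ≫ f).left ≫ Y.hom) := by rw [hid]; exact (Category.comp_id _).symm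
      _ = (subι X C ≫ f).left ≫ Y.hom := by rw [← Category.assoc, hg]
      _ = (sub X C).hom := Over.w _
  ext1
  rw [← hg, hg']
  show (sub X C).hom ≫ (c ≫ f).left = (toUnit (sub X C)).left ≫ (c ≫ f).left
  rw [Over.toUnit_left]

/-- **Translates**: if `f` is constant on a closed connected subset `C` of a proper group scheme
`X` containing a rational point `c₀`, then for each rational point `b`, `f` is constant on `b·C`,
given rigidity for morphisms `C' × X → Y` with `C'` anti-affine. -/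
theorem lemmaR (X : Over 𝕊) [GrpObj X] [IsProper X.hom] (Y : Over 𝕊) [IsSeparated Y.hom]
    (f : X ⟶ Y) (C : TopologicalSpace.Closeds X.left) (hC : _root_.IsConnected (C : Set X.left))
    (c₀ : 𝟙_ (Over 𝕊) ⟶ X) (hc₀ : c₀.left (IsLocalRing.closedPoint k) ∈ C)
    (hfC : ∀ a ∈ C, f.left a = f.left (c₀.left (IsLocalRing.closedPoint k)))
    (hrig : ∀ (C' : Over 𝕊) [IsProper C'.hom]
      (_ : Function.Bijective ((Scheme.ΓSpecIso (CommRingCat.of k)).inv ≫ C'.hom.appTop).hom)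
      (x₀ : 𝟙_ (Over 𝕊) ⟶ C') (y₀ : 𝟙_ (Over 𝕊) ⟶ X) (φ : C' ⊗ X ⟶ Y),
      (C' ◁ y₀) ≫ φ = toUnit _ ≫ lift x₀ y₀ ≫ φ →
        φ = snd C' X ≫ lift (toUnit X ≫ x₀) (𝟙 X) ≫ φ)
    (b : 𝟙_ (Over 𝕊) ⟶ X) :
    ∀ a ∈ C, f.left ((lift (toUnit X ≫ b) (𝟙 X) ≫ μ[X]).left a) =
      f.left ((lift b c₀ ≫ μ[X]).left (IsLocalRing.closedPoint k)) := by
  obtain ⟨c₀', hc₀'⟩ := exists_lift_pt X C c₀ hc₀
  haveI := connectedSpace_sub X C hC
  have hbij := bijective_of_proper_connected (sub X C).hom c₀'.left (Over.w c₀')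
  have hconst : subι X C ≫ f = toUnit (sub X C) ≫ c₀' ≫ subι X C ≫ f := by
    rw [← Category.assoc c₀', hc₀']
    exact const_on_sub X C f c₀ hfC
  have key := translate_const_of_rigid X (sub X C) Y (subι X C) f c₀' b hconst
    (fun φ h => hrig (sub X C) hbij c₀' η[X] φ h)
  rw [hc₀'] at key
  intro a ha
  rw [← SetLike.mem_coe, ← range_subι X C] at ha
  obtain ⟨a', rfl⟩ := ha
  have hpt : (toUnit (sub X C)).left a' = IsLocalRing.closedPoint k :=
    Subsingleton.elim (α := ↥(Spec (CommRingCat.of k))) _ _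
  have key' := congrArg (fun ψ => ψ.left a') key
  calc f.left ((lift (toUnit X ≫ b) (𝟙 X) ≫ μ[X]).left ((subι X C).left a'))
      = (subι X C ≫ (lift (toUnit X ≫ b) (𝟙 X) ≫ μ[X]) ≫ f).left a' := rfl
    _ = (toUnit (sub X C) ≫ (lift b c₀ ≫ μ[X]) ≫ f).left a' := key'
    _ = f.left ((lift b c₀ ≫ μ[X]).left ((toUnit (sub X C)).left a')) := rfl
    _ = _ := congrArg (fun p => f.left ((lift b c₀ ≫ μ[X]).left p)) hpt

end field

end Groth.Agent.Lib.Helper11.PC2
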