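import Mathlib
import Groth.Agent.Lib.Helper11.PC2

/-!
# PC3: connected components of fibres of a morphism from a proper group scheme are translates.
-/

set_option autoImplicit false
universe u
open CategoryTheory MonoidalCategory CartesianMonoidalCategory MonObj AlgebraicGeometry

namespace Groth.Agent.Lib.Helper11.PC3

open Groth.Agent.Lib.Helper11.PC2

theorem isClosed_connectedComponentIn {α : Type*} [TopologicalSpace α] {F : Set α}
    (hF : IsClosed F) (x : α) : IsClosed (connectedComponentIn F x) := by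
  by_cases h : x ∈ F
  · rw [connectedComponentIn_eq_image h]
    exact hF.isClosedEmbedding_subtypeVal.isClosedMap _ isClosed_connectedComponent
  · rw [connectedComponentIn_eq_empty h]
    exact isClosed_empty

/-- translation calculus -/
theorem translate_comp_inv {𝒞 : Type*} [Category 𝒞] [CartesianMonoidalCategory 𝒞] (X : 𝒞) [GrpObj X]
    (x : 𝟙_ 𝒞 ⟶ X) :
    (lift (toUnit X ≫ x ≫ ι[X]) (𝟙 X) ≫ μ[X]) ≫ (lift (toUnit X ≫ x) (𝟙 X) ≫ μ[X]) = 𝟙 X := by
  set g : X ⟶ X := toUnit X ≫ x with hg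
  have h1 : lift (toUnit X ≫ x ≫ ι[X]) (𝟙 X) ≫ μ[X] = g⁻¹ * 𝟙 X := by
    rw [Hom.mul_def, Hom.inv_def, hg, Category.assoc]
  have h2 : lift (toUnit X ≫ x) (𝟙 X) ≫ μ[X] = g * 𝟙 X := by
    rw [Hom.mul_def]
  rw [h1, h2, MonObj.comp_mul, Category.comp_id]
  have h3 : (g⁻¹ * 𝟙 X) ≫ g = g := by
    rw [hg, ← Category.assoc]
    congr 1
    exact toUnit_unique _ _
  rw [h3]
  exact mul_inv_cancel_left g (𝟙 X)

theorem pt_translate {𝒞 : Type*} [Category 𝒞] [CartesianMonoidalCategory 𝒞] (X : 𝒞) [MonObj X]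
    (b c : 𝟙_ 𝒞 ⟶ X) :
    c ≫ (lift (toUnit X ≫ b) (𝟙 X) ≫ μ[X]) = lift b c ≫ μ[X] := by
  rw [← Category.assoc, comp_lift, Category.comp_id, ← Category.assoc]
  have : c ≫ toUnit X = 𝟙 _ := toUnit_unique _ _
  rw [this, Category.id_comp]

section field
variable {k : Type u} [Field k]

local notation "𝕊" => Spec (CommRingCat.of k)

theorem isClosed_fibre (X Y : Over 𝕊) [IsSeparated Y.hom] (f : X ⟶ Y) (c : 𝟙_ (Over 𝕊) ⟶ X) :
    IsClosed (f.left ⁻¹' {f.left (c.left (IsLocalRing.closedPoint k))}) := by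
  have hid : (c ≫ f).left ≫ Y.hom = 𝟙 _ := Over.w (c ≫ f)
  haveI : IsClosedImmersion ((c ≫ f).left ≫ Y.hom) := by rw [hid]; infer_instance
  haveI : IsClosedImmersion (c ≫ f).left := IsClosedImmersion.of_comp _ Y.hom
  have hr : Set.range (c ≫ f).left = {f.left (c.left (IsLocalRing.closedPoint k))} := by
    ext y
    constructor
    · rintro ⟨p, rfl⟩
      have : p = IsLocalRing.closedPoint k := Subsingleton.elim (α := ↥(Spec (CommRingCat.of k))) _ _
      rw [this]; rfl
    · rintro rfl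
      exact ⟨IsLocalRing.closedPoint k, rfl⟩
  have hcl : IsClosed ({f.left (c.left (IsLocalRing.closedPoint k))} : Set Y.left) := by
    rw [← hr]
    exact (c ≫ f).left.isClosedEmbedding.isClosed_range
  exact hcl.preimage f.left.continuous

/-- The translate by `b` of the connected component of `c₀` in its fibre lies in the connected
component of `b·c₀` in its fibre. -/
theorem translate_component_subset (X : Over 𝕊) [GrpObj X] [IsProper X.hom] (Y : Over 𝕊)
    [IsSeparated Y.hom] (f : X ⟶ Y)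
    (hrig : ∀ (C' : Over 𝕊) [IsProper C'.hom]
      (_ : Function.Bijective ((Scheme.ΓSpecIso (CommRingCat.of k)).inv ≫ C'.hom.appTop).hom)
      (x₀ : 𝟙_ (Over 𝕊) ⟶ C') (y₀ : 𝟙_ (Over 𝕊) ⟶ X) (φ : C' ⊗ X ⟶ Y),
      (C' ◁ y₀) ≫ φ = toUnit _ ≫ lift x₀ y₀ ≫ φ →
        φ = snd C' X ≫ lift (toUnit X ≫ x₀) (𝟙 X) ≫ φ)
    (c₀ b : 𝟙_ (Over 𝕊) ⟶ X) :
    (lift (toUnit X ≫ b) (𝟙 X) ≫ μ[X]).left ''
        connectedComponentIn (f.left ⁻¹' {f.left (c₀.left (IsLocalRing.closedPoint k))})
          (c₀.left (IsLocalRing.closedPoint k)) ⊆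
      connectedComponentIn
        (f.left ⁻¹' {f.left ((lift b c₀ ≫ μ[X]).left (IsLocalRing.closedPoint k))})
        ((lift b c₀ ≫ μ[X]).left (IsLocalRing.closedPoint k)) := by
  set S₀ := f.left ⁻¹' {f.left (c₀.left (IsLocalRing.closedPoint k))} with hS₀
  have hmem : c₀.left (IsLocalRing.closedPoint k) ∈ S₀ := rfl
  have hcl : IsClosed (connectedComponentIn S₀ (c₀.left (IsLocalRing.closedPoint k))) :=
    isClosed_connectedComponentIn (isClosed_fibre X Y f c₀) _
  let C : TopologicalSpace.Closeds X.left := ⟨_, hcl⟩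
  have hC : _root_.IsConnected (C : Set X.left) := isConnected_connectedComponentIn_iff.mpr hmem
  have hc₀ : c₀.left (IsLocalRing.closedPoint k) ∈ C := mem_connectedComponentIn hmem
  have hfC : ∀ a ∈ C, f.left a = f.left (c₀.left (IsLocalRing.closedPoint k)) := by
    intro a ha
    exact connectedComponentIn_subset S₀ _ ha
  have key := lemmaR X Y f C hC c₀ hc₀ hfC hrig b
  apply IsPreconnected.subset_connectedComponentIn
  · exact (isPreconnected_connectedComponentIn).image _
      (lift (toUnit X ≫ b) (𝟙 X) ≫ μ[X]).left.continuous.continuousOn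
  · refine ⟨c₀.left (IsLocalRing.closedPoint k), hc₀, ?_⟩
    have := congrArg (fun ψ => ψ.left (IsLocalRing.closedPoint k)) (pt_translate X b c₀)
    exact this
  · rintro _ ⟨a, ha, rfl⟩
    exact key a ha

end field

end Groth.Agent.Lib.Helper11.PC3
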