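import Mathlib
import Groth.Agent.Lib.Helper11.PC2
import Groth.Agent.Lib.Helper15.NoethTop

/-!
# PC4: for a proper group scheme over a field, the fibre of `G → Spec O(G)` through the unit is the
identity component (set-theoretically).
-/

set_option autoImplicit false
universe u
open CategoryTheory MonoidalCategory CartesianMonoidalCategory MonObj AlgebraicGeometry

namespace Groth.Agent.Lib.Helper11.PC4

open Groth.Agent.Lib.Helper11.PC1 Groth.Agent.Lib.Helper11.PC2

/-- A clopen subset of a scheme is the non-vanishing locus of a global function. -/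
theorem exists_basicOpen_eq_of_isClopen {X : Scheme.{u}} (s : Set X) (hs : IsClopen s) :
    ∃ e : Γ(X, ⊤), (X.basicOpen e : Set X) = s := by
  let U : X.Opens := ⟨s, hs.isOpen⟩
  let V : X.Opens := ⟨sᶜ, hs.isClosed.isOpen_compl⟩
  let W : Bool → X.Opens := fun b => if b = true then U else V
  let sf : ∀ b, Γ(X, W b) := fun b => if b = true then 1 else 0
  let r : ∀ b, Γ(X, ⊤) →+* Γ(X, W b) := fun b => (X.presheaf.map (homOfLE le_top).op).hom
  have hUV : U ⊓ V = ⊥ := by
    ext x; simp [U, V]
  have hcompat : TopCat.Presheaf.IsCompatible X.sheaf.1 W sf := by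
    intro b₁ b₂
    by_cases hb : b₁ = b₂
    · subst hb
      rfl
    · haveI : Subsingleton Γ(X, W b₁ ⊓ W b₂) := by
        have : W b₁ ⊓ W b₂ = ⊥ := by
          cases b₁ <;> cases b₂ <;> simp_all [W, inf_comm]
        rw [this]; infer_instance
      show (_ : Γ(X, W b₁ ⊓ W b₂)) = _
      exact Subsingleton.elim _ _
  have hcover : (⊤ : X.Opens) ≤ iSup W := by
    intro x _
    rw [TopologicalSpace.Opens.mem_iSup]
    by_cases hx : x ∈ s
    · exact ⟨true, by simpa [W, U] using hx⟩
    · exact ⟨false, by simpa [W, V] using hx⟩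
  obtain ⟨e, he, -⟩ := X.sheaf.existsUnique_gluing' W ⊤ (fun b => homOfLE le_top) hcover sf
    hcompat
  refine ⟨e, ?_⟩
  have h1 : U ⊓ X.basicOpen e = U := by
    have h3 : X.presheaf.map (homOfLE (le_top : U ≤ ⊤)).op e = (1 : Γ(X, U)) := he true
    rw [← Scheme.basicOpen_res, h3]
    exact X.basicOpen_of_isUnit isUnit_one
  have h2 : V ⊓ X.basicOpen e = ⊥ := by
    have h3 : X.presheaf.map (homOfLE (le_top : V ≤ ⊤)).op e = (0 : Γ(X, V)) := he false
    rw [← Scheme.basicOpen_res, h3]
    exact Scheme.basicOpen_zero _ _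
  ext x
  constructor
  · intro hx
    by_contra hxs
    have : x ∈ V ⊓ X.basicOpen e := ⟨hxs, hx⟩
    rw [h2] at this
    exact this
  · intro hx
    have : x ∈ U ⊓ X.basicOpen e := by rw [h1]; exact hx
    exact this.2

/-- If `k → R` is a bijective ring homomorphism from a field, `Spec R` is a point. -/
theorem subsingleton_primeSpectrum_of_bijective {k R : Type*} [Field k] [CommRing R]
    (F : k →+* R) (hF : Function.Bijective F) : Subsingleton (PrimeSpectrum R) := by
  have hfield : IsField R :=
    (RingEquiv.ofBijective F hF).symm.toMulEquiv.isField (Field.toIsField k)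
  letI := hfield.toField
  refine ⟨fun p q => ?_⟩
  ext1
  rw [Ideal.eq_bot_of_prime p.asIdeal, Ideal.eq_bot_of_prime q.asIdeal]

section field
variable {k : Type u} [Field k]

local notation "𝕊" => Spec (CommRingCat.of k)

theorem preimage_toSpecΓ_eq_connectedComponent (G : Over 𝕊) [IsProper G.hom]
    (c : 𝟙_ (Over 𝕊) ⟶ G) :
    G.left.toSpecΓ ⁻¹' {G.left.toSpecΓ (c.left (IsLocalRing.closedPoint k))} =
      connectedComponent (c.left (IsLocalRing.closedPoint k)) := by
  set e₀ := c.left (IsLocalRing.closedPoint k) with he₀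
  haveI : LocallyOfFiniteType G.hom := inferInstance
  haveI : IsLocallyNoetherian G.left := LocallyOfFiniteType.isLocallyNoetherian G.hom
  haveI : CompactSpace G.left := (quasiCompact_iff_compactSpace G.hom).mp inferInstance
  haveI : IsNoetherian G.left := { }
  apply Set.Subset.antisymm
  · intro x hx
    have hx' : G.left.toSpecΓ x = G.left.toSpecΓ e₀ := hx
    have hclopen : IsClopen (connectedComponent e₀) :=
      ⟨isClosed_connectedComponent,
        Groth.Agent.Lib.Helper15.NT.isOpen_connectedComponent_of_noetherianSpace e₀⟩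
    obtain ⟨ε, hε⟩ := exists_basicOpen_eq_of_isClopen _ hclopen
    have h1 := G.left.toSpecΓ_preimage_basicOpen ε
    have h2 : e₀ ∈ G.left.basicOpen ε := by
      rw [← SetLike.mem_coe, hε]; exact mem_connectedComponent
    rw [← h1] at h2
    have h3 : G.left.toSpecΓ e₀ ∈ PrimeSpectrum.basicOpen ε := h2
    rw [← hx'] at h3
    have h4 : x ∈ G.left.toSpecΓ ⁻¹ᵁ PrimeSpectrum.basicOpen ε := h3
    rw [h1, ← SetLike.mem_coe, hε] at h4
    exact h4
  · intro x hx
    let C : TopologicalSpace.Closeds G.left := ⟨connectedComponent e₀, isClosed_connectedComponent⟩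
    have hC : _root_.IsConnected (C : Set G.left) := isConnected_connectedComponent
    have hc : c.left (IsLocalRing.closedPoint k) ∈ C := mem_connectedComponent
    obtain ⟨c', hc'⟩ := exists_lift_pt G C c hc
    haveI := connectedSpace_sub G C hC
    have hbij := bijective_of_proper_connected (sub G C).hom c'.left (Over.w c')
    haveI : Subsingleton (PrimeSpectrum Γ((sub G C).left, ⊤)) :=
      subsingleton_primeSpectrum_of_bijective _ hbij
    have hnat := Scheme.toSpecΓ_naturality (subι G C).left
    have hconst : ∀ a' b' : (sub G C).left,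
        G.left.toSpecΓ ((subι G C).left a') = G.left.toSpecΓ ((subι G C).left b') := by
      intro a' b'
      have ha := congrArg (fun ψ => ψ a') hnat
      have hb := congrArg (fun ψ => ψ b') hnat
      simp only [Scheme.Hom.comp_apply] at ha hb
      rw [ha, hb]
      congr 1
      exact Subsingleton.elim (α := PrimeSpectrum Γ((sub G C).left, ⊤)) _ _
    have hx' : x ∈ (C : Set G.left) := hx
    have he' : e₀ ∈ (C : Set G.left) := mem_connectedComponent
    rw [← range_subι G C] at hx' he'
    obtain ⟨a', rfl⟩ := hx'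
    obtain ⟨b', hb'⟩ := he'
    show G.left.toSpecΓ _ = G.left.toSpecΓ e₀
    rw [← hb']
    exact hconst a' b'

end field

end Groth.Agent.Lib.Helper11.PC4
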