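import Mathlib

/-!
# PF1: algebras which are directed unions of finite products of copies of the base field
(helper11).  Every prime has residue field `k`, and the algebra is integral over `k`.
-/

set_option autoImplicit false
universe u
open CategoryTheory AlgebraicGeometry

namespace Groth.Agent.Lib.Helper11.PF1

variable {k : Type u} [Field k] {A : Type u} [CommRing A] [Algebra k A]

/-- every finite subset of `A` lies in a subalgebra isomorphic to a finite power of `k` -/
def Prof (k A : Type u) [Field k] [CommRing A] [Algebra k A] : Prop :=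
  ∀ s : Finset A, ∃ (B : Subalgebra k A) (n : ℕ), (↑s : Set A) ⊆ (B : Set A) ∧
    Nonempty (B ≃ₐ[k] (Fin n → k))

theorem exists_prod_eq_zero (hA : Prof k A) (a : A) :
    ∃ (n : ℕ) (c : Fin n → k), ∏ i, (a - algebraMap k A (c i)) = 0 := by
  obtain ⟨B, n, hs, ⟨e⟩⟩ := hA {a}
  have haB : a ∈ B := hs (by simp)
  let b : B := ⟨a, haB⟩
  let c : Fin n → k := e b
  refine ⟨n, c, ?_⟩
  have h1 : ∏ i, (e b - algebraMap k (Fin n → k) (c i)) = 0 := by
    funext j
    rw [Finset.prod_apply]
    apply Finset.prod_eq_zero (Finset.mem_univ j)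
    simp only [Pi.sub_apply, Pi.algebraMap_apply, Algebra.algebraMap_self, RingHom.id_apply,
      Pi.zero_apply]
    exact sub_self _
  have h2 : ∏ i, (b - algebraMap k B (c i)) = 0 := by
    apply e.injective
    rw [map_prod, map_zero]
    rw [← h1]
    refine Finset.prod_congr rfl fun i _ => ?_
    rw [map_sub, AlgEquiv.commutes]
  have h3 := congrArg B.val h2
  rw [map_prod, map_zero] at h3
  rw [← h3]
  refine Finset.prod_congr rfl fun i _ => ?_
  rw [map_sub, AlgHom.commutes]
  rfl

theorem isIntegral (hA : Prof k A) : Algebra.IsIntegral k A := by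
  refine ⟨fun a => ?_⟩
  obtain ⟨n, c, hc⟩ := exists_prod_eq_zero hA a
  refine ⟨∏ i, (Polynomial.X - Polynomial.C (c i)), ?_, ?_⟩
  · exact Polynomial.monic_prod_of_monic _ _ fun i _ => Polynomial.monic_X_sub_C (c i)
  · rw [← Polynomial.aeval_def, map_prod, ← hc]
    refine Finset.prod_congr rfl fun i _ => ?_
    rw [map_sub, Polynomial.aeval_X, Polynomial.aeval_C]

theorem bijective_quot (hA : Prof k A) (p : Ideal A) [p.IsPrime] :
    Function.Bijective ((Ideal.Quotient.mk p).comp (algebraMap k A)) := by
  constructor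
  · exact RingHom.injective _
  · intro x
    obtain ⟨a, rfl⟩ := Ideal.Quotient.mk_surjective x
    obtain ⟨n, c, hc⟩ := exists_prod_eq_zero hA a
    have h1 := congrArg (Ideal.Quotient.mk p) hc
    rw [map_prod, map_zero, Finset.prod_eq_zero_iff] at h1
    obtain ⟨i, -, hi⟩ := h1
    refine ⟨c i, ?_⟩
    rw [map_sub, sub_eq_zero] at hi
    exact hi.symm

/-- the character of `A` at a prime -/
noncomputable def chi (hA : Prof k A) (p : Ideal A) [p.IsPrime] : A →+* k :=
  (RingEquiv.ofBijective _ (bijective_quot hA p)).symm.toRingHom.comp (Ideal.Quotient.mk p)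

theorem chi_algebraMap (hA : Prof k A) (p : Ideal A) [p.IsPrime] (c : k) :
    chi hA p (algebraMap k A c) = c := by
  show (RingEquiv.ofBijective _ (bijective_quot hA p)).symm
    (Ideal.Quotient.mk p (algebraMap k A c)) = c
  rw [RingEquiv.symm_apply_eq]
  rfl

theorem ker_chi (hA : Prof k A) (p : Ideal A) [p.IsPrime] : RingHom.ker (chi hA p) = p := by
  ext a
  rw [RingHom.mem_ker]
  show (RingEquiv.ofBijective _ (bijective_quot hA p)).symm (Ideal.Quotient.mk p a) = 0 ↔ _
  rw [RingEquiv.symm_apply_eq, map_zero, Ideal.Quotient.eq_zero_iff_mem]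

/-- every point of `Spec A` is the image of a section of `Spec A → Spec k` -/
theorem exists_section (hA : Prof k A) (s : Spec (CommRingCat.of A)) :
    ∃ σ : Spec (CommRingCat.of k) ⟶ Spec (CommRingCat.of A),
      σ ≫ Spec.map (CommRingCat.ofHom (algebraMap k A)) = 𝟙 _ ∧ ∀ t, σ t = s := by
  haveI : s.asIdeal.IsPrime := s.isPrime
  refine ⟨Spec.map (CommRingCat.ofHom (chi hA s.asIdeal)), ?_, ?_⟩
  · rw [← Spec.map_comp, ← CommRingCat.ofHom_comp]
    have : (chi hA s.asIdeal).comp (algebraMap k A) = RingHom.id k := by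
      ext c
      exact chi_algebraMap hA s.asIdeal c
    rw [this]
    exact Spec.map_id _
  · intro t
    apply PrimeSpectrum.ext
    show Ideal.comap (chi hA s.asIdeal) t.asIdeal = s.asIdeal
    have ht : t.asIdeal = ⊥ := by
      haveI := t.isPrime
      exact Ideal.eq_bot_of_prime t.asIdeal
    rw [ht, ← RingHom.ker_eq_comap_bot, ker_chi]

end Groth.Agent.Lib.Helper11.PF1
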