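import Mathlib
import Groth.Agent.Lib.Helper11.PF1
import Groth.Agent.Lib.Helper11.PF3

/-!
# PF4: for a "profinite" `k`-algebra `A`, the space of `Spec A ×_k X` is the product of the spaces
(helper11).
-/

set_option autoImplicit false
universe u
open CategoryTheory AlgebraicGeometry

namespace Groth.Agent.Lib.Helper11.PF4

open Groth.Agent.Lib.Helper11 Groth.Agent.Lib.Helper11.PF1

variable {k : Type u} [Field k] {A : Type u} [CommRing A] [Algebra k A]

theorem exists_mul_self_mul (hA : Prof k A) (a : A) : ∃ a' : A, a * a * a' = a := by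
  obtain ⟨B, n, hs, ⟨e⟩⟩ := hA {a}
  have haB : a ∈ B := hs (by simp)
  let b : B := ⟨a, haB⟩
  let v : Fin n → k := e b
  let b' : B := e.symm (fun i => (v i)⁻¹)
  refine ⟨(b' : A), ?_⟩
  have h1 : b * b * b' = b := by
    apply e.injective
    rw [map_mul, map_mul, AlgEquiv.apply_symm_apply]
    funext i
    show v i * v i * (v i)⁻¹ = v i
    by_cases h : v i = 0
    · rw [h]; simp
    · rw [mul_assoc, mul_inv_cancel₀ h, mul_one]
  have h3 := congrArg B.val h1
  rw [map_mul, map_mul] at h3
  exact h3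

theorem isClopen_basicOpen (hA : Prof k A) (a : A) :
    IsClopen ((PrimeSpectrum.basicOpen a : TopologicalSpace.Opens (PrimeSpectrum A)) :
      Set (PrimeSpectrum A)) := by
  obtain ⟨a', ha'⟩ := exists_mul_self_mul hA a
  have he : IsIdempotentElem (a * a') := by
    show a * a' * (a * a') = a * a'
    calc a * a' * (a * a') = (a * a * a') * a' := by ring
      _ = a * a' := by rw [ha']
  have heq : ((PrimeSpectrum.basicOpen a : TopologicalSpace.Opens (PrimeSpectrum A)) :
      Set (PrimeSpectrum A)) = PrimeSpectrum.basicOpen (a * a') := by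
    ext p
    simp only [SetLike.mem_coe, PrimeSpectrum.mem_basicOpen]
    constructor
    · intro h1 h2
      apply h1
      rw [← ha']
      have : a * a * a' = a * (a * a') := by ring
      rw [this]
      exact p.asIdeal.mul_mem_left _ h2
    · intro h1 h2
      exact h1 (p.asIdeal.mul_mem_right _ h2)
  rw [heq]
  exact PrimeSpectrum.isClopen_iff.mpr ⟨_, he, rfl⟩

theorem exists_mem_not_mem (hA : Prof k A) (s s' : PrimeSpectrum A) (h : s ≠ s') :
    ∃ a, a ∈ s'.asIdeal ∧ a ∉ s.asIdeal := by
  by_contra hcon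
  push Not at hcon
  apply h
  apply PrimeSpectrum.ext
  apply le_antisymm
  · intro a ha
    obtain ⟨n, c, hc⟩ := PF1.exists_prod_eq_zero hA a
    have h0 : ∏ i, (a - algebraMap k A (c i)) ∈ s'.asIdeal := by rw [hc]; exact zero_mem _
    haveI := s'.isPrime
    obtain ⟨i, -, hi⟩ := Ideal.IsPrime.prod_mem_iff.mp h0
    have hi' := hcon _ hi
    have hci : algebraMap k A (c i) ∈ s.asIdeal := by
      have := s.asIdeal.sub_mem ha hi'
      rwa [sub_sub_cancel] at this
    have hc0 : c i = 0 := by
      by_contra hne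
      apply s.isPrime.ne_top
      rw [Ideal.eq_top_iff_one]
      have : (1 : A) = algebraMap k A (c i)⁻¹ * algebraMap k A (c i) := by
        rw [← map_mul, inv_mul_cancel₀ hne, map_one]
      rw [this]
      exact s.asIdeal.mul_mem_left _ hci
    rw [hc0, map_zero, sub_zero] at hi
    exact hi
  · exact fun a ha => hcon a ha

theorem eq_lift {P X S : Scheme.{u}} (a : P ⟶ S) (f : X ⟶ S) (σ : S ⟶ P) (hσ : σ ≫ a = 𝟙 S)
    (w : ↑(Limits.pullback a f)) (pt : S) (hw : Limits.pullback.fst a f w = σ pt) :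
    w = (Limits.pullback.lift (f ≫ σ) (𝟙 X)
      (by rw [Category.assoc, hσ, Category.comp_id, Category.id_comp]))
        (Limits.pullback.snd a f w) := by
  let j : X ⟶ Limits.pullback a f := Limits.pullback.lift (f ≫ σ) (𝟙 X)
      (by rw [Category.assoc, hσ, Category.comp_id, Category.id_comp])
  have t : IsPullback (Limits.pullback.snd a f) (Limits.pullback.fst a f) f a :=
    (IsPullback.of_hasPullback a f).flip
  have e1 : j ≫ Limits.pullback.snd a f = 𝟙 X := Limits.pullback.lift_snd _ _ _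
  have s' : IsPullback (j ≫ Limits.pullback.snd a f) f f (σ ≫ a) := by
    rw [e1, hσ]
    exact IsPullback.of_id_fst
  have pp : j ≫ Limits.pullback.fst a f = f ≫ σ := Limits.pullback.lift_fst _ _ _
  have hpb : IsPullback j f (Limits.pullback.fst a f) σ := IsPullback.of_right s' pp t
  obtain ⟨z, hz, -⟩ := PF3.exists_of_isPullback hpb w pt hw
  have : Limits.pullback.snd a f w = z := by
    rw [← hz, ← Scheme.Hom.comp_apply, e1]; rfl
  rw [this]
  exact hz.symm

theorem isHomeomorph_prod (hA : Prof k A) (X : Scheme.{u}) (f : X ⟶ Spec (CommRingCat.of k)) :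
    IsHomeomorph (fun p : ↑(Limits.pullback (Spec.map (CommRingCat.ofHom (algebraMap k A))) f) =>
      (Limits.pullback.fst (Spec.map (CommRingCat.ofHom (algebraMap k A))) f p,
       Limits.pullback.snd (Spec.map (CommRingCat.ofHom (algebraMap k A))) f p)) := by
  classical
  let a : Spec (CommRingCat.of A) ⟶ Spec (CommRingCat.of k) :=
    Spec.map (CommRingCat.ofHom (algebraMap k A))
  let p := Limits.pullback.fst a f
  let q := Limits.pullback.snd a f
  show IsHomeomorph (fun w : ↑(Limits.pullback a f) => (p w, q w))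
  have hpt : ∀ t t' : ↥(Spec (CommRingCat.of k)), t = t' := fun t t' => Subsingleton.elim _ _
  -- injectivity
  have hinj : Function.Injective (fun w : ↑(Limits.pullback a f) => (p w, q w)) := by
    intro w w' hww
    have h1 : p w = p w' := congrArg Prod.fst hww
    have h2 : q w = q w' := congrArg Prod.snd hww
    obtain ⟨σ, hσ1, hσ2⟩ := PF1.exists_section hA (p w)
    have e1 := eq_lift a f σ hσ1 w (f (q w)) (hσ2 _).symm
    have e2 := eq_lift a f σ hσ1 w' (f (q w)) (by rw [← h1]; exact (hσ2 _).symm)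
    rw [e1, e2]
    show _ = (Limits.pullback.lift (f ≫ σ) (𝟙 X) _) (q w')
    rw [← h2]
  have hsurj : Function.Surjective (fun w : ↑(Limits.pullback a f) => (p w, q w)) := by
    rintro ⟨s, x⟩
    obtain ⟨z, hz1, hz2⟩ := Scheme.Pullback.exists_preimage_pullback (f := a) (g := f) s x
      (hpt _ _)
    exact ⟨z, Prod.ext hz1 hz2⟩
  have hcont : Continuous (fun w : ↑(Limits.pullback a f) => (p w, q w)) :=
    p.continuous.prodMk q.continuous
  -- closedness
  haveI : UniversallyClosed a := by
    haveI := PF1.isIntegral hA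
    haveI : IsIntegralHom a := by
      show IsIntegralHom (Spec.map (CommRingCat.ofHom (algebraMap k A)))
      rw [IsIntegralHom.SpecMap_iff]
      exact Algebra.IsIntegral.isIntegral
    infer_instance
  haveI : UniversallyClosed q := MorphismProperty.pullback_snd (P := @UniversallyClosed) _ _
    inferInstance
  have hqcl : IsClosedMap q := q.isClosedMap
  have hclosed : IsClosedMap (fun w : ↑(Limits.pullback a f) => (p w, q w)) := by
    intro C hC
    rw [← isOpen_compl_iff, isOpen_iff_forall_mem_open]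
    rintro ⟨s, x⟩ hsx
    -- the compact set
    let P' : Over (Spec (CommRingCat.of k)) := Over.mk a
    let G' : Over (Spec (CommRingCat.of k)) := Over.mk f
    haveI : IsAffineHom P'.hom := by
      show IsAffineHom (Spec.map (CommRingCat.ofHom (algebraMap k A))); infer_instance
    have hK : IsCompact (q ⁻¹' {x}) := PF3.isCompact_fibre G' P' x
    have hKC : IsCompact (q ⁻¹' {x} ∩ C) := hK.inter_right hC
    have hne : ∀ w' ∈ q ⁻¹' {x} ∩ C, s ≠ p w' := by
      rintro w' ⟨hw1, hw2⟩ rfl
      apply hsx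
      refine ⟨w', hw2, ?_⟩
      have : q w' = x := hw1
      rw [← this]
    have hex : ∀ w' : ↑(Limits.pullback a f), ∃ b : A, w' ∈ q ⁻¹' {x} ∩ C →
        (b ∈ (p w').asIdeal ∧ b ∉ s.asIdeal) := by
      intro w'
      by_cases hw' : w' ∈ q ⁻¹' {x} ∩ C
      · obtain ⟨b, hb1, hb2⟩ := exists_mem_not_mem hA s (p w') (hne w' hw')
        exact ⟨b, fun _ => ⟨hb1, hb2⟩⟩
      · exact ⟨0, fun h => absurd h hw'⟩
    choose aa haa using hex
    let D : A → Set ↥(Spec (CommRingCat.of A)) := fun b =>
      ((PrimeSpectrum.basicOpen b : TopologicalSpace.Opens (PrimeSpectrum A)) :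
        Set (PrimeSpectrum A))
    have hDclopen : ∀ b, IsClopen (D b) := fun b => isClopen_basicOpen hA b
    obtain ⟨t, ht1, ht2⟩ := hKC.elim_nhds_subcover (fun w' => p ⁻¹' (D (aa w'))ᶜ) (by
      intro w' hw'
      refine IsOpen.mem_nhds ?_ ?_
      · exact ((hDclopen _).1.isOpen_compl).preimage p.continuous
      · show p w' ∉ D (aa w')
        intro hcon
        exact hcon (haa w' hw').1)
    let b := ∏ w' ∈ t, aa w'
    have hbs : b ∉ s.asIdeal := by
      haveI := s.isPrime
      intro hcon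
      obtain ⟨w', hw't, hw'⟩ := Ideal.IsPrime.prod_mem_iff.mp hcon
      exact (haa w' (ht1 w' hw't)).2 hw'
    have hempty : ∀ w'' ∈ q ⁻¹' {x} ∩ C, p w'' ∉ D b := by
      intro w'' hw'' hcon
      obtain ⟨w', hw't, hw'⟩ := Set.mem_iUnion₂.mp (ht2 hw'')
      have h1 : aa w' ∈ (p w'').asIdeal := by
        by_contra h1
        exact hw' h1
      haveI := (p w'').isPrime
      exact hcon (Ideal.IsPrime.prod_mem_iff.mpr ⟨w', hw't, h1⟩)
    let Z : Set ↥X := q '' (C ∩ p ⁻¹' (D b))
    have hZcl : IsClosed Z := hqcl _ (hC.inter ((hDclopen b).1.preimage p.continuous))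
    have hxZ : x ∉ Z := by
      rintro ⟨w'', ⟨hw1, hw2⟩, hw3⟩
      exact hempty w'' ⟨hw3, hw1⟩ hw2
    refine ⟨D b ×ˢ Zᶜ, ?_, (hDclopen b).2.prod hZcl.isOpen_compl, ⟨hbs, hxZ⟩⟩
    rintro ⟨s', x'⟩ ⟨hs', hx'⟩ ⟨w'', hw1, hw2⟩
    have h1 : p w'' = s' := congrArg Prod.fst hw2
    have h2 : q w'' = x' := congrArg Prod.snd hw2
    apply hx'
    exact ⟨w'', ⟨hw1, by show p w'' ∈ D b; rw [h1]; exact hs'⟩, h2⟩
  exact isHomeomorph_iff_continuous_isClosedMap_bijective.mpr ⟨hcont, hclosed, hinj, hsurj⟩

end Groth.Agent.Lib.Helper11.PF4
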