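import Groth.Agent.Lib.Helper11.PQ3

/-!
# Helper11 PQ4: `Proj 𝒜 → Proj 𝒜^G` is a quotient (assembly)
-/

set_option autoImplicit false
universe u

open CategoryTheory AlgebraicGeometry HomogeneousLocalization TopologicalSpace

namespace Groth.Agent.Lib.Helper11.PQ4

open Groth.Agent.Lib.Helper11

section

variable {R A C : Type u} [CommRing R] [CommRing A] [Algebra R A] (𝒜 : ℕ → Submodule R A)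
  [GradedAlgebra 𝒜] {G : Type u} [Group G] [Finite G] [MulSemiringAction G A]
  (hGdeg : ∀ (σ : G) (i : ℕ) (a : A), a ∈ 𝒜 i → σ • a ∈ 𝒜 i)
  [CommRing C] [Algebra R C] (𝒞 : ℕ → Submodule R C) [GradedAlgebra 𝒞]
  (ι : C →ₐ[R] A) (hι : Function.Injective ι)
  (hιdeg : ∀ (i : ℕ) (a : A), a ∈ (𝒞 i).map ι.toLinearMap ↔ (a ∈ 𝒜 i ∧ ∀ σ : G, σ • a = a))
  (ρ : G →* Aut (Proj 𝒜)) (π : Proj 𝒜 ⟶ Proj 𝒞)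
  (E1 : ∀ (n : ℕ) (c : C) (hn : 0 < n) (hc : c ∈ 𝒞 n),
     Proj.awayι 𝒜 (ι c) (PQ1.ι_mem 𝒜 𝒞 ι hιdeg hc) hn ≫ π =
       Spec.map (CommRingCat.ofHom (PQ1.θ 𝒜 𝒞 ι hιdeg c)) ≫ Proj.awayι 𝒞 c hc hn)
  (E2 : ∀ (σ : G) (n : ℕ) (f f' : A) (h : σ • f = f') (hn : 0 < n) (hf : f ∈ 𝒜 n)
     (hf' : f' ∈ 𝒜 n),
     Proj.awayι 𝒜 f' hf' hn ≫ (ρ σ).inv =
       Spec.map (CommRingCat.ofHom (PQ1.θσ 𝒜 hGdeg σ f f' h)) ≫ Proj.awayι 𝒜 f hf hn)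

omit [Finite G] in
theorem away_mk_congr {d : ℕ} {f : A} (hf : f ∈ 𝒜 d) (n : ℕ) {x x' : A} (h : x = x')
    (hx : x ∈ 𝒜 (n • d)) (hx' : x' ∈ 𝒜 (n • d)) :
    Away.mk 𝒜 hf n x hx = Away.mk 𝒜 hf n x' hx' := by
  subst h; rfl

omit [Finite G] in
theorem θ_isLocElem {n n' : ℕ} {c c' : C} (hc : c ∈ 𝒞 n) (hc' : c' ∈ 𝒞 n') :
    PQ1.θ 𝒜 𝒞 ι hιdeg c' (Away.isLocalizationElem hc' hc) =
      Away.isLocalizationElem (PQ1.ι_mem 𝒜 𝒞 ι hιdeg hc') (PQ1.ι_mem 𝒜 𝒞 ι hιdeg hc) := by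
  unfold Away.isLocalizationElem
  rw [PQ1.θ_mk 𝒜 𝒞 ι hιdeg hc']
  exact away_mk_congr 𝒜 _ n (map_pow ι c n') _ _

include E1 in
omit [Finite G] in
theorem mem_iff {n n' : ℕ} (hn : 0 < n) (hn' : 0 < n') {c c' : C} (hc : c ∈ 𝒞 n)
    (hc' : c' ∈ 𝒞 n') (x' : Spec (CommRingCat.of (Away 𝒜 (ι c')))) :
    π (Proj.awayι 𝒜 (ι c') (PQ1.ι_mem 𝒜 𝒞 ι hιdeg hc') hn' x') ∈ Proj.basicOpen 𝒞 c ↔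
      Proj.awayι 𝒜 (ι c') (PQ1.ι_mem 𝒜 𝒞 ι hιdeg hc') hn' x' ∈ Proj.basicOpen 𝒜 (ι c) := by
  have e1 : π (Proj.awayι 𝒜 (ι c') (PQ1.ι_mem 𝒜 𝒞 ι hιdeg hc') hn' x') =
      Proj.awayι 𝒞 c' hc' hn' (Spec.map (CommRingCat.ofHom (PQ1.θ 𝒜 𝒞 ι hιdeg c')) x') := by
    have h0 := congr($(E1 n' c' hn' hc') x')
    rwa [Scheme.Hom.comp_apply, Scheme.Hom.comp_apply] at h0
  rw [e1]
  have h1 : ∀ y, Proj.awayι 𝒞 c' hc' hn' y ∈ Proj.basicOpen 𝒞 c ↔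
      y ∈ PrimeSpectrum.basicOpen (Away.isLocalizationElem hc' hc) := by
    intro y
    have h0 := Proj.awayι_preimage_basicOpen 𝒞 hc' hn' hc hn
    rw [← h0]; rfl
  have h2 : ∀ y, Proj.awayι 𝒜 (ι c') (PQ1.ι_mem 𝒜 𝒞 ι hιdeg hc') hn' y ∈
      Proj.basicOpen 𝒜 (ι c) ↔ y ∈ PrimeSpectrum.basicOpen
        (Away.isLocalizationElem (PQ1.ι_mem 𝒜 𝒞 ι hιdeg hc') (PQ1.ι_mem 𝒜 𝒞 ι hιdeg hc)) := by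
    intro y
    have h0 := Proj.awayι_preimage_basicOpen 𝒜 (PQ1.ι_mem 𝒜 𝒞 ι hιdeg hc') hn'
      (PQ1.ι_mem 𝒜 𝒞 ι hιdeg hc) hn
    rw [← h0]; rfl
  rw [h1, h2, ← θ_isLocElem 𝒜 𝒞 ι hιdeg hc hc']
  rfl

include E1 hGdeg in
theorem preimage_basicOpen {n : ℕ} (hn : 0 < n) {c : C} (hc : c ∈ 𝒞 n) :
    π ⁻¹ᵁ Proj.basicOpen 𝒞 c = Proj.basicOpen 𝒜 (ι c) := by
  refine Opens.ext (Set.ext fun x => ?_)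
  change π x ∈ Proj.basicOpen 𝒞 c ↔ x ∈ Proj.basicOpen 𝒜 (ι c)
  obtain ⟨n', hn', c', hc', hx⟩ := PQ2.exists_cover 𝒜 hGdeg 𝒞 ι hιdeg x
  have hx2 : x ∈ (Proj.awayι 𝒜 (ι c') (PQ1.ι_mem 𝒜 𝒞 ι hιdeg hc') hn').opensRange := by
    rw [Proj.opensRange_awayι]; exact hx
  obtain ⟨x', rfl⟩ := hx2
  exact mem_iff 𝒜 𝒞 ι hιdeg π E1 hn hn' hc hc' x'

include E1 hGdeg in
theorem isAffineHom : IsAffineHom π := by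
  apply isAffineHom_of_forall_exists_isAffineOpen
  intro y
  obtain ⟨d, hd, c, hc, hcy⟩ := PQ2.exists_homog_notMem 𝒞 y
  refine ⟨Proj.basicOpen 𝒞 c, hcy, Proj.isAffineOpen_basicOpen 𝒞 c hc hd, ?_⟩
  rw [preimage_basicOpen 𝒜 hGdeg 𝒞 ι hιdeg π E1 hd hc]
  exact Proj.isAffineOpen_basicOpen 𝒜 (ι c) (PQ1.ι_mem 𝒜 𝒞 ι hιdeg hc) hd

include E1 E2 in
theorem hinv (σ : G) : (ρ σ).hom ≫ π = π := by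
  have key : (ρ σ).inv ≫ π = π := by
    apply PQ3.hom_ext_of_openImmersions
    intro x
    obtain ⟨n, hn, c, hc, hx⟩ := PQ2.exists_cover 𝒜 hGdeg 𝒞 ι hιdeg x
    refine ⟨_, Proj.awayι 𝒜 (ι c) (PQ1.ι_mem 𝒜 𝒞 ι hιdeg hc) hn, inferInstance, ?_, ?_⟩
    · have hx2 : x ∈ (Proj.awayι 𝒜 (ι c) (PQ1.ι_mem 𝒜 𝒞 ι hιdeg hc) hn).opensRange := by
        rw [Proj.opensRange_awayι]; exact hx
      exact hx2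
    · rw [← Category.assoc, E2 σ n (ι c) (ι c) (PQ1.ι_inv 𝒜 𝒞 ι hιdeg hc σ) hn
        (PQ1.ι_mem 𝒜 𝒞 ι hιdeg hc) (PQ1.ι_mem 𝒜 𝒞 ι hιdeg hc), Category.assoc, E1 n c hn hc,
        ← Category.assoc, ← Spec.map_comp]
      congr 2
      refine CommRingCat.hom_ext (RingHom.ext fun t => ?_)
      obtain ⟨k, a, ha, rfl⟩ := Away.mk_surjective 𝒞 hc t
      change PQ1.θσ 𝒜 hGdeg σ (ι c) (ι c) (PQ1.ι_inv 𝒜 𝒞 ι hιdeg hc σ)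
          (PQ1.θ 𝒜 𝒞 ι hιdeg c (Away.mk 𝒞 hc k a ha)) =
        PQ1.θ 𝒜 𝒞 ι hιdeg c (Away.mk 𝒞 hc k a ha)
      rw [PQ1.θ_mk 𝒜 𝒞 ι hιdeg hc, PQ1.θσ_mk 𝒜 hGdeg σ _ (PQ1.ι_mem 𝒜 𝒞 ι hιdeg hc)
        (PQ1.ι_mem 𝒜 𝒞 ι hιdeg hc)]
      exact away_mk_congr 𝒜 _ k (PQ1.ι_inv 𝒜 𝒞 ι hιdeg ha σ) _ _
  calc (ρ σ).hom ≫ π = (ρ σ).hom ≫ (ρ σ).inv ≫ π := by rw [key]
    _ = π := by rw [Iso.hom_inv_id_assoc]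

omit [Finite G] in
theorem θσ_congr {σ σ' : G} (e : σ = σ') (f f' : A) (h : σ • f = f') (h' : σ' • f = f')
    (y : Away 𝒜 f) : PQ1.θσ 𝒜 hGdeg σ f f' h y = PQ1.θσ 𝒜 hGdeg σ' f f' h' y := by
  subst e; rfl

include E1 E2 hι in
theorem isQuot : SGA1.IsQuot ρ π := by
  haveI := isAffineHom 𝒜 hGdeg 𝒞 ι hιdeg π E1
  apply IQ2.isQuot_of_affine_cover ρ π (hinv 𝒜 hGdeg 𝒞 ι hιdeg ρ π E1 E2)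
    {V | ∃ (n : ℕ) (_ : 0 < n) (c : C) (_ : c ∈ 𝒞 n), V = Proj.basicOpen 𝒞 c}
  · rintro V ⟨n, hn, c, hc, rfl⟩
    exact Proj.isAffineOpen_basicOpen 𝒞 c hc hn
  · intro y
    obtain ⟨d, hd, c, hc, hcy⟩ := PQ2.exists_homog_notMem 𝒞 y
    exact ⟨_, ⟨d, hd, c, hc, rfl⟩, hcy⟩
  · rintro V ⟨n, hn, c, hc, rfl⟩
    have hιc := PQ1.ι_mem 𝒜 𝒞 ι hιdeg hc
    refine PQ3.good_of_chart ρ π (hinv 𝒜 hGdeg 𝒞 ι hιdeg ρ π E1 E2) (Proj.basicOpen 𝒞 c)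
      (Proj.awayι 𝒞 c hc hn) (Proj.opensRange_awayι 𝒞 c hc hn)
      (Proj.awayι 𝒜 (ι c) hιc hn)
      ((Proj.opensRange_awayι 𝒜 (ι c) hιc hn).trans
        (preimage_basicOpen 𝒜 hGdeg 𝒞 ι hιdeg π E1 hn hc).symm)
      (CommRingCat.ofHom (PQ1.θ 𝒜 𝒞 ι hιdeg c)) (E1 n c hn hc)
      (fun g => CommRingCat.ofHom (PQ1.θσ 𝒜 hGdeg g⁻¹ (ι c) (ι c)
        (PQ1.ι_inv 𝒜 𝒞 ι hιdeg hc g⁻¹))) (fun g => ?_)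
      (PQ1.θ_injective 𝒜 𝒞 ι hιdeg hι hc) (fun y hy => ?_)
    · have h1 : (ρ g).hom = (ρ g⁻¹).inv := by
        rw [map_inv]; rfl
      rw [h1]
      exact E2 g⁻¹ n (ι c) (ι c) (PQ1.ι_inv 𝒜 𝒞 ι hιdeg hc g⁻¹) hn hιc hιc
    · refine PQ1.θ_range 𝒜 hGdeg 𝒞 ι hιdeg hc y (fun σ => ?_)
      have h2 := hy σ⁻¹
      exact (θσ_congr 𝒜 hGdeg (inv_inv σ).symm (ι c) (ι c) (PQ1.ι_inv 𝒜 𝒞 ι hιdeg hc σ)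
        (PQ1.ι_inv 𝒜 𝒞 ι hιdeg hc σ⁻¹⁻¹) y).trans h2

end

end Groth.Agent.Lib.Helper11.PQ4
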