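import Mathlib
import Groth.Agent.Lib.Helper11.PerfLib

/-!
# Perfections: descending affineness (helper11)
-/

set_option autoImplicit false
universe u
open CategoryTheory CategoryTheory.Limits AlgebraicGeometry FrobSch TopologicalSpace

namespace Groth.Agent.Lib.Helper11.PerfAff

open Groth.Agent.Lib.Helper11.PerfLib

variable (p : ℕ) [Fact p.Prime]

theorem isPerfection_of_isPullback {P U X XP : Scheme.{u}} [IsCharP XP p] [IsCharP P p]
    (π : XP ⟶ X) (hπ : IsPerfection π p) {a : P ⟶ U} {b : P ⟶ XP} {j : U ⟶ X}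
    (sq : IsPullback a b j π) (hP : IsPerfect P p) : IsPerfection a p := by
  refine ⟨hP, ?_⟩
  intro T _ hT
  constructor
  · intro g1 g2 hg
    have hg' : g1 ≫ a = g2 ≫ a := hg
    apply sq.hom_ext hg'
    apply (hπ.2 T hT).1
    show (g1 ≫ b) ≫ π = (g2 ≫ b) ≫ π
    rw [Category.assoc, Category.assoc, ← sq.w, ← Category.assoc, ← Category.assoc, hg']
  · intro h
    obtain ⟨c, hc⟩ := (hπ.2 T hT).2 (h ≫ j)
    have hc' : c ≫ π = h ≫ j := hc
    exact ⟨sq.lift h c hc'.symm, sq.lift_fst _ _ _⟩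

/-- structure of a perfection over an affine open -/
theorem affineOpen_perfection {X XP : Scheme.{u}} [IsCharP X p] [IsCharP XP p] (π : XP ⟶ X)
    (hπ : IsPerfection π p) (U : X.Opens) (hU : IsAffineOpen U) :
    IsAffineOpen (π ⁻¹ᵁ U) ∧
      ∀ x : Γ(XP, π ⁻¹ᵁ U), ∃ (n : ℕ) (y : Γ(X, U)), π.app U y = x ^ p ^ n := by
  haveI : IsAffine U.toScheme := hU
  haveI : IsCharP U.toScheme p := IsCharP.of_hom U.ι p
  haveI : IsCharP (π ⁻¹ᵁ U).toScheme p := IsCharP.of_hom (π ⁻¹ᵁ U).ι p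
  have hperf : IsPerfection (π ∣_ U) p :=
    isPerfection_of_isPullback p π hπ (isPullback_morphismRestrict π U)
      (isPerfect_of_isOpenImmersion p (π ⁻¹ᵁ U).ι hπ.1)
  obtain ⟨hA, -, -, -, hrad⟩ := affine_perfection p (π ∣_ U) hperf
  refine ⟨hA, ?_⟩
  have key : (π ∣_ U).appTop = U.topIso.hom ≫ π.app U ≫ (π ⁻¹ᵁ U).topIso.inv := by
    rw [← Scheme.Hom.resLE_eq_morphismRestrict, Scheme.Hom.appTop, Scheme.Hom.resLE_app_top,
      Scheme.Hom.appLE_eq_app]
  intro x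
  obtain ⟨n, y', hy'⟩ := hrad ((π ⁻¹ᵁ U).topIso.inv x)
  refine ⟨n, U.topIso.hom y', ?_⟩
  apply (ConcreteCategory.bijective_of_isIso (π ⁻¹ᵁ U).topIso.inv).1
  rw [map_pow, ← hy', key]
  rfl

/-! ### restriction maps -/

section Res

omit [Fact p.Prime]

variable {X XP : Scheme.{u}} (π : XP ⟶ X)

/-- restriction on `X` -/
noncomputable def rX {V W : X.Opens} (h : V ≤ W) : Γ(X, W) →+* Γ(X, V) :=
  (X.presheaf.map (homOfLE h).op).hom

/-- restriction on `XP` between preimages -/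
noncomputable def rP {V W : X.Opens} (h : V ≤ W) : Γ(XP, π ⁻¹ᵁ W) →+* Γ(XP, π ⁻¹ᵁ V) :=
  (XP.presheaf.map ((Opens.map π.base).map (homOfLE h)).op).hom

theorem rX_rX {U V W : X.Opens} (h₁ : U ≤ V) (h₂ : V ≤ W) (y : Γ(X, W)) :
    rX h₁ (rX h₂ y) = rX (h₁.trans h₂) y := by
  show (X.presheaf.map (homOfLE h₂).op ≫ X.presheaf.map (homOfLE h₁).op).hom y = _
  rw [← Functor.map_comp]
  rfl

theorem rP_rP {U V W : X.Opens} (h₁ : U ≤ V) (h₂ : V ≤ W) (y : Γ(XP, π ⁻¹ᵁ W)) :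
    rP π h₁ (rP π h₂ y) = rP π (h₁.trans h₂) y := by
  show (XP.presheaf.map ((Opens.map π.base).map (homOfLE h₂)).op ≫
    XP.presheaf.map ((Opens.map π.base).map (homOfLE h₁)).op).hom y = _
  rw [← Functor.map_comp]
  rfl

theorem app_rX {V W : X.Opens} (h : V ≤ W) (y : Γ(X, W)) :
    π.app V (rX h y) = rP π h (π.app W y) :=
  congrArg (fun φ => φ.hom y) (π.naturality (homOfLE h).op)

end Res

theorem sub_pow_pn {R : Type*} [CommRing R] (hp : (p : R) = 0) (N : ℕ) (a b : R) :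
    (a - b) ^ p ^ N = a ^ p ^ N - b ^ p ^ N := by
  rcases subsingleton_or_nontrivial R with h | h
  · exact Subsingleton.elim _ _
  · haveI : CharP R p := (CharP.charP_iff_prime_eq_zero Fact.out).2 hp
    exact sub_pow_char_pow a b N

/-- a section killed by a surjective morphism is nilpotent on compact opens -/
theorem isNilpotent_of_app_eq_zero {X XP : Scheme.{u}} (π : XP ⟶ X) [Surjective π]
    {W : X.Opens} (hW : IsCompact (W : Set X)) (d : Γ(X, W)) (hd : π.app W d = 0) :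
    IsNilpotent d := by
  rw [Scheme.isNilpotent_iff_basicOpen_eq_bot_of_isCompact hW]
  have h1 : π ⁻¹ᵁ X.basicOpen d = ⊥ := by
    rw [Scheme.preimage_basicOpen, hd, Scheme.basicOpen_zero]
  rw [eq_bot_iff]
  intro y hy
  obtain ⟨y', rfl⟩ := π.surjective y
  have h2 : y' ∈ π ⁻¹ᵁ X.basicOpen d := hy
  rw [h1] at h2
  exact absurd h2 (by simp)

/-- global form of the `p`-radical property over compact opens of a quasi-separated scheme -/
theorem global_prad {X XP : Scheme.{u}} [IsCharP X p] [IsCharP XP p] (π : XP ⟶ X)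
    [Surjective π] [QuasiSeparatedSpace X]
    (hloc : ∀ U : X.affineOpens, ∀ x : Γ(XP, π ⁻¹ᵁ U.1),
      ∃ (n : ℕ) (y : Γ(X, U.1)), π.app U.1 y = x ^ p ^ n)
    (S : X.Opens) (hS : IsCompact (S : Set X)) :
    ∀ x : Γ(XP, π ⁻¹ᵁ S), ∃ (n : ℕ) (y : Γ(X, S)), π.app S y = x ^ p ^ n := by
  refine compact_open_induction_on (P := fun S => ∀ x : Γ(XP, π ⁻¹ᵁ S),
    ∃ (n : ℕ) (y : Γ(X, S)), π.app S y = x ^ p ^ n) S hS ?_ ?_
  · intro x
    haveI : Subsingleton Γ(XP, π ⁻¹ᵁ ⊥) := inferInstanceAs (Subsingleton Γ(XP, ⊥))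
    exact ⟨0, 0, Subsingleton.elim _ _⟩
  · intro S hS U ih x
    have hSle : S ≤ S ⊔ U.1 := le_sup_left
    have hUle : U.1 ≤ S ⊔ U.1 := le_sup_right
    have hWS : S ⊓ U.1 ≤ S := inf_le_left
    have hWU : S ⊓ U.1 ≤ U.1 := inf_le_right
    obtain ⟨n₁, y₁, hy₁⟩ := ih (rP π hSle x)
    obtain ⟨n₂, y₂, hy₂⟩ := hloc U (rP π hUle x)
    have hz₁ : π.app S (y₁ ^ p ^ n₂) = (rP π hSle x) ^ p ^ (n₁ + n₂) := by
      rw [map_pow, hy₁, ← pow_mul, ← pow_add]
    have hz₂ : π.app U.1 (y₂ ^ p ^ n₁) = (rP π hUle x) ^ p ^ (n₁ + n₂) := by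
      rw [map_pow, hy₂, ← pow_mul, ← pow_add, add_comm]
    have hWc : IsCompact ((S ⊓ U.1 : X.Opens) : Set X) :=
      QuasiSeparatedSpace.inter_isCompact _ _ S.isOpen hS U.1.isOpen U.2.isCompact
    have hd : π.app (S ⊓ U.1) (rX hWS (y₁ ^ p ^ n₂) - rX hWU (y₂ ^ p ^ n₁)) = 0 := by
      rw [map_sub, app_rX π hWS, app_rX π hWU, hz₁, hz₂, map_pow, map_pow, rP_rP, rP_rP,
        sub_self]
    obtain ⟨k, hk⟩ := isNilpotent_of_app_eq_zero π hWc _ hd
    have hk' : (rX hWS (y₁ ^ p ^ n₂) - rX hWU (y₂ ^ p ^ n₁)) ^ p ^ k = 0 :=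
      pow_eq_zero_of_le (Nat.lt_pow_self (Fact.out : p.Prime).one_lt).le hk
    rw [sub_pow_pn p (natCast_eq_zero_app X p _), sub_eq_zero, ← map_pow, ← map_pow] at hk'
    -- glue
    let e := X.sheaf.objSupIsoProdEqLocus S U.1
    let t : ↥(RingHom.eqLocus
        (RingHom.comp (X.sheaf.obj.map (homOfLE inf_le_left : S ⊓ U.1 ⟶ S).op).hom
          (RingHom.fst (X.sheaf.obj.obj <| Opposite.op S) (X.sheaf.obj.obj <| Opposite.op U.1)))
        (RingHom.comp (X.sheaf.obj.map (homOfLE inf_le_right : S ⊓ U.1 ⟶ U.1).op).hom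
          (RingHom.snd (X.sheaf.obj.obj <| Opposite.op S)
            (X.sheaf.obj.obj <| Opposite.op U.1)))) :=
      ⟨((y₁ ^ p ^ n₂) ^ p ^ k, (y₂ ^ p ^ n₁) ^ p ^ k), hk'⟩
    have hyS : rX hSle (e.inv t) = (y₁ ^ p ^ n₂) ^ p ^ k :=
      TopCat.Sheaf.objSupIsoProdEqLocus_inv_fst X.sheaf S U.1 t
    have hyU : rX hUle (e.inv t) = (y₂ ^ p ^ n₁) ^ p ^ k :=
      TopCat.Sheaf.objSupIsoProdEqLocus_inv_snd X.sheaf S U.1 t
    refine ⟨n₁ + n₂ + k, e.inv t, ?_⟩
    refine XP.sheaf.eq_of_locally_eq₂ ((Opens.map π.base).map (homOfLE hSle))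
      ((Opens.map π.base).map (homOfLE hUle)) (le_of_eq rfl) _ _ ?_ ?_
    · show rP π hSle (π.app (S ⊔ U.1) (e.inv t)) = rP π hSle (x ^ p ^ (n₁ + n₂ + k))
      rw [← app_rX, hyS, map_pow, hz₁, map_pow, ← pow_mul, ← pow_add]
    · show rP π hUle (π.app (S ⊔ U.1) (e.inv t)) = rP π hUle (x ^ p ^ (n₁ + n₂ + k))
      rw [← app_rX, hyU, map_pow, hz₂, map_pow, ← pow_mul, ← pow_add]

/-- if the perfection of a quasi-separated scheme is affine then so is the scheme -/
theorem isAffine_of_perfection {X XP : Scheme.{u}} [IsCharP X p] [IsCharP XP p] (π : XP ⟶ X)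
    (hπ : IsPerfection π p) [IsAffine XP] [QuasiSeparatedSpace X] : IsAffine X := by
  obtain ⟨hint, hui, hsurj⟩ := perfection_props p π hπ
  haveI := hsurj
  haveI : CompactSpace X := ⟨by
    have h0 := (isCompact_univ (X := XP)).image π.continuous
    rwa [Set.image_univ, Set.range_eq_univ.mpr π.surjective] at h0⟩
  have hloc : ∀ U : X.affineOpens, ∀ x : Γ(XP, π ⁻¹ᵁ U.1),
      ∃ (n : ℕ) (y : Γ(X, U.1)), π.app U.1 y = x ^ p ^ n :=
    fun U => (affineOpen_perfection p π hπ U.1 U.2).2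
  have hglob : ∀ x : Γ(XP, ⊤), ∃ (n : ℕ) (y : Γ(X, ⊤)), π.appTop y = x ^ p ^ n :=
    global_prad p π hloc ⊤ isCompact_univ
  have hker : ∀ y : Γ(X, ⊤), π.appTop y = 0 → IsNilpotent y :=
    fun y hy => isNilpotent_of_app_eq_zero π (W := ⊤) isCompact_univ y hy
  have huh : UHRing.UH π.appTop.hom :=
    uh_of_prad p _ IsCharP.natCast_eq_zero hglob (fun y hy => mem_nilradical.mpr (hker y hy))
  have hS : Surjective (Spec.map π.appTop) := by
    have h1 := (UHRing.isUnivHomeo_SpecMap_iff π.appTop.hom).mpr huh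
    exact ((UHRing.isUnivHomeo_iff _).mp h1).2.2
  have hcover : ∀ x : X, ∃ a : Γ(X, ⊤), IsAffineOpen (X.basicOpen a) ∧ x ∈ X.basicOpen a := by
    intro x
    obtain ⟨x', rfl⟩ := π.surjective x
    obtain ⟨U, hU, hxU, -⟩ := exists_isAffineOpen_mem_and_subset (x := π x') (U := ⊤) trivial
    obtain ⟨g, hgle, hxg⟩ := (isAffineOpen_top XP).exists_basicOpen_le (V := π ⁻¹ᵁ U)
      ⟨x', hxU⟩ trivial
    obtain ⟨N, a, ha⟩ := hglob g
    have hpre : π ⁻¹ᵁ X.basicOpen a = XP.basicOpen g := by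
      rw [Scheme.preimage_basicOpen_top, ha]
      exact Scheme.basicOpen_pow XP g (pow_pos (Fact.out : p.Prime).pos N)
    have hle : X.basicOpen a ≤ U := by
      intro y hy
      obtain ⟨y', rfl⟩ := π.surjective y
      have h2 : y' ∈ π ⁻¹ᵁ X.basicOpen a := hy
      rw [hpre] at h2
      exact hgle h2
    refine ⟨a, ?_, ?_⟩
    · have h2 : X.basicOpen (X.presheaf.map (homOfLE (le_top : U ≤ ⊤)).op a) =
          X.basicOpen a := by
        rw [Scheme.basicOpen_res]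
        exact inf_eq_right.mpr hle
      rw [← h2]
      exact hU.basicOpen _
    · have h2 : x' ∈ π ⁻¹ᵁ X.basicOpen a := by
        rw [hpre]
        exact hxg
      exact h2
  apply isAffine_of_isAffineOpen_basicOpen {a : Γ(X, ⊤) | IsAffineOpen (X.basicOpen a)} ?_
    (fun a ha => ha)
  by_contra hne
  obtain ⟨m, hm, hle⟩ := Ideal.exists_le_maximal _ hne
  obtain ⟨q, hq⟩ := hS.surj (show PrimeSpectrum Γ(X, ⊤) from ⟨m, hm.isPrime⟩)
  obtain ⟨x', rfl⟩ := XP.toSpecΓ.surjective q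
  have hz : X.toSpecΓ (π x') = (show PrimeSpectrum Γ(X, ⊤) from ⟨m, hm.isPrime⟩) := by
    have h5 := congrArg (fun f : XP ⟶ Spec Γ(X, ⊤) => f x') (Scheme.toSpecΓ_naturality π)
    simp only [Scheme.Hom.comp_apply] at h5
    rw [h5]
    exact hq
  obtain ⟨a, has, hxa⟩ := hcover (π x')
  have h3 : π x' ∈ X.toSpecΓ ⁻¹ᵁ PrimeSpectrum.basicOpen a := by
    rw [Scheme.toSpecΓ_preimage_basicOpen]
    exact hxa
  have h4 : X.toSpecΓ (π x') ∈ PrimeSpectrum.basicOpen a := h3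
  rw [hz] at h4
  exact h4 (hle (Ideal.subset_span has))

section Square

variable {X Y XP YP : Scheme.{u}} [IsCharP X p] [IsCharP Y p] [IsCharP XP p] [IsCharP YP p]
  (πX : XP ⟶ X) (πY : YP ⟶ Y) (hX : IsPerfection πX p) (hY : IsPerfection πY p)
  (f : X ⟶ Y) (fP : XP ⟶ YP) (w : fP ≫ πY = πX ≫ f)

include hX hY w

theorem isAffineHom_of_affineTarget [IsAffine Y] [IsAffineHom fP] : IsAffineHom f := by
  obtain ⟨hYPaff, -⟩ := affine_perfection p πY hY
  haveI := hYPaff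
  haveI : IsAffine XP := isAffine_of_isAffineHom fP
  obtain ⟨hX1, hX2, hX3⟩ := perfection_props p πX hX
  obtain ⟨hY1, hY2, hY3⟩ := perfection_props p πY hY
  haveI : QuasiSeparated f := (qs_iff πX πY f fP w).mpr inferInstance
  haveI : QuasiSeparatedSpace X := quasiSeparatedSpace_of_quasiSeparated f
  haveI : IsAffine X := isAffine_of_perfection p πX hX
  exact (HasAffineProperty.iff_of_isAffine (P := @IsAffineHom)).mpr ‹_›

theorem isAffineHom_perf_iff : IsAffineHom f ↔ IsAffineHom fP := by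
  constructor
  · intro h
    obtain ⟨hX1, -, -⟩ := perfection_props p πX hX
    obtain ⟨hY1, -, -⟩ := perfection_props p πY hY
    haveI : IsAffineHom (fP ≫ πY) := by rw [w]; infer_instance
    exact IsAffineHom.of_comp fP πY
  · intro h
    rw [IsZariskiLocalAtTarget.iff_of_openCover (P := @IsAffineHom) Y.affineCover]
    intro i
    show IsAffineHom (pullback.snd f (Y.affineCover.f i))
    haveI : IsCharP (Y.affineCover.X i) p := IsCharP.of_hom (Y.affineCover.f i) p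
    haveI : IsCharP (pullback πY (Y.affineCover.f i)) p :=
      IsCharP.of_hom (pullback.fst πY (Y.affineCover.f i)) p
    haveI : IsCharP (pullback f (Y.affineCover.f i)) p :=
      IsCharP.of_hom (pullback.fst f (Y.affineCover.f i)) p
    haveI : IsCharP (pullback fP (pullback.fst πY (Y.affineCover.f i))) p :=
      IsCharP.of_hom (pullback.fst fP (pullback.fst πY (Y.affineCover.f i))) p
    have hV := isPerfection_pullback_snd_of_isOpenImmersion p πY hY (Y.affineCover.f i)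
    have hW := isPerfection_local p πX πY hX hY f fP w (Y.affineCover.f i)
    haveI : IsAffineHom (pullback.snd fP (pullback.fst πY (Y.affineCover.f i))) :=
      MorphismProperty.pullback_snd (P := @IsAffineHom) _ _ h
    exact isAffineHom_of_affineTarget p (localπ πX πY f fP w (Y.affineCover.f i))
      (pullback.snd πY (Y.affineCover.f i)) hW hV (pullback.snd f (Y.affineCover.f i))
      (pullback.snd fP (pullback.fst πY (Y.affineCover.f i)))
      (localπ_snd πX πY f fP w (Y.affineCover.f i)).symm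

end Square

end Groth.Agent.Lib.Helper11.PerfAff
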