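import Mathlib

/-!
# Pi0Alg: maximal étale subfield of a connected algebra over a field (helper11)
-/

set_option autoImplicit false
universe u

open TensorProduct

namespace Groth.Agent.Lib.Helper11.Pi0Alg

variable (k : Type u) [Field k]

/-- von Neumann regularity of étale algebras over fields -/
theorem exists_mul_mul_eq (A : Type u) [CommRing A] [Algebra k A] [Algebra.FormallyEtale k A]
    [Algebra.EssFiniteType k A] (x : A) : ∃ y, x * x * y = x := by
  haveI : Module.Finite k A := Algebra.FormallyUnramified.finite_of_free k A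
  haveI : IsArtinianRing A := .of_finite k A
  haveI : IsReduced A := Algebra.FormallyUnramified.isReduced_of_field k A
  let e := IsArtinianRing.equivPi A
  letI : ∀ I : MaximalSpectrum A, Field (A ⧸ I.asIdeal) := fun I => Ideal.Quotient.field I.asIdeal
  refine ⟨e.symm (fun I => (e x I)⁻¹), ?_⟩
  apply e.injective
  funext I
  rw [map_mul, map_mul, AlgEquiv.apply_symm_apply]
  show e x I * e x I * (e x I)⁻¹ = e x I
  by_cases h : e x I = 0
  · rw [h]; simp
  · rw [mul_assoc, mul_inv_cancel₀ h, mul_one]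

theorem ker_le_of_connected {A B κ : Type u} [CommRing A] [Algebra k A]
    [Algebra.FormallyEtale k A] [Algebra.EssFiniteType k A] [CommRing B]
    (hB : ∀ e : B, IsIdempotentElem e → e = 0 ∨ e = 1) [Field κ] (φ : A →+* B) (ε : B →+* κ) :
    RingHom.ker (ε.comp φ) ≤ RingHom.ker φ := by
  intro x hx
  rw [RingHom.mem_ker, RingHom.comp_apply] at hx
  obtain ⟨y, hy⟩ := exists_mul_mul_eq k A x
  have hid : IsIdempotentElem (φ (x * y)) := by
    show φ (x * y) * φ (x * y) = φ (x * y)
    rw [← map_mul]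
    congr 1
    calc x * y * (x * y) = (x * x * y) * y := by ring
      _ = x * y := by rw [hy]
  rw [RingHom.mem_ker]
  rcases hB _ hid with h | h
  · calc φ x = φ (x * x * y) := by rw [hy]
      _ = φ x * φ (x * y) := by rw [← map_mul]; congr 1; ring
      _ = 0 := by rw [h, mul_zero]
  · exfalso
    have h1 : ε (φ (x * y)) = 1 := by rw [h, map_one]
    rw [map_mul, map_mul, hx, zero_mul] at h1
    exact zero_ne_one h1

theorem ker_isMaximal {A B κ : Type u} [CommRing A] [Algebra k A]
    [Algebra.FormallyEtale k A] [Algebra.EssFiniteType k A] [CommRing B]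
    (hB : ∀ e : B, IsIdempotentElem e → e = 0 ∨ e = 1) [Field κ] (φ : A →+* B) (ε : B →+* κ) :
    (RingHom.ker φ).IsMaximal := by
  haveI : Module.Finite k A := Algebra.FormallyUnramified.finite_of_free k A
  haveI : IsArtinianRing A := .of_finite k A
  have h1 : RingHom.ker φ = RingHom.ker (ε.comp φ) := by
    apply le_antisymm
    · intro x hx
      rw [RingHom.mem_ker] at hx ⊢
      rw [RingHom.comp_apply, hx, map_zero]
    · exact ker_le_of_connected k hB φ ε
  rw [h1]
  haveI : (RingHom.ker (ε.comp φ)).IsPrime := RingHom.ker_isPrime _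
  exact IsArtinianRing.isMaximal_of_isPrime _

/-- the range of an étale algebra in a connected algebra is the range of a finite separable
field extension -/
theorem exists_field_range {A B κ : Type u} [CommRing A] [Algebra k A]
    [Algebra.FormallyEtale k A] [Algebra.EssFiniteType k A] [CommRing B] [Algebra k B]
    (hB : ∀ e : B, IsIdempotentElem e → e = 0 ∨ e = 1) [Field κ] (φ : A →ₐ[k] B) (ε : B →+* κ) :
    ∃ (K : Type u) (_ : Field K) (_ : Algebra k K) (_ : Module.Finite k K)
      (_ : Algebra.IsSeparable k K) (σ : K →ₐ[k] B), σ.range = φ.range := by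
  haveI : Module.Finite k A := Algebra.FormallyUnramified.finite_of_free k A
  haveI hmax : (RingHom.ker φ).IsMaximal := ker_isMaximal k hB φ.toRingHom ε
  letI : Field (A ⧸ RingHom.ker φ) := Ideal.Quotient.field _
  refine ⟨A ⧸ RingHom.ker φ, inferInstance, inferInstance, inferInstance, inferInstance,
    Ideal.kerLiftAlg φ, ?_⟩
  ext b
  constructor
  · rintro ⟨a, rfl⟩
    obtain ⟨a, rfl⟩ := Ideal.Quotient.mk_surjective a
    exact ⟨a, rfl⟩
  · rintro ⟨a, rfl⟩
    exact ⟨Ideal.Quotient.mk _ a, rfl⟩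

/-- the maximal étale subfield of a connected algebra -/
theorem exists_max_sep (B κ : Type u) [CommRing B] [Algebra k B]
    (hB : ∀ e : B, IsIdempotentElem e → e = 0 ∨ e = 1) [Field κ] [Algebra k κ]
    [Module.Finite k κ] (ε : B →ₐ[k] κ) :
    ∃ (L : Type u) (_ : Field L) (_ : Algebra k L) (_ : Module.Finite k L)
      (_ : Algebra.IsSeparable k L) (ψ : L →ₐ[k] B),
      ∀ (A : Type u) [CommRing A] [Algebra k A] [Algebra.FormallyEtale k A]
        [Algebra.EssFiniteType k A] (σ : A →ₐ[k] B), ∃ τ : A →ₐ[k] L, ψ.comp τ = σ := by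
  classical
  haveI : Nontrivial B := ε.toRingHom.domain_nontrivial
  let S : Set (Subalgebra k B) := {E | ∃ (K : Type u) (_ : Field K) (_ : Algebra k K)
    (_ : Module.Finite k K) (_ : Algebra.IsSeparable k K) (σ : K →ₐ[k] B), σ.range = E}
  have hbound : ∀ E ∈ S, Module.Finite k E ∧ Module.finrank k E ≤ Module.finrank k κ := by
    rintro E ⟨K, _, _, _, _, σ, rfl⟩
    have hinj : Function.Injective σ := σ.toRingHom.injective
    let e := AlgEquiv.ofInjective σ hinj
    haveI : Module.Finite k σ.range := Module.Finite.equiv e.toLinearEquiv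
    refine ⟨inferInstance, ?_⟩
    rw [← e.toLinearEquiv.finrank_eq]
    exact LinearMap.finrank_le_finrank_of_injective (f := (ε.comp σ).toLinearMap)
      (ε.comp σ).toRingHom.injective
  let P : ℕ → Prop := fun n => ∃ E ∈ S, Module.finrank k E = n
  have hE1 : (Algebra.ofId k B).range ∈ S :=
    ⟨k, inferInstance, inferInstance, inferInstance, inferInstance, Algebra.ofId k B, rfl⟩
  obtain ⟨E₀, hE₀S, hE₀⟩ : P (Nat.findGreatest P (Module.finrank k κ)) :=
    Nat.findGreatest_spec (hbound _ hE1).2 ⟨_, hE1, rfl⟩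
  have hmaxi : ∀ E ∈ S, Module.finrank k E ≤ Module.finrank k E₀ := by
    intro E hE
    rw [hE₀]
    exact Nat.le_findGreatest (hbound E hE).2 ⟨E, hE, rfl⟩
  obtain ⟨K₀, hK₀f, hK₀a, hK₀m, hK₀s, σ₀, hσ₀⟩ := hE₀S
  refine ⟨K₀, hK₀f, hK₀a, hK₀m, hK₀s, σ₀, ?_⟩
  intro A _ _ _ _ σ
  have hinj₀ : Function.Injective σ₀ := σ₀.toRingHom.injective
  have hle : σ.range ≤ σ₀.range := by
    haveI : Module.Finite k A := Algebra.FormallyUnramified.finite_of_free k A
    haveI : Algebra.FormallyEtale k K₀ := Algebra.FormallyEtale.of_isSeparable k K₀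
    haveI : Algebra.FormallyEtale A (A ⊗[k] K₀) := inferInstance
    haveI : Algebra.FormallyEtale k (A ⊗[k] K₀) := Algebra.FormallyEtale.comp k A (A ⊗[k] K₀)
    haveI : Module.Finite k (A ⊗[k] K₀) := inferInstance
    haveI : Algebra.EssFiniteType k (A ⊗[k] K₀) := inferInstance
    obtain ⟨K₁, hK₁f, hK₁a, hK₁m, hK₁s, σ₁, hσ₁⟩ :=
      exists_field_range k hB (Algebra.TensorProduct.productMap σ σ₀) ε.toRingHom
    rw [Algebra.TensorProduct.productMap_range] at hσ₁
    have hS1 : σ.range ⊔ σ₀.range ∈ S := ⟨K₁, hK₁f, hK₁a, hK₁m, hK₁s, σ₁, hσ₁⟩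
    have h1 := hmaxi _ hS1
    rw [← hσ₀] at h1
    haveI : Module.Finite k ↥(σ.range ⊔ σ₀.range) := (hbound _ hS1).1
    have h2 : Subalgebra.toSubmodule σ₀.range = Subalgebra.toSubmodule (σ.range ⊔ σ₀.range) := by
      apply Submodule.eq_of_le_of_finrank_le
      · exact fun x hx => (le_sup_right : σ₀.range ≤ σ.range ⊔ σ₀.range) hx
      · exact h1
    have h3 : σ₀.range = σ.range ⊔ σ₀.range := Subalgebra.toSubmodule_injective h2
    rw [h3]
    exact le_sup_left
  let e := AlgEquiv.ofInjective σ₀ hinj₀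
  refine ⟨e.symm.toAlgHom.comp (σ.codRestrict σ₀.range (fun a => hle ⟨a, rfl⟩)), ?_⟩
  ext a
  show σ₀ (e.symm (σ.codRestrict σ₀.range (fun a => hle ⟨a, rfl⟩) a)) = σ a
  have h4 := congrArg Subtype.val
    (e.apply_symm_apply (σ.codRestrict σ₀.range (fun a => hle ⟨a, rfl⟩) a))
  rw [AlgEquiv.ofInjective_apply] at h4
  exact h4

end Groth.Agent.Lib.Helper11.Pi0Alg
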