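import Mathlib

/-!
# Algebra behind "geometrically connected ↔ global sections local with purely inseparable
residue field" (helper11)
-/

set_option autoImplicit false
universe u

open TensorProduct Polynomial

namespace Groth.Agent.Lib.Helper11.SteinAlg

section A1

variable {K : Type*} [Field K] {A : Type*} [CommRing A] [Algebra K A]

lemma eq_zero_or_eq_zero_of_comax (hidem : ∀ e : A, IsIdempotentElem e → e = 0 ∨ e = 1)
    {x y r s : A} (hxy : x * y = 0) (h1 : r * x + s * y = 1) : x = 0 ∨ y = 0 := by
  have hrx : r * x = 1 - s * y := by rw [← h1]; ring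
  have he : IsIdempotentElem (r * x) := by
    unfold IsIdempotentElem
    calc r * x * (r * x) = r * x * (1 - s * y) := by rw [← hrx]
      _ = r * x - r * s * (x * y) := by ring
      _ = r * x := by rw [hxy]; ring
  rcases hidem _ he with h0 | h1'
  · left
    have hsy : s * y = 1 := by
      have := hrx
      rw [h0] at this
      exact (sub_eq_zero.mp this.symm).symm
    calc x = x * (s * y) := by rw [hsy, mul_one]
      _ = s * (x * y) := by ring
      _ = 0 := by rw [hxy, mul_zero]
  · right
    calc y = y * (r * x) := by rw [h1', mul_one]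
      _ = r * (x * y) := by ring
      _ = 0 := by rw [hxy, mul_zero]

theorem exists_sub_nilpotent [IsAlgClosed K] [Nontrivial A]
    (hidem : ∀ e : A, IsIdempotentElem e → e = 0 ∨ e = 1) (b : A) (hb : IsIntegral K b) :
    ∃ α : K, IsNilpotent (b - algebraMap K A α) := by
  have key : ∀ n : ℕ, ∀ P : K[X], P.natDegree = n → P ≠ 0 → aeval b P = 0 →
      ∃ α : K, IsNilpotent (b - algebraMap K A α) := by
    intro n
    induction n using Nat.strong_induction_on with
    | _ n ih =>
      intro P hn hP0 hPb
      by_cases hdeg : P.degree = 0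
      · exfalso
        rw [eq_C_of_degree_eq_zero hdeg] at hPb hP0
        rw [aeval_C] at hPb
        have : P.coeff 0 = 0 := (algebraMap K A).injective (by rw [hPb, map_zero])
        exact hP0 (by rw [this, map_zero])
      · obtain ⟨α, hα⟩ := IsAlgClosed.exists_root P hdeg
        obtain ⟨Q, hPQ, hndvd⟩ := exists_eq_pow_rootMultiplicity_mul_and_not_dvd P hP0 α
        have hmpos : 0 < P.rootMultiplicity α := (rootMultiplicity_pos hP0).mpr hα
        generalize P.rootMultiplicity α = m at hPQ hmpos
        have hQ0 : Q ≠ 0 := by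
          rintro rfl
          rw [mul_zero] at hPQ
          exact hP0 hPQ
        have hcop : IsCoprime ((X - C α) ^ m) Q :=
          ((irreducible_X_sub_C α).coprime_iff_not_dvd.mpr hndvd).pow_left
        obtain ⟨r, s, hrs⟩ := hcop
        have h1 : aeval b r * (b - algebraMap K A α) ^ m + aeval b s * aeval b Q = 1 := by
          have := congrArg (aeval b) hrs
          simpa using this
        have h0 : (b - algebraMap K A α) ^ m * aeval b Q = 0 := by
          have := congrArg (aeval b) hPQ
          rw [hPb] at this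
          simpa using this.symm
        rcases eq_zero_or_eq_zero_of_comax hidem h0 h1 with hx | hy
        · exact ⟨α, m, hx⟩
        · have hlt : Q.natDegree < n := by
            rw [← hn, hPQ, natDegree_mul (pow_ne_zero _ (X_sub_C_ne_zero α)) hQ0, natDegree_pow,
              natDegree_X_sub_C]
            omega
          exact ih _ hlt Q rfl hQ0 hy
  obtain ⟨P, hPm, hPb⟩ := hb
  exact key _ P rfl hPm.ne_zero (by rwa [aeval_def])

end A1

section A2

theorem exists_pow_mem_of_fixed (k : Type*) [Field k] (K : Type*) [Field K] [Algebra k K]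
    [Normal k K] (α : K) (hα : ∀ σ : K ≃ₐ[k] K, σ α = α) :
    ∃ (n : ℕ) (c : k), α ^ (ringExpChar k ^ n) = algebraMap k K c := by
  have hint : IsIntegral k α := Algebra.IsIntegral.isIntegral α
  have halg : IsAlgebraic k α := hint.isAlgebraic
  have hmem : α ∈ perfectClosure k K := by
    rw [mem_perfectClosure_iff_natSepDegree_eq_one]
    classical
    rw [Polynomial.natSepDegree_eq_of_splits (E := K) _ (Normal.splits ‹_› α)]
    have : ((minpoly k α).aroots K).toFinset = {α} := by
      ext β
      simp only [Multiset.mem_toFinset, Finset.mem_singleton]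
      rw [Polynomial.mem_aroots]
      constructor
      · rintro ⟨-, hβ⟩
        obtain ⟨σ, hσ⟩ := minpoly.exists_algEquiv_of_root' halg hβ
        rw [← hσ, hα σ]
      · rintro rfl
        exact ⟨minpoly.ne_zero hint, minpoly.aeval k β⟩
    rw [this, Finset.card_singleton]
  rw [mem_perfectClosure_iff] at hmem
  obtain ⟨n, c, hc⟩ := hmem
  exact ⟨n, c, hc.symm⟩

end A2

section A3

variable (k : Type u) [Field k] (R : Type u) [CommRing R] [Algebra k R]

theorem includeRight_injective' (K : Type u) [Field K] [Algebra k K] :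
    Function.Injective (Algebra.TensorProduct.includeRight : R →ₐ[k] K ⊗[k] R) :=
  Algebra.TensorProduct.includeRight_injective (algebraMap k K).injective

theorem nontrivial_tensor [Nontrivial R] (K : Type u) [Field K] [Algebra k K] :
    Nontrivial (K ⊗[k] R) :=
  (includeRight_injective' k R K).nontrivial

variable {R}

theorem exists_pow_sub_nilpotent [Nontrivial R] [Algebra.IsIntegral k R]
    (hidem : ∀ e : AlgebraicClosure k ⊗[k] R, IsIdempotentElem e → e = 0 ∨ e = 1) (a : R) :
    ∃ (n : ℕ) (c : k), IsNilpotent (a ^ (ringExpChar k ^ n) - algebraMap k R c) := by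
  have hinj := includeRight_injective' k R (AlgebraicClosure k)
  haveI : Nontrivial (AlgebraicClosure k ⊗[k] R) := nontrivial_tensor k R _
  have hb : IsIntegral (AlgebraicClosure k) ((1 : AlgebraicClosure k) ⊗ₜ[k] a) :=
    IsIntegral.tmul 1 (Algebra.IsIntegral.isIntegral a)
  obtain ⟨α, hα⟩ := exists_sub_nilpotent hidem _ hb
  have hαfix : ∀ σ : AlgebraicClosure k ≃ₐ[k] AlgebraicClosure k, σ α = α := by
    intro σ
    let σA : AlgebraicClosure k ⊗[k] R →ₐ[k] AlgebraicClosure k ⊗[k] R :=
      Algebra.TensorProduct.map (σ : AlgebraicClosure k →ₐ[k] AlgebraicClosure k) (AlgHom.id k R)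
    have h1 : IsNilpotent (σA ((1 : AlgebraicClosure k) ⊗ₜ[k] a -
        algebraMap (AlgebraicClosure k) (AlgebraicClosure k ⊗[k] R) α)) := hα.map σA
    have h2 : σA ((1 : AlgebraicClosure k) ⊗ₜ[k] a -
        algebraMap (AlgebraicClosure k) (AlgebraicClosure k ⊗[k] R) α) =
        (1 : AlgebraicClosure k) ⊗ₜ[k] a -
          algebraMap (AlgebraicClosure k) (AlgebraicClosure k ⊗[k] R) (σ α) := by
      rw [map_sub, Algebra.TensorProduct.algebraMap_apply, Algebra.TensorProduct.algebraMap_apply]
      simp [σA]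
    rw [h2] at h1
    have h3 : IsNilpotent (algebraMap (AlgebraicClosure k) (AlgebraicClosure k ⊗[k] R)
        (σ α - α)) := by
      have : algebraMap (AlgebraicClosure k) (AlgebraicClosure k ⊗[k] R) (σ α - α) =
          ((1 : AlgebraicClosure k) ⊗ₜ[k] a -
            algebraMap (AlgebraicClosure k) (AlgebraicClosure k ⊗[k] R) α) -
          ((1 : AlgebraicClosure k) ⊗ₜ[k] a -
            algebraMap (AlgebraicClosure k) (AlgebraicClosure k ⊗[k] R) (σ α)) := by
        rw [map_sub]; ring
      rw [this]
      exact (Commute.all _ _).isNilpotent_sub hα h1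
    have h4 : IsNilpotent (σ α - α) := by
      obtain ⟨m, hm⟩ := h3
      refine ⟨m, (algebraMap (AlgebraicClosure k) (AlgebraicClosure k ⊗[k] R)).injective ?_⟩
      rw [map_pow, hm, map_zero]
    exact sub_eq_zero.mp h4.eq_zero
  obtain ⟨n, c, hc⟩ := exists_pow_mem_of_fixed k (AlgebraicClosure k) α hαfix
  refine ⟨n, c, ?_⟩
  haveI : ExpChar (AlgebraicClosure k ⊗[k] R) (ringExpChar k) :=
    expChar_of_injective_algebraMap (algebraMap k (AlgebraicClosure k ⊗[k] R)).injective _
  have h5 : (Algebra.TensorProduct.includeRight : R →ₐ[k] AlgebraicClosure k ⊗[k] R)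
      (a ^ (ringExpChar k ^ n) - algebraMap k R c) =
      ((1 : AlgebraicClosure k) ⊗ₜ[k] a -
        algebraMap (AlgebraicClosure k) (AlgebraicClosure k ⊗[k] R) α) ^ (ringExpChar k ^ n) := by
    rw [sub_pow_expChar_pow,
      ← map_pow (algebraMap (AlgebraicClosure k) (AlgebraicClosure k ⊗[k] R)), hc,
      ← IsScalarTower.algebraMap_apply k (AlgebraicClosure k) (AlgebraicClosure k ⊗[k] R),
      map_sub, AlgHom.commutes, map_pow]
    rfl
  have h6 : IsNilpotent (((1 : AlgebraicClosure k) ⊗ₜ[k] a -
      algebraMap (AlgebraicClosure k) (AlgebraicClosure k ⊗[k] R) α) ^ (ringExpChar k ^ n)) :=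
    hα.pow_of_pos (pow_pos (expChar_pos k (ringExpChar k)) n).ne'
  rw [← h5] at h6
  obtain ⟨m, hm⟩ := h6
  refine ⟨m, hinj ?_⟩
  rw [map_pow, hm, map_zero]

theorem isLocalRing_and_dim_zero [Nontrivial R]
    (h : ∀ a : R, ∃ (n : ℕ) (c : k), IsNilpotent (a ^ (ringExpChar k ^ n) - algebraMap k R c)) :
    IsLocalRing R ∧ ringKrullDim R = 0 := by
  have h3 : ∀ x : R, IsNilpotent x ↔ ¬ IsUnit x := by
    intro x
    constructor
    · intro hx
      exact hx.not_isUnit
    · intro hnu
      obtain ⟨n, c, hc⟩ := h x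
      by_cases hc0 : c = 0
      · subst hc0
        rw [map_zero, sub_zero] at hc
        exact hc.of_pow
      · exfalso
        apply hnu
        have hu : IsUnit (algebraMap k R c) := (IsUnit.mk0 c hc0).map (algebraMap k R)
        have hx : x ^ (ringExpChar k ^ n) =
            algebraMap k R c + (x ^ (ringExpChar k ^ n) - algebraMap k R c) := by ring
        have : IsUnit (x ^ (ringExpChar k ^ n)) := by
          rw [hx]
          exact hc.isUnit_add_left_of_commute hu (Commute.all _ _)
        exact (isUnit_pow_iff (pow_pos (expChar_pos k (ringExpChar k)) n).ne').mp this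
  obtain ⟨h1, h2⟩ := ((Ring.krullDimLE_zero_and_isLocalRing_tfae R).out 0 2 rfl rfl).mpr h3
  exact ⟨h2, ringKrullDimZero_iff_ringKrullDim_eq_zero.mp h1⟩

theorem idem_trivial_of_pow_sub_nilpotent [Nontrivial R]
    (h : ∀ a : R, ∃ (n : ℕ) (c : k), IsNilpotent (a ^ (ringExpChar k ^ n) - algebraMap k R c))
    (K : Type u) [Field K] [Algebra k K] (e : K ⊗[k] R) (he : IsIdempotentElem e) :
    e = 0 ∨ e = 1 := by
  haveI : Nontrivial (K ⊗[k] R) := nontrivial_tensor k R K
  haveI : ExpChar (K ⊗[k] R) (ringExpChar k) :=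
    expChar_of_injective_algebraMap (algebraMap k (K ⊗[k] R)).injective _
  have hqpos : ∀ N : ℕ, ringExpChar k ^ N ≠ 0 := fun N =>
    (pow_pos (expChar_pos k (ringExpChar k)) N).ne'
  have hP : ∀ x : K ⊗[k] R, ∃ (N : ℕ) (μ : K),
      IsNilpotent (x ^ (ringExpChar k ^ N) - algebraMap K (K ⊗[k] R) μ) := by
    intro x
    induction x using TensorProduct.induction_on with
    | zero => exact ⟨0, 0, by simp⟩
    | tmul l a =>
      obtain ⟨n, c, hc⟩ := h a
      refine ⟨n, algebraMap k K c * l ^ (ringExpChar k ^ n), ?_⟩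
      have hE : (l ⊗ₜ[k] a) ^ (ringExpChar k ^ n) -
          algebraMap K (K ⊗[k] R) (algebraMap k K c * l ^ (ringExpChar k ^ n)) =
          (l ^ (ringExpChar k ^ n)) ⊗ₜ[k] (a ^ (ringExpChar k ^ n) - algebraMap k R c) := by
        rw [Algebra.TensorProduct.tmul_pow, Algebra.TensorProduct.algebraMap_apply,
          TensorProduct.tmul_sub, Algebra.algebraMap_eq_smul_one (R := k) (A := R) c,
          TensorProduct.tmul_smul, TensorProduct.smul_tmul', Algebra.smul_def]
        rfl
      rw [hE]
      obtain ⟨m, hm⟩ := hc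
      exact ⟨m, by rw [Algebra.TensorProduct.tmul_pow, hm, TensorProduct.tmul_zero]⟩
    | add x y hx hy =>
      obtain ⟨N, μ, hμ⟩ := hx
      obtain ⟨M, ν, hν⟩ := hy
      refine ⟨N + M, μ ^ (ringExpChar k ^ M) + ν ^ (ringExpChar k ^ N), ?_⟩
      have h1 : IsNilpotent (x ^ (ringExpChar k ^ (N + M)) -
          algebraMap K (K ⊗[k] R) (μ ^ (ringExpChar k ^ M))) := by
        rw [pow_add, pow_mul, map_pow, ← sub_pow_expChar_pow]
        exact hμ.pow_of_pos (hqpos M)
      have h2 : IsNilpotent (y ^ (ringExpChar k ^ (N + M)) -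
          algebraMap K (K ⊗[k] R) (ν ^ (ringExpChar k ^ N))) := by
        rw [add_comm N M, pow_add, pow_mul, map_pow, ← sub_pow_expChar_pow]
        exact hν.pow_of_pos (hqpos N)
      rw [add_pow_expChar_pow, map_add]
      have hE : x ^ (ringExpChar k ^ (N + M)) + y ^ (ringExpChar k ^ (N + M)) -
          (algebraMap K (K ⊗[k] R) (μ ^ (ringExpChar k ^ M)) +
            algebraMap K (K ⊗[k] R) (ν ^ (ringExpChar k ^ N))) =
          (x ^ (ringExpChar k ^ (N + M)) - algebraMap K (K ⊗[k] R) (μ ^ (ringExpChar k ^ M))) +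
          (y ^ (ringExpChar k ^ (N + M)) -
            algebraMap K (K ⊗[k] R) (ν ^ (ringExpChar k ^ N))) := by ring
      rw [hE]
      exact (Commute.all _ _).isNilpotent_add h1 h2
  have hidem0 : ∀ x : K ⊗[k] R, IsIdempotentElem x → IsNilpotent x → x = 0 := by
    intro x hx hn
    obtain ⟨m, hm⟩ := hn
    cases m with
    | zero =>
      rw [pow_zero] at hm
      calc x = x * 1 := (mul_one x).symm
        _ = 0 := by rw [hm, mul_zero]
    | succ m => rw [hx.pow_succ_eq m] at hm; exact hm
  obtain ⟨N, μ, hμ⟩ := hP e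
  have hepow : e ^ (ringExpChar k ^ N) = e := by
    obtain ⟨j, hj⟩ := Nat.exists_eq_succ_of_ne_zero (hqpos N)
    rw [hj]
    exact he.pow_succ_eq j
  rw [hepow] at hμ
  have hμ2 : IsNilpotent (algebraMap K (K ⊗[k] R) (μ ^ 2 - μ)) := by
    have hE : algebraMap K (K ⊗[k] R) (μ ^ 2 - μ) =
        (e - algebraMap K (K ⊗[k] R) μ) *
          ((e - algebraMap K (K ⊗[k] R) μ) - 2 * e + 1) := by
      rw [map_sub, map_pow]
      have he' : e * e = e := he
      linear_combination he'
    rw [hE]
    exact (Commute.all _ _).isNilpotent_mul_right hμ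
  have hμ3 : μ ^ 2 - μ = 0 := by
    obtain ⟨m, hm⟩ := hμ2
    have : IsNilpotent (μ ^ 2 - μ) :=
      ⟨m, (algebraMap K (K ⊗[k] R)).injective (by rw [map_pow, hm, map_zero])⟩
    exact this.eq_zero
  have hμ4 : μ = 0 ∨ μ = 1 := by
    have : μ * (μ - 1) = 0 := by rw [← hμ3]; ring
    rcases mul_eq_zero.mp this with h0 | h1
    · exact Or.inl h0
    · exact Or.inr (sub_eq_zero.mp h1)
  rcases hμ4 with h0 | h1
  · left
    rw [h0, map_zero, sub_zero] at hμ
    exact hidem0 e he hμ
  · right
    rw [h1, map_one] at hμ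
    have : IsNilpotent (1 - e) := by
      have hE : (1 : K ⊗[k] R) - e = -(e - 1) := by ring
      rw [hE]
      exact hμ.neg
    have := hidem0 _ he.one_sub this
    exact (sub_eq_zero.mp this).symm

end A3

end Groth.Agent.Lib.Helper11.SteinAlg
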