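import Mathlib
import Groth.Prelude.Def_FDesc
import Groth.Agent.Lib.Helper11.FBaseLib2
import Groth.Agent.Lib.Helper7.LRSConnected
import Groth.Agent.Lib.Helper11.SteinAlg

/-!
# Global sections of a base change to a field extension; connectedness via idempotents (helper11)
-/

set_option autoImplicit false
universe u

open CategoryTheory CategoryTheory.Limits AlgebraicGeometry TensorProduct Opposite
open Groth.Agent.Lib.Helper11.FBaseLib Groth.Agent.Lib.Helper11.FBaseLib2

namespace Groth.Agent.Lib.Helper11.SteinBridge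

variable {k : Type u} [Field k] {X : Scheme.{u}} (a : X ⟶ Spec (CommRingCat.of k))

/-- the `k`-algebra structure on global sections -/
@[reducible] noncomputable def gammaAlgebra : Algebra k Γ(X, ⊤) :=
  (a.appTop.hom.comp (Scheme.ΓSpecIso (CommRingCat.of k)).inv.hom).toAlgebra

theorem exists_ringEquiv_tensor [QuasiCompact a] [QuasiSeparated a] (K : Type u) [Field K]
    [Algebra k K] :
    letI := gammaAlgebra a
    Nonempty (Γ(FBase.bc a K, ⊤) ≃+* K ⊗[k] Γ(X, ⊤)) := by
  letI := gammaAlgebra a
  have H : IsPullback (FBase.bcπ a K) (FBase.bcStr a K) a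
      (Spec.map (CommRingCat.ofHom (algebraMap k K))) := isPullback_bc a K
  haveI : Flat (Spec.map (CommRingCat.ofHom (algebraMap k K))) := by
    rw [Flat.SpecMap_iff]
    exact RingHom.flat_algebraMap_iff.mpr inferInstance
  haveI : CompactSpace X := (quasiCompact_iff_compactSpace a).mp inferInstance
  haveI : QuasiSeparatedSpace X := quasiSeparatedSpace_of_quasiSeparated a
  have hiso := isIso_pushoutSection_of_isQuasiSeparated_of_flat_right H
    (US := ⊤) (UT := ⊤) (UX := ⊤) (UY := ⊤) (by simp) (by simp) (by simp)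
    (isAffineOpen_top _) (isAffineOpen_top _) CompactSpace.isCompact_univ isQuasiSeparated_univ
  have hpo := (isIso_pushoutSection_iff H _ _ _).mp hiso
  have hpo' : IsPushout
      ((Scheme.ΓSpecIso (CommRingCat.of k)).inv ≫ a.appTop)
      (CommRingCat.ofHom (algebraMap k K))
      ((FBase.bcπ a K).appTop)
      ((Scheme.ΓSpecIso (CommRingCat.of K)).inv ≫ (FBase.bcStr a K).appTop) := by
    refine IsPushout.of_iso hpo (Scheme.ΓSpecIso (CommRingCat.of k)) (Iso.refl _)
      (Scheme.ΓSpecIso (CommRingCat.of K)) (Iso.refl _) ?_ ?_ ?_ ?_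
    · simp [Scheme.Hom.appLE]
    · simp [Scheme.Hom.appLE, Scheme.ΓSpecIso_naturality]
    · simp [Scheme.Hom.appLE]
    · simp [Scheme.Hom.appLE]
  have hT := CommRingCat.isPushout_tensorProduct k K Γ(X, ⊤)
  exact ⟨(hpo'.flip.isoIsPushout _ _ hT).commRingCatIsoToRingEquiv⟩

theorem connectedSpace_iff_idem (Y : Scheme.{u}) :
    ConnectedSpace Y ↔ Nonempty Y ∧ ∀ e : Γ(Y, ⊤), IsIdempotentElem e → e = 0 ∨ e = 1 := by
  rw [connectedSpace_iff_univ]
  constructor
  · intro h
    haveI : ConnectedSpace Y := connectedSpace_iff_univ.mpr h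
    haveI hpc : PreconnectedSpace Y := inferInstance
    exact ⟨inferInstance, fun e he =>
      @Groth.Agent.Lib.Helper7.idem_of_preconnected Y.toLocallyRingedSpace hpc e he⟩
  · rintro ⟨hne, h⟩
    haveI : PreconnectedSpace Y :=
      Groth.Agent.Lib.Helper7.preconnected_of_idem Y.toLocallyRingedSpace h
    haveI : ConnectedSpace Y := ⟨hne⟩
    exact connectedSpace_iff_univ.mp inferInstance

theorem idem_transfer {A B : Type*} [CommRing A] [CommRing B] (e : A ≃+* B)
    (h : ∀ x : B, IsIdempotentElem x → x = 0 ∨ x = 1) (x : A) (hx : IsIdempotentElem x) :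
    x = 0 ∨ x = 1 := by
  have hx' : IsIdempotentElem (e x) := hx.map e
  rcases h _ hx' with h0 | h1
  · left
    exact e.injective (by rw [h0, map_zero])
  · right
    exact e.injective (by rw [h1, map_one])

end Groth.Agent.Lib.Helper11.SteinBridge
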