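import Mathlib
import Groth.Agent.Lib.Helper11.Pi0Alg
import Groth.Agent.Lib.Helper11.SteinBridge
import Groth.Agent.Lib.Helper11.ArtC

/-!
# Pi0Sch: the scheme of connected components of a locally finite type scheme over a field (helper11)
-/

set_option autoImplicit false
universe u

open CategoryTheory CategoryTheory.Limits AlgebraicGeometry Topology

namespace Groth.Agent.Lib.Helper11.Pi0Sch

theorem locallyQuasiFinite_of_etale {X Y : Scheme.{u}} (f : X ⟶ Y) [Etale f] :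
    LocallyQuasiFinite f := by
  rw [HasRingHomProperty.iff_appLE (P := @LocallyQuasiFinite)]
  intro U V e
  have h := Etale.etale_appLE (f := f) U.2 V.2 e
  algebraize [(f.appLE U V e).hom]
  have : Algebra.Etale Γ(Y, U) Γ(X, V) := h
  show (algebraMap Γ(Y, U) Γ(X, V)).QuasiFinite
  rw [RingHom.quasiFinite_algebraMap]
  infer_instance

variable {k : Type u} [Field k]

theorem toSpecΓ_map_eq {T : Scheme.{u}} (t : T ⟶ Spec (CommRingCat.of k)) :
    T.toSpecΓ ≫ Spec.map ((Scheme.ΓSpecIso (CommRingCat.of k)).inv ≫ t.appTop) = t := by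
  rw [Spec.map_comp, ← Category.assoc, ← Scheme.toSpecΓ_naturality, Category.assoc,
    toSpecΓ_SpecMap_ΓSpecIso_inv, Category.comp_id]

/-- the `k`-algebra structure on the global sections of a `k`-scheme -/
noncomputable abbrev algOf {T : Scheme.{u}} (t : T ⟶ Spec (CommRingCat.of k)) :
    Algebra k Γ(T, ⊤) :=
  ((Scheme.ΓSpecIso (CommRingCat.of k)).inv ≫ t.appTop).hom.toAlgebra

theorem exists_eval_finite (C : Scheme.{u}) (c : C ⟶ Spec (CommRingCat.of k))
    [LocallyOfFiniteType c] [Nonempty C] :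
    letI := algOf c
    ∃ (κ : Type u) (_ : Field κ) (_ : Algebra k κ) (_ : Module.Finite k κ),
      Nonempty (Γ(C, ⊤) →ₐ[k] κ) := by
  letI := algOf c
  obtain ⟨x⟩ := ‹Nonempty C›
  obtain ⟨V, hV, hxV, -⟩ := exists_isAffineOpen_mem_and_subset (x := x) (U := ⊤) trivial
  obtain ⟨m, hm, -⟩ := Ideal.exists_le_maximal (hV.primeIdealOf ⟨x, hxV⟩).asIdeal
    (hV.primeIdealOf ⟨x, hxV⟩).isPrime.ne_top
  letI : Field (Γ(C, V) ⧸ m) := Ideal.Quotient.field m
  let ρ : Γ(C, ⊤) →+* (Γ(C, V) ⧸ m) :=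
    (Ideal.Quotient.mk m).comp (C.presheaf.map (homOfLE le_top).op).hom
  letI algκ : Algebra k (Γ(C, V) ⧸ m) := (ρ.comp (algebraMap k Γ(C, ⊤))).toAlgebra
  have hft : Algebra.FiniteType k (Γ(C, V) ⧸ m) := by
    have h1 : RingHom.FiniteType (c.appLE ⊤ V (by simp)).hom :=
      HasRingHomProperty.appLE (P := @LocallyOfFiniteType) c inferInstance
        ⟨⊤, isAffineOpen_top _⟩ ⟨V, hV⟩ _
    have h2 : RingHom.FiniteType (Ideal.Quotient.mk m) :=
      RingHom.FiniteType.of_surjective _ Ideal.Quotient.mk_surjective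
    have h3 : RingHom.FiniteType (Scheme.ΓSpecIso (CommRingCat.of k)).inv.hom :=
      RingHom.FiniteType.of_surjective _
        (Scheme.ΓSpecIso (CommRingCat.of k)).symm.commRingCatIsoToRingEquiv.surjective
    have h4 : RingHom.FiniteType (ρ.comp (algebraMap k Γ(C, ⊤))) := (h2.comp h1).comp h3
    exact h4
  haveI := hft
  haveI : Module.Finite k (Γ(C, V) ⧸ m) := finite_of_finite_type_of_isJacobsonRing k _
  exact ⟨Γ(C, V) ⧸ m, inferInstance, algκ, inferInstance, ⟨{ ρ with commutes' := fun r => rfl }⟩⟩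

theorem etale_specMap_of_isSeparable (L : Type u) [Field L] [Algebra k L] [Module.Finite k L]
    [Algebra.IsSeparable k L] : Etale (Spec.map (CommRingCat.ofHom (algebraMap k L))) := by
  rw [HasRingHomProperty.Spec_iff (P := @Etale)]
  show (algebraMap k L).Etale
  rw [RingHom.etale_algebraMap]
  haveI := Algebra.FormallyEtale.of_isSeparable k L
  haveI : Algebra.FinitePresentation k L := Algebra.FinitePresentation.of_finiteType.mp inferInstance
  exact {}

theorem exists_pi0_connected (C : Scheme.{u}) (c : C ⟶ Spec (CommRingCat.of k))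
    [LocallyOfFiniteType c] [ConnectedSpace C] :
    ∃ (L : Type u) (_ : Field L) (_ : Algebra k L) (qC : C ⟶ Spec (CommRingCat.of L)),
      Etale (Spec.map (CommRingCat.ofHom (algebraMap k L))) ∧
      qC ≫ Spec.map (CommRingCat.ofHom (algebraMap k L)) = c ∧
      ∀ (Y : Scheme.{u}) (gY : Y ⟶ Spec (CommRingCat.of k)) (h : C ⟶ Y), Etale gY →
        h ≫ gY = c →
        ∃! t : Spec (CommRingCat.of L) ⟶ Y,
          t ≫ gY = Spec.map (CommRingCat.ofHom (algebraMap k L)) ∧ qC ≫ t = h := by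
  letI algB : Algebra k Γ(C, ⊤) := algOf c
  have halgB : algebraMap k Γ(C, ⊤) =
      ((Scheme.ΓSpecIso (CommRingCat.of k)).inv ≫ c.appTop).hom := rfl
  obtain ⟨κ, hκf, hκa, hκm, ⟨ε⟩⟩ := exists_eval_finite C c
  have hB := ((SteinBridge.connectedSpace_iff_idem C).mp inferInstance).2
  obtain ⟨L, hLf, hLa, hLm, hLs, ψ, hψ⟩ := Pi0Alg.exists_max_sep k Γ(C, ⊤) κ hB ε
  obtain ⟨qC, hqC⟩ : ∃ qC : C ⟶ Spec (CommRingCat.of L),
      qC = C.toSpecΓ ≫ Spec.map (CommRingCat.ofHom ψ.toRingHom) := ⟨_, rfl⟩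
  have hq : qC ≫ Spec.map (CommRingCat.ofHom (algebraMap k L)) = c := by
    rw [hqC, Category.assoc, ← Spec.map_comp, ← CommRingCat.ofHom_comp]
    have h1 : ψ.toRingHom.comp (algebraMap k L) = algebraMap k Γ(C, ⊤) := ψ.comp_algebraMap
    rw [h1, halgB, CommRingCat.ofHom_hom]
    exact toSpecΓ_map_eq c
  refine ⟨L, hLf, hLa, qC, etale_specMap_of_isSeparable L, hq, ?_⟩
  intro Y gY h hét hcomp
  haveI := hét
  haveI : Subsingleton ↥(Spec (CommRingCat.of L)) :=
    inferInstanceAs (Subsingleton (PrimeSpectrum L))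
  obtain ⟨x₀⟩ := (inferInstance : Nonempty C)
  -- uniqueness
  have huniq : ∀ t₁ t₂ : Spec (CommRingCat.of L) ⟶ Y,
      t₁ ≫ gY = Spec.map (CommRingCat.ofHom (algebraMap k L)) → qC ≫ t₁ = h →
      t₂ ≫ gY = Spec.map (CommRingCat.ofHom (algebraMap k L)) → qC ≫ t₂ = h → t₁ = t₂ := by
    intro t₁ t₂ h1 h1' h2 h2'
    obtain ⟨pair, hp1, hp2⟩ : ∃ pair : Spec (CommRingCat.of L) ⟶ pullback gY gY,
        pair ≫ pullback.fst gY gY = t₁ ∧ pair ≫ pullback.snd gY gY = t₂ :=
      ⟨pullback.lift t₁ t₂ (h1.trans h2.symm), pullback.lift_fst _ _ _, pullback.lift_snd _ _ _⟩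
    have e : qC ≫ pair = h ≫ pullback.diagonal gY := by
      apply pullback.hom_ext
      · rw [Category.assoc, hp1, Category.assoc, pullback.diagonal_fst, Category.comp_id, h1']
      · rw [Category.assoc, hp2, Category.assoc, pullback.diagonal_snd, Category.comp_id, h2']
    have hrange : Set.range ⇑pair ⊆ Set.range ⇑(pullback.diagonal gY) := by
      rintro _ ⟨p, rfl⟩
      have hp : p = qC x₀ := Subsingleton.elim _ _
      refine ⟨h x₀, ?_⟩
      rw [hp, ← Scheme.Hom.comp_apply, ← Scheme.Hom.comp_apply, e]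
    have hl := IsOpenImmersion.lift_fac (pullback.diagonal gY) pair hrange
    rw [← hp1, ← hp2, ← hl, Category.assoc, Category.assoc, pullback.diagonal_fst,
      pullback.diagonal_snd]
  -- existence
  haveI : LocallyQuasiFinite gY := locallyQuasiFinite_of_etale gY
  haveI : IsLocallyArtinian Y := IsLocallyArtinian.of_locallyQuasiFinite gY
  haveI : DiscreteTopology ↥Y := inferInstance
  have hconst : ∀ x : C, h x = h x₀ := by
    intro x
    have hpre : _root_.IsPreconnected (Set.range ⇑h) := isPreconnected_range h.continuous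
    exact hpre.subsingleton ⟨x, rfl⟩ ⟨x₀, rfl⟩
  obtain ⟨V, hV⟩ : ∃ V : Y.Opens, (V : Set ↥Y) = {h x₀} := ⟨⟨{h x₀}, isOpen_discrete _⟩, rfl⟩
  haveI : Subsingleton ↥(V : Scheme.{u}) := by
    have : Subsingleton ↥(V : Set ↥Y) := by rw [hV]; infer_instance
    exact this
  haveI : IsAffine (V : Scheme.{u}) := inferInstance
  have hrange : Set.range ⇑h ⊆ Set.range ⇑V.ι := by
    rw [Scheme.Opens.range_ι, hV]
    rintro _ ⟨x, rfl⟩
    exact hconst x
  obtain ⟨h', hh'⟩ : ∃ h' : C ⟶ (V : Scheme.{u}), h' ≫ V.ι = h :=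
    ⟨IsOpenImmersion.lift V.ι h hrange, IsOpenImmersion.lift_fac _ _ _⟩
  obtain ⟨v, hv⟩ : ∃ v : (V : Scheme.{u}) ⟶ Spec (CommRingCat.of k), v = V.ι ≫ gY := ⟨_, rfl⟩
  haveI : Etale v := by rw [hv]; infer_instance
  have hh'v : h' ≫ v = c := by rw [hv, ← Category.assoc, hh', hcomp]
  letI algA : Algebra k Γ((V : Scheme.{u}), ⊤) := algOf v
  have halgA : algebraMap k Γ((V : Scheme.{u}), ⊤) =
      ((Scheme.ΓSpecIso (CommRingCat.of k)).inv ≫ v.appTop).hom := rfl
  haveI : Algebra.Etale k Γ((V : Scheme.{u}), ⊤) := by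
    rw [← RingHom.etale_algebraMap, halgA]
    have h1 : v.appTop.hom.Etale := HasRingHomProperty.appTop (P := @Etale) v inferInstance
    rw [CommRingCat.hom_comp]
    exact RingHom.Etale.respectsIso.2 v.appTop.hom
      (Scheme.ΓSpecIso (CommRingCat.of k)).symm.commRingCatIsoToRingEquiv h1
  have hcomm : (Scheme.ΓSpecIso (CommRingCat.of k)).inv ≫ v.appTop ≫ h'.appTop =
      (Scheme.ΓSpecIso (CommRingCat.of k)).inv ≫ c.appTop := by
    rw [← Scheme.Hom.comp_appTop, hh'v]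
  obtain ⟨σ, hσ⟩ : ∃ σ : Γ((V : Scheme.{u}), ⊤) →ₐ[k] Γ(C, ⊤), σ.toRingHom = h'.appTop.hom := by
    refine ⟨{ h'.appTop.hom with commutes' := ?_ }, rfl⟩
    intro r
    show h'.appTop.hom (algebraMap k Γ((V : Scheme.{u}), ⊤) r) = algebraMap k Γ(C, ⊤) r
    rw [halgA, halgB, ← hcomm]
    rfl
  obtain ⟨τ, hτ⟩ := hψ Γ((V : Scheme.{u}), ⊤) σ
  have hτ' : (CommRingCat.ofHom τ.toRingHom) ≫ (CommRingCat.ofHom ψ.toRingHom) = h'.appTop := by
    rw [← CommRingCat.ofHom_comp]
    have h1 : ψ.toRingHom.comp τ.toRingHom = σ.toRingHom := by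
      rw [← hτ]; rfl
    rw [h1, hσ, CommRingCat.ofHom_hom]
  have hτalg : (CommRingCat.ofHom (algebraMap k Γ((V : Scheme.{u}), ⊤))) ≫
      (CommRingCat.ofHom τ.toRingHom) = CommRingCat.ofHom (algebraMap k L) := by
    rw [← CommRingCat.ofHom_comp]
    congr 1
    exact τ.comp_algebraMap
  have hisoV : (V : Scheme.{u}).isoSpec.inv ≫ v =
      Spec.map (CommRingCat.ofHom (algebraMap k Γ((V : Scheme.{u}), ⊤))) := by
    rw [Iso.inv_comp_eq, Scheme.isoSpec_hom, halgA, CommRingCat.ofHom_hom]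
    exact (toSpecΓ_map_eq v).symm
  refine ⟨Spec.map (CommRingCat.ofHom τ.toRingHom) ≫ (V : Scheme.{u}).isoSpec.inv ≫ V.ι,
    ⟨?_, ?_⟩, ?_⟩
  · rw [Category.assoc, Category.assoc, ← hv, hisoV, ← Spec.map_comp, hτalg]
  · rw [hqC, Category.assoc, ← Category.assoc (Spec.map _), ← Spec.map_comp, hτ',
      ← Category.assoc, ← Scheme.toSpecΓ_naturality, Category.assoc, ← Scheme.isoSpec_hom,
      Iso.hom_inv_id_assoc, hh']
  · rintro t' ⟨ht1, ht2⟩
    exact huniq _ _ ht1 ht2
      (by rw [Category.assoc, Category.assoc, ← hv, hisoV, ← Spec.map_comp, hτalg])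
      (by rw [hqC, Category.assoc, ← Category.assoc (Spec.map _), ← Spec.map_comp, hτ',
        ← Category.assoc, ← Scheme.toSpecΓ_naturality, Category.assoc, ← Scheme.isoSpec_hom,
        Iso.hom_inv_id_assoc, hh'])

theorem exists_pi0_connected' (C : Scheme.{u}) (c : C ⟶ Spec (CommRingCat.of k))
    [LocallyOfFiniteType c] [ConnectedSpace C] :
    ∃ (P : Scheme.{u}) (gP : P ⟶ Spec (CommRingCat.of k)) (qC : C ⟶ P),
      Etale gP ∧ Subsingleton ↥P ∧ Flat qC ∧ qC ≫ gP = c ∧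
      ∀ (Y : Scheme.{u}) (gY : Y ⟶ Spec (CommRingCat.of k)) (h : C ⟶ Y), Etale gY →
        h ≫ gY = c → ∃! t : P ⟶ Y, t ≫ gY = gP ∧ qC ≫ t = h := by
  obtain ⟨L, hLf, hLa, qC, h1, h2, h3⟩ := exists_pi0_connected C c
  exact ⟨Spec (CommRingCat.of L), _, qC, h1, inferInstanceAs (Subsingleton (PrimeSpectrum L)),
    inferInstance, h2, h3⟩

theorem main (X : Scheme.{u}) (f : X ⟶ Spec (CommRingCat.of k)) [LocallyOfFiniteType f] :
    ∃ (P : Scheme.{u}) (g : P ⟶ Spec (CommRingCat.of k)) (q : X ⟶ P), Etale g ∧ q ≫ g = f ∧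
      (∀ (Y : Scheme.{u}) (gY : Y ⟶ Spec (CommRingCat.of k)) (h : X ⟶ Y), Etale gY →
        h ≫ gY = f → ∃! t : P ⟶ Y, t ≫ gY = g ∧ q ≫ t = h) ∧
      Flat q ∧ Surjective q ∧
      ∀ x : ↥X, (fun x' : ↥X => q x') ⁻¹' {q x} = connectedComponent x := by
  haveI : IsLocallyNoetherian X := LocallyOfFiniteType.isLocallyNoetherian f
  haveI : LocallyConnectedSpace ↥X := ArtC.locallyConnectedSpace_of_isLocallyNoetherian X
  obtain ⟨rep, hrep⟩ : ∃ rep : _root_.ConnectedComponents ↥X → ↥X,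
      ∀ i, (_root_.ConnectedComponents.mk (rep i) : _root_.ConnectedComponents ↥X) = i :=
    ⟨Quotient.out, fun i => Quotient.out_eq i⟩
  obtain ⟨Cc, hCc⟩ : ∃ Cc : _root_.ConnectedComponents ↥X → X.Opens,
      ∀ i, ((Cc i : X.Opens) : Set ↥X) = connectedComponent (rep i) :=
    ⟨fun i => ⟨connectedComponent (rep i), isOpen_connectedComponent⟩, fun i => rfl⟩
  have hmem : ∀ x : ↥X, x ∈ Cc (_root_.ConnectedComponents.mk x) := by
    intro x
    show x ∈ ((Cc (_root_.ConnectedComponents.mk x) : X.Opens) : Set ↥X)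
    rw [hCc]
    have h1 := hrep (_root_.ConnectedComponents.mk x)
    rw [_root_.ConnectedComponents.coe_eq_coe'] at h1
    rw [← connectedComponent_eq h1]
    exact mem_connectedComponent
  have hdisj : ∀ (i j : _root_.ConnectedComponents ↥X) (x : ↥X), x ∈ Cc i → x ∈ Cc j → i = j := by
    intro i j x hi hj
    have hi' : x ∈ connectedComponent (rep i) := by rw [← hCc]; exact hi
    have hj' : x ∈ connectedComponent (rep j) := by rw [← hCc]; exact hj
    have h1 := connectedComponent_eq hi'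
    have h2 := connectedComponent_eq hj'
    have h3 : (_root_.ConnectedComponents.mk (rep i) : _root_.ConnectedComponents ↥X) =
        _root_.ConnectedComponents.mk (rep j) := by
      rw [_root_.ConnectedComponents.coe_eq_coe]; exact h1.trans h2.symm
    rw [hrep, hrep] at h3
    exact h3
  have hcov : TopologicalSpace.IsOpenCover Cc := by
    apply TopologicalSpace.IsOpenCover.mk
    rw [eq_top_iff]
    intro x _
    exact TopologicalSpace.Opens.mem_iSup.2 ⟨_, hmem x⟩
  haveI hconn : ∀ i, ConnectedSpace ↥(Cc i : Scheme.{u}) := by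
    intro i
    have h1 : _root_.IsConnected ((Cc i : X.Opens) : Set ↥X) := by
      rw [hCc]; exact isConnected_connectedComponent
    exact Subtype.connectedSpace h1
  choose Pc gP qc hét hsub hflat hqc huniv using
    fun i => exists_pi0_connected' (Cc i : Scheme.{u}) ((Cc i).ι ≫ f)
  haveI := hét
  haveI := hsub
  haveI := hflat
  let 𝒰 : X.OpenCover := X.openCoverOfIsOpenCover Cc hcov
  have hcompat : ∀ i j : _root_.ConnectedComponents ↥X,
      pullback.fst (𝒰.f i) (𝒰.f j) ≫ (qc i ≫ Sigma.ι Pc i) =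
        pullback.snd (𝒰.f i) (𝒰.f j) ≫ (qc j ≫ Sigma.ι Pc j) := by
    intro i j
    by_cases hij : i = j
    · subst hij
      have h1 : pullback.fst (𝒰.f i) (𝒰.f i) = pullback.snd (𝒰.f i) (𝒰.f i) :=
        (cancel_mono (𝒰.f i)).1 pullback.condition
      rw [h1]
    · haveI : IsEmpty ↥(pullback (𝒰.f i) (𝒰.f j)) := by
        refine ⟨fun z => hij ?_⟩
        apply hdisj i j ((Cc i).ι (pullback.fst (𝒰.f i) (𝒰.f j) z))
        · exact ((pullback.fst (𝒰.f i) (𝒰.f j) z)).2
        · have h2 : (Cc i).ι (pullback.fst (𝒰.f i) (𝒰.f j) z) =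
              (Cc j).ι (pullback.snd (𝒰.f i) (𝒰.f j) z) := by
            have h3 : (pullback.fst (𝒰.f i) (𝒰.f j) ≫ 𝒰.f i) z =
                (pullback.snd (𝒰.f i) (𝒰.f j) ≫ 𝒰.f j) z := by rw [pullback.condition]
            rw [Scheme.Hom.comp_apply, Scheme.Hom.comp_apply] at h3
            exact h3
          rw [h2]
          exact ((pullback.snd (𝒰.f i) (𝒰.f j) z)).2
      exact isInitialOfIsEmpty.hom_ext _ _
  obtain ⟨q, hq⟩ : ∃ q : X ⟶ ∐ Pc, ∀ i, (Cc i).ι ≫ q = qc i ≫ Sigma.ι Pc i :=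
    ⟨𝒰.glueMorphisms (fun i => qc i ≫ Sigma.ι Pc i) hcompat,
      fun i => 𝒰.ι_glueMorphisms _ hcompat i⟩
  refine ⟨∐ Pc, Sigma.desc gP, q, ?_, ?_, ?_, ?_, ?_, ?_⟩
  · apply IsZariskiLocalAtSource.of_openCover (P := @Etale) (sigmaOpenCover Pc)
    intro i
    show Etale (Sigma.ι Pc i ≫ Sigma.desc gP)
    rw [Sigma.ι_desc]
    infer_instance
  · apply 𝒰.hom_ext
    intro i
    show (Cc i).ι ≫ q ≫ Sigma.desc gP = (Cc i).ι ≫ f
    rw [← Category.assoc, hq, Category.assoc, Sigma.ι_desc, hqc]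
  · intro Y gY h hY hcomp
    have hex : ∀ i, ∃! t : Pc i ⟶ Y, t ≫ gY = gP i ∧ qc i ≫ t = (Cc i).ι ≫ h :=
      fun i => huniv i Y gY ((Cc i).ι ≫ h) hY (by rw [Category.assoc, hcomp])
    choose t ht htu using hex
    refine ⟨Sigma.desc t, ⟨?_, ?_⟩, ?_⟩
    · apply Sigma.hom_ext
      intro i
      rw [← Category.assoc, Sigma.ι_desc, Sigma.ι_desc, (ht i).1]
    · apply 𝒰.hom_ext
      intro i
      show (Cc i).ι ≫ q ≫ Sigma.desc t = (Cc i).ι ≫ h
      rw [← Category.assoc, hq, Category.assoc, Sigma.ι_desc, (ht i).2]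
    · rintro t' ⟨ht1, ht2⟩
      apply Sigma.hom_ext
      intro i
      rw [Sigma.ι_desc]
      apply htu i
      refine ⟨?_, ?_⟩
      · rw [Category.assoc, ht1, Sigma.ι_desc]
      · rw [← Category.assoc, ← hq, Category.assoc, ht2]
  · apply IsZariskiLocalAtSource.of_openCover (P := @Flat) 𝒰
    intro i
    show Flat ((Cc i).ι ≫ q)
    rw [hq]
    infer_instance
  · refine ⟨fun p => ?_⟩
    obtain ⟨i, p', rfl⟩ := (sigmaOpenCover Pc).exists_eq p
    obtain ⟨a⟩ := (hconn i).toNonempty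
    refine ⟨(Cc i).ι a, ?_⟩
    have h1 := congrArg (fun φ => φ a) (hq i)
    simp only [Scheme.Hom.comp_apply] at h1
    rw [h1]
    show Sigma.ι Pc i (qc i a) = Sigma.ι Pc i p'
    rw [Subsingleton.elim (qc i a) p']
  · intro x
    have hqx : ∀ (i : _root_.ConnectedComponents ↥X) (y : ↥X) (hy : y ∈ Cc i),
        q y = Sigma.ι Pc i (qc i ⟨y, hy⟩) := by
      intro i y hy
      have h1 := congrArg (fun φ => φ ⟨y, hy⟩) (hq i)
      simp only [Scheme.Hom.comp_apply] at h1
      exact h1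
    ext x'
    simp only [Set.mem_preimage, Set.mem_singleton_iff]
    constructor
    · intro hxx
      rw [hqx _ x' (hmem x'), hqx _ x (hmem x)] at hxx
      have h2 := (sigmaι_eq_iff Pc _ _ _ _).mp hxx
      have h3 : (_root_.ConnectedComponents.mk x' : _root_.ConnectedComponents ↥X) = _root_.ConnectedComponents.mk x :=
        congrArg Sigma.fst h2
      rw [_root_.ConnectedComponents.coe_eq_coe'] at h3
      exact h3
    · intro hxx
      have h3 : (_root_.ConnectedComponents.mk x' : _root_.ConnectedComponents ↥X) = _root_.ConnectedComponents.mk x :=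
        _root_.ConnectedComponents.coe_eq_coe'.mpr hxx
      have hx'mem : x' ∈ Cc (_root_.ConnectedComponents.mk x) := by rw [← h3]; exact hmem x'
      rw [hqx _ x' hx'mem, hqx _ x (hmem x)]
      congr 1
      exact Subsingleton.elim _ _

end Groth.Agent.Lib.Helper11.Pi0Sch
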