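import Mathlib

/-!
# Power torsion helper lemmas (helper11)
-/

set_option autoImplicit false
universe u v

namespace Groth.Agent.Lib.Helper11

/-- If `J` is finitely generated and for every `a ∈ J` the element `a • x` is killed by a power of `I`,
then `x` is killed by `I ^ n * J` for some `n`. -/
theorem exists_pow_mul_smul_eq_zero {R : Type u} [CommRing R] {M : Type v} [AddCommGroup M] [Module R M]
    (I J : Ideal R) (hJ : J.FG) (x : M)
    (h : ∀ a ∈ J, ∃ n : ℕ, ∀ b ∈ I ^ n, b • a • x = 0) :
    ∃ n : ℕ, ∀ b ∈ I ^ n * J, b • x = 0 := by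
  classical
  obtain ⟨s, rfl⟩ := hJ
  choose! k hk using h
  refine ⟨s.sup k, ?_⟩
  intro b hb
  refine Submodule.mul_induction_on hb ?_ ?_
  · intro c hc a ha
    have hmem : Ideal.span (s : Set R) ≤
        { carrier := {a | c • a • x = 0}
          add_mem' := fun {a b} ha hb => by
            simp only [Set.mem_setOf_eq] at ha hb ⊢
            rw [add_smul, smul_add, ha, hb, add_zero]
          zero_mem' := by simp
          smul_mem' := fun r a ha => by
            simp only [Set.mem_setOf_eq, smul_eq_mul] at ha ⊢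
            rw [mul_smul, smul_comm c r, ha, smul_zero] } := by
      rw [Ideal.span_le]
      intro a has
      have hle : k a ≤ s.sup k := Finset.le_sup has
      exact hk a (Ideal.subset_span has) c (Ideal.pow_le_pow_right hle hc)
    have := hmem ha
    rw [mul_smul]
    exact this
  · intro y z hy hz
    rw [add_smul, hy, hz, add_zero]

/-- Special case: `x` is power torsion if `a • x` is power torsion for all `a` in `I ^ n`. -/
theorem exists_pow_smul_eq_zero_of_pow {R : Type u} [CommRing R] {M : Type v} [AddCommGroup M]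
    [Module R M] (I : Ideal R) (hI : I.FG) (x : M) (n : ℕ)
    (h : ∀ a ∈ I ^ n, ∃ k : ℕ, ∀ b ∈ I ^ k, b • a • x = 0) :
    ∃ k : ℕ, ∀ b ∈ I ^ k, b • x = 0 := by
  obtain ⟨k, hk⟩ := exists_pow_mul_smul_eq_zero I (I ^ n) hI.pow x h
  refine ⟨k + n, fun b hb => hk b ?_⟩
  rwa [pow_add] at hb

end Groth.Agent.Lib.Helper11
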