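import Mathlib

/-!
# Helper11 QD1: descending morphisms along a surjective quotient map `h : U ⟶ V` with
`O_V ≅ h_* O_U`
-/

set_option autoImplicit false

namespace Groth.Agent.Lib.Helper11.QD1

open CategoryTheory CategoryTheory.Limits AlgebraicGeometry TopCat

universe u

theorem exists_desc {U V W : Scheme.{u}} (h : U ⟶ V) [IsIso h.c]
    (hs : Function.Surjective h.base)
    (vb : V.toPresheafedSpace.carrier ⟶ W.toPresheafedSpace.carrier)
    (u : U ⟶ W) (hb : u.base = h.base ≫ vb) : ∃ v : V ⟶ W, h ≫ v = u := by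
  obtain ⟨⟨⟨ub, uc⟩, uprop⟩⟩ := u
  dsimp at hb
  subst hb
  let vc : W.presheaf ⟶ vb _* V.presheaf :=
    uc ≫ (TopCat.Presheaf.pushforward _ vb).map (inv h.c)
  let v' : V.toPresheafedSpace.Hom W.toPresheafedSpace := ⟨vb, vc⟩
  have heq : PresheafedSpace.comp h.toLRSHom'.toHom v' = ⟨h.base ≫ vb, uc⟩ := by
    show PresheafedSpace.Hom.mk (h.base ≫ vb)
      (vc ≫ (TopCat.Presheaf.pushforward _ vb).map h.c) = ⟨h.base ≫ vb, uc⟩
    congr 1
    show (uc ≫ (TopCat.Presheaf.pushforward _ vb).map (inv h.c)) ≫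
      (TopCat.Presheaf.pushforward _ vb).map h.c = uc
    have hcancel : (TopCat.Presheaf.pushforward _ vb).map (inv h.c) ≫
        (TopCat.Presheaf.pushforward _ vb).map h.c = 𝟙 _ := by
      rw [← CategoryTheory.Functor.map_comp, IsIso.inv_hom_id, CategoryTheory.Functor.map_id]
    rw [Category.assoc]
    erw [hcancel, Category.comp_id]
  have hloc : ∀ y, IsLocalHom (v'.stalkMap y).hom := by
    intro y
    obtain ⟨x, rfl⟩ := hs y
    have h1 : IsLocalHom ((PresheafedSpace.comp h.toLRSHom'.toHom v').stalkMap x).hom := by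
      rw [heq]; exact uprop x
    have h2 := PresheafedSpace.stalkMap.comp (X := U.toPresheafedSpace) (Y := V.toPresheafedSpace)
      (Z := W.toPresheafedSpace) h.toLRSHom'.toHom v' x
    have h3 : IsLocalHom ((h.toLRSHom'.toHom.stalkMap x).hom.comp
        (v'.stalkMap (h.base x)).hom) := by
      rw [← CommRingCat.hom_comp, ← h2]; exact h1
    exact isLocalHom_of_comp (v'.stalkMap (h.base x)).hom (h.toLRSHom'.toHom.stalkMap x).hom
  refine ⟨⟨⟨v', hloc⟩⟩, ?_⟩
  have key : ∀ (a b : U.toPresheafedSpace.Hom W.toPresheafedSpace) (pa pb), a = b →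
      (Scheme.Hom.mk ⟨a, pa⟩ : U ⟶ W) = Scheme.Hom.mk ⟨b, pb⟩ := by
    intro a b pa pb hab; subst hab; rfl
  exact key _ _ _ _ heq

theorem epi_of_isIso_c {U V W : Scheme.{u}} (h : U ⟶ V) [IsIso h.c]
    (hs : Function.Surjective h.base) (v₁ v₂ : V ⟶ W) (h12 : h ≫ v₁ = h ≫ v₂) : v₁ = v₂ := by
  have hbase : v₁.base = v₂.base := by
    haveI : Epi h.base := (TopCat.epi_iff_surjective _).mpr hs
    rw [← cancel_epi h.base]
    have := congrArg (fun f => f.base) h12
    exact this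
  obtain ⟨⟨⟨b₁, c₁⟩, p₁⟩⟩ := v₁
  obtain ⟨⟨⟨b₂, c₂⟩, p₂⟩⟩ := v₂
  dsimp at hbase
  subst hbase
  have hc : c₁ = c₂ := by
    have e1 : PresheafedSpace.comp h.toLRSHom'.toHom ⟨b₁, c₁⟩ =
        PresheafedSpace.comp h.toLRSHom'.toHom ⟨b₁, c₂⟩ := by
      have := congrArg (fun f : U ⟶ W => f.toLRSHom'.toHom) h12
      exact this
    have e2 : c₁ ≫ (TopCat.Presheaf.pushforward _ b₁).map h.c =
        c₂ ≫ (TopCat.Presheaf.pushforward _ b₁).map h.c := by
      injection e1 with _ e3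
    haveI : IsIso ((TopCat.Presheaf.pushforward CommRingCat b₁).map h.c) := inferInstance
    exact (cancel_mono _).mp e2
  subst hc
  rfl

theorem main {U V : Scheme.{u}} (h : U ⟶ V) [Surjective h]
    [IsIso h.c] (hq : Topology.IsQuotientMap h.base) (W : Scheme.{u}) :
    (∀ v₁ v₂ : V ⟶ W, h ≫ v₁ = h ≫ v₂ → v₁ = v₂) ∧
      ∀ u : U ⟶ W, (∀ x y : U, h.base x = h.base y → u.base x = u.base y) →
        ∃ v : V ⟶ W, h ≫ v = u := by
  refine ⟨fun v₁ v₂ h12 => epi_of_isIso_c h h.surjective v₁ v₂ h12, fun u hu => ?_⟩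
  have hq' : Topology.IsQuotientMap (h.base.hom : C(U, V)) := hq
  let vbf : C(V, W) := hq'.lift u.base.hom (fun x y hxy => hu x y hxy)
  have hvbf : vbf.comp h.base.hom = u.base.hom := hq'.lift_comp _ _
  refine exists_desc h h.surjective (TopCat.ofHom vbf) u ?_
  apply TopCat.hom_ext
  exact hvbf.symm

end Groth.Agent.Lib.Helper11.QD1
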