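import Mathlib
import Groth.Prelude.Def_AlgGrp
import Groth.Agent.Lib.Helper11.GrpD
import Groth.Agent.Lib.Helper11.GrpF
import Groth.Agent.Lib.Helper11.GrpG
import Groth.Agent.Lib.Helper11.PF3
import Groth.Agent.Lib.Helper11.GrpdI

/-!
# QF1: fibres of a quotient map `G ⟶ G/H` over a field (helper11)
-/

set_option autoImplicit false
universe u

open CategoryTheory CategoryTheory.Limits MonoidalCategory CartesianMonoidalCategory MonObj GrpObj
  AlgebraicGeometry
open Groth.Agent.Lib.Helper11.GrpA Groth.Agent.Lib.Helper11.GrpD Groth.Agent.Lib.Helper11.GrpG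

namespace Groth.Agent.Lib.Helper11.QF1

section Top

theorem finite_of_isOpen_fibers {A B : Type*} [TopologicalSpace A] [CompactSpace A] (p : A → B)
    (hs : Function.Surjective p) (ho : ∀ a, IsOpen (p ⁻¹' {p a})) : Finite B := by
  obtain ⟨t, ht⟩ := isCompact_univ.elim_finite_subcover (fun a : A => p ⁻¹' {p a}) ho
    (fun a _ => Set.mem_iUnion.mpr ⟨a, rfl⟩)
  have hsub : (Set.univ : Set B) ⊆ p '' (t : Set A) := by
    intro b _
    obtain ⟨a, rfl⟩ := hs b
    obtain ⟨a', ha', h⟩ : ∃ a' ∈ t, a ∈ p ⁻¹' {p a'} := by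
      have := ht (Set.mem_univ a)
      simpa only [Set.mem_iUnion, exists_prop] using this
    exact ⟨a', ha', h.symm⟩
  exact Set.finite_univ_iff.mp ((t.finite_toSet.image p).subset hsub)

end Top

section General

variable {S : Scheme.{u}}

theorem isPullback_whiskerRight {A B : Over S} (f : A ⟶ B) (Y : Over S) :
    IsPullback (f ▷ Y).left (pullback.fst A.hom Y.hom) (pullback.fst B.hom Y.hom) f.left := by
  have hr : IsPullback (pullback.snd B.hom Y.hom) (pullback.fst B.hom Y.hom) Y.hom B.hom :=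
    (IsPullback.of_hasPullback B.hom Y.hom).flip
  have ho : IsPullback ((f ▷ Y).left ≫ pullback.snd B.hom Y.hom) (pullback.fst A.hom Y.hom)
      Y.hom (f.left ≫ B.hom) := by
    rw [Over.whiskerRight_left_snd, Over.w f]
    exact (IsPullback.of_hasPullback A.hom Y.hom).flip
  exact IsPullback.of_right ho (Over.whiskerRight_left_fst f) hr

theorem exists_preimage_whiskerRight {A B : Over S} (f : A ⟶ B) (Y : Over S) (z : ↥(B ⊗ Y).left)
    (x : A.left) (h : (fst B Y).left z = f.left x) :
    ∃ z' : ↥(A ⊗ Y).left, (f ▷ Y).left z' = z := by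
  obtain ⟨z', h1, -⟩ := PF3.exists_of_isPullback (isPullback_whiskerRight f Y) z x h
  exact ⟨z', h1⟩

/-- points of a product whose first coordinate is a section -/
theorem exists_preimage_lift_section {A B : Over S} (e : 𝟙_ (Over S) ⟶ A) (w : ↥(A ⊗ B).left)
    (pt : ↥(𝟙_ (Over S)).left) (hw : (fst A B).left w = e.left pt) :
    ∃ y : B.left, (lift (toUnit B ≫ e) (𝟙 B)).left y = w := by
  obtain ⟨z, hz1, hz2⟩ := Scheme.Pullback.exists_preimage_pullback (f := (fst A B).left)
    (g := e.left) w pt hw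
  obtain ⟨p1, hp1⟩ : ∃ p1, p1 = pullback.fst (fst A B).left e.left := ⟨_, rfl⟩
  obtain ⟨p2, hp2⟩ : ∃ p2, p2 = pullback.snd (fst A B).left e.left := ⟨_, rfl⟩
  have hcond : p1 ≫ (fst A B).left = p2 ≫ e.left := by
    rw [hp1, hp2]; exact pullback.condition
  have hq2 : (p1 ≫ (snd A B).left) ≫ (toUnit B).left = p2 := by
    have e1 : p2 ≫ e.left ≫ A.hom = p2 := by
      rw [Over.w e]; exact Category.comp_id p2
    have e4 : (p1 ≫ (snd A B).left) ≫ (toUnit B).left = p1 ≫ (A ⊗ B).hom := by
      rw [Category.assoc, Over.toUnit_left, Over.w (snd A B)]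
    have e5 : p2 ≫ e.left ≫ A.hom = p1 ≫ (A ⊗ B).hom := by
      rw [← Category.assoc, ← hcond, Category.assoc, Over.w (fst A B)]
    rw [e4, ← e5, e1]
  have hL : (p1 ≫ (snd A B).left) ≫ (lift (toUnit B ≫ e) (𝟙 B)).left = p1 := by
    refine pullback.hom_ext (f := A.hom) (g := B.hom) ?_ ?_
    · have e2 : (lift (toUnit B ≫ e) (𝟙 B)).left ≫ pullback.fst A.hom B.hom =
          (toUnit B).left ≫ e.left := by
        have := congrArg Over.Hom.left (lift_fst (toUnit B ≫ e) (𝟙 B))
        rw [Over.comp_left, Over.comp_left] at this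
        exact this
      rw [Category.assoc, e2, ← Category.assoc, hq2]
      exact hcond.symm
    · have e3 : (lift (toUnit B ≫ e) (𝟙 B)).left ≫ pullback.snd A.hom B.hom = 𝟙 _ := by
        have := congrArg Over.Hom.left (lift_snd (toUnit B ≫ e) (𝟙 B))
        rw [Over.comp_left] at this
        exact this
      rw [Category.assoc, e3, Category.comp_id]
      rfl
  refine ⟨(p1 ≫ (snd A B).left) z, ?_⟩
  rw [← Scheme.Hom.comp_apply, hL, hp1]
  exact hz1

end General

section Field

variable {k : Type u} [Field k]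
variable {G H X : Over (Spec (CommRingCat.of k))} [GrpObj G] (i : H ⟶ G) (π : G ⟶ X)
  (hpb : IsPullback (fst G H) ((G ◁ i) ≫ μ[G]) π π)

include hpb in
theorem exists_of_fiber_eq {g g' : G.left} (h : π.left g = π.left g') :
    ∃ w : ↥(G ⊗ H).left, (fst G H).left w = g ∧ ((G ◁ i) ≫ μ[G]).left w = g' :=
  PF3.exists_of_isPullback (hpb.map (Over.forget _)) g g' h

include hpb in
theorem fiber_eq_of (w : ↥(G ⊗ H).left) :
    π.left ((fst G H).left w) = π.left (((G ◁ i) ≫ μ[G]).left w) := by
  have := left_apply_congr hpb.w w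
  simpa only [Over.comp_left, Scheme.Hom.comp_apply] using this

include hpb in
/-- the fibre over the unit point is contained in the image of `H` -/
theorem mem_range_of_fiber_unit (pt : ↥(𝟙_ (Over (Spec (CommRingCat.of k)))).left) {g' : G.left}
    (h : π.left (η[G].left pt) = π.left g') : g' ∈ Set.range i.left := by
  obtain ⟨w, hw1, hw2⟩ := exists_of_fiber_eq i π hpb h
  obtain ⟨y, hy⟩ := exists_preimage_lift_section η[G] w pt hw1
  refine ⟨y, ?_⟩
  have e1 : lift (toUnit H ≫ η[G]) (𝟙 H) ≫ (G ◁ i) ≫ μ[G] = i := by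
    rw [← Category.assoc, lift_whiskerLeft, Category.id_comp, ← Hom.mul_def, ← Hom.one_def,
      _root_.one_mul]
  have := left_apply_congr e1 y
  rw [Over.comp_left, Scheme.Hom.comp_apply, hy] at this
  rw [← this, hw2]

include hpb in
theorem exists_open_subset_fiber (hopen : IsOpen (Set.range i.left))
    (pt : ↥(𝟙_ (Over (Spec (CommRingCat.of k)))).left) (he : η[G].left pt ∈ Set.range i.left)
    (g : G.left) :
    ∃ R : Set G.left, IsOpen R ∧ g ∈ R ∧ R ⊆ π.left ⁻¹' {π.left g} := by
  haveI : Subsingleton ↥(Spec (CommRingCat.of k)) :=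
    inferInstanceAs (Subsingleton (PrimeSpectrum k))
  obtain ⟨T, hT⟩ : ∃ T : Over (Spec (CommRingCat.of k)), T = Tx G g := ⟨_, rfl⟩
  obtain ⟨c, hc⟩ : ∃ c : T ⟶ G, ∀ s : ↥T.left, c.left s = g := by
    subst hT; exact ⟨cx G g, cx_left_apply G g⟩
  haveI : Nonempty ↥T.left := by subst hT; infer_instance
  obtain ⟨L, hL0⟩ : ∃ L : G ⊗ T ⟶ G, L = (lamIso T c).inv ≫ fst G T := ⟨_, rfl⟩
  have hL : L = (snd G T ≫ c) * fst G T := by
    rw [hL0]
    unfold lamIso
    exact lift_fst _ _
  refine ⟨L.left '' ((fst G T).left ⁻¹' Set.range i.left), ?_, ?_, ?_⟩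
  · have h1 : IsOpen ((fst G T).left ⁻¹' Set.range i.left) :=
      hopen.preimage (fst G T).left.continuous
    haveI : IsIso (lamIso T c).inv.left :=
      inferInstanceAs (IsIso ((Over.forget _).map (lamIso T c).inv))
    have h2 : IsOpenMap (lamIso T c).inv.left := (lamIso T c).inv.left.isOpenEmbedding.isOpenMap
    have h3 : IsOpenMap (fst G T).left := GrpF.isOpenMap_fst G T
    have hLim : L.left '' ((fst G T).left ⁻¹' Set.range i.left) =
        (fst G T).left '' ((lamIso T c).inv.left '' ((fst G T).left ⁻¹' Set.range i.left)) := by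
      rw [Set.image_image]
      apply Set.image_congr
      intro z _
      rw [hL0, Over.comp_left, Scheme.Hom.comp_apply]
    rw [hLim]
    exact h3 _ (h2 _ h1)
  · obtain ⟨s⟩ := ‹Nonempty ↥T.left›
    refine ⟨(lift (toUnit T ≫ η[G]) (𝟙 T)).left s, ?_, ?_⟩
    · have e1 : lift (toUnit T ≫ η[G]) (𝟙 T) ≫ fst G T = toUnit T ≫ η[G] := lift_fst _ _
      have h4 := left_apply_congr e1 s
      rw [Over.comp_left, Scheme.Hom.comp_apply, Over.comp_left, Scheme.Hom.comp_apply] at h4
      show (fst G T).left _ ∈ Set.range i.left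
      rw [h4]
      have h5 : (toUnit T).left s = pt :=
        Subsingleton.elim (α := ↥(Spec (CommRingCat.of k))) _ _
      rw [h5]; exact he
    · have e2 : lift (toUnit T ≫ η[G]) (𝟙 T) ≫ L = c := by
        rw [hL, MonObj.comp_mul, ← Category.assoc, lift_snd, Category.id_comp, lift_fst,
          ← Hom.one_def, _root_.mul_one]
      have h4 := left_apply_congr e2 s
      rw [Over.comp_left, Scheme.Hom.comp_apply, hc] at h4
      exact h4
  · rintro _ ⟨z, ⟨x, hx⟩, rfl⟩
    obtain ⟨z', hz'⟩ := exists_preimage_whiskerRight i T z x hx.symm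
    obtain ⟨ω, hω⟩ : ∃ ω : H ⊗ T ⟶ G ⊗ H, ω = lift (snd H T ≫ c) (fst H T) := ⟨_, rfl⟩
    have e1 : ω ≫ fst G H = snd H T ≫ c := by rw [hω]; exact lift_fst _ _
    have e2 : ω ≫ (G ◁ i) ≫ μ[G] = (i ▷ T) ≫ L := by
      rw [hω, ← Category.assoc, lift_whiskerLeft, ← Hom.mul_def, hL, MonObj.comp_mul,
        ← Category.assoc, whiskerRight_snd, whiskerRight_fst]
    have h1 := fiber_eq_of i π hpb (ω.left z')
    have h2 : (fst G H).left (ω.left z') = g := by
      have h4 := left_apply_congr e1 z'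
      rw [Over.comp_left, Scheme.Hom.comp_apply, Over.comp_left, Scheme.Hom.comp_apply, hc] at h4
      exact h4
    have h3 : ((G ◁ i) ≫ μ[G]).left (ω.left z') = L.left z := by
      have h4 := left_apply_congr e2 z'
      have e3 : ((i ▷ T) ≫ L).left z' = L.left z := by
        rw [Over.comp_left, Scheme.Hom.comp_apply, hz']
      rw [Over.comp_left, Scheme.Hom.comp_apply] at h4
      exact h4.trans e3
    rw [h2, h3] at h1
    exact h1.symm

include hpb in
theorem isOpen_fiber (hopen : IsOpen (Set.range i.left))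
    (pt : ↥(𝟙_ (Over (Spec (CommRingCat.of k)))).left) (he : η[G].left pt ∈ Set.range i.left)
    (g : G.left) : IsOpen (π.left ⁻¹' {π.left g}) := by
  rw [isOpen_iff_forall_mem_open]
  intro g' hg'
  obtain ⟨R, hR1, hR2, hR3⟩ := exists_open_subset_fiber i π hpb hopen pt he g'
  have h1 : π.left g' = π.left g := hg'
  rw [h1] at hR3
  exact ⟨R, hR3, hR1, hR2⟩

end Field

end Groth.Agent.Lib.Helper11.QF1
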