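import Mathlib
import Groth.Agent.Lib.Helper11.QFlat5

set_option autoImplicit false
universe u
open CategoryTheory CategoryTheory.Limits AlgebraicGeometry TopologicalSpace TensorProduct

namespace Groth.Agent.Lib.Helper11.QFlat

theorem descendsAlong_universally_isEmbedding_quasiCompact :
    MorphismProperty.DescendsAlong
      (MorphismProperty.universally (topologically (fun f => Topology.IsEmbedding f)) ⊓ @QuasiCompact :
        MorphismProperty Scheme.{u})
      (@Surjective ⊓ @Flat ⊓ @QuasiCompact : MorphismProperty Scheme.{u}) := by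
  refine ⟨fun {A X Y Z fst snd f g} h hf hfst => ?_⟩
  obtain ⟨⟨hsurj, hflat⟩, hqc⟩ := hf
  obtain ⟨hemb, hfstqc⟩ := hfst
  haveI : Surjective f := hsurj
  haveI : Flat f := hflat
  haveI : QuasiCompact f := hqc
  haveI : QuasiCompact fst := hfstqc
  have hgqc : QuasiCompact g :=
    (Groth.Agent.S0079.result).of_isPullback h ⟨⟨hsurj, hflat⟩, hqc⟩ hfstqc
  haveI := hgqc
  refine ⟨?_, hgqc⟩
  intro T' T i₁ i₂ g' hT'
  -- X_T = X ×_Z T
  let p₁ : pullback f i₂ ⟶ X := pullback.fst f i₂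
  let p₂ : pullback f i₂ ⟶ T := pullback.snd f i₂
  have h3 : IsPullback p₁ p₂ f i₂ := IsPullback.of_hasPullback f i₂
  let q₁ : pullback p₂ g' ⟶ pullback f i₂ := pullback.fst p₂ g'
  let q₂ : pullback p₂ g' ⟶ T' := pullback.snd p₂ g'
  have h4 : IsPullback q₁ q₂ p₂ g' := IsPullback.of_hasPullback p₂ g'
  have hc : (q₁ ≫ p₁) ≫ f = (q₂ ≫ i₁) ≫ g := by
    rw [Category.assoc, h3.w, ← Category.assoc, h4.w, Category.assoc, hT'.w, Category.assoc]
  let l : pullback p₂ g' ⟶ A := h.lift (q₁ ≫ p₁) (q₂ ≫ i₁) hc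
  have hl1 : l ≫ fst = q₁ ≫ p₁ := h.lift_fst _ _ _
  have hl2 : l ≫ snd = q₂ ≫ i₁ := h.lift_snd _ _ _
  have h5 : IsPullback (q₂ ≫ i₁) q₁ g (p₂ ≫ i₂) := h4.flip.paste_horiz hT'.flip
  have h6 : IsPullback (l ≫ snd) q₁ g (p₁ ≫ f) := by
    rw [hl2, h3.w]; exact h5
  have h7 : IsPullback l q₁ fst p₁ := IsPullback.of_right h6 hl1 h.flip
  have hq₁ : Topology.IsEmbedding q₁.base := hemb l p₁ q₁ h7.flip
  haveI : Surjective p₂ := MorphismProperty.of_isPullback (P := @Surjective) h3 inferInstance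
  haveI : Flat p₂ := MorphismProperty.of_isPullback (P := @Flat) h3 inferInstance
  haveI : QuasiCompact p₂ := MorphismProperty.of_isPullback (P := @QuasiCompact) h3 inferInstance
  haveI : QuasiCompact g' := MorphismProperty.of_isPullback (P := @QuasiCompact) hT'.flip hgqc
  exact isEmbedding_descent h4 hq₁

end Groth.Agent.Lib.Helper11.QFlat
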