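import Mathlib
import Groth.Agent.Lib.Helper11.RFP3

/-!
# RFP6: finite presentation add-on for the relative fixed point theorem (helper11).
-/

set_option autoImplicit false
universe u
open CategoryTheory AlgebraicGeometry Opposite

namespace Groth.Agent.Lib.Helper11.RFP6

open Groth.Agent.Lib.Helper11

section algebra

variable {C A : Type u} [CommRing C] [CommRing A] [Algebra C A]

/-- the coefficient ideal of a finitely generated ideal in a finite projective algebra is finitely
generated -/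
theorem coeffIdeal_fg [Module.Finite C A] [Module.Projective C A] (I : Ideal A) (hI : I.FG) :
    (RFP1.coeffIdeal (C := C) I).FG := by
  classical
  obtain ⟨n, f, g, -, -, hfg⟩ := Module.Finite.exists_comp_eq_id_of_projective C A
  obtain ⟨s, hs⟩ := hI
  let e : Fin n → A := fun i => f (Pi.single i 1)
  let l : Fin n → (A →ₗ[C] C) := fun i => (LinearMap.proj i).comp g
  have hrep : ∀ a : A, a = ∑ i, l i a • e i := by
    intro a
    have h1 : a = f (g a) := (LinearMap.congr_fun hfg a).symm
    conv_lhs => rw [h1]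
    have h2 : g a = ∑ i, (g a i) • (Pi.single i (1 : C) : Fin n → C) := by
      ext j
      simp [Finset.sum_apply, Pi.single_apply]
    conv_lhs => rw [h2]
    rw [map_sum]
    refine Finset.sum_congr rfl fun i _ => ?_
    rw [map_smul]
    rfl
  let gens : Finset C := (s ×ˢ (Finset.univ : Finset (Fin n))).image fun p => l p.2 p.1
  let J' : Ideal C := Ideal.span (gens : Set C)
  refine ⟨gens, ?_⟩
  change J' = RFP1.coeffIdeal I
  apply le_antisymm
  · refine Ideal.span_le.mpr ?_
    intro c hc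
    obtain ⟨⟨h, i⟩, hp, rfl⟩ := Finset.mem_image.mp hc
    have hh : h ∈ I := by
      rw [← hs]
      exact Ideal.subset_span (Finset.mem_product.mp hp).1
    exact Ideal.subset_span ⟨l i, h, hh, rfl⟩
  · -- the ideal of elements all of whose coefficients lie in J'
    let I' : Ideal A :=
      { carrier := {x | ∀ m : A →ₗ[C] C, m x ∈ J'}
        add_mem' := fun {x y} hx hy m => by rw [map_add]; exact J'.add_mem (hx m) (hy m)
        zero_mem' := fun m => by rw [map_zero]; exact J'.zero_mem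
        smul_mem' := fun a x hx m => by
          have := hx (m.comp (LinearMap.mulLeft C a))
          simpa using this }
    have hsI' : I ≤ I' := by
      rw [← hs]
      refine Ideal.span_le.mpr ?_
      intro h hh m
      have h1 : m h = ∑ i, l i h • m (e i) := by
        conv_lhs => rw [hrep h]
        rw [map_sum]
        refine Finset.sum_congr rfl fun i _ => ?_
        rw [map_smul]
      rw [h1]
      refine J'.sum_mem fun i _ => ?_
      rw [smul_eq_mul]
      refine J'.mul_mem_right _ ?_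
      exact Ideal.subset_span (Finset.mem_image.mpr ⟨(h, i),
        Finset.mem_product.mpr ⟨hh, Finset.mem_univ i⟩, rfl⟩)
    refine Ideal.span_le.mpr ?_
    rintro c ⟨m, h, hh, rfl⟩
    exact hsI' hh m

end algebra

/-- a closed immersion whose ideal is locally finitely generated is locally of finite presentation -/
theorem lofp_of_ker_fg {Z Y : Scheme.{u}} (i : Z ⟶ Y) [IsClosedImmersion i]
    (H : ∀ y : Y, ∃ (V : Y.Opens) (_ : IsAffineOpen V), y ∈ V ∧ (RingHom.ker (i.app V).hom).FG) :
    LocallyOfFinitePresentation i := by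
  have hQ : RingHom.StableUnderCompositionWithLocalizationAwaySource
      @RingHom.FinitePresentation :=
    (RingHom.finitePresentation_stableUnderComposition.stableUnderCompositionWithLocalizationAway
      RingHom.finitePresentation_holdsForLocalizationAway).left
  rw [HasRingHomProperty.iff_exists_appLE (P := @LocallyOfFinitePresentation) hQ]
  intro x
  obtain ⟨V, hV, hxV, hfg⟩ := H (i x)
  refine ⟨⟨V, hV⟩, ⟨i ⁻¹ᵁ V, hV.preimage i⟩, hxV, le_rfl, ?_⟩
  change (i.appLE V (i ⁻¹ᵁ V) le_rfl).hom.FinitePresentation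
  rw [← Scheme.Hom.app_eq_appLE]
  exact RingHom.FinitePresentation.of_surjective _ (RFP3.app_surjective hV) hfg

/-- the kernel of a finitely presented closed immersion is finitely generated on affine opens -/
theorem ker_fg_of_lofp {E P : Scheme.{u}} (ε : E ⟶ P) [IsClosedImmersion ε]
    [LocallyOfFinitePresentation ε] {W : P.Opens} (hW : IsAffineOpen W) :
    (RingHom.ker (ε.app W).hom).FG := by
  have h1 : (ε.app W).hom.FinitePresentation := by
    rw [Scheme.Hom.app_eq_appLE]
    exact ε.finitePresentation_appLE hW (hW.preimage ε) le_rfl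
  have h2 : Function.Surjective (ε.app W).hom := RFP3.app_surjective hW
  letI := (ε.app W).hom.toAlgebra
  haveI : Algebra.FinitePresentation Γ(P, W) Γ(E, ε ⁻¹ᵁ W) := h1
  have := Algebra.FinitePresentation.ker_fG_of_surjective
    (Algebra.ofId Γ(P, W) Γ(E, ε ⁻¹ᵁ W)) h2
  exact this

section level2

variable {Y : Scheme.{u}} {Fx : (T : Scheme.{u}) → (T ⟶ Y) → Prop}

theorem main2 (h : RFP2.IsLocalPred Fx) (hY : RFP2.LocallyNice Fx)
    (hfg : ∀ y : Y, ∃ (V : Y.Opens) (hV : IsAffineOpen V), y ∈ V ∧ (RFP2.N Fx hV).FG) :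
    ∃ (Z : Scheme.{u}) (i : Z ⟶ Y), IsClosedImmersion i ∧ LocallyOfFinitePresentation i ∧
      ∀ (T : Scheme.{u}) (y : T ⟶ Y), Fx T y ↔ ∃ z : T ⟶ Z, z ≫ i = y := by
  refine ⟨_, (RFP2.idealSheaf h hY).subschemeι, inferInstance, ?_, fun T y => ⟨fun hy => ?_, ?_⟩⟩
  · apply lofp_of_ker_fg
    intro y
    obtain ⟨V, hV, hyV, hf⟩ := hfg y
    refine ⟨V, hV, hyV, ?_⟩
    have := (RFP2.idealSheaf h hY).ker_subschemeι_app ⟨V, hV⟩
    rw [this]
    exact hf
  · refine ⟨IsClosedImmersion.lift _ y ?_, IsClosedImmersion.lift_fac _ _ _⟩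
    rw [Scheme.IdealSheafData.ker_subschemeι]
    exact RFP2.le_ker_of_Fx h hY y hy
  · rintro ⟨z, rfl⟩
    exact h.comp _ _ (RFP2.Fx_subschemeι h hY)

end level2

section level3

variable {P Y E : Scheme.{u}} {π : P ⟶ Y} {ε : E ⟶ P}

theorem N_eq_coeffI [IsAffineHom π] [IsClosedImmersion ε] {V : Y.Opens} (hV : IsAffineOpen V)
    (hproj : @Module.Projective Γ(Y, V) _ Γ(P, π ⁻¹ᵁ V) _ (π.app V).hom.toAlgebra.toModule) :
    RFP2.N (RFP3.FixS π ε) hV = RFP3.coeffI (π := π) (ε := ε) V := by
  apply le_antisymm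
  · -- the quotient by `coeffI` is fixed
    intro c hc
    have h1 := (RFP2.mem_N_iff (RFP3.FixS π ε) hV).mp hc _
      (CommRingCat.ofHom (Ideal.Quotient.mk (RFP3.coeffI (π := π) (ε := ε) V)))
      ((RFP3.fixS_iff_coeff hV hproj _).mpr (by
        intro c' hc'
        rw [RingHom.mem_ker]
        exact Ideal.Quotient.eq_zero_iff_mem.mpr hc'))
    exact Ideal.Quotient.eq_zero_iff_mem.mp h1
  · intro c hc
    rw [RFP2.mem_N_iff]
    intro D φ hφ
    exact ((RFP3.fixS_iff_coeff hV hproj φ).mp hφ) hc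

theorem main3 [IsFinite π] [IsClosedImmersion ε] [LocallyOfFinitePresentation ε]
    (hproj : ∀ y : Y, ∃ (V : Y.Opens) (_ : IsAffineOpen V), y ∈ V ∧
      ∀ (V' : Y.Opens) (_ : IsAffineOpen V'), V' ≤ V →
        @Module.Projective Γ(Y, V') _ Γ(P, π ⁻¹ᵁ V') _ (π.app V').hom.toAlgebra.toModule) :
    ∃ (Z : Scheme.{u}) (i : Z ⟶ Y), IsClosedImmersion i ∧ LocallyOfFinitePresentation i ∧
      ∀ (T : Scheme.{u}) (y : T ⟶ Y), RFP3.FixS π ε T y ↔ ∃ z : T ⟶ Z, z ≫ i = y := by
  refine main2 (RFP3.isLocalPred π ε) ?_ ?_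
  · intro y
    obtain ⟨V, hV, hy, H⟩ := hproj y
    exact ⟨V, hV, hy, fun V' hV' hle => RFP3.nice_of_projective hV' (H V' hV' hle)⟩
  · intro y
    obtain ⟨V, hV, hy, H⟩ := hproj y
    refine ⟨V, hV, hy, ?_⟩
    rw [N_eq_coeffI hV (H V hV le_rfl)]
    letI := (π.app V).hom.toAlgebra
    haveI : Module.Projective Γ(Y, V) Γ(P, π ⁻¹ᵁ V) := H V hV le_rfl
    haveI : Module.Finite Γ(Y, V) Γ(P, π ⁻¹ᵁ V) := IsFinite.finite_app π V hV
    exact coeffIdeal_fg _ (ker_fg_of_lofp ε (hV.preimage π))

end level3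

end Groth.Agent.Lib.Helper11.RFP6
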