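import Mathlib
import Groth.Agent.Lib.Helper11.RFP4
import Groth.Agent.Lib.Helper11.RFP6

/-!
# RFP7: finitely presented version of the relative fixed point theorem in `Over S` (helper11).
-/

set_option autoImplicit false
universe u
open CategoryTheory AlgebraicGeometry Opposite MonoidalCategory CartesianMonoidalCategory MonObj

namespace Groth.Agent.Lib.Helper11.RFP7

open Groth.Agent.Lib.Helper11

theorem lofp_of_comp {X Y Z : Scheme.{u}} (f : X ⟶ Y) (g : Y ⟶ Z)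
    [hfg : LocallyOfFinitePresentation (f ≫ g)] [hg : LocallyOfFiniteType g] :
    LocallyOfFinitePresentation f := by
  have hQ : RingHom.StableUnderCompositionWithLocalizationAwaySource
      @RingHom.FinitePresentation :=
    (RingHom.finitePresentation_stableUnderComposition.stableUnderCompositionWithLocalizationAway
      RingHom.finitePresentation_holdsForLocalizationAway).left
  rw [HasRingHomProperty.iff_exists_appLE (P := @LocallyOfFinitePresentation) hQ]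
  intro x
  obtain ⟨_, ⟨W, hW, rfl⟩, hxW, -⟩ :=
    Z.isBasis_affineOpens.exists_subset_of_mem_open (Set.mem_univ (g (f x))) isOpen_univ
  obtain ⟨_, ⟨U, hU, rfl⟩, hxU, hUW⟩ :=
    Y.isBasis_affineOpens.exists_subset_of_mem_open (show f x ∈ ((g ⁻¹ᵁ W : Y.Opens) : Set Y)
      from hxW) (g ⁻¹ᵁ W).isOpen
  obtain ⟨_, ⟨V, hV, rfl⟩, hxV, hVU⟩ :=
    X.isBasis_affineOpens.exists_subset_of_mem_open (show x ∈ ((f ⁻¹ᵁ U : X.Opens) : Set X)
      from hxU) (f ⁻¹ᵁ U).isOpen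
  have e₁ : U ≤ g ⁻¹ᵁ W := hUW
  have e₂ : V ≤ f ⁻¹ᵁ U := hVU
  refine ⟨⟨U, hU⟩, ⟨V, hV⟩, hxV, e₂, ?_⟩
  have h1 := HasRingHomProperty.appLE (P := @LocallyOfFinitePresentation) (f ≫ g) hfg
    ⟨W, hW⟩ ⟨V, hV⟩ (e₂.trans ((TopologicalSpace.Opens.map f.base).map (homOfLE e₁)).le)
  have h2 := HasRingHomProperty.appLE (P := @LocallyOfFiniteType) g hg ⟨W, hW⟩ ⟨U, hU⟩ e₁
  rw [← Scheme.Hom.appLE_comp_appLE f g W U V e₁ e₂, CommRingCat.hom_comp] at h1
  exact RingHom.FinitePresentation.of_comp_finiteType _ h1 h2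

theorem lofp_diagonal {X Y : Scheme.{u}} (f : X ⟶ Y) [LocallyOfFiniteType f] :
    LocallyOfFinitePresentation (Limits.pullback.diagonal f) := by
  haveI : LocallyOfFinitePresentation (Limits.pullback.diagonal f ≫ Limits.pullback.fst f f) := by
    rw [Limits.pullback.diagonal_fst]; infer_instance
  exact lofp_of_comp (Limits.pullback.diagonal f) (Limits.pullback.fst f f)

set_option backward.isDefEq.respectTransparency false in
theorem lofp_equalizer {S : Scheme.{u}} {X Y : Over S} [LocallyOfFiniteType Y.hom]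
    (f g : X ⟶ Y) : LocallyOfFinitePresentation (Limits.equalizer.ι f g).left := by
  refine MorphismProperty.of_isPullback (P := @LocallyOfFinitePresentation)
    ((Limits.isPullback_equalizer_prod f g).map (Over.forget _)).flip ?_
  rw [← MorphismProperty.cancel_right_of_respectsIso @LocallyOfFinitePresentation _
    (Over.prodLeftIsoPullback Y Y).hom]
  convert! (lofp_diagonal Y.hom : LocallyOfFinitePresentation (Limits.pullback.diagonal Y.hom))
  ext1 <;> simp [← Over.comp_left]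

section pullback

variable {S F Y P : Scheme.{u}} {f : F ⟶ S} {g : Y ⟶ S} {π : P ⟶ Y} {pF : P ⟶ F}

theorem main4 [IsFinite f] (H : IsPullback π pF g f) {E : Scheme.{u}} (ε : E ⟶ P)
    [IsClosedImmersion ε] [LocallyOfFinitePresentation ε]
    (hproj : ∀ s : S, ∃ (U : S.Opens) (_ : IsAffineOpen U), s ∈ U ∧
      @Module.Projective Γ(S, U) _ Γ(F, f ⁻¹ᵁ U) _ (f.app U).hom.toAlgebra.toModule) :
    ∃ (Z : Scheme.{u}) (i : Z ⟶ Y), IsClosedImmersion i ∧ LocallyOfFinitePresentation i ∧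
      ∀ (T : Scheme.{u}) (y : T ⟶ Y), RFP3.FixS π ε T y ↔ ∃ z : T ⟶ Z, z ≫ i = y := by
  haveI : IsFinite π := MorphismProperty.of_isPullback (P := @IsFinite) H.flip ‹_›
  refine RFP6.main3 ?_
  intro y
  obtain ⟨U, hU, hyU, hp⟩ := hproj (g y)
  obtain ⟨V, hV, hyV, hVU⟩ := Y.isBasis_affineOpens.exists_subset_of_mem_open
    (show y ∈ ((g ⁻¹ᵁ U : Y.Opens) : Set Y) from hyU) (g ⁻¹ᵁ U).2
  obtain ⟨V', hV'a, rfl⟩ := hV
  refine ⟨V', hV'a, hyV, ?_⟩
  intro V'' hV'' hle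
  exact RFP4.projective_pullback H hU hp hV'' (fun x hx => hVU (hle hx))

end pullback

section overS

variable {S : Scheme.{u}}

theorem over_main'_fp (F Y : Over S) [IsFinite F.hom] (hproj : RFP4.LocProj F) {E : Scheme.{u}}
    (ε : E ⟶ (F ⊗ Y).left) [IsClosedImmersion ε] [LocallyOfFinitePresentation ε] :
    ∃ (Z : Scheme.{u}) (i : Z ⟶ Y.left), IsClosedImmersion i ∧ LocallyOfFinitePresentation i ∧
      ∀ (T : Over S) (y : T ⟶ Y),
        (∃ z : T.left ⟶ Z, z ≫ i = y.left) ↔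
          ∃ l : (F ⊗ T).left ⟶ E, l ≫ ε = (F ◁ y).left := by
  obtain ⟨Z, i, hi, hfp, H⟩ := main4 (RFP4.isPullback_prod F Y) ε hproj
  refine ⟨Z, i, hi, hfp, fun T y => ?_⟩
  rw [← H T.left y.left]
  let e := (RFP4.isPullback_whisker F y).isoPullback
  have he : e.hom ≫ Limits.pullback.fst _ _ = (F ◁ y).left := IsPullback.isoPullback_hom_fst _
  constructor
  · rintro ⟨l, hl⟩
    exact ⟨e.hom ≫ l, by rw [Category.assoc, hl, he]⟩
  · rintro ⟨l, hl⟩
    exact ⟨e.inv ≫ l, by rw [Category.assoc, hl, ← he, Iso.inv_hom_id_assoc]⟩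

theorem over_eq'_fp (F Y W : Over S) [IsFinite F.hom] (hproj : RFP4.LocProj F) (u v : F ⊗ Y ⟶ W)
    {E : Scheme.{u}} (ε : E ⟶ (F ⊗ Y).left) [IsClosedImmersion ε] [LocallyOfFinitePresentation ε]
    (hε : ε ≫ u.left = ε ≫ v.left)
    (huniv : ∀ {T : Scheme.{u}} (m : T ⟶ (F ⊗ Y).left), m ≫ u.left = m ≫ v.left →
      ∃ l : T ⟶ E, l ≫ ε = m) :
    ∃ (Z : Scheme.{u}) (i : Z ⟶ Y.left), IsClosedImmersion i ∧ LocallyOfFinitePresentation i ∧
      ∀ (T : Over S) (y : T ⟶ Y),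
        (∃ z : T.left ⟶ Z, z ≫ i = y.left) ↔ (F ◁ y) ≫ u = (F ◁ y) ≫ v := by
  obtain ⟨Z, i, hi, hfp, H⟩ := over_main'_fp F Y hproj ε
  refine ⟨Z, i, hi, hfp, fun T y => ?_⟩
  rw [H T y]
  constructor
  · rintro ⟨l, hl⟩
    ext1
    rw [Over.comp_left, Over.comp_left, ← hl, Category.assoc, Category.assoc, hε]
  · intro h
    exact huniv _ (by rw [← Over.comp_left, ← Over.comp_left, h])

theorem over_eq_sep_fp (F Y W : Over S) [IsFinite F.hom] (hproj : RFP4.LocProj F)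
    [IsSeparated W.hom] [LocallyOfFiniteType W.hom] (u v : F ⊗ Y ⟶ W) :
    ∃ (Z : Over S) (i : Z ⟶ Y), IsClosedImmersion i.left ∧ LocallyOfFinitePresentation i.left ∧
      ∀ (T : Over S) (y : T ⟶ Y), (∃ z : T ⟶ Z, z ≫ i = y) ↔ (F ◁ y) ≫ u = (F ◁ y) ≫ v := by
  haveI := lofp_equalizer u v
  obtain ⟨Z, i, hi, hfp, H⟩ := over_eq'_fp F Y W hproj u v (Limits.equalizer.ι u v).left
    (by rw [← Over.comp_left, ← Over.comp_left, Limits.equalizer.condition])
    (by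
      intro T m hm
      let T' : Over S := Over.mk (m ≫ (F ⊗ Y).hom)
      let m' : T' ⟶ F ⊗ Y := Over.homMk m rfl
      have hm' : m' ≫ u = m' ≫ v := by
        ext1
        exact hm
      refine ⟨(Limits.equalizer.lift m' hm').left, ?_⟩
      rw [← Over.comp_left, Limits.equalizer.lift_ι]
      rfl)
  refine ⟨Over.mk (i ≫ Y.hom), Over.homMk i rfl, hi, hfp, fun T y => ?_⟩
  rw [RFP4.to_over, H T y]

/-- the pointwise stabilizer condition -/
theorem stab_iff {G X Y : Over S} (act : G ⊗ X ⟶ X) (i : Y ⟶ X) {T : Over S} (g : T ⟶ G) :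
    (∀ (T' : Over S) (t : T' ⟶ T) (y : T' ⟶ Y), lift (t ≫ g) (y ≫ i) ≫ act = y ≫ i) ↔
      (Y ◁ g) ≫ (lift (snd Y G) (fst Y G ≫ i) ≫ act) = (Y ◁ g) ≫ (fst Y G ≫ i) := by
  have e1 : (Y ◁ g) ≫ (lift (snd Y G) (fst Y G ≫ i) ≫ act) =
      lift (snd Y T ≫ g) (fst Y T ≫ i) ≫ act := by
    rw [← Category.assoc, comp_lift, whiskerLeft_snd, whiskerLeft_fst_assoc]
  have e2 : (Y ◁ g) ≫ (fst Y G ≫ i) = fst Y T ≫ i := by
    rw [whiskerLeft_fst_assoc]
  rw [e1, e2]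
  constructor
  · intro H
    exact H (Y ⊗ T) (snd Y T) (fst Y T)
  · intro H T' t y
    have h1 := congrArg (fun m => lift y t ≫ m) H
    simp only [← Category.assoc, comp_lift, lift_snd, lift_fst] at h1
    exact h1

/-- the transporter condition -/
theorem transp_iff {G Y Y' : Over S} [GrpObj G] (y : Y ⟶ G) (y' : Y' ⟶ G) {X : Over S}
    (g : X ⟶ G) :
    (∀ (X' : Over S) (x : X' ⟶ X) (a : X' ⟶ Y),
        ∃ a' : X' ⟶ Y', (x ≫ g) * (a ≫ y) * (x ≫ g)⁻¹ = a' ≫ y') ↔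
      ∃ a' : Y ⊗ X ⟶ Y', (Y ◁ g) ≫ (snd Y G * (fst Y G ≫ y) * (snd Y G)⁻¹) = a' ≫ y' := by
  have e1 : (Y ◁ g) ≫ (snd Y G * (fst Y G ≫ y) * (snd Y G)⁻¹) =
      (snd Y X ≫ g) * (fst Y X ≫ y) * (snd Y X ≫ g)⁻¹ := by
    rw [MonObj.comp_mul, MonObj.comp_mul, GrpObj.comp_inv, whiskerLeft_snd, whiskerLeft_fst_assoc]
  rw [e1]
  constructor
  · intro H
    exact H (Y ⊗ X) (snd Y X) (fst Y X)
  · rintro ⟨a', ha'⟩ X' x a
    refine ⟨lift a x ≫ a', ?_⟩
    have h1 := congrArg (fun m => lift a x ≫ m) ha'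
    simp only [MonObj.comp_mul, GrpObj.comp_inv, lift_snd_assoc, lift_fst_assoc] at h1
    rw [h1, Category.assoc]

end overS

end Groth.Agent.Lib.Helper11.RFP7
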