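import Groth.Agent.Lib.Helper11.QD1

/-!
# Helper11 RG1: rigidity — the locus where a morphism collapses the fibres of a proper morphism
`ξ` with `O_S ≅ ξ_* O_X`
-/

set_option autoImplicit false

namespace Groth.Agent.Lib.Helper11.RG1

open CategoryTheory CategoryTheory.Limits AlgebraicGeometry Opposite TopologicalSpace

universe u

variable {X Y S : Scheme.{u}} (ξ : X ⟶ S) (f : X ⟶ Y)

theorem isIso_c_restrict (h0 : ∀ U : S.Opens, Function.Bijective (ξ.app U).hom) (U : S.Opens) :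
    IsIso (ξ ∣_ U).c := by
  haveI : ∀ W : (Opens U.toScheme)ᵒᵖ, IsIso ((ξ ∣_ U).c.app W) := by
    intro W
    show IsIso ((ξ ∣_ U).app W.unop)
    rw [morphismRestrict_app]
    have h1 : IsIso (ξ.app (U.ι ''ᵁ W.unop)) := by
      rw [ConcreteCategory.isIso_iff_bijective]
      exact h0 _
    have h2 : IsIso (X.presheaf.map (eqToHom (image_morphismRestrict_preimage ξ U W.unop)).op) :=
      inferInstance
    exact IsIso.comp_isIso' h1 h2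
  exact NatIso.isIso_of_isIso_app _

theorem exists_local_factor [IsProper ξ] (h0 : ∀ U : S.Opens, Function.Bijective (ξ.app U).hom)
    (s : S) (y : Y) (hy : ∀ x : X, ξ.base x = s → f.base x = y) :
    ∃ (W : S.Opens) (_ : s ∈ W) (r : W.toScheme ⟶ Y), (ξ ⁻¹ᵁ W).ι ≫ f = (ξ ∣_ W) ≫ r := by
  have hex : ∃ V : Y.Opens, IsAffineOpen V ∧ y ∈ V := by
    obtain ⟨_, ⟨V, hV, rfl⟩, hyV, -⟩ := Y.isBasis_affineOpens.exists_subset_of_mem_open
      (Set.mem_univ y) isOpen_univ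
    exact ⟨V, hV, hyV⟩
  obtain ⟨V, hV, hyV⟩ := hex
  have hcl : IsClosed (ξ.base '' ((f ⁻¹ᵁ V : Set X)ᶜ)) :=
    ξ.isClosedMap _ (f ⁻¹ᵁ V).2.isClosed_compl
  let W : S.Opens := ⟨(ξ.base '' ((f ⁻¹ᵁ V : Set X)ᶜ))ᶜ, hcl.isOpen_compl⟩
  have hsW : s ∈ W := by
    rintro ⟨x, hxZ, hxs⟩
    apply hxZ
    show f.base x ∈ V
    rw [hy x hxs]
    exact hyV
  have hWV : ξ ⁻¹ᵁ W ≤ f ⁻¹ᵁ V := by
    intro x hx
    by_contra hxV
    exact hx ⟨x, hxV, rfl⟩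
  let g : (ξ ⁻¹ᵁ W).toScheme ⟶ V.toScheme := f.resLE V (ξ ⁻¹ᵁ W) hWV
  have hg : g ≫ V.ι = (ξ ⁻¹ᵁ W).ι ≫ f := Scheme.Hom.resLE_comp_ι f hWV
  haveI := isIso_c_restrict ξ h0 W
  haveI : IsIso (ξ ∣_ W).appTop := by
    show IsIso ((ξ ∣_ W).c.app (op ⊤))
    infer_instance
  haveI : IsAffine V.toScheme := hV
  let r₀ : W.toScheme ⟶ V.toScheme :=
    W.toScheme.toSpecΓ ≫ Spec.map (inv (ξ ∣_ W).appTop) ≫ Spec.map g.appTop ≫ inv V.toScheme.toSpecΓ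
  have hr₀ : (ξ ∣_ W) ≫ r₀ = g := by
    simp only [r₀]
    rw [Scheme.toSpecΓ_naturality_assoc, ← Spec.map_comp_assoc, IsIso.inv_hom_id, Spec.map_id,
      Category.id_comp, ← Scheme.toSpecΓ_naturality_assoc, IsIso.hom_inv_id, Category.comp_id]
  refine ⟨W, hsW, r₀ ≫ V.ι, ?_⟩
  rw [← Category.assoc, hr₀, hg]

theorem isOpen_C [IsProper ξ] (h0 : ∀ U : S.Opens, Function.Bijective (ξ.app U).hom) :
    IsOpen {s : ↥S | ∃ y : ↥Y, ∀ x : ↥X, ξ.base x = s → f.base x = y} := by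
  rw [isOpen_iff_forall_mem_open]
  rintro s ⟨y, hy⟩
  obtain ⟨W, hsW, r, hr⟩ := exists_local_factor ξ f h0 s y hy
  refine ⟨W, ?_, W.2, hsW⟩
  intro s' hs'
  refine ⟨r.base ⟨s', hs'⟩, fun x hx => ?_⟩
  have hxW : x ∈ ξ ⁻¹ᵁ W := by
    show ξ.base x ∈ W
    rw [hx]; exact hs'
  have e := congrArg (fun φ : (ξ ⁻¹ᵁ W).toScheme ⟶ Y => φ.base ⟨x, hxW⟩) hr
  simp only [Scheme.Hom.comp_base, TopCat.comp_app] at e
  have e2 : (ξ ∣_ W).base ⟨x, hxW⟩ = ⟨s', hs'⟩ :=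
    Subtype.ext ((morphismRestrict_base_coe ξ W ⟨x, hxW⟩).trans hx)
  rw [e2] at e
  exact e

theorem exists_factor [IsProper ξ] [Surjective ξ]
    (h0 : ∀ U : S.Opens, Function.Bijective (ξ.app U).hom) (U : S.Opens)
    (hU : ∀ s ∈ U, ∃ y : ↥Y, ∀ x : ↥X, ξ.base x = s → f.base x = y) :
    (∃ r : U.toScheme ⟶ Y, (ξ ⁻¹ᵁ U).ι ≫ f = (ξ ∣_ U) ≫ r) ∧
      ∀ (Z : Scheme.{u}) (r₁ r₂ : U.toScheme ⟶ Z), (ξ ∣_ U) ≫ r₁ = (ξ ∣_ U) ≫ r₂ → r₁ = r₂ := by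
  haveI := isIso_c_restrict ξ h0 U
  haveI : Surjective (ξ ∣_ U) := by
    refine ⟨fun s => ?_⟩
    obtain ⟨x, hx⟩ := ξ.surjective s.1
    have hxU : x ∈ ξ ⁻¹ᵁ U := by
      show ξ.base x ∈ U
      rw [hx]; exact s.2
    exact ⟨⟨x, hxU⟩, Subtype.ext ((morphismRestrict_base_coe ξ U ⟨x, hxU⟩).trans hx)⟩
  haveI : IsProper (ξ ∣_ U) := inferInstance
  have hq : Topology.IsQuotientMap (ξ ∣_ U).base :=
    (ξ ∣_ U).isClosedMap.isQuotientMap (ξ ∣_ U).continuous (ξ ∣_ U).surjective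
  constructor
  · obtain ⟨r, hr⟩ := (QD1.main (ξ ∣_ U) hq Y).2 ((ξ ⁻¹ᵁ U).ι ≫ f) (by
      intro x y hxy
      have hx := morphismRestrict_base_coe ξ U x
      have hy := morphismRestrict_base_coe ξ U y
      have hxy' : ξ.base x.1 = ξ.base y.1 := by
        rw [← hx, ← hy]; exact congrArg Subtype.val hxy
      obtain ⟨y₀, hy₀⟩ := hU (ξ.base x.1) x.2
      show f.base ((ξ ⁻¹ᵁ U).ι.base x) = f.base ((ξ ⁻¹ᵁ U).ι.base y)
      exact (hy₀ x.1 rfl).trans (hy₀ y.1 hxy'.symm).symm)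
    exact ⟨r, hr.symm⟩
  · intro Z r₁ r₂ h12
    exact (QD1.main (ξ ∣_ U) hq Z).1 r₁ r₂ h12

theorem main [IsProper ξ] [Surjective ξ]
    (h0 : ∀ U : S.Opens, Function.Bijective (ξ.app U).hom)
    (v : Y ⟶ S) (hf : f ≫ v = ξ) :
    IsOpen {s : ↥S | ∃ y : ↥Y, ∀ x : ↥X, ξ.base x = s → f.base x = y} ∧
    ∀ (T : Scheme.{u}) (τ : T ⟶ S),
      ((∃ r : T ⟶ Y, r ≫ v = τ ∧ pullback.fst ξ τ ≫ f = pullback.snd ξ τ ≫ r) ↔
        ∀ t : ↥T, τ.base t ∈ {s : ↥S | ∃ y : ↥Y, ∀ x : ↥X, ξ.base x = s → f.base x = y}) := by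
  have hopen := isOpen_C ξ f h0
  refine ⟨hopen, fun T τ => ⟨?_, ?_⟩⟩
  · rintro ⟨r, -, hr⟩ t
    refine ⟨r.base t, fun x hx => ?_⟩
    obtain ⟨z, hz₁, hz₂⟩ := Scheme.Pullback.exists_preimage_pullback (f := ξ) (g := τ) x t hx
    have e := congrArg (fun φ : pullback ξ τ ⟶ Y => φ.base z) hr
    simp only [Scheme.Hom.comp_base, TopCat.comp_app] at e
    rw [← hz₁, ← hz₂]
    exact e
  · intro hτ
    let U : S.Opens := ⟨_, hopen⟩
    obtain ⟨⟨rU, hrU⟩, huniq⟩ := exists_factor ξ f h0 U (fun s hs => hs)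
    have hτU : Set.range τ.base ⊆ Set.range U.ι.base := by
      rintro _ ⟨t, rfl⟩
      rw [Scheme.Opens.range_ι]
      exact hτ t
    let τ' : T ⟶ U.toScheme := IsOpenImmersion.lift U.ι τ hτU
    have hτ' : τ' ≫ U.ι = τ := IsOpenImmersion.lift_fac _ _ _
    have hrv : rU ≫ v = U.ι := by
      apply huniq
      rw [← Category.assoc, ← hrU, Category.assoc, hf, morphismRestrict_ι]
    have hfstU : Set.range (pullback.fst ξ τ).base ⊆ Set.range (ξ ⁻¹ᵁ U).ι.base := by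
      rintro _ ⟨z, rfl⟩
      rw [Scheme.Opens.range_ι]
      show ξ.base ((pullback.fst ξ τ).base z) ∈ U
      have : ξ.base ((pullback.fst ξ τ).base z) = τ.base ((pullback.snd ξ τ).base z) := by
        have e := congrArg (fun φ : pullback ξ τ ⟶ S => φ.base z) (pullback.condition (f := ξ) (g := τ))
        simpa only [Scheme.Hom.comp_base, TopCat.comp_app] using e
      rw [this]
      exact hτ _
    let fst' : pullback ξ τ ⟶ (ξ ⁻¹ᵁ U).toScheme := IsOpenImmersion.lift (ξ ⁻¹ᵁ U).ι (pullback.fst ξ τ) hfstU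
    have hfst' : fst' ≫ (ξ ⁻¹ᵁ U).ι = pullback.fst ξ τ := IsOpenImmersion.lift_fac _ _ _
    have hsq : fst' ≫ (ξ ∣_ U) = pullback.snd ξ τ ≫ τ' := by
      rw [← cancel_mono U.ι, Category.assoc, Category.assoc, morphismRestrict_ι, hτ',
        ← Category.assoc, hfst', pullback.condition]
    refine ⟨τ' ≫ rU, ?_, ?_⟩
    · rw [Category.assoc, hrv, hτ']
    · rw [← hfst', Category.assoc, hrU, ← Category.assoc, hsq, Category.assoc]

end Groth.Agent.Lib.Helper11.RG1
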