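import Mathlib
import Groth.Prelude.Def_W4c5nonratstablectREq
import Groth.Agent.Lib.Helper11.P1Conn

/-!
# RLink: K-points of an open subscheme of affine space are directly R-linked; retract rational
schemes are almost R-trivial (helper11)
-/

set_option autoImplicit false
universe u

open CategoryTheory CategoryTheory.Limits AlgebraicGeometry

namespace Groth.Agent.Lib.Helper11.RLink

open Groth.Agent.Lib.Helper11

section Line

variable (K : Type u) [Field K]

/-- the polynomial ring in one variable, in the form used by Mathlib's affine spaces -/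
abbrev Kt : Type u := MvPolynomial PUnit.{u+1} K

/-- the affine line as an open subscheme of the projective line (unfolded target) -/
noncomputable def jA' : Spec (CommRingCat.of (Kt K)) ⟶ P1Conn.PS (Spec (CommRingCat.of K)) :=
  (AffineSpace.SpecIso PUnit.{u+1} (CommRingCat.of K)).inv ≫
    (P1Conn.pieceIso K 0 1 (by decide)).inv ≫ P1Conn.piece (Spec (CommRingCat.of K)) 0

instance : IsOpenImmersion (jA' K) := by
  haveI h : IsOpenImmersion (P1Conn.piece (Spec (CommRingCat.of K)) 0) := by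
    unfold P1Conn.piece; infer_instance
  haveI h2 : IsOpenImmersion ((P1Conn.pieceIso K 0 1 (by decide)).inv ≫
      P1Conn.piece (Spec (CommRingCat.of K)) 0) := IsOpenImmersion.comp _ _
  unfold jA'
  exact IsOpenImmersion.comp _ _

theorem jA'_toSpec : jA' K ≫ pullback.snd P1Conn.aZ.{u}
      (specULiftZIsTerminal.from (Spec (CommRingCat.of K))) =
    Spec.map (CommRingCat.ofHom MvPolynomial.C) := by
  have h1 : P1Conn.piece (Spec (CommRingCat.of K)) 0 ≫ pullback.snd P1Conn.aZ.{u}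
      (specULiftZIsTerminal.from (Spec (CommRingCat.of K))) =
      pullback.snd _ _ := by
    unfold P1Conn.piece
    exact (pullback.lift_snd _ _ _).trans (Category.comp_id _)
  have h2 : (P1Conn.pieceIso K 0 1 (by decide)).inv ≫
      pullback.snd (P1Conn.aι.{u} 0 ≫ P1Conn.aZ.{u})
        (specULiftZIsTerminal.from (Spec (CommRingCat.of K))) =
      (AffineSpace PUnit.{u+1} (Spec (CommRingCat.of K))) ↘ (Spec (CommRingCat.of K)) := by
    unfold P1Conn.pieceIso
    exact IsPullback.isoPullback_inv_fst _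
  unfold jA'
  rw [Category.assoc, Category.assoc, h1, h2]
  exact AffineSpace.SpecIso_inv_over _

/-- the affine line as an open subscheme of the projective line -/
noncomputable def jA : Spec (CommRingCat.of (Kt K)) ⟶ REq.P1K K := jA' K

instance : IsOpenImmersion (jA K) := inferInstanceAs (IsOpenImmersion (jA' K))

theorem jA_toSpec : jA K ≫ REq.P1K.toSpec K = Spec.map (CommRingCat.ofHom MvPolynomial.C) :=
  jA'_toSpec K

end Line

section Link

variable {k : Type u} [Field k] (K : Type u) [Field K] [Algebra k K] {n : ℕ}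

/-- evaluation at a constant -/
noncomputable abbrev ev (c : K) : Kt K →+* K := MvPolynomial.eval (fun _ => c)

theorem link_affine (V : (Spec (CommRingCat.of (MvPolynomial (Fin n) k))).Opens)
    (A B : Spec (CommRingCat.of K) ⟶ (V : Scheme.{u}))
    (hA : A ≫ V.ι ≫ Spec.map (CommRingCat.ofHom (algebraMap k (MvPolynomial (Fin n) k))) =
      REq.specMap k K)
    (hB : B ≫ V.ι ≫ Spec.map (CommRingCat.ofHom (algebraMap k (MvPolynomial (Fin n) k))) =
      REq.specMap k K) :
    ∃ (U : (REq.P1K K).Opens) (h : (U : Scheme.{u}) ⟶ (V : Scheme.{u}))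
      (a b : Spec (CommRingCat.of K) ⟶ (U : Scheme.{u})),
      h ≫ V.ι ≫ Spec.map (CommRingCat.ofHom (algebraMap k (MvPolynomial (Fin n) k))) =
        U.ι ≫ REq.P1K.toSpec K ≫ REq.specMap k K ∧
      a ≫ U.ι ≫ REq.P1K.toSpec K = 𝟙 _ ∧ b ≫ U.ι ≫ REq.P1K.toSpec K = 𝟙 _ ∧
      a ≫ h = A ∧ b ≫ h = B := by
  -- ring homs of the two points
  obtain ⟨α', hα'⟩ := Spec.map_surjective (A ≫ V.ι)
  obtain ⟨β', hβ'⟩ := Spec.map_surjective (B ≫ V.ι)
  let α : MvPolynomial (Fin n) k →+* K := α'.hom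
  let β : MvPolynomial (Fin n) k →+* K := β'.hom
  have hα : Spec.map (CommRingCat.ofHom α) = A ≫ V.ι := hα'
  have hβ : Spec.map (CommRingCat.ofHom β) = B ≫ V.ι := hβ'
  have hαk : α.comp (algebraMap k (MvPolynomial (Fin n) k)) = algebraMap k K := by
    have : Spec.map (CommRingCat.ofHom (α.comp (algebraMap k (MvPolynomial (Fin n) k)))) =
        Spec.map (CommRingCat.ofHom (algebraMap k K)) := by
      rw [CommRingCat.ofHom_comp, Spec.map_comp, hα, Category.assoc]; exact hA
    have := Spec.map_injective this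
    exact congrArg CommRingCat.Hom.hom this
  have hβk : β.comp (algebraMap k (MvPolynomial (Fin n) k)) = algebraMap k K := by
    have : Spec.map (CommRingCat.ofHom (β.comp (algebraMap k (MvPolynomial (Fin n) k)))) =
        Spec.map (CommRingCat.ofHom (algebraMap k K)) := by
      rw [CommRingCat.ofHom_comp, Spec.map_comp, hβ, Category.assoc]; exact hB
    have := Spec.map_injective this
    exact congrArg CommRingCat.Hom.hom this
  -- the line
  let lam : MvPolynomial (Fin n) k →+* Kt K :=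
    MvPolynomial.eval₂Hom ((MvPolynomial.C : K →+* Kt K).comp (algebraMap k K))
      (fun l => MvPolynomial.C (α (MvPolynomial.X l)) +
        MvPolynomial.X PUnit.unit * MvPolynomial.C (β (MvPolynomial.X l) - α (MvPolynomial.X l)))
  have hlamk : lam.comp (algebraMap k (MvPolynomial (Fin n) k)) =
      (MvPolynomial.C : K →+* Kt K).comp (algebraMap k K) := by
    ext r
    simp [lam, MvPolynomial.algebraMap_eq]
  have h0 : (ev K 0).comp lam = α := by
    apply MvPolynomial.ringHom_ext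
    · intro r
      have : α (MvPolynomial.C r) = algebraMap k K r := by
        rw [← hαk]; rfl
      simp [lam, this]
    · intro l
      simp [lam]
  have h1 : (ev K 1).comp lam = β := by
    apply MvPolynomial.ringHom_ext
    · intro r
      have : β (MvPolynomial.C r) = algebraMap k K r := by
        rw [← hβk]; rfl
      simp [lam, this]
    · intro l
      simp [lam]
  have hevC : ∀ c : K, (ev K c).comp (MvPolynomial.C : K →+* Kt K) = RingHom.id K := by
    intro c; ext r; simp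
  let L : Spec (CommRingCat.of (Kt K)) ⟶ Spec (CommRingCat.of (MvPolynomial (Fin n) k)) :=
    Spec.map (CommRingCat.ofHom lam)
  let O : (Spec (CommRingCat.of (Kt K))).Opens := L ⁻¹ᵁ V
  let U : (REq.P1K K).Opens := (jA K) ''ᵁ O
  obtain ⟨h, hdef⟩ : ∃ h : (U : Scheme.{u}) ⟶ (V : Scheme.{u}),
      h = ((jA K).isoImage O).inv ≫ L.resLE V O le_rfl := ⟨_, rfl⟩
  have hhι : h ≫ V.ι = ((jA K).isoImage O).inv ≫ O.ι ≫ L := by
    simp only [hdef, Category.assoc, Scheme.Hom.resLE_comp_ι]
  -- lifts of the two evaluation points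
  have hrange : ∀ (c : K) (γ : MvPolynomial (Fin n) k →+* K) (C' : Spec (CommRingCat.of K) ⟶ (V : Scheme.{u})),
      (ev K c).comp lam = γ → Spec.map (CommRingCat.ofHom γ) = C' ≫ V.ι →
      Set.range (Spec.map (CommRingCat.ofHom (ev K c))) ⊆ Set.range O.ι := by
    intro c γ C' hc hγ
    rintro _ ⟨pt, rfl⟩
    rw [Scheme.Opens.range_ι]
    change L (Spec.map (CommRingCat.ofHom (ev K c)) pt) ∈ V
    rw [← Scheme.Hom.comp_apply]
    have : Spec.map (CommRingCat.ofHom (ev K c)) ≫ L = C' ≫ V.ι := by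
      rw [← hγ, ← hc, CommRingCat.ofHom_comp, Spec.map_comp]
    rw [this, Scheme.Hom.comp_apply]
    exact (C' pt).2
  obtain ⟨a₀, ha₀⟩ : ∃ a₀ : Spec (CommRingCat.of K) ⟶ (O : Scheme.{u}),
      a₀ ≫ O.ι = Spec.map (CommRingCat.ofHom (ev K 0)) :=
    ⟨IsOpenImmersion.lift O.ι (Spec.map (CommRingCat.ofHom (ev K 0))) (hrange 0 α A h0 hα),
      IsOpenImmersion.lift_fac _ _ _⟩
  obtain ⟨b₀, hb₀⟩ : ∃ b₀ : Spec (CommRingCat.of K) ⟶ (O : Scheme.{u}),
      b₀ ≫ O.ι = Spec.map (CommRingCat.ofHom (ev K 1)) :=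
    ⟨IsOpenImmersion.lift O.ι (Spec.map (CommRingCat.ofHom (ev K 1))) (hrange 1 β B h1 hβ),
      IsOpenImmersion.lift_fac _ _ _⟩
  refine ⟨U, h, a₀ ≫ ((jA K).isoImage O).hom, b₀ ≫ ((jA K).isoImage O).hom, ?_, ?_, ?_, ?_, ?_⟩
  · have e1 : L ≫ Spec.map (CommRingCat.ofHom (algebraMap k (MvPolynomial (Fin n) k))) =
        jA K ≫ REq.P1K.toSpec K ≫ REq.specMap k K := by
      rw [← Category.assoc (jA K), jA_toSpec, ← Spec.map_comp, ← Spec.map_comp,
        ← CommRingCat.ofHom_comp, ← CommRingCat.ofHom_comp, hlamk]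
    calc h ≫ V.ι ≫ Spec.map (CommRingCat.ofHom (algebraMap k (MvPolynomial (Fin n) k)))
        = (h ≫ V.ι) ≫ Spec.map (CommRingCat.ofHom (algebraMap k (MvPolynomial (Fin n) k))) := by
          rw [Category.assoc]
      _ = (((jA K).isoImage O).inv ≫ O.ι ≫ L) ≫
            Spec.map (CommRingCat.ofHom (algebraMap k (MvPolynomial (Fin n) k))) := by rw [hhι]
      _ = ((jA K).isoImage O).inv ≫ O.ι ≫ (L ≫
            Spec.map (CommRingCat.ofHom (algebraMap k (MvPolynomial (Fin n) k)))) := by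
          simp only [Category.assoc]
      _ = ((jA K).isoImage O).inv ≫ O.ι ≫ jA K ≫ REq.P1K.toSpec K ≫ REq.specMap k K := by
          rw [e1]
      _ = (((jA K).isoImage O).inv ≫ O.ι ≫ jA K) ≫ REq.P1K.toSpec K ≫ REq.specMap k K := by
          simp only [Category.assoc]
      _ = U.ι ≫ REq.P1K.toSpec K ≫ REq.specMap k K := by rw [Scheme.Hom.isoImage_inv_ι]
  · rw [Category.assoc, ← Category.assoc _ U.ι, Scheme.Hom.isoImage_hom_ι, Category.assoc,
      jA_toSpec, ← Category.assoc, ha₀, ← Spec.map_comp, ← CommRingCat.ofHom_comp, hevC]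
    exact Spec.map_id _
  · rw [Category.assoc, ← Category.assoc _ U.ι, Scheme.Hom.isoImage_hom_ι, Category.assoc,
      jA_toSpec, ← Category.assoc, hb₀, ← Spec.map_comp, ← CommRingCat.ofHom_comp, hevC]
    exact Spec.map_id _
  · rw [← cancel_mono V.ι, Category.assoc, hhι, Category.assoc, Iso.hom_inv_id_assoc,
      ← Category.assoc, ha₀, ← hα, ← h0, CommRingCat.ofHom_comp, Spec.map_comp]
  · rw [← cancel_mono V.ι, Category.assoc, hhι, Category.assoc, Iso.hom_inv_id_assoc,
      ← Category.assoc, hb₀, ← hβ, ← h1, CommRingCat.ofHom_comp, Spec.map_comp]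

end Link

section Main

variable (k : Type u) [Field k] {X : Scheme.{u}} (f : X ⟶ Spec (CommRingCat.of k))

theorem link_of_retract (U : X.Opens) (n : ℕ)
    (V : (Spec (CommRingCat.of (MvPolynomial (Fin n) k))).Opens)
    (a : (U : Scheme.{u}) ⟶ (V : Scheme.{u})) (b : (V : Scheme.{u}) ⟶ (U : Scheme.{u}))
    (hab : a ≫ b = 𝟙 (U : Scheme.{u}))
    (ha : a ≫ V.ι ≫ Spec.map (CommRingCat.ofHom (algebraMap k (MvPolynomial (Fin n) k))) = U.ι ≫ f)
    (hb : b ≫ U.ι ≫ f = V.ι ≫ Spec.map (CommRingCat.ofHom (algebraMap k (MvPolynomial (Fin n) k))))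
    (K : Type u) [Field K] [Algebra k K] (A B : REq.Pts (U.ι ≫ f) K) :
    REq.ElemLink (U.ι ≫ f) K A B := by
  obtain ⟨U', h, a₀, b₀, h1, h2, h3, h4, h5⟩ := link_affine K V (A.1 ≫ a) (B.1 ≫ a)
    (by rw [Category.assoc, ha]; exact A.2) (by rw [Category.assoc, ha]; exact B.2)
  refine ⟨U', h ≫ b, a₀, b₀, ?_, h2, h3, ?_, ?_⟩
  · rw [Category.assoc, hb]; exact h1
  · rw [← Category.assoc, h4, Category.assoc, hab, Category.comp_id]
  · rw [← Category.assoc, h5, Category.assoc, hab, Category.comp_id]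

theorem exists_point_of_infinite [Infinite k] (K : Type u) [Field K] [Algebra k K] {n : ℕ}
    (V : (Spec (CommRingCat.of (MvPolynomial (Fin n) k))).Opens)
    (hV : (V : Set (Spec (CommRingCat.of (MvPolynomial (Fin n) k)))).Nonempty) :
    ∃ P : Spec (CommRingCat.of K) ⟶ (V : Scheme.{u}),
      P ≫ V.ι ≫ Spec.map (CommRingCat.ofHom (algebraMap k (MvPolynomial (Fin n) k))) =
        REq.specMap k K := by
  obtain ⟨x, hx⟩ := hV
  obtain ⟨_, ⟨g, rfl⟩, hxg, hgV⟩ :=
    PrimeSpectrum.isTopologicalBasis_basic_opens.exists_subset_of_mem_open hx V.isOpen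
  have hg0 : g ≠ 0 := by
    rintro rfl
    exact hxg (Ideal.zero_mem _)
  obtain ⟨c, hc⟩ : ∃ c : Fin n → k, MvPolynomial.eval c g ≠ 0 := by
    by_contra hcon
    push_neg at hcon
    exact hg0 (MvPolynomial.funext (fun c => by rw [hcon c, map_zero]))
  let φ : MvPolynomial (Fin n) k →+* K := (algebraMap k K).comp (MvPolynomial.eval c)
  have hφk : φ.comp (algebraMap k (MvPolynomial (Fin n) k)) = algebraMap k K := by
    ext r
    simp [φ, MvPolynomial.algebraMap_eq]
  have hr : Set.range (Spec.map (CommRingCat.ofHom φ)) ⊆ Set.range V.ι := by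
    rintro _ ⟨pt, rfl⟩
    rw [Scheme.Opens.range_ι]
    apply hgV
    change g ∉ (Spec.map (CommRingCat.ofHom φ) pt).asIdeal
    intro hmem
    have h1 : φ g ∈ pt.asIdeal := hmem
    have h2 : IsUnit (φ g) := by
      have : φ g ≠ 0 := by
        change algebraMap k K (MvPolynomial.eval c g) ≠ 0
        rw [Ne, map_eq_zero_iff _ (algebraMap k K).injective]
        exact hc
      exact this.isUnit
    exact pt.2.ne_top (Ideal.eq_top_of_isUnit_mem _ h1 h2)
  refine ⟨IsOpenImmersion.lift V.ι (Spec.map (CommRingCat.ofHom φ)) hr, ?_⟩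
  rw [← Category.assoc, IsOpenImmersion.lift_fac, ← Spec.map_comp, ← CommRingCat.ofHom_comp, hφk]

theorem almost [Infinite k] [IsIntegral X] (hX : REq.IsRetractRational f) :
    REq.IsAlmostRTrivial f := by
  obtain ⟨U, n, V, a, b, hne, hab, ha, hb⟩ := hX
  refine ⟨U, U.isOpen.dense hne, fun K _ _ => ⟨?_, ?_⟩⟩
  · have hVne : (V : Set (Spec (CommRingCat.of (MvPolynomial (Fin n) k)))).Nonempty := by
      obtain ⟨x, hx⟩ := hne
      exact ⟨V.ι (a ⟨x, hx⟩), (a ⟨x, hx⟩).2⟩
    obtain ⟨P, hP⟩ := exists_point_of_infinite k K V hVne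
    refine ⟨⟨P ≫ b ≫ U.ι, ?_⟩, ?_⟩
    · rw [Category.assoc, Category.assoc, hb]; exact hP
    · rintro _ ⟨pt, rfl⟩
      exact ((P ≫ b) pt).2
  · intro A B hA hB
    obtain ⟨A', hA'⟩ : ∃ A' : Spec (CommRingCat.of K) ⟶ (U : Scheme.{u}), A' ≫ U.ι = A.1 :=
      ⟨IsOpenImmersion.lift U.ι A.1 (by rw [Scheme.Opens.range_ι]; exact hA),
        IsOpenImmersion.lift_fac _ _ _⟩
    obtain ⟨B', hB'⟩ : ∃ B' : Spec (CommRingCat.of K) ⟶ (U : Scheme.{u}), B' ≫ U.ι = B.1 :=
      ⟨IsOpenImmersion.lift U.ι B.1 (by rw [Scheme.Opens.range_ι]; exact hB),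
        IsOpenImmersion.lift_fac _ _ _⟩
    obtain ⟨U', h, a₀, b₀, h1, h2, h3, h4, h5⟩ := link_of_retract k f U n V a b hab ha hb K
      ⟨A', by rw [← Category.assoc, hA']; exact A.2⟩ ⟨B', by rw [← Category.assoc, hB']; exact B.2⟩
    refine Relation.EqvGen.rel _ _ ⟨U', h ≫ U.ι, a₀, b₀, ?_, h2, h3, ?_, ?_⟩
    · rw [Category.assoc]; exact h1
    · rw [← Category.assoc, h4]; exact hA'
    · rw [← Category.assoc, h5]; exact hB'

end Main

end Groth.Agent.Lib.Helper11.RLink
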