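import Groth.Agent.Lib.Helper3.StalkLin
import Groth.Agent.Lib.Helper3.QCPush
import Groth.Agent.Lib.Helper3.ModBasic
import Groth.Prelude.Def_TorSh
import Groth.Prelude.Def_Coh
import Mathlib.AlgebraicGeometry.FunctionField

/-!
# Nonzero sub-`O_X`-modules of the sheaf of rational functions are torsion-free of rank one
-/

set_option autoImplicit false
universe u
open CategoryTheory CategoryTheory.Limits AlgebraicGeometry TopologicalSpace Opposite

namespace Groth.Agent.Lib.Helper11.RatSub

open Groth.Agent.Lib.Helper3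

variable (X : Scheme.{u}) [IsIntegral X]

/-- The sheaf of rational functions. -/
noncomputable abbrev KSh : X.Modules :=
  (Scheme.Modules.pushforward (X.fromSpecStalk (genericPoint X))).obj
    (Coh.structureModule (Spec (X.presheaf.stalk (genericPoint X))))

variable {X}

theorem preimage_eq_top {U : X.Opens} (hη : genericPoint X ∈ U) :
    X.fromSpecStalk (genericPoint X) ⁻¹ᵁ U = ⊤ := by
  ext y
  simp only [Scheme.Hom.mem_preimage, Opens.coe_top, Set.mem_univ, iff_true, SetLike.mem_coe]
  have hy : y = IsLocalRing.closedPoint (X.presheaf.stalk (genericPoint X)) :=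
    Subsingleton.elim (α := PrimeSpectrum (X.presheaf.stalk (genericPoint X))) _ _
  rw [hy, Scheme.fromSpecStalk_closedPoint]
  exact hη

/-- The "constant rational function" map `K → Γ(𝒦, U)`. -/
noncomputable def cRing (U : X.Opens) : X.presheaf.stalk (genericPoint X) →+*
    Γ(Spec (X.presheaf.stalk (genericPoint X)), X.fromSpecStalk (genericPoint X) ⁻¹ᵁ U) :=
  ((Scheme.ΓSpecIso (X.presheaf.stalk (genericPoint X))).inv ≫
    (Spec (X.presheaf.stalk (genericPoint X))).presheaf.map (homOfLE le_top).op).hom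

theorem cRing_bijective {U : X.Opens} (hη : genericPoint X ∈ U) :
    Function.Bijective (cRing U) := by
  have h1 : IsIso ((Spec (X.presheaf.stalk (genericPoint X))).presheaf.map
      (homOfLE (le_top : X.fromSpecStalk (genericPoint X) ⁻¹ᵁ U ≤ ⊤)).op) := by
    have : (homOfLE (le_top : X.fromSpecStalk (genericPoint X) ⁻¹ᵁ U ≤ ⊤)) =
        eqToHom (preimage_eq_top hη) := Subsingleton.elim _ _
    rw [this]
    infer_instance
  have h2 : IsIso ((Scheme.ΓSpecIso (X.presheaf.stalk (genericPoint X))).inv ≫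
    (Spec (X.presheaf.stalk (genericPoint X))).presheaf.map
      (homOfLE (le_top : X.fromSpecStalk (genericPoint X) ⁻¹ᵁ U ≤ ⊤)).op) := inferInstance
  exact ConcreteCategory.bijective_of_isIso _

/-- The constant map as a function into the sections of `KSh`. -/
noncomputable def c (U : X.Opens) (k : X.presheaf.stalk (genericPoint X)) : Γ(KSh X, U) :=
  cRing U k

theorem c_bijective {U : X.Opens} (hη : genericPoint X ∈ U) :
    Function.Bijective (c (X := X) U) := cRing_bijective hη

theorem c_zero (U : X.Opens) : c (X := X) U 0 = 0 := map_zero (cRing U)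

theorem c_res {U V : X.Opens} (h : V ≤ U) (k : X.presheaf.stalk (genericPoint X)) :
    (KSh X).presheaf.map (homOfLE h).op (c U k) = c V k := by
  change (Spec (X.presheaf.stalk (genericPoint X))).presheaf.map
    (homOfLE ((X.fromSpecStalk (genericPoint X)).preimage_mono h)).op (cRing U k) = cRing V k
  unfold cRing
  rw [CommRingCat.hom_comp, CommRingCat.hom_comp, RingHom.comp_apply, RingHom.comp_apply,
    ← CommRingCat.comp_apply, ← Functor.map_comp]
  rfl

theorem c_smul {U : X.Opens} (hη : genericPoint X ∈ U) (r : Γ(X, U))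
    (k : X.presheaf.stalk (genericPoint X)) :
    r • c U k = c U (X.presheaf.germ U _ hη r * k) := by
  rw [QCSec.pushforward_smul]
  change (X.fromSpecStalk (genericPoint X)).app U r * cRing U k = cRing U _
  rw [map_mul]
  congr 1
  rw [Scheme.fromSpecStalk_app hη]
  rfl

theorem mem_of_mem {x : X} {W : X.Opens} (hx : x ∈ W) : genericPoint X ∈ W :=
  (genericPoint_specializes x).mem_open W.isOpen hx

theorem ksh_torsionFree (x : X) :
    Module.IsTorsionFree (X.presheaf.stalk x) ((KSh X).presheaf.stalk x) := by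
  rw [Module.isTorsionFree_iff_smul_eq_zero]
  intro r m h
  obtain ⟨W, hx, r', a, rfl, rfl⟩ := QS.exists_germ_pair (KSh X) x r m
  rw [← QS.germ_smul] at h
  have hη : genericPoint X ∈ W := mem_of_mem hx
  obtain ⟨k, rfl⟩ := (c_bijective hη).2 a
  rw [c_smul hη] at h
  have h0 : (KSh X).presheaf.germ W x hx (c W (X.presheaf.germ W _ hη r' * k)) =
      (KSh X).presheaf.germ W x hx (c W 0) := by
    rw [h, c_zero, map_zero]
  obtain ⟨V, hxV, i1, i2, h1⟩ := TopCat.Presheaf.germ_eq _ x hx hx _ _ h0
  have hVW : V ≤ W := leOfHom i1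
  have e1 : i1 = homOfLE hVW := Subsingleton.elim _ _
  have e2 : i2 = homOfLE hVW := Subsingleton.elim _ _
  rw [e1, e2, c_res, c_res] at h1
  have h2 := (c_bijective (mem_of_mem hxV)).1 h1
  rcases mul_eq_zero.mp h2 with h3 | h3
  · left
    have : r' = 0 := by
      apply germ_injective_of_isIntegral _ _ hη
      rw [h3, map_zero]
    rw [this, map_zero]
  · right
    rw [h3, c_zero, map_zero]

theorem torsionFree_of_mono (G : X.Modules) (i : G ⟶ KSh X) [Mono i] :
    TorSh.IsTorsionFree G := fun x =>
  haveI := ksh_torsionFree (X := X) x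
  Function.Injective.moduleIsTorsionFree (QS.stalkMap i x) (QS.stalkMap_injective_of_mono i x)
    (QS.stalkMap_smul i x)

theorem finrank_of_mono (G : X.Modules) (i : G ⟶ KSh X) [Mono i] (hG : ¬ IsZero G) :
    Module.finrank (X.presheaf.stalk (genericPoint X)) (G.presheaf.stalk (genericPoint X)) = 1 := by
  have hinj : ∀ U : X.Opens, Function.Injective (i.app U) :=
    fun U => (QCProps.mono_iff_app_injective i).mp inferInstance U
  -- a nonzero section
  obtain ⟨U, s, hs⟩ : ∃ (U : X.Opens) (s : Γ(G, U)), s ≠ 0 := by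
    by_contra hcon
    push Not at hcon
    apply hG
    apply ModBasic.isZero_of_subsingleton
    intro U
    exact ⟨fun a b => by rw [hcon U a, hcon U b]⟩
  have his : i.app U s ≠ 0 := fun h => hs (hinj U (by rw [h, map_zero]))
  have hη : genericPoint X ∈ U := by
    by_contra hcon
    apply his
    have hbot : X.fromSpecStalk (genericPoint X) ⁻¹ᵁ U = ⊥ := by
      ext y
      simp only [Scheme.Hom.mem_preimage, SetLike.mem_coe, Opens.coe_bot, Set.mem_empty_iff_false,
        iff_false]
      intro hy
      exact hcon (mem_of_mem hy)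
    have hsub : Subsingleton Γ(Spec (X.presheaf.stalk (genericPoint X)),
        X.fromSpecStalk (genericPoint X) ⁻¹ᵁ U) := by
      rw [hbot]
      infer_instance
    exact hsub.elim (α := Γ(Spec (X.presheaf.stalk (genericPoint X)),
        X.fromSpecStalk (genericPoint X) ⁻¹ᵁ U)) _ _
  obtain ⟨k1, hk1⟩ := (c_bijective hη).2 (i.app U s)
  have hk1ne : k1 ≠ 0 := by
    intro h0
    apply his
    rw [← hk1, h0, c_zero]
  -- the germ of `s` is non-zero
  have hv : G.presheaf.germ U _ hη s ≠ 0 := by
    intro h0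
    have h1 : G.presheaf.germ U _ hη s = G.presheaf.germ U _ hη 0 := by rw [h0, map_zero]
    obtain ⟨V, hxV, i1, i2, h2⟩ := TopCat.Presheaf.germ_eq _ _ hη hη _ _ h1
    have hVU : V ≤ U := leOfHom i1
    have e1 : i1 = homOfLE hVU := Subsingleton.elim _ _
    have e2 : i2 = homOfLE hVU := Subsingleton.elim _ _
    rw [e1, e2, map_zero] at h2
    have h3 : i.app V (G.presheaf.map (homOfLE hVU).op s) = 0 := by rw [h2, map_zero]
    rw [ModBasic.app_res, ← hk1, c_res, ← c_zero V] at h3
    exact hk1ne ((c_bijective hxV).1 h3)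
  rw [finrank_eq_one_iff_of_nonzero' _ hv]
  intro w
  obtain ⟨W, hW, t, rfl⟩ := TopCat.Presheaf.exists_germ_eq G.presheaf w
  obtain ⟨k2, hk2⟩ := (c_bijective hW).2 (i.app W t)
  obtain ⟨W', hW', g, hg⟩ := TopCat.Presheaf.exists_germ_eq X.presheaf (k2 * k1⁻¹)
  refine ⟨k2 * k1⁻¹, ?_⟩
  -- pass to the common open `V`
  let V : X.Opens := U ⊓ W ⊓ W'
  have hV : genericPoint X ∈ V := ⟨⟨hη, hW⟩, hW'⟩
  have hVU : V ≤ U := inf_le_left.trans inf_le_left
  have hVW : V ≤ W := inf_le_left.trans inf_le_right
  have hVW' : V ≤ W' := inf_le_right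
  have e1 : G.presheaf.germ U _ hη s = G.presheaf.germ V _ hV (G.presheaf.map (homOfLE hVU).op s) :=
    (TopCat.Presheaf.germ_res_apply G.presheaf (homOfLE hVU) _ hV s).symm
  have e2 : G.presheaf.germ W _ hW t = G.presheaf.germ V _ hV (G.presheaf.map (homOfLE hVW).op t) :=
    (TopCat.Presheaf.germ_res_apply G.presheaf (homOfLE hVW) _ hV t).symm
  have e3 : k2 * k1⁻¹ = X.presheaf.germ V _ hV (X.presheaf.map (homOfLE hVW').op g) := by
    rw [← hg]
    exact (TopCat.Presheaf.germ_res_apply X.presheaf (homOfLE hVW') _ hV g).symm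
  rw [e1, e2, e3, ← QS.germ_smul]
  congr 1
  apply hinj V
  rw [Scheme.Modules.Hom.app_smul, ModBasic.app_res, ModBasic.app_res, ← hk1, ← hk2, c_res, c_res,
    c_smul hV, ← e3]
  congr 1
  field_simp

end Groth.Agent.Lib.Helper11.RatSub
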