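import Mathlib
import Groth.Prelude
import Groth.Agent.Lib.Helper23.CurveNefA
import Groth.Agent.Lib.Helper17.DevStep
import Groth.Agent.Lib.Helper3.PbBasic
import Groth.Agent.Lib.Helper3.SubIdeal

/-!
# Lifting a section of `i^*L` on a closed subscheme to a global section of `L` (helper11, for S19496)
-/

set_option autoImplicit false
set_option linter.style.haveILetI false
universe u
open CategoryTheory CategoryTheory.Limits AlgebraicGeometry

namespace Groth.Agent.Lib.Helper11.RelNefP

open Groth.Agent.Lib.Helper3 Groth.Agent.Lib.Helper3.QCSec Groth.Agent.Lib.Helper3.InvGen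
  Groth.Agent.Lib.Helper3.PbBasic Groth.Agent.Lib.Helper3.InvAmple
  Groth.Agent.Lib.Helper17 Groth.Agent.Lib.Helper23.T2

/-- surjectivity on `H⁰` gives surjectivity on global sections. -/
theorem surjective_app_top {X : Scheme.{u}} {M N : X.Modules} (φ : M ⟶ N)
    (hsurj : Function.Surjective (Hmap φ 0)) (τ : Γm N) : ∃ m : Γm M, Γmap φ m = τ := by
  obtain ⟨y, hy⟩ := hsurj ((H0equiv N).symm τ)
  refine ⟨H0equiv M y, ?_⟩
  rw [← H0equiv_naturality, hy, LinearEquiv.apply_symm_apply]

/-- (P) a section `t` of `i^*L` on the closed subscheme `V(J)` lifts to a global section `s` of `L`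
whose locus of generation restricts to that of `t`. -/
theorem exists_lift_genLocus {X : Scheme.{u}} (J : X.IdealSheafData) {L : X.Modules}
    (hL : PicF.IsInvertible L) (hsurj : Function.Surjective (Hmap (DevStep.proj J L) 0))
    (t : Coh.structureModule J.subscheme ⟶ (Scheme.Modules.pullback J.subschemeι).obj L) :
    ∃ s : Coh.structureModule X ⟶ L,
      J.subschemeι ⁻¹ᵁ CohB1.genLocus L s = CohB1.genLocus _ t := by
  obtain ⟨m, hm⟩ := surjective_app_top (DevStep.proj J L) hsurj (sec t (J.subschemeι ⁻¹ᵁ ⊤))
  refine ⟨globalHom L m, ?_⟩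
  have ht : pullHom J.subschemeι (globalHom L m) = t := by
    apply SubIdeal.unit_hom_ext
    have h1 := sec_pullHom J.subschemeι (globalHom L m) ⊤
    rw [sec_globalHom, res_self] at h1
    exact h1.trans hm
  rw [← genLocus_pullHom J.subschemeι hL, ht]

end Groth.Agent.Lib.Helper11.RelNefP
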