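import Mathlib
import Groth.Prelude
import Groth.Agent.Lib.Helper11.RelNefP
import Groth.Agent.Lib.Helper7.CurveGG
import Groth.Agent.Lib.Helper3.FreeSec

/-!
# (H) for S19496: global generation can be checked on the closed fibres (helper11)
-/

set_option autoImplicit false
set_option linter.style.haveILetI false
universe u
open CategoryTheory CategoryTheory.Limits AlgebraicGeometry

namespace Groth.Agent.Lib.Helper11.RelNefH

open Groth.Agent.Lib.Helper3 Groth.Agent.Lib.Helper3.QCSec Groth.Agent.Lib.Helper3.InvGen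
  Groth.Agent.Lib.Helper3.PbBasic Groth.Agent.Lib.Helper3.InvAmple
  Groth.Agent.Lib.Helper17 Groth.Agent.Lib.Helper23.T2

/-- the closed fibre over a maximal ideal `m` contains every point mapping to `m`. -/
theorem mem_range_fibre {A : Type u} [CommRing A] {X : Scheme.{u}}
    (f : X ⟶ Spec (CommRingCat.of A)) (m : Ideal A) (x : X)
    (hx : m ≤ (show PrimeSpectrum A from f.base x).asIdeal) :
    x ∈ Set.range ((Spec.map (CommRingCat.ofHom (Ideal.Quotient.mk m))).ker.comap f).subschemeι.base := by
  haveI : IsClosedImmersion (Spec.map (CommRingCat.ofHom (Ideal.Quotient.mk m))) :=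
    IsClosedImmersion.spec_of_surjective _ Ideal.Quotient.mk_surjective
  generalize hg : Spec.map (CommRingCat.ofHom (Ideal.Quotient.mk m)) = g at *
  have hrg : Set.range g.base = PrimeSpectrum.zeroLocus (m : Set A) := by
    rw [← hg]
    have h1 := _root_.range_comap_of_surjective (A ⧸ m) (Ideal.Quotient.mk m)
      Ideal.Quotient.mk_surjective
    rw [Ideal.mk_ker] at h1
    exact h1
  have hsupp : (g.ker.support : Set ↥(Spec (CommRingCat.of A))) = Set.range g.base := by
    rw [Scheme.Hom.support_ker, g.isClosedEmbedding.isClosed_range.closure_eq]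
  rw [Scheme.IdealSheafData.range_subschemeι, Scheme.IdealSheafData.support_comap,
    TopologicalSpace.Closeds.coe_preimage, hsupp, hrg]
  exact hx

/-- (H) global generation can be checked on the closed fibres; `fibIdeal f m` is written unfolded:
`(Spec.map (CommRingCat.ofHom (Ideal.Quotient.mk m))).ker.comap f`. -/
theorem H_gg_of_fibres {A : Type u} [CommRing A] [IsNoetherianRing A] {X : Scheme.{u}}
    (f : X ⟶ Spec (CommRingCat.of A)) [IsProper f] (L : X.Modules) (hL : PicF.IsInvertible L)
    (h : ∀ m : Ideal A, m.IsMaximal →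
      Function.Surjective (Hmap (DevStep.proj
        ((Spec.map (CommRingCat.ofHom (Ideal.Quotient.mk m))).ker.comap f) L) 0) ∧
        Curv2.IsGloballyGenerated ((Scheme.Modules.pullback
          ((Spec.map (CommRingCat.ofHom (Ideal.Quotient.mk m))).ker.comap f).subschemeι).obj L)) :
    Curv2.IsGloballyGenerated L := by
  have key : ∀ y : X, ∃ s : Coh.structureModule X ⟶ L, y ∈ CohB1.genLocus L s := by
    by_contra hcon
    push Not at hcon
    obtain ⟨y₀, hy₀⟩ := hcon
    let Z : Set X := ⋂ s : Coh.structureModule X ⟶ L, ((CohB1.genLocus L s : X.Opens) : Set X)ᶜ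
    have hZc : IsClosed Z := isClosed_iInter fun s => (CohB1.genLocus L s).isOpen.isClosed_compl
    have hZne : Z.Nonempty := ⟨y₀, Set.mem_iInter.mpr fun s => hy₀ s⟩
    haveI : CompactSpace X := QuasiCompact.compactSpace_of_compactSpace f
    obtain ⟨x₀, hx₀Z, hx₀c⟩ := hZc.exists_closed_singleton hZne
    have hpc : IsClosed ({f.base x₀} : Set ↥(Spec (CommRingCat.of A))) := by
      have := f.isClosedMap _ hx₀c
      rwa [Set.image_singleton] at this
    have hmax : (show PrimeSpectrum A from f.base x₀).asIdeal.IsMaximal :=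
      (PrimeSpectrum.isClosed_singleton_iff_isMaximal _).mp hpc
    obtain ⟨hsurj, hgg⟩ := h _ hmax
    obtain ⟨x', hx'⟩ := mem_range_fibre f _ x₀ le_rfl
    obtain ⟨t, ht⟩ := FreeSec.exists_mem_genLocus_of_isGloballyGenerated
      (isInvertible_pullback _ hL) hgg x'
    obtain ⟨s, hs⟩ := RelNefP.exists_lift_genLocus _ hL hsurj t
    have h1 : x' ∈ ((Spec.map (CommRingCat.ofHom (Ideal.Quotient.mk
        (show PrimeSpectrum A from f.base x₀).asIdeal))).ker.comap f).subschemeι ⁻¹ᵁ
          CohB1.genLocus L s := by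
      rw [hs]; exact ht
    have h2 : x₀ ∈ CohB1.genLocus L s := by
      rw [← hx']; exact h1
    exact (Set.mem_iInter.mp hx₀Z s) h2
  refine Groth.Agent.Lib.Helper7.CurvePair.isGloballyGenerated_of_forall_mem_genLocus hL
    (fun y => ?_)
  obtain ⟨s, hs⟩ := key y
  exact ⟨sec s ⊤, by rw [SubIdeal.globalHom_sec]; exact hs⟩

end Groth.Agent.Lib.Helper11.RelNefH
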