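import Mathlib
import Groth.Prelude.Def_HTop2
import Groth.Agent.Lib.Helper11.RootsSheaf

/-!
# Unique roots can be checked on stalks (helper11)
-/

set_option autoImplicit false
universe u

open CategoryTheory AlgebraicGeometry TopologicalSpace Opposite

namespace Groth.Agent.Lib.Helper11.Roots

section Sheaf

variable {X : TopCat.{u}} (F : TopCat.Sheaf CommRingCat.{u} X) {m n k : ℕ}

/-- gluing of unique roots: uniqueness on all opens + local existence. -/
theorem hasRoots_of_locally
    (huniq : ∀ (V : Opens X) (a b : F.1.obj (op V)), a ^ m = b ^ m →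
      (k : F.1.obj (op V)) * a ^ n = (k : F.1.obj (op V)) * b ^ n → a = b)
    (hex : ∀ (V : Opens X) (x y : F.1.obj (op V)), (k : F.1.obj (op V)) ^ m * x ^ n = y ^ m →
      ∀ p : X, p ∈ V → ∃ (W : Opens X) (_ : p ∈ W) (hWV : W ≤ V) (s : F.1.obj (op W)),
        F.1.map (homOfLE hWV).op x = s ^ m ∧
        F.1.map (homOfLE hWV).op y = (k : F.1.obj (op W)) * s ^ n)
    (V : Opens X) : HasRoots (F.1.obj (op V)) m n k := by
  intro x y hxy
  choose W hpW hWV a ha1 ha2 using hex V x y hxy
  let U : V → Opens X := fun p => W p.1 p.2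
  have hcompat : TopCat.Presheaf.IsCompatible F.1 U (fun p => a p.1 p.2) := by
    intro p q
    apply huniq
    · rw [← map_pow, ← map_pow, ← ha1 p.1 p.2, ← ha1 q.1 q.2]
      simp only [← ConcreteCategory.comp_apply, ← F.1.map_comp]
      rfl
    · have e1 : ∀ (r : V) (i : U p ⊓ U q ⟶ U r),
          (k : F.1.obj (op (U p ⊓ U q))) * (F.1.map i.op (a r.1 r.2)) ^ n =
            F.1.map i.op (F.1.map (homOfLE (hWV r.1 r.2)).op y) := by
        intro r i
        rw [ha2 r.1 r.2, map_mul, map_pow, map_natCast]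
      rw [e1 p, e1 q]
      simp only [← ConcreteCategory.comp_apply, ← F.1.map_comp]
      rfl
  have hcover : V ≤ iSup U := fun p hp => Opens.mem_iSup.mpr ⟨⟨p, hp⟩, hpW p hp⟩
  obtain ⟨s, hs, -⟩ := F.existsUnique_gluing' U V (fun p => homOfLE (hWV p.1 p.2))
    hcover (fun p => a p.1 p.2) hcompat
  have hsx : x = s ^ m := by
    refine F.eq_of_locally_eq' U V (fun p => homOfLE (hWV p.1 p.2)) hcover _ _ ?_
    intro p
    rw [map_pow, hs p]
    exact ha1 p.1 p.2
  have hsy : y = (k : F.1.obj (op V)) * s ^ n := by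
    refine F.eq_of_locally_eq' U V (fun p => homOfLE (hWV p.1 p.2)) hcover _ _ ?_
    intro p
    rw [map_mul, map_pow, map_natCast, hs p]
    exact ha2 p.1 p.2
  refine ⟨s, ⟨hsx, hsy⟩, ?_⟩
  rintro s' ⟨hs'1, hs'2⟩
  exact huniq V s' s (by rw [← hs'1, ← hsx]) (by rw [← hs'2, ← hsy])

/-- unique roots can be checked on stalks. -/
theorem hasRoots_of_stalks (h : ∀ p : X, HasRoots (F.presheaf.stalk p) m n k) (V : Opens X) :
    HasRoots (F.1.obj (op V)) m n k := by
  refine hasRoots_of_locally F ?_ ?_ V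
  · intro V a b h1 h2
    refine TopCat.Presheaf.section_ext F V a b fun p hp => ?_
    apply (h p).unique
    · rw [← map_pow, ← map_pow, h1]
    · have := congrArg (F.presheaf.germ V p hp) h2
      rwa [map_mul, map_mul, map_pow, map_pow, map_natCast] at this
  · intro V x y hxy p hp
    have hxy' : (k : F.presheaf.stalk p) ^ m * (F.presheaf.germ V p hp x) ^ n =
        (F.presheaf.germ V p hp y) ^ m := by
      have := congrArg (F.presheaf.germ V p hp) hxy
      rwa [map_mul, map_pow, map_pow, map_pow, map_natCast] at this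
    obtain ⟨t, ⟨ht1, ht2⟩, -⟩ := h p _ _ hxy'
    obtain ⟨W₀, hpW₀, s₀, hs₀⟩ := F.presheaf.exists_germ_eq t
    -- shrink so that the two equations hold
    have e1 : F.presheaf.germ V p hp x = F.presheaf.germ W₀ p hpW₀ (s₀ ^ m) := by
      rw [map_pow, hs₀]; exact ht1
    have e2 : F.presheaf.germ V p hp y =
        F.presheaf.germ W₀ p hpW₀ ((k : F.1.obj (op W₀)) * s₀ ^ n) := by
      rw [map_mul, map_pow, map_natCast, hs₀]; exact ht2
    obtain ⟨W₁, hpW₁, i₁, j₁, hW₁⟩ := F.presheaf.germ_eq p hp hpW₀ _ _ e1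
    obtain ⟨W₂, hpW₂, i₂, j₂, hW₂⟩ := F.presheaf.germ_eq p hp hpW₀ _ _ e2
    refine ⟨W₁ ⊓ W₂, ⟨hpW₁, hpW₂⟩, inf_le_left.trans i₁.le,
      F.1.map (homOfLE (inf_le_left.trans j₁.le)).op s₀, ?_, ?_⟩
    · have := congrArg (F.1.map (homOfLE (inf_le_left : W₁ ⊓ W₂ ≤ W₁)).op) hW₁
      simp only [← ConcreteCategory.comp_apply, ← F.1.map_comp] at this
      rw [← map_pow]
      exact this
    · have := congrArg (F.1.map (homOfLE (inf_le_right : W₁ ⊓ W₂ ≤ W₂)).op) hW₂
      simp only [← ConcreteCategory.comp_apply, ← F.1.map_comp] at this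
      rw [map_mul, map_pow, map_natCast] at this
      exact this

end Sheaf

end Groth.Agent.Lib.Helper11.Roots
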