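import Mathlib
import Groth.Prelude.Def_CInt

/-!
# Helper11 SD2: morphisms into affine schemes agreeing on a schematically dense open; sections of
morphisms that are isomorphisms over a schematically dense open
-/

set_option autoImplicit false

namespace Groth.Agent.Lib.Helper11.SD2

open CategoryTheory CategoryTheory.Limits AlgebraicGeometry Opposite TopologicalSpace

universe u

theorem inj_transfer {E : Scheme.{u}} {V₁ V₂ V₁' V₂' : E.Opens} (h1 : V₁' = V₁) (h2 : V₂' = V₂)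
    (le : V₁ ≤ V₂) (le' : V₁' ≤ V₂')
    (h : Function.Injective (E.presheaf.map (homOfLE le).op)) :
    Function.Injective (E.presheaf.map (homOfLE le').op) := by
  subst h1; subst h2; exact h

/-- morphisms into an affine scheme that agree on an open `D` with `Γ(Z,⊤) → Γ(Z,D)` injective
are equal -/
theorem eq_of_dense {Z Y : Scheme.{u}} [IsAffine Y] (a b : Z ⟶ Y) (D : Z.Opens)
    (hD : Function.Injective (Z.presheaf.map (homOfLE (le_top : D ≤ ⊤)).op))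
    (h : D.ι ≫ a = D.ι ≫ b) : a = b := by
  apply ext_of_isAffine
  have hinj : Function.Injective D.ι.appTop := by
    rw [Scheme.Opens.ι_appTop]
    exact inj_transfer D.ι_image_top rfl (le_top : D ≤ ⊤) le_top hD
  ext x
  apply hinj
  have e := congrArg (fun φ : D.toScheme ⟶ Y => φ.appTop x) h
  simp only [Scheme.Hom.comp_appTop] at e
  exact e

theorem main {E S : Scheme.{u}} (f : E ⟶ S) (U : S.Opens)
    (hiso : IsIso (morphismRestrict f U)) (hdense : CInt.IsSchematicallyDense (f ⁻¹ᵁ U))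
    (σ : S ⟶ E) (hσ : σ ≫ f = 𝟙 S) (s : S) :
    ∃ W : E.Opens, σ.base s ∈ W ∧ IsOpenImmersion (W.ι ≫ f) := by
  -- σ restricted to U is inverse to f ∣_ U
  have hσU : Set.range (U.ι ≫ σ).base ⊆ Set.range (f ⁻¹ᵁ U).ι.base := by
    rintro _ ⟨u, rfl⟩
    rw [Scheme.Opens.range_ι]
    show f.base ((U.ι ≫ σ).base u) ∈ U
    have e := congrArg (fun φ : U.toScheme ⟶ S => φ.base u) (show (U.ι ≫ σ) ≫ f = U.ι by
      rw [Category.assoc, hσ, Category.comp_id])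
    simp only [Scheme.Hom.comp_base, TopCat.comp_app] at e ⊢
    rw [e]
    exact u.2
  let σU : U.toScheme ⟶ (f ⁻¹ᵁ U).toScheme := IsOpenImmersion.lift (f ⁻¹ᵁ U).ι (U.ι ≫ σ) hσU
  have hσU' : σU ≫ (f ⁻¹ᵁ U).ι = U.ι ≫ σ := IsOpenImmersion.lift_fac _ _ _
  have h1 : σU ≫ (f ∣_ U) = 𝟙 _ := by
    rw [← cancel_mono U.ι, Category.assoc, morphismRestrict_ι, ← Category.assoc, hσU',
      Category.assoc, hσ, Category.comp_id, Category.id_comp]
  have h2 : (f ∣_ U) ≫ σU = 𝟙 _ := by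
    haveI := hiso
    rw [← cancel_epi (inv (f ∣_ U)), IsIso.inv_hom_id_assoc, Category.comp_id]
    rw [← cancel_mono (f ∣_ U), h1, IsIso.inv_hom_id]
  have hfix : (f ⁻¹ᵁ U).ι ≫ f ≫ σ = (f ⁻¹ᵁ U).ι := by
    rw [← Category.assoc, ← morphismRestrict_ι, Category.assoc, ← hσU', ← Category.assoc, h2,
      Category.id_comp]
  -- affine neighbourhood
  have hex : ∃ W₀ : E.Opens, IsAffineOpen W₀ ∧ σ.base s ∈ W₀ := by
    obtain ⟨_, ⟨V, hV, rfl⟩, hyV, -⟩ := E.isBasis_affineOpens.exists_subset_of_mem_open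
      (Set.mem_univ (σ.base s)) isOpen_univ
    exact ⟨V, hV, hyV⟩
  obtain ⟨W₀, hW₀, hsW₀⟩ := hex
  haveI : IsAffine W₀.toScheme := hW₀
  let W : E.Opens := W₀ ⊓ (f ≫ σ) ⁻¹ᵁ W₀
  have hsW : σ.base s ∈ W := by
    refine ⟨hsW₀, ?_⟩
    show (f ≫ σ).base (σ.base s) ∈ W₀
    have e := congrArg (fun φ : S ⟶ S => φ.base s) hσ
    simp only [Scheme.Hom.comp_base, TopCat.comp_app, Scheme.Hom.id_base, TopCat.id_app] at e ⊢
    rw [e]
    exact hsW₀
  -- the two morphisms W → W₀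
  have ha : Set.range (W.ι ≫ f ≫ σ).base ⊆ Set.range W₀.ι.base := by
    rintro _ ⟨w, rfl⟩
    rw [Scheme.Opens.range_ι]
    exact w.2.2
  have hb : Set.range W.ι.base ⊆ Set.range W₀.ι.base := by
    rintro _ ⟨w, rfl⟩
    rw [Scheme.Opens.range_ι]
    exact w.2.1
  let a : W.toScheme ⟶ W₀.toScheme := IsOpenImmersion.lift W₀.ι (W.ι ≫ f ≫ σ) ha
  let b : W.toScheme ⟶ W₀.toScheme := IsOpenImmersion.lift W₀.ι W.ι hb
  have ha' : a ≫ W₀.ι = W.ι ≫ f ≫ σ := IsOpenImmersion.lift_fac _ _ _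
  have hb' : b ≫ W₀.ι = W.ι := IsOpenImmersion.lift_fac _ _ _
  let D : W.toScheme.Opens := W.ι ⁻¹ᵁ (f ⁻¹ᵁ U)
  have hDinj : Function.Injective (W.toScheme.presheaf.map (homOfLE (le_top : D ≤ ⊤)).op) := by
    rw [Scheme.Opens.toScheme_presheaf_map]
    have hle : W.ι ''ᵁ D ≤ W.ι ''ᵁ ⊤ := (W.ι.opensFunctor.map (homOfLE (le_top : D ≤ ⊤))).le
    refine inj_transfer (V₁ := W ⊓ f ⁻¹ᵁ U) (V₂ := W) ?_ W.ι_image_top inf_le_left hle (hdense W)
    ext x
    constructor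
    · rintro ⟨w, hw, rfl⟩
      exact ⟨w.2, hw⟩
    · rintro ⟨hxW, hxU⟩
      exact ⟨⟨x, hxW⟩, hxU, rfl⟩
  have hDU : Set.range (D.ι ≫ W.ι).base ⊆ Set.range (f ⁻¹ᵁ U).ι.base := by
    rintro _ ⟨d, rfl⟩
    rw [Scheme.Opens.range_ι]
    exact d.2
  let j : D.toScheme ⟶ (f ⁻¹ᵁ U).toScheme := IsOpenImmersion.lift (f ⁻¹ᵁ U).ι (D.ι ≫ W.ι) hDU
  have hj : j ≫ (f ⁻¹ᵁ U).ι = D.ι ≫ W.ι := IsOpenImmersion.lift_fac _ _ _
  have hab : a = b := by
    apply eq_of_dense a b D hDinj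
    rw [← cancel_mono W₀.ι, Category.assoc, Category.assoc, ha', hb', ← Category.assoc, ← hj,
      Category.assoc, hfix]
  have hWfix : W.ι ≫ f ≫ σ = W.ι := by rw [← ha', hab, hb']
  -- now the two inverse morphisms
  let S'' : S.Opens := σ ⁻¹ᵁ W
  have hf'' : Set.range (W.ι ≫ f).base ⊆ Set.range S''.ι.base := by
    rintro _ ⟨w, rfl⟩
    rw [Scheme.Opens.range_ι]
    show σ.base ((W.ι ≫ f).base w) ∈ W
    have e := congrArg (fun φ : W.toScheme ⟶ E => φ.base w) hWfix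
    simp only [Scheme.Hom.comp_base, TopCat.comp_app] at e ⊢
    rw [e]
    exact w.2
  have hσ'' : Set.range (S''.ι ≫ σ).base ⊆ Set.range W.ι.base := by
    rintro _ ⟨t, rfl⟩
    rw [Scheme.Opens.range_ι]
    exact t.2
  let f'' : W.toScheme ⟶ S''.toScheme := IsOpenImmersion.lift S''.ι (W.ι ≫ f) hf''
  let σ'' : S''.toScheme ⟶ W.toScheme := IsOpenImmersion.lift W.ι (S''.ι ≫ σ) hσ''
  have hf''' : f'' ≫ S''.ι = W.ι ≫ f := IsOpenImmersion.lift_fac _ _ _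
  have hσ''' : σ'' ≫ W.ι = S''.ι ≫ σ := IsOpenImmersion.lift_fac _ _ _
  have e1 : f'' ≫ σ'' = 𝟙 _ := by
    rw [← cancel_mono W.ι, Category.assoc, hσ''', ← Category.assoc, hf''', Category.assoc, hWfix,
      Category.id_comp]
  have e2 : σ'' ≫ f'' = 𝟙 _ := by
    rw [← cancel_mono S''.ι, Category.assoc, hf''', ← Category.assoc, hσ''', Category.assoc, hσ,
      Category.comp_id, Category.id_comp]
  haveI : IsIso f'' := ⟨σ'', e1, e2⟩
  refine ⟨W, hsW, ?_⟩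
  rw [← hf''']
  infer_instance

end Groth.Agent.Lib.Helper11.SD2
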