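import Groth.Agent.Lib.Helper11.GrpA
import Groth.Prelude.Def_CInt

/-!
# Helper11 SD3: homomorphisms of group schemes agreeing on a universally schematically dense open
-/

set_option autoImplicit false

namespace Groth.Agent.Lib.Helper11.SD3

open CategoryTheory CategoryTheory.Limits MonoidalCategory CartesianMonoidalCategory MonObj GrpObj
  AlgebraicGeometry
open Groth.Agent.Lib.Helper11.GrpA

universe u

theorem dense_of_isSchematicallyDense {X : Scheme.{u}} (W : X.Opens)
    (h : CInt.IsSchematicallyDense W) : Dense (W : Set X) := by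
  rw [dense_iff_inter_open]
  intro V₀ hV₀ hne
  obtain ⟨x, hx⟩ := hne
  let V : X.Opens := ⟨V₀, hV₀⟩
  by_contra hcon
  have hempty : V ⊓ W = ⊥ := by
    rw [eq_bot_iff]
    intro z hz
    exact hcon ⟨z, hz.1, hz.2⟩
  have hinj := h V
  have h1 : (1 : Γ(X, V)) = 0 := by
    apply hinj
    have hsub : Subsingleton Γ(X, V ⊓ W) := by
      rw [hempty]
      infer_instance
    exact Subsingleton.elim _ _
  haveI : Nonempty V := ⟨⟨x, hx⟩⟩
  exact one_ne_zero h1

variable {S : Scheme.{u}} (G : Over S) [GrpObj G] (U : G.left.Opens)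

/-- `U` as an object over `S` -/
noncomputable abbrev Uo : Over S := Over.mk (U.ι ≫ G.hom)

/-- the inclusion of `U` -/
noncomputable abbrev j : Uo G U ⟶ G := Over.homMk U.ι rfl

theorem flat_mul [Flat G.hom] : Flat μ[G].left := by
  rw [← shearIso_hom_snd (G := G), Over.comp_left]
  haveI : Flat (snd G G).left := by
    show Flat (pullback.snd G.hom G.hom)
    infer_instance
  haveI : IsIso (shearIso (G := G)).hom.left :=
    (inferInstance : IsIso ((Over.forget S).map (shearIso (G := G)).hom))
  infer_instance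

theorem flat_jj : Flat (j G U ⊗ₘ j G U).left := by
  rw [Over.tensorHom_left]
  exact MorphismProperty.pullbackMap (P := @Flat) (inferInstance : Flat U.ι)
    (inferInstance : Flat U.ι) rfl rfl

theorem surjective_mulU
    (hU : ∀ (S' : Scheme.{u}) (g : S' ⟶ S),
      CInt.IsSchematicallyDense ((pullback.fst G.hom g) ⁻¹ᵁ U)) :
    Function.Surjective ((j G U ⊗ₘ j G U) ≫ μ[G]).left.base := by
  intro x
  let K : Over S := Over.mk (G.left.fromSpecResidueField x ≫ G.hom)
  let c : K ⟶ G := Over.homMk (G.left.fromSpecResidueField x) rfl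
  let pt : K.left := IsLocalRing.closedPoint (G.left.residueField x)
  have hpt : ∀ p : K.left, c.left.base p = x := fun p =>
    Scheme.fromSpecResidueField_apply x p
  let D : (G ⊗ K).left.Opens := (fst G K).left ⁻¹ᵁ U
  have hD : Dense (D : Set (G ⊗ K).left) :=
    dense_of_isSchematicallyDense _ (hU K.left K.hom)
  let σ := sigmaIso K c
  haveI : IsIso σ.hom.left := (inferInstance : IsIso ((Over.forget S).map σ.hom))
  have hσD : Dense ((σ.hom.left ⁻¹ᵁ D : (G ⊗ K).left.Opens) : Set (G ⊗ K).left) :=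
    hD.preimage σ.hom.left.isOpenEmbedding.isOpenMap
  haveI : Nonempty (G ⊗ K).left := ⟨(tpt K c).left.base pt⟩
  obtain ⟨w, hwD, hwσ⟩ := (hD.inter_of_isOpen_left hσD D.isOpen).nonempty
  let θ := theta K c
  let y := θ.left.base w
  have h1 : (fst G G).left.base y ∈ U := by
    have e : (θ ≫ fst G G).left.base w = (fst G K).left.base w := by rw [theta_fst]
    rw [Over.comp_left] at e
    exact e ▸ hwD
  have h2 : (snd G G).left.base y ∈ U := by
    have e : (θ ≫ snd G G).left.base w = (σ.hom ≫ fst G K).left.base w := by rw [theta_snd]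
    rw [Over.comp_left, Over.comp_left] at e
    exact e ▸ hwσ
  have hy : y ∈ Set.range (j G U ⊗ₘ j G U).left.base := by
    rw [Over.tensorHom_left]
    erw [Scheme.Pullback.range_map]
    refine ⟨?_, ?_⟩
    · show (fst G G).left.base y ∈ Set.range U.ι.base
      rw [Scheme.Opens.range_ι]; exact h1
    · show (snd G G).left.base y ∈ Set.range U.ι.base
      rw [Scheme.Opens.range_ι]; exact h2
  obtain ⟨z, hz⟩ := hy
  refine ⟨z, ?_⟩
  rw [Over.comp_left, Scheme.Hom.comp_base, TopCat.comp_app, hz]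
  have e : (θ ≫ μ[G]).left.base w = (snd G K ≫ c).left.base w := by rw [theta_mul]
  rw [Over.comp_left, Over.comp_left] at e
  exact e.trans (hpt _)

theorem hom_eq [Flat G.hom] (H : Over S) [GrpObj H]
    (hU : ∀ (S' : Scheme.{u}) (g : S' ⟶ S),
      CInt.IsSchematicallyDense ((pullback.fst G.hom g) ⁻¹ᵁ U))
    (f g : G ⟶ H) [IsMonHom f] [IsMonHom g] (h : U.ι ≫ f.left = U.ι ≫ g.left) : f = g := by
  have hj : j G U ≫ f = j G U ≫ g := Over.OverMorphism.ext h
  have hm : ((j G U ⊗ₘ j G U) ≫ μ[G]) ≫ f = ((j G U ⊗ₘ j G U) ≫ μ[G]) ≫ g := by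
    rw [Category.assoc, Category.assoc, IsMonHom.mul_hom, IsMonHom.mul_hom,
      tensorHom_comp_tensorHom_assoc, tensorHom_comp_tensorHom_assoc, hj]
  haveI := flat_mul G
  haveI := flat_jj G U
  haveI : Flat ((j G U ⊗ₘ j G U) ≫ μ[G]).left := by
    rw [Over.comp_left]; infer_instance
  haveI : Surjective ((j G U ⊗ₘ j G U) ≫ μ[G]).left := ⟨surjective_mulU G U hU⟩
  haveI := Flat.epi_of_flat_of_surjective ((j G U ⊗ₘ j G U) ≫ μ[G]).left
  apply Over.OverMorphism.ext
  have e := congrArg (fun φ => φ.left) hm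
  simp only [Over.comp_left] at e
  exact (cancel_epi _).1 e

end Groth.Agent.Lib.Helper11.SD3
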