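import Mathlib
import Groth.Agent.Lib.Helper11.SEP1

/-!
# Homogeneous spaces under universally open group schemes with connected fibres are separated, II
(helper11)
-/

set_option autoImplicit false
universe u

open CategoryTheory CategoryTheory.Limits MonoidalCategory CartesianMonoidalCategory MonObj GrpObj
  AlgebraicGeometry
open Groth.Agent.Lib.Helper11.NC1 Groth.Agent.Lib.Helper11.ActA Groth.Agent.Lib.Helper11.SEP1

namespace Groth.Agent.Lib.Helper11.SEP2

variable {S : Scheme.{u}}

theorem u1_eq {S S' : Scheme.{u}} (t : S' ⟶ S) : u1 t = t := by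
  have := u1_hom t
  simpa using this

section coords

variable (G X : Over S) [GrpObj G]

/-- the base change of `G` to `X` -/
noncomputable abbrev GX : Over X.left := Red.bc X.hom G

/-- `G_X ×_X G_X` as an object over `S` -/
noncomputable def TT : Over S := Over.mk ((GX G X ⊗ GX G X).hom ≫ X.hom)

omit [GrpObj G] in
theorem g_w (p : (GX G X ⊗ GX G X) ⟶ GX G X) :
    (p.left ≫ prj X.hom G) ≫ G.hom = (GX G X ⊗ GX G X).hom ≫ X.hom := by
  rw [Category.assoc, prj_hom, ← Category.assoc, Over.w]

/-- first coordinate -/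
noncomputable def g₁ : TT G X ⟶ G :=
  Over.homMk ((fst (GX G X) (GX G X)).left ≫ prj X.hom G) (g_w G X _)

/-- second coordinate -/
noncomputable def g₂ : TT G X ⟶ G :=
  Over.homMk ((snd (GX G X) (GX G X)).left ≫ prj X.hom G) (g_w G X _)

/-- third coordinate -/
noncomputable def yy : TT G X ⟶ X := Over.homMk (GX G X ⊗ GX G X).hom rfl

omit [GrpObj G] in
theorem lift_g₁_left : (lift (g₁ G X) (yy G X)).left = (fst (GX G X) (GX G X)).left := by
  refine pullback.hom_ext (f := G.hom) (g := X.hom) ?_ ?_
  · rw [Over.lift_left, pullback.lift_fst]; rfl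
  · rw [Over.lift_left, pullback.lift_snd]
    exact (Over.w (fst (GX G X) (GX G X))).symm

omit [GrpObj G] in
theorem lift_g₂_left : (lift (g₂ G X) (yy G X)).left = (snd (GX G X) (GX G X)).left := by
  refine pullback.hom_ext (f := G.hom) (g := X.hom) ?_ ?_
  · rw [Over.lift_left, pullback.lift_fst]; rfl
  · rw [Over.lift_left, pullback.lift_snd]
    exact (Over.w (snd (GX G X) (GX G X))).symm

omit [GrpObj G] in
theorem lift_g₁_g₂_left : (lift (g₁ G X) (g₂ G X)).left = m2 X.hom G := by
  refine pullback.hom_ext (f := G.hom) (g := G.hom) ?_ ?_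
  · rw [Over.lift_left, pullback.lift_fst]
    exact (m2_fst X.hom G).symm
  · rw [Over.lift_left, pullback.lift_snd]
    exact (m2_snd X.hom G).symm

theorem lift_mul_left : (lift (g₁ G X * g₂ G X) (yy G X)).left = μ[GX G X].left := by
  refine pullback.hom_ext (f := G.hom) (g := X.hom) ?_ ?_
  · rw [Over.lift_left, pullback.lift_fst, Hom.mul_def, Over.comp_left, lift_g₁_g₂_left]
    exact m2_mul X.hom G
  · rw [Over.lift_left, pullback.lift_snd]
    exact (Over.w μ[GX G X]).symm

theorem unit_left : η[GX G X].left = (lift (1 : X ⟶ G) (𝟙 X)).left := by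
  refine pullback.hom_ext (f := G.hom) (g := X.hom) ?_ ?_
  · rw [Over.lift_left, pullback.lift_fst, Hom.one_def, Over.comp_left, Over.toUnit_left]
    have := u1_unit X.hom G
    rw [u1_eq] at this
    exact this.symm
  · rw [Over.lift_left, pullback.lift_snd]
    exact Over.w η[GX G X]

end coords

section main

variable {G X : Over S} [GrpObj G] (a : AlgGrp.Action G X)

theorem unit_mem (U : X.left.Opens) (x : X.left) (hx : x ∈ U) :
    η[GX G X].left.base (show ↥(𝟙_ (Over X.left)).left from x) ∈
      (a.act.left ⁻¹ᵁ U ⊓ (invact a).left ⁻¹ᵁ U : (G ⊗ X).left.Opens) := by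
  change η[GX G X].left x ∈ _
  rw [unit_left]
  have e1 : lift (1 : X ⟶ G) (𝟙 X) ≫ a.act = 𝟙 X := one_actT a (𝟙 X)
  have e2 : lift (1 : X ⟶ G) (𝟙 X) ≫ invact a = 𝟙 X := by
    rw [lift_invact, inv_one, one_actT]
  constructor
  · show a.act.left ((lift (1 : X ⟶ G) (𝟙 X)).left x) ∈ U
    have := apply_congr (congrArg Over.Hom.left e1) x
    simp only [Over.comp_left, Scheme.Hom.comp_apply] at this
    rw [this]; exact hx
  · show (invact a).left ((lift (1 : X ⟶ G) (𝟙 X)).left x) ∈ U
    have := apply_congr (congrArg Over.Hom.left e2) x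
    simp only [Over.comp_left, Scheme.Hom.comp_apply] at this
    rw [this]; exact hx

theorem isClosed_Dg [UniversallyOpen G.hom]
    (hconn : ∀ s : S, _root_.IsConnected (G.hom.base ⁻¹' {s}))
    (hΦ : Surjective (lift a.act (snd G X)).left) : IsClosed (Dg X) := by
  haveI hgc : GeometricallyConnected G.hom := by
    apply FX2.geometricallyConnected_of_grpObj S G
    intro s
    have h1 := hconn s
    rw [isConnected_iff_connectedSpace] at h1
    exact (G.hom.fiberHomeo s).symm.surjective.connectedSpace
      (G.hom.fiberHomeo s).symm.continuous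
  rw [← closure_subset_iff_isClosed]
  intro z hz
  obtain ⟨ξ, rfl⟩ := hΦ.surj z
  obtain ⟨x, hx⟩ : ∃ x : X.left, x = (snd G X).left ξ := ⟨_, rfl⟩
  obtain ⟨U, hU, hxU, -⟩ := exists_isAffineOpen_mem_and_subset (x := x) (U := ⊤) trivial
  have hfib : _root_.IsConnected (⇑(pullback.snd G.hom X.hom) ⁻¹' {x}) :=
    Scheme.Hom.isConnected_preimage_singleton (pullback.snd G.hom X.hom) x
  have hmem : ξ ∈ connectedComponentIn
      ((GX G X).hom.base ⁻¹' {(𝟙_ (Over X.left)).hom.base (show ↥(𝟙_ (Over X.left)).left from x)})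
      (η[GX G X].left.base (show ↥(𝟙_ (Over X.left)).left from x)) := by
    change ξ ∈ connectedComponentIn (⇑(pullback.snd G.hom X.hom) ⁻¹' {x}) _
    rw [hfib.isPreconnected.connectedComponentIn (hom_unit (GX G X) _)]
    exact hx.symm
  obtain ⟨ζ, h1, h2, h3⟩ := KL (GX G X) _ ξ hmem _ (unit_mem a U x hxU)
  have hz1 : (A a).left ((Th a).left ((lift (g₁ G X) (lift (g₂ G X) (yy G X))).left ζ)) =
      (lift a.act (snd G X)).left ξ := by
    have := apply_congr (congrArg Over.Hom.left (T1 a (g₁ G X) (g₂ G X) (yy G X))) ζ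
    simp only [Over.comp_left, Scheme.Hom.comp_apply] at this
    rw [this, lift_mul_left]
    exact congrArg (⇑(lift a.act (snd G X)).left) h3
  rw [← hz1] at hz ⊢
  have hz2 := snd_mem_closure a _ hz
  apply snd_mem_imp_A_mem a
  apply mem_Dg_of_mem_closure U hU _ hz2
  · have := apply_congr (congrArg Over.Hom.left (T2 a (g₁ G X) (g₂ G X) (yy G X))) ζ
    simp only [Over.comp_left, Scheme.Hom.comp_apply] at this
    rw [this, lift_g₂_left]
    exact h2.1
  · have := apply_congr (congrArg Over.Hom.left (T3 a (g₁ G X) (g₂ G X) (yy G X))) ζ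
    simp only [Over.comp_left, Scheme.Hom.comp_apply] at this
    rw [this, lift_g₁_left]
    exact h1.2

theorem isSeparated_of_surjective [UniversallyOpen G.hom]
    (hconn : ∀ s : S, _root_.IsConnected (G.hom.base ⁻¹' {s}))
    (hΦ : Surjective (lift a.act (snd G X)).left) : IsSeparated X.hom := by
  have hcl := isClosed_Dg a hconn hΦ
  have hcl' : IsClosed (Set.range ⇑(pullback.diagonal X.hom)) := hcl
  exact ⟨IsClosedImmersion.of_isPreimmersion _ hcl'⟩

end main

section grp

variable (G : Over S) [GrpObj G]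

/-- left translation action of `G` on itself -/
noncomputable def mulAction : AlgGrp.Action G G where
  act := μ[G]
  one_act := MonObj.one_mul G
  mul_act := MonObj.mul_assoc G

theorem isSeparated_grp [UniversallyOpen G.hom]
    (hconn : ∀ s : S, _root_.IsConnected (G.hom.base ⁻¹' {s})) : IsSeparated G.hom := by
  apply isSeparated_of_surjective (mulAction G) hconn
  have h : lift (fst G G * (snd G G)⁻¹) (snd G G) ≫ lift μ[G] (snd G G) = 𝟙 _ := by
    rw [comp_lift, lift_snd, ← Hom.mul_def, inv_mul_cancel_right, lift_fst_snd]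
  constructor
  intro z
  refine ⟨(lift (fst G G * (snd G G)⁻¹) (snd G G)).left z, ?_⟩
  exact apply_congr (congrArg Over.Hom.left h) z

end grp

end Groth.Agent.Lib.Helper11.SEP2
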