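import Mathlib
import Groth.Prelude.Def_AlgGrp
import Groth.Agent.Lib.Helper11.ArtB
import Groth.Agent.Lib.Helper1.FpqcDescent

/-!
# SES1: closed immersions in short exact sequences of group schemes (helper11)
-/

set_option autoImplicit false
universe u

open CategoryTheory CategoryTheory.Limits MonoidalCategory CartesianMonoidalCategory MonObj GrpObj
  AlgebraicGeometry

namespace Groth.Agent.Lib.Helper11.SES1

theorem isPullback_of_existsUnique {C : Type*} [Category C] {P X Y Z : C} {fst : P ⟶ X}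
    {snd : P ⟶ Y} {f : X ⟶ Z} {g : Y ⟶ Z} (w : fst ≫ f = snd ≫ g)
    (h : ∀ (T : C) (x : T ⟶ X) (y : T ⟶ Y), x ≫ f = y ≫ g →
      ∃ m : T ⟶ P, (m ≫ fst = x ∧ m ≫ snd = y) ∧
        ∀ m' : T ⟶ P, (m' ≫ fst = x ∧ m' ≫ snd = y) → m' = m) :
    IsPullback fst snd f g := by
  refine ⟨⟨w⟩, ⟨PullbackCone.IsLimit.mk _
    (fun s => (h _ s.fst s.snd s.condition).choose) ?_ ?_ ?_⟩⟩
  · intro s
    exact (h _ s.fst s.snd s.condition).choose_spec.1.1
  · intro s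
    exact (h _ s.fst s.snd s.condition).choose_spec.1.2
  · intro s m h1 h2
    exact (h _ s.fst s.snd s.condition).choose_spec.2 m ⟨h1, h2⟩

variable {S : Scheme.{u}}

section Kernel

variable {N G Q : Over S} [GrpObj N] [GrpObj G] [GrpObj Q] (a : N ⟶ G) (b : G ⟶ Q)
  (hk : AlgGrp.IsKernel a b)

include hk in
theorem mono_of_isKernel : Mono a := by
  constructor
  intro T n n' h
  exact hk.hom_ext h (toUnit_unique _ _)

include hk in
theorem exists_of_comp_eq_one {T : Over S} (x : T ⟶ G) (hx : x ≫ b = 1) :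
    ∃ n : T ⟶ N, n ≫ a = x := by
  have hw : x ≫ b = toUnit T ≫ η[Q] := by rw [hx, Hom.one_def]
  exact ⟨hk.lift x (toUnit T) hw, hk.lift_fst _ _ _⟩

include hk in
theorem comp_eq_one {T : Over S} (n : T ⟶ N) : (n ≫ a) ≫ b = 1 := by
  rw [Category.assoc, hk.w, ← Category.assoc, Hom.one_def]
  congr 1
  exact toUnit_unique _ _

end Kernel

section Main

variable {H₁' H₁ H₁'' H₂' H₂ H₂'' : Over S} [GrpObj H₁'] [GrpObj H₁] [GrpObj H₁''] [GrpObj H₂']
  [GrpObj H₂] [GrpObj H₂'']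
  (a₁ : H₁' ⟶ H₁) (b₁ : H₁ ⟶ H₁'') (a₂ : H₂' ⟶ H₂) (b₂ : H₂ ⟶ H₂'')
  [IsMonHom a₁] [IsMonHom b₁] [IsMonHom a₂] [IsMonHom b₂]
  (h₁ : AlgGrp.IsKernel a₁ b₁) (h₂ : AlgGrp.IsKernel a₂ b₂)
  (j' : H₁' ⟶ H₂') (j : H₁ ⟶ H₂) (j'' : H₁'' ⟶ H₂'') [IsMonHom j'] [IsMonHom j] [IsMonHom j'']
  (sq₁ : a₁ ≫ j = j' ≫ a₂) (sq₂ : b₁ ≫ j'' = j ≫ b₂)

/-- the preimage of `H₁''` in `H₂` -/
noncomputable abbrev PP : Over S := Limits.pullback b₂ j''

include sq₂ in
/-- the comparison map `H₁ ⟶ P` -/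
noncomputable def uu : H₁ ⟶ PP b₂ j'' := pullback.lift j b₁ sq₂.symm

theorem uu_fst : uu b₁ b₂ j j'' sq₂ ≫ pullback.fst b₂ j'' = j := pullback.lift_fst _ _ _

theorem uu_snd : uu b₁ b₂ j j'' sq₂ ≫ pullback.snd b₂ j'' = b₁ := pullback.lift_snd _ _ _

include h₂ sq₂ in
theorem rr_aux : ((fst H₂' H₁ ≫ a₂) * (snd H₂' H₁ ≫ j)) ≫ b₂ = (snd H₂' H₁ ≫ b₁) ≫ j'' := by
  rw [MonObj.mul_comp, comp_eq_one a₂ b₂ h₂, _root_.one_mul, Category.assoc, Category.assoc, sq₂]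

/-- the covering `H₂' × H₁ ⟶ P` -/
noncomputable def rr : H₂' ⊗ H₁ ⟶ PP b₂ j'' :=
  pullback.lift ((fst H₂' H₁ ≫ a₂) * (snd H₂' H₁ ≫ j)) (snd H₂' H₁ ≫ b₁)
    (rr_aux b₁ a₂ b₂ h₂ j j'' sq₂)

theorem rr_fst : rr b₁ a₂ b₂ h₂ j j'' sq₂ ≫ pullback.fst b₂ j'' =
    (fst H₂' H₁ ≫ a₂) * (snd H₂' H₁ ≫ j) := pullback.lift_fst _ _ _

theorem rr_snd : rr b₁ a₂ b₂ h₂ j j'' sq₂ ≫ pullback.snd b₂ j'' = snd H₂' H₁ ≫ b₁ :=
  pullback.lift_snd _ _ _

/-- `r` is a base change of `b₁` -/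
theorem isPullback_rr :
    IsPullback (rr b₁ a₂ b₂ h₂ j j'' sq₂) (snd H₂' H₁) (pullback.snd b₂ j'') b₁ := by
  haveI := mono_of_isKernel a₂ b₂ h₂
  refine isPullback_of_existsUnique (rr_snd b₁ a₂ b₂ h₂ j j'' sq₂) (fun T z h hzh => ?_)
  have hx : ((z ≫ pullback.fst b₂ j'') * (h ≫ j)⁻¹) ≫ b₂ = 1 := by
    rw [MonObj.mul_comp, GrpObj.inv_comp, Category.assoc, pullback.condition, ← Category.assoc,
      hzh, Category.assoc, Category.assoc, sq₂, mul_inv_cancel]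
  obtain ⟨k', hk'⟩ := exists_of_comp_eq_one a₂ b₂ h₂ _ hx
  refine ⟨lift k' h, ⟨?_, lift_snd _ _⟩, fun m' hm' => ?_⟩
  · apply pullback.hom_ext
    · rw [Category.assoc, rr_fst, MonObj.comp_mul, ← Category.assoc, lift_fst, ← Category.assoc,
        lift_snd, hk', inv_mul_cancel_right]
    · rw [Category.assoc, rr_snd, ← Category.assoc, lift_snd, hzh]
  · apply CartesianMonoidalCategory.hom_ext
    · rw [lift_fst, ← cancel_mono a₂, hk']
      have h3 := congrArg (fun t => t ≫ pullback.fst b₂ j'') hm'.1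
      simp only [Category.assoc, rr_fst, MonObj.comp_mul] at h3
      rw [← h3, ← Category.assoc, ← Category.assoc, hm'.2, mul_inv_cancel_right, Category.assoc]
    · rw [lift_snd, hm'.2]

include h₁ sq₁ in
/-- the descent square -/
theorem isPullback_main :
    IsPullback (j' ▷ H₁) ((fst H₁' H₁ ≫ a₁) * snd H₁' H₁) (rr b₁ a₂ b₂ h₂ j j'' sq₂)
      (uu b₁ b₂ j j'' sq₂) := by
  haveI := mono_of_isKernel a₂ b₂ h₂
  haveI := mono_of_isKernel a₁ b₁ h₁
  have w : (j' ▷ H₁) ≫ rr b₁ a₂ b₂ h₂ j j'' sq₂ =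
      ((fst H₁' H₁ ≫ a₁) * snd H₁' H₁) ≫ uu b₁ b₂ j j'' sq₂ := by
    apply pullback.hom_ext
    · have hL : ((j' ▷ H₁) ≫ rr b₁ a₂ b₂ h₂ j j'' sq₂) ≫ pullback.fst b₂ j'' =
          (fst H₁' H₁ ≫ j' ≫ a₂) * (snd H₁' H₁ ≫ j) := by
        rw [Category.assoc, rr_fst, MonObj.comp_mul, ← Category.assoc, whiskerRight_fst,
          ← Category.assoc, whiskerRight_snd, Category.assoc]
      have hR : (((fst H₁' H₁ ≫ a₁) * snd H₁' H₁) ≫ uu b₁ b₂ j j'' sq₂) ≫ pullback.fst b₂ j'' =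
          (fst H₁' H₁ ≫ a₁ ≫ j) * (snd H₁' H₁ ≫ j) := by
        rw [Category.assoc, uu_fst, MonObj.mul_comp, Category.assoc]
      rw [hL, hR, sq₁]
    · have hL : ((j' ▷ H₁) ≫ rr b₁ a₂ b₂ h₂ j j'' sq₂) ≫ pullback.snd b₂ j'' =
          snd H₁' H₁ ≫ b₁ := by
        rw [Category.assoc, rr_snd, ← Category.assoc, whiskerRight_snd]
      have hR : (((fst H₁' H₁ ≫ a₁) * snd H₁' H₁) ≫ uu b₁ b₂ j j'' sq₂) ≫ pullback.snd b₂ j'' =
          snd H₁' H₁ ≫ b₁ := by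
        rw [Category.assoc, uu_snd, MonObj.mul_comp, comp_eq_one a₁ b₁ h₁, _root_.one_mul]
      rw [hL, hR]
  refine isPullback_of_existsUnique w (fun T w' x hwx => ?_)
  have e1 : ((w' ≫ fst H₂' H₁) ≫ a₂) * ((w' ≫ snd H₂' H₁) ≫ j) = x ≫ j := by
    have h3 := congrArg (fun t => t ≫ pullback.fst b₂ j'') hwx
    simp only [Category.assoc, rr_fst, uu_fst, MonObj.comp_mul] at h3
    rw [Category.assoc, Category.assoc]
    exact h3
  have e2 : (w' ≫ snd H₂' H₁) ≫ b₁ = x ≫ b₁ := by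
    have h3 := congrArg (fun t => t ≫ pullback.snd b₂ j'') hwx
    simp only [Category.assoc, rr_snd, uu_snd] at h3
    rw [Category.assoc]
    exact h3
  have hx : (x * (w' ≫ snd H₂' H₁)⁻¹) ≫ b₁ = 1 := by
    rw [MonObj.mul_comp, GrpObj.inv_comp, e2, mul_inv_cancel]
  obtain ⟨h', hh'⟩ := exists_of_comp_eq_one a₁ b₁ h₁ _ hx
  have e3 : h' ≫ j' = w' ≫ fst H₂' H₁ := by
    rw [← cancel_mono a₂, Category.assoc, ← sq₁, ← Category.assoc, hh', MonObj.mul_comp,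
      GrpObj.inv_comp, ← e1, mul_inv_cancel_right]
  refine ⟨lift h' (w' ≫ snd H₂' H₁), ⟨?_, ?_⟩, fun m' hm' => ?_⟩
  · apply CartesianMonoidalCategory.hom_ext
    · rw [Category.assoc, whiskerRight_fst, ← Category.assoc, lift_fst, e3]
    · rw [Category.assoc, whiskerRight_snd, lift_snd]
  · rw [MonObj.comp_mul, ← Category.assoc, lift_fst, lift_snd, hh', inv_mul_cancel_right]
  · have f1 : m' ≫ snd H₁' H₁ = w' ≫ snd H₂' H₁ := by
      rw [← hm'.1, Category.assoc, whiskerRight_snd]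
    apply CartesianMonoidalCategory.hom_ext
    · rw [lift_fst, ← cancel_mono a₁, hh']
      have h3 := hm'.2
      rw [MonObj.comp_mul, f1] at h3
      rw [← h3, mul_inv_cancel_right, Category.assoc]
    · rw [lift_snd, f1]

include h₁ h₂ sq₁ sq₂ in
/-- closed immersions in the middle of a map of short exact sequences -/
theorem isClosedImmersion_mid [QuasiCompact H₁.hom] [QuasiSeparated H₁''.hom]
    (hb₁ : Flat b₁.left ∧ Surjective b₁.left)
    (hj' : IsClosedImmersion j'.left) (hj'' : IsClosedImmersion j''.left) :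
    IsClosedImmersion j.left := by
  have hP : IsPullback (pullback.fst b₂ j'') (pullback.snd b₂ j'') b₂ j'' :=
    IsPullback.of_hasPullback _ _
  have hP' := (hP.map (Over.forget S)).flip
  have hp₁ : IsClosedImmersion (pullback.fst b₂ j'').left :=
    MorphismProperty.of_isPullback (P := @IsClosedImmersion) hP' hj''
  have hr := ((isPullback_rr b₁ a₂ b₂ h₂ j j'' sq₂).map (Over.forget S)).flip
  have hqc : QuasiCompact b₁.left := by
    haveI : QuasiCompact (b₁.left ≫ H₁''.hom) := by rw [Over.w b₁]; infer_instance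
    exact QuasiCompact.of_comp b₁.left H₁''.hom
  have hr1 : Flat (rr b₁ a₂ b₂ h₂ j j'' sq₂).left :=
    MorphismProperty.of_isPullback (P := @Flat) hr hb₁.1
  have hr2 : Surjective (rr b₁ a₂ b₂ h₂ j j'' sq₂).left :=
    MorphismProperty.of_isPullback (P := @Surjective) hr hb₁.2
  have hr3 : QuasiCompact (rr b₁ a₂ b₂ h₂ j j'' sq₂).left :=
    MorphismProperty.of_isPullback (P := @QuasiCompact) hr hqc
  have hw : IsClosedImmersion (j' ▷ H₁).left :=
    MorphismProperty.of_isPullback (P := @IsClosedImmersion)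
      (ArtB.isPullback_whiskerRight j' H₁).flip hj'
  have hmain := (isPullback_main a₁ b₁ a₂ b₂ h₁ h₂ j' j j'' sq₁ sq₂).map (Over.forget S)
  have hu : IsClosedImmersion (uu b₁ b₂ j j'' sq₂).left :=
    MorphismProperty.of_isPullback_of_descendsAlong (P := @IsClosedImmersion)
      (Q := (@Surjective ⊓ @Flat ⊓ @QuasiCompact : MorphismProperty Scheme.{u}))
      hmain ⟨⟨hr2, hr1⟩, hr3⟩ hw
  have hj : j.left = (uu b₁ b₂ j j'' sq₂).left ≫ (pullback.fst b₂ j'').left := by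
    rw [← Over.comp_left, uu_fst]
  rw [hj]
  infer_instance

end Main

end Groth.Agent.Lib.Helper11.SES1
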