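import Mathlib
import Groth.Prelude.Def_HTop2
import Groth.Agent.Lib.Helper11.AWNRing2

/-!
# Seminormal rings: retractions of subintegral extensions (helper11)
-/

set_option autoImplicit false
universe u

open CategoryTheory AlgebraicGeometry

namespace Groth.Agent.Lib.Helper11.UHRing

variable {A B W : Type u} [CommRing A] [CommRing B] [CommRing W]

theorem exists_residueField_div' (p : Ideal A) [p.IsPrime] (z : p.ResidueField) :
    ∃ a s : A, s ∉ p ∧ z * algebraMap A p.ResidueField s = algebraMap A p.ResidueField a := by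
  obtain ⟨l, hl⟩ := IsLocalRing.residue_surjective (R := Localization.AtPrime p) z
  obtain ⟨⟨r, s⟩, hrs⟩ := IsLocalization.mk'_surjective p.primeCompl l
  refine ⟨r, s.1, s.2, ?_⟩
  rw [← hl, ← hrs]
  show IsLocalRing.residue _ _ * IsLocalRing.residue _ (algebraMap A _ s.1) =
    IsLocalRing.residue _ (algebraMap A _ r)
  rw [← map_mul, IsLocalization.mk'_spec]

/-- a UH ring map along which all field points lift has trivial residue field extensions. -/
theorem resTriv_of_lifts {φ : A →+* B} (h : UH φ)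
    (hl : ∀ (K : Type u) [Field K] (e : A →+* K), ∃ g : B →+* K, g.comp φ = e) : ResTriv φ := by
  intro q b
  set p : PrimeSpectrum A := PrimeSpectrum.comap φ q with hp
  obtain ⟨g, hg⟩ := hl p.asIdeal.ResidueField (algebraMap A p.asIdeal.ResidueField)
  have hge : ∀ a, g (φ a) = algebraMap A p.asIdeal.ResidueField a := fun a =>
    RingHom.congr_fun hg a
  haveI : (RingHom.ker g).IsPrime := RingHom.ker_isPrime g
  have hq' : (⟨RingHom.ker g, inferInstance⟩ : PrimeSpectrum B) = q := by
    apply h.bijective_comap.1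
    apply PrimeSpectrum.ext
    ext a
    show φ a ∈ RingHom.ker g ↔ φ a ∈ q.asIdeal
    rw [RingHom.mem_ker, hge, Ideal.algebraMap_residueField_eq_zero]
    rfl
  have hker : RingHom.ker g = q.asIdeal := congrArg PrimeSpectrum.asIdeal hq'
  obtain ⟨a, s, hs, hsa⟩ := exists_residueField_div' p.asIdeal (g b)
  refine ⟨a, s, ?_, ?_⟩
  · rw [← hker, RingHom.mem_ker, hge, Ideal.algebraMap_residueField_eq_zero]
    exact hs
  · rw [← hker, RingHom.mem_ker, map_sub, map_mul, hge, hge, mul_comm, hsa, sub_self]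

theorem ResTriv.comp_surjective {φ : A →+* B} {ψ : B →+* W} (hφ : ResTriv φ)
    (hψ : Function.Surjective ψ) : ResTriv (ψ.comp φ) := by
  intro q c
  obtain ⟨b, rfl⟩ := hψ c
  obtain ⟨a, s, hs, hsa⟩ := hφ (PrimeSpectrum.comap ψ q) b
  refine ⟨a, s, hs, ?_⟩
  show ψ (φ s) * ψ b - ψ (φ a) ∈ q.asIdeal
  rw [← map_mul, ← map_sub]
  exact hsa

/-- a subintegral extension `χ : B → W` of a seminormal ring `B` into a reduced ring is
bijective. -/
theorem bijective_of_UH_resTriv_of_isReduced (χ : B →+* W) (hχ : UH χ) (hRT : ResTriv χ)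
    (hB : HTop.IsSeminormalRing B) [IsReduced W] : Function.Bijective χ := by
  haveI := isReduced_of_isSeminormalRing hB
  have hinj : Function.Injective χ := by
    rw [RingHom.injective_iff_ker_eq_bot, eq_bot_iff]
    intro b hb
    have := hχ.ker_le hb
    rw [nilradical_eq_zero] at this
    exact this
  refine ⟨hinj, ?_⟩
  by_contra hns
  algebraize [χ]
  have hχ' : UH (algebraMap B W) := hχ
  have hRT' : ResTriv (algebraMap B W) := hRT
  obtain ⟨w, hw, ⟨x, hx⟩, ⟨y, hy⟩⟩ := exists_sq_cube_of_UH_resTriv hχ' hRT' hns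
  have hxy : x ^ 3 = y ^ 2 := by
    apply hinj
    show algebraMap B W (x ^ 3) = algebraMap B W (y ^ 2)
    rw [map_pow, map_pow, hx, hy]; ring
  obtain ⟨b, ⟨hb1, hb2⟩, _⟩ := hB x y hxy
  have h2 : algebraMap B W b = w := eq_of_sq_cube_eq _ _
    (by rw [← map_pow, ← hb1, hx]) (by rw [← map_pow, ← hb2, hy])
  exact hw ⟨b, h2⟩

/-- subintegral ring maps out of a seminormal ring have retractions. -/
theorem exists_retraction_of_isSeminormalRing (hA : HTop.IsSeminormalRing A) (φ : A →+* B)
    (h : UH φ) (hRT : ResTriv φ) : ∃ r : B →+* A, r.comp φ = RingHom.id A := by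
  let ψ : B →+* B ⧸ nilradical B := Ideal.Quotient.mk (nilradical B)
  have hψs : Function.Surjective ψ := Ideal.Quotient.mk_surjective
  have hψ : UH ψ := UH.of_surjective hψs (by rw [Ideal.mk_ker])
  haveI : IsReduced (B ⧸ nilradical B) :=
    (Ideal.isRadical_iff_quotient_reduced _).mp (Ideal.radical_isRadical ⊥)
  have hχ : UH (ψ.comp φ) := h.comp hψ
  have hχRT : ResTriv (ψ.comp φ) := hRT.comp_surjective hψs
  have hbij := bijective_of_UH_resTriv_of_isReduced (ψ.comp φ) hχ hχRT hA
  let e : A ≃+* B ⧸ nilradical B := RingEquiv.ofBijective (ψ.comp φ) hbij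
  refine ⟨e.symm.toRingHom.comp ψ, ?_⟩
  ext a
  show e.symm (ψ (φ a)) = a
  exact e.symm_apply_apply a

end Groth.Agent.Lib.Helper11.UHRing
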