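import Mathlib
import Groth.Prelude.Def_HTop2
import Groth.Agent.Lib.Helper11.SNRing
import Groth.Agent.Lib.Helper11.AWNScheme

/-!
# Seminormal schemes: lifting against subintegral morphisms (helper11)
-/

set_option autoImplicit false
universe u

open CategoryTheory CategoryTheory.Limits AlgebraicGeometry MorphismProperty

namespace Groth.Agent.Lib.Helper11.SNScheme

open Groth.Agent.Lib.Helper11.UHRing Groth.Agent.Lib.Helper11.AWNScheme
  Groth.Agent.Lib.Helper11.Roots

/-- all points with values in fields lift along `π`. -/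
def LiftsFieldPoints {Y X : Scheme.{u}} (π : Y ⟶ X) : Prop :=
  ∀ (K : Type u) [Field K] (g : Spec (.of K) ⟶ X), ∃ g' : Spec (.of K) ⟶ Y, g' ≫ π = g

theorem liftsFieldPoints_of_residueFieldsIso {Y X : Scheme.{u}} (π : Y ⟶ X)
    (hs : Function.Surjective π) (h : HTop.ResidueFieldsIso π) : LiftsFieldPoints π := by
  intro K _ g
  set x₀ := g (IsLocalRing.closedPoint K) with hx₀
  let φ : X.residueField x₀ ⟶ .of K := X.descResidueField (Scheme.stalkClosedPointTo g)
  have hg : Spec.map φ ≫ X.fromSpecResidueField x₀ = g :=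
    Scheme.descResidueField_stalkClosedPointTo_fromSpecResidueField K X g
  obtain ⟨y, hy⟩ := hs x₀
  haveI := h y
  let ψ : Y.residueField y ⟶ .of K :=
    inv (π.residueFieldMap y) ≫ (X.residueFieldCongr hy).hom ≫ φ
  refine ⟨Spec.map ψ ≫ Y.fromSpecResidueField y, ?_⟩
  rw [Category.assoc, ← Scheme.Hom.SpecMap_residueFieldMap_fromSpecResidueField,
    ← Spec.map_comp_assoc]
  have h1 : π.residueFieldMap y ≫ ψ = (X.residueFieldCongr hy).hom ≫ φ := by
    simp only [ψ, IsIso.hom_inv_id_assoc]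
  rw [h1, Spec.map_comp, Category.assoc, Scheme.residueFieldCongr_fromSpecResidueField, hg]

theorem LiftsFieldPoints.pullback_snd {Y X X' : Scheme.{u}} (π : Y ⟶ X) (ν : X' ⟶ X)
    (h : LiftsFieldPoints π) : LiftsFieldPoints (pullback.snd π ν) := by
  intro K _ g
  obtain ⟨g', hg'⟩ := h K (g ≫ ν)
  exact ⟨pullback.lift g' g hg', pullback.lift_snd _ _ _⟩

/-- sections over an affine seminormal scheme. -/
theorem exists_section_of_isAffine_sn {X Y : Scheme.{u}} [IsAffine X]
    (hX : HTop.IsSeminormalRing Γ(X, ⊤)) (π : Y ⟶ X) (hπ : FlatMor.IsUnivHomeo π)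
    (hl : LiftsFieldPoints π) : ∃ s : X ⟶ Y, s ≫ π = 𝟙 X := by
  haveI := isAffineHom_of_isUnivHomeo π hπ
  haveI : IsAffine Y := isAffine_of_isAffineHom π
  have hg' : FlatMor.IsUnivHomeo (Spec.map π.appTop) :=
    (MorphismProperty.arrow_mk_iso_iff FlatMor.IsUnivHomeo (arrowIsoSpecΓOfIsAffine π)).mp hπ
  have hψ : UH π.appTop.hom := (isUnivHomeo_SpecMap_iff _).mp hg'
  have hRT : ResTriv π.appTop.hom := by
    refine resTriv_of_lifts hψ ?_
    intro K _ e
    obtain ⟨g', hg'⟩ := hl K (Spec.map (CommRingCat.ofHom e) ≫ X.isoSpec.inv)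
    obtain ⟨gB, hgB⟩ := Spec.map_surjective (g' ≫ Y.isoSpec.hom)
    refine ⟨gB.hom, ?_⟩
    have h1 : Spec.map (π.appTop ≫ gB) = Spec.map (CommRingCat.ofHom e) := by
      rw [Spec.map_comp, hgB, Category.assoc, Scheme.isoSpec_hom_naturality, ← Category.assoc,
        hg', Category.assoc, Iso.inv_hom_id, Category.comp_id]
    have h2 := Spec.map_injective h1
    ext a
    exact congrArg (fun f => f.hom a) h2
  obtain ⟨r, hr⟩ := exists_retraction_of_isSeminormalRing hX π.appTop.hom hψ hRT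
  refine ⟨X.isoSpec.hom ≫ Spec.map (CommRingCat.ofHom r) ≫ Y.isoSpec.inv, ?_⟩
  have h1 : π.appTop ≫ CommRingCat.ofHom r = 𝟙 _ := by
    ext a
    exact RingHom.congr_fun hr a
  rw [Category.assoc, Category.assoc, ← Scheme.isoSpec_inv_naturality, ← Spec.map_comp_assoc, h1,
    Spec.map_id, Category.id_comp, Iso.hom_inv_id]

/-- seminormal schemes are local objects for subintegral morphisms. -/
theorem existsUnique_lift_sn {X' Y X : Scheme.{u}} (hX' : HTop.IsSeminormal X') (π : Y ⟶ X)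
    (hπ : FlatMor.IsUnivHomeo π) (hl : LiftsFieldPoints π) (ν : X' ⟶ X) :
    ∃! h : X' ⟶ Y, h ≫ π = ν := by
  haveI := Groth.Agent.S7421.result.2 X' hX'
  have hall := (Groth.Agent.S7420.result X').1.mp hX'
  let 𝒰 := Scheme.AffineZariskiSite.directedCover X'
  have hloc : ∀ U : X'.AffineZariskiSite, ∃ a : (U.1 : Scheme.{u}) ⟶ Y, a ≫ π = U.1.ι ≫ ν := by
    intro U
    haveI : IsAffine (U.1 : Scheme.{u}) := U.2
    have hSN : HTop.IsSeminormalRing Γ((U.1 : Scheme.{u}), ⊤) := by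
      rw [isSeminormalRing_iff]
      exact ((isSeminormalRing_iff _).mp (hall ⟨U.1, U.2⟩)).of_ringEquiv
        (Scheme.Opens.topIso U.1).commRingCatIsoToRingEquiv.symm
    have hsnd : FlatMor.IsUnivHomeo (pullback.snd π (U.1.ι ≫ ν)) :=
      MorphismProperty.pullback_snd _ _ hπ
    obtain ⟨σ, hσ⟩ := exists_section_of_isAffine_sn hSN _ hsnd (hl.pullback_snd π _)
    refine ⟨σ ≫ pullback.fst π (U.1.ι ≫ ν), ?_⟩
    rw [Category.assoc, pullback.condition, ← Category.assoc, hσ, Category.id_comp]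
  choose a ha using hloc
  have hcompat : ∀ U V : X'.AffineZariskiSite,
      pullback.fst (𝒰.f U) (𝒰.f V) ≫ a U = pullback.snd (𝒰.f U) (𝒰.f V) ≫ a V := by
    intro U V
    haveI : IsReduced (pullback (𝒰.f U) (𝒰.f V)) :=
      isReduced_of_isOpenImmersion (pullback.fst (𝒰.f U) (𝒰.f V) ≫ 𝒰.f U)
    apply eq_of_comp_eq π hπ
    rw [Category.assoc, Category.assoc, ha U, ha V]
    exact pullback.condition_assoc _
  refine ⟨𝒰.glueMorphisms a hcompat, ?_, ?_⟩
  · apply 𝒰.hom_ext
    intro U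
    rw [Scheme.Cover.ι_glueMorphisms_assoc]
    exact ha U
  · intro h' hh'
    apply eq_of_comp_eq π hπ
    rw [hh']
    apply 𝒰.hom_ext
    intro U
    rw [Scheme.Cover.ι_glueMorphisms_assoc]
    exact (ha U).symm

theorem surjective_of_isUnivHomeo {Y X : Scheme.{u}} (π : Y ⟶ X) (hπ : FlatMor.IsUnivHomeo π) :
    Function.Surjective π := by
  have := ((isUnivHomeo_iff π).mp hπ).2.2
  exact this.surj

/-- open subschemes of seminormal schemes are seminormal. -/
theorem isSeminormal_opens {X : Scheme.{u}} (hX : HTop.IsSeminormal X) (V : X.Opens) :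
    HTop.IsSeminormal (V : Scheme.{u}) := by
  have hall : ∀ W : X.Opens, HasRoots Γ(X, W) 2 3 1 :=
    hasRoots_of_local X (by norm_num) (by norm_num) (fun x => by
      obtain ⟨U, hxU, hU⟩ := hX x
      exact ⟨U, hxU, (isSeminormalRing_iff _).mp hU⟩)
  intro z
  obtain ⟨W, hW, hzW, -⟩ := exists_isAffineOpen_mem_and_subset (x := z) (U := ⊤) trivial
  refine ⟨⟨W, hW⟩, hzW, ?_⟩
  rw [isSeminormalRing_iff]
  exact (hall (V.ι ''ᵁ W)).of_ringEquiv (V.ι.appIso W).commRingCatIsoToRingEquiv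

/-- residue field isomorphisms restrict to opens. -/
theorem residueFieldsIso_morphismRestrict {Y X : Scheme.{u}} (π : Y ⟶ X)
    (h : HTop.ResidueFieldsIso π) (U : X.Opens) : HTop.ResidueFieldsIso (π ∣_ U) := by
  intro z
  have e : (π ∣_ U) ≫ U.ι = (π ⁻¹ᵁ U).ι ≫ π := morphismRestrict_ι π U
  have h1 := Scheme.Hom.residueFieldMap_congr e z
  rw [Scheme.residueFieldMap_comp, Scheme.residueFieldMap_comp] at h1
  haveI : IsIso (U.ι.residueFieldMap ((π ∣_ U) z) ≫ (π ∣_ U).residueFieldMap z) := by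
    rw [h1]
    refine @IsIso.comp_isIso _ _ _ _ _ _ _ inferInstance ?_
    exact @IsIso.comp_isIso _ _ _ _ _ _ _ (h _) inferInstance
  exact IsIso.of_isIso_comp_left (U.ι.residueFieldMap ((π ∣_ U) z)) _

end Groth.Agent.Lib.Helper11.SNScheme
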