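import Mathlib
import Groth.Agent.Lib.Helper11.NC1
import Groth.Prelude.Def_Red

/-!
# The kernel of reduction modulo a square-zero ideal is commutative (helper11)
-/

set_option autoImplicit false
universe u

open CategoryTheory CategoryTheory.Limits MonoidalCategory CartesianMonoidalCategory MonObj GrpObj
  AlgebraicGeometry

namespace Groth.Agent.Lib.Helper11.SQ0

open NC1

/-- algebra: the "sum" of two infinitesimal deformations of a ring hom is a ring hom -/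
theorem alg {D B : Type u} [CommRing D] [CommRing B] (N : Ideal B) (hN : N * N = ⊥)
    (Θ₁ Θ₂ E₀ : D →+* B) (h₁ : ∀ d, Θ₁ d - E₀ d ∈ N) (h₂ : ∀ d, Θ₂ d - E₀ d ∈ N) :
    ∃ Θ : D →+* B, ∀ d, Θ d = Θ₁ d + Θ₂ d - E₀ d := by
  have hz : ∀ x ∈ N, ∀ y ∈ N, x * y = 0 := by
    intro x hx y hy
    have := Ideal.mul_mem_mul hx hy
    rw [hN] at this
    simpa using this
  refine ⟨{ toFun := fun d => Θ₁ d + Θ₂ d - E₀ d
            map_one' := by simp
            map_mul' := ?_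
            map_zero' := by simp
            map_add' := ?_ }, fun d => rfl⟩
  · intro d d'
    have e2 := hz _ (h₁ d) _ (h₂ d')
    have e3 := hz _ (h₂ d) _ (h₁ d')
    simp only [map_mul]
    linear_combination (-1 : B) * e2 - e3
  · intro d d'
    simp only [map_add]
    ring

theorem fac {Z : Scheme.{u}} {W : Z.Opens} (hW : IsAffineOpen W) {B : CommRingCat.{u}}
    (a : Spec B ⟶ Z) (ha : ∀ z, a z ∈ W) :
    ∃ θ : Γ(Z, W) ⟶ B, a = Spec.map θ ≫ hW.fromSpec := by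
  have hr : Set.range a ⊆ Set.range W.ι := by
    rintro _ ⟨z, rfl⟩
    rw [Scheme.Opens.range_ι]
    exact ha z
  have h1 : IsOpenImmersion.lift W.ι a hr ≫ W.ι = a := IsOpenImmersion.lift_fac _ _ _
  refine ⟨Spec.preimage (IsOpenImmersion.lift W.ι a hr ≫ hW.isoSpec.hom), ?_⟩
  rw [Spec.map_preimage, Category.assoc, hW.isoSpec_hom_fromSpec, h1]

theorem uni {Z : Scheme.{u}} {W : Z.Opens} (hW : IsAffineOpen W) {B : CommRingCat.{u}}
    (θ θ' : Γ(Z, W) ⟶ B) (h : Spec.map θ ≫ hW.fromSpec = Spec.map θ' ≫ hW.fromSpec) :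
    θ = θ' := by
  rw [cancel_mono] at h
  exact Spec.map_injective h

section core

variable {R : Type u} [CommRing R] (J : Ideal R)
  (X : Over (Spec (CommRingCat.of R))) [GrpObj X] {B : CommRingCat.{u}}
  (ψ : CommRingCat.of R ⟶ B)

/-- `Spec B` over `Spec R` -/
noncomputable abbrev Yb : Over (Spec (CommRingCat.of R)) := Over.mk (Spec.map ψ)

/-- the ideal `J B` -/
def NN : Ideal B := Ideal.map ψ.hom J

/-- the quotient map -/
noncomputable def qB : B ⟶ CommRingCat.of (B ⧸ NN J ψ) :=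
  CommRingCat.ofHom (Ideal.Quotient.mk (NN J ψ))

noncomputable abbrev Yq : Over (Spec (CommRingCat.of R)) :=
  Over.mk (Spec.map (qB J ψ) ≫ Spec.map ψ)

noncomputable def qq : Yq J ψ ⟶ Yb ψ := Over.homMk (Spec.map (qB J ψ)) rfl

/-- `a` reduces to the unit modulo `J` -/
abbrev Triv (a : Yb ψ ⟶ X) : Prop := qq J ψ ≫ a = 1

lemma NN_mul (hJ : J * J = ⊥) : NN J ψ * NN J ψ = ⊥ := by
  unfold NN
  rw [← Ideal.map_mul, hJ, Ideal.map_bot]

lemma surj_q (hJ : J * J = ⊥) (z : Spec B) : ∃ z' : Spec (CommRingCat.of (B ⧸ NN J ψ)),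
    Spec.map (qB J ψ) z' = z := by
  have hle : NN J ψ ≤ nilradical B := by
    intro x hx
    refine ⟨2, ?_⟩
    have := Ideal.mul_mem_mul hx hx
    rw [NN_mul J ψ hJ] at this
    rw [pow_two]
    simpa using this
  obtain ⟨z', hz'⟩ := (PrimeSpectrum.comap_quotientMk_bijective_of_le_nilradical hle).2 z
  exact ⟨z', hz'⟩

lemma triv_one : Triv J X ψ (1 : Yb ψ ⟶ X) := MonObj.comp_one _

lemma triv_lift {a b : Yb ψ ⟶ X} (ha : Triv J X ψ a) (hb : Triv J X ψ b) :
    qq J ψ ≫ lift a b = qq J ψ ≫ lift (1 : Yb ψ ⟶ X) 1 := by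
  rw [comp_lift, comp_lift, ha, hb, MonObj.comp_one]

lemma mem_W (hJ : J * J = ⊥) {W : (X ⊗ X).left.Opens}
    (hsm : ∀ z : Spec B, (lift (1 : Yb ψ ⟶ X) 1).left z ∈ W)
    {a b : Yb ψ ⟶ X} (ha : Triv J X ψ a) (hb : Triv J X ψ b) (z : Spec B) :
    (lift a b).left z ∈ W := by
  obtain ⟨z', rfl⟩ := surj_q J ψ hJ z
  have h := apply_congr (congrArg Over.Hom.left (triv_lift J X ψ ha hb)) z'
  simp only [Over.comp_left, Scheme.Hom.comp_apply] at h
  have e : (qq J ψ).left = Spec.map (qB J ψ) := rfl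
  rw [e] at h
  rw [h]
  exact hsm _

section rep

variable {X ψ}
variable {U : X.left.Opens} (hU : IsAffineOpen U) {W : (X ⊗ X).left.Opens} (hW : IsAffineOpen W)

omit [GrpObj X] in
lemma rep_of (m : X ⊗ X ⟶ X) (hm : W ≤ m.left ⁻¹ᵁ U) {c : Yb ψ ⟶ X ⊗ X}
    {θ : Γ((X ⊗ X).left, W) ⟶ B} (hθ : c.left = Spec.map θ ≫ hW.fromSpec) :
    (c ≫ m).left = Spec.map (m.left.appLE U W hm ≫ θ) ≫ hU.fromSpec := by
  rw [Over.comp_left, hθ, Category.assoc,
    ← IsAffineOpen.SpecMap_appLE_fromSpec m.left hU hW hm, ← Category.assoc, ← Spec.map_comp]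

include hW in
lemma sub_mem {a b : Yb ψ ⟶ X} (ha : Triv J X ψ a) (hb : Triv J X ψ b)
    {θ θ₀ : Γ((X ⊗ X).left, W) ⟶ B}
    (hθ : (lift a b).left = Spec.map θ ≫ hW.fromSpec)
    (hθ₀ : (lift (1 : Yb ψ ⟶ X) 1).left = Spec.map θ₀ ≫ hW.fromSpec)
    (d : Γ((X ⊗ X).left, W)) : θ.hom d - θ₀.hom d ∈ NN J ψ := by
  have h := congrArg Over.Hom.left (triv_lift J X ψ ha hb)
  simp only [Over.comp_left] at h
  have e : (qq J ψ).left = Spec.map (qB J ψ) := rfl
  rw [e, hθ, hθ₀, ← Category.assoc, ← Category.assoc, ← Spec.map_comp, ← Spec.map_comp] at h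
  have h2 := uni hW _ _ h
  have h3 := congrArg (fun f => f.hom d) h2
  simp only [CommRingCat.hom_comp, RingHom.comp_apply] at h3
  unfold qB at h3
  simp only [CommRingCat.hom_ofHom] at h3
  exact Ideal.Quotient.eq.mp h3

include hU hW in
theorem mul_rep (hJ : J * J = ⊥) (hfst : W ≤ (fst X X).left ⁻¹ᵁ U)
    (hsnd : W ≤ (snd X X).left ⁻¹ᵁ U) (hmul : W ≤ μ[X].left ⁻¹ᵁ U)
    (hsm : ∀ z : Spec B, (lift (1 : Yb ψ ⟶ X) 1).left z ∈ W)
    (a b : Yb ψ ⟶ X) (ha : Triv J X ψ a) (hb : Triv J X ψ b)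
    (φ φ' ε : Γ(X.left, U) ⟶ B)
    (hφ : a.left = Spec.map φ ≫ hU.fromSpec) (hφ' : b.left = Spec.map φ' ≫ hU.fromSpec)
    (hε : (1 : Yb ψ ⟶ X).left = Spec.map ε ≫ hU.fromSpec) :
    ∃ χ : Γ(X.left, U) ⟶ B, (a * b).left = Spec.map χ ≫ hU.fromSpec ∧
      ∀ c, χ.hom c = φ.hom c + φ'.hom c - ε.hom c := by
  have h1 : Triv J X ψ (1 : Yb ψ ⟶ X) := triv_one J X ψ
  obtain ⟨θ₁, hθ₁⟩ := fac hW (lift a 1).left (mem_W J X ψ hJ hsm ha h1)
  obtain ⟨θ₂, hθ₂⟩ := fac hW (lift 1 b).left (mem_W J X ψ hJ hsm h1 hb)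
  obtain ⟨θ₀, hθ₀⟩ := fac hW (lift (1 : Yb ψ ⟶ X) 1).left (mem_W J X ψ hJ hsm h1 h1)
  obtain ⟨θ, hθ⟩ := fac hW (lift a b).left (mem_W J X ψ hJ hsm ha hb)
  have f1 : (fst X X).left.appLE U W hfst ≫ θ₁ = φ := by
    apply uni hU
    have := rep_of hU hW (fst X X) hfst hθ₁
    rw [lift_fst] at this
    rw [← this, hφ]
  have s1 : (snd X X).left.appLE U W hsnd ≫ θ₁ = ε := by
    apply uni hU
    have := rep_of hU hW (snd X X) hsnd hθ₁
    rw [lift_snd] at this
    rw [← this, hε]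
  have m1 : μ[X].left.appLE U W hmul ≫ θ₁ = φ := by
    apply uni hU
    have := rep_of hU hW μ[X] hmul hθ₁
    rw [← Hom.mul_def, _root_.mul_one] at this
    rw [← this, hφ]
  have f2 : (fst X X).left.appLE U W hfst ≫ θ₂ = ε := by
    apply uni hU
    have := rep_of hU hW (fst X X) hfst hθ₂
    rw [lift_fst] at this
    rw [← this, hε]
  have s2 : (snd X X).left.appLE U W hsnd ≫ θ₂ = φ' := by
    apply uni hU
    have := rep_of hU hW (snd X X) hsnd hθ₂
    rw [lift_snd] at this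
    rw [← this, hφ']
  have m2 : μ[X].left.appLE U W hmul ≫ θ₂ = φ' := by
    apply uni hU
    have := rep_of hU hW μ[X] hmul hθ₂
    rw [← Hom.mul_def, _root_.one_mul] at this
    rw [← this, hφ']
  have f0 : (fst X X).left.appLE U W hfst ≫ θ₀ = ε := by
    apply uni hU
    have := rep_of hU hW (fst X X) hfst hθ₀
    rw [lift_fst] at this
    rw [← this, hε]
  have s0 : (snd X X).left.appLE U W hsnd ≫ θ₀ = ε := by
    apply uni hU
    have := rep_of hU hW (snd X X) hsnd hθ₀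
    rw [lift_snd] at this
    rw [← this, hε]
  have m0 : μ[X].left.appLE U W hmul ≫ θ₀ = ε := by
    apply uni hU
    have := rep_of hU hW μ[X] hmul hθ₀
    rw [← Hom.mul_def, _root_.mul_one] at this
    rw [← this, hε]
  obtain ⟨Θ, hΘ⟩ := alg (NN J ψ) (NN_mul J ψ hJ) θ₁.hom θ₂.hom θ₀.hom
    (fun d => sub_mem J hW ha h1 hθ₁ hθ₀ d) (fun d => sub_mem J hW h1 hb hθ₂ hθ₀ d)
  have ev : ∀ {A : CommRingCat.{u}} {p : A ⟶ Γ((X ⊗ X).left, W)} {θ' : Γ((X ⊗ X).left, W) ⟶ B}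
      {φ'' : A ⟶ B} (_ : p ≫ θ' = φ'') (c : A), θ'.hom (p.hom c) = φ''.hom c := by
    intro A p θ' φ'' h c
    rw [← h]
    rfl
  have hpf : (fst X X).left.appLE U W hfst ≫ CommRingCat.ofHom Θ = φ := by
    ext c
    simp only [CommRingCat.hom_comp, RingHom.comp_apply, CommRingCat.hom_ofHom]
    rw [hΘ, ev f1, ev f2, ev f0]
    ring
  have hps : (snd X X).left.appLE U W hsnd ≫ CommRingCat.ofHom Θ = φ' := by
    ext c
    simp only [CommRingCat.hom_comp, RingHom.comp_apply, CommRingCat.hom_ofHom]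
    rw [hΘ, ev s1, ev s2, ev s0]
    ring
  have key : θ = CommRingCat.ofHom Θ := by
    apply uni hW
    rw [← hθ]
    have w : (Spec.map (CommRingCat.ofHom Θ) ≫ hW.fromSpec) ≫ (X ⊗ X).hom = (Yb ψ).hom := by
      rw [← Over.w (fst X X), ← Category.assoc, Category.assoc (Spec.map _),
        ← IsAffineOpen.SpecMap_appLE_fromSpec (fst X X).left hU hW hfst, ← Category.assoc,
        ← Spec.map_comp, hpf, ← hφ]
      exact Over.w a
    have hα : (Over.homMk (Spec.map (CommRingCat.ofHom Θ) ≫ hW.fromSpec) w : Yb ψ ⟶ X ⊗ X) =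
        lift a b := by
      apply CartesianMonoidalCategory.hom_ext
      · rw [lift_fst]
        apply Over.OverMorphism.ext
        show (Spec.map _ ≫ hW.fromSpec) ≫ (fst X X).left = a.left
        rw [Category.assoc, ← IsAffineOpen.SpecMap_appLE_fromSpec (fst X X).left hU hW hfst,
          ← Category.assoc, ← Spec.map_comp, hpf, ← hφ]
      · rw [lift_snd]
        apply Over.OverMorphism.ext
        show (Spec.map _ ≫ hW.fromSpec) ≫ (snd X X).left = b.left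
        rw [Category.assoc, ← IsAffineOpen.SpecMap_appLE_fromSpec (snd X X).left hU hW hsnd,
          ← Category.assoc, ← Spec.map_comp, hps, ← hφ']
    rw [← hα]
    rfl
  refine ⟨μ[X].left.appLE U W hmul ≫ θ, ?_, ?_⟩
  · have := rep_of hU hW μ[X] hmul hθ
    rw [← Hom.mul_def] at this
    exact this
  · intro c
    rw [key]
    simp only [CommRingCat.hom_comp, RingHom.comp_apply, CommRingCat.hom_ofHom]
    rw [hΘ, ev m1, ev m2, ev m0]

include hU hW in
theorem core_comm (hJ : J * J = ⊥) (hfst : W ≤ (fst X X).left ⁻¹ᵁ U)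
    (hsnd : W ≤ (snd X X).left ⁻¹ᵁ U) (hmul : W ≤ μ[X].left ⁻¹ᵁ U)
    (hsm : ∀ z : Spec B, (lift (1 : Yb ψ ⟶ X) 1).left z ∈ W)
    (g g' : Yb ψ ⟶ X) (hg : Triv J X ψ g) (hg' : Triv J X ψ g') : g * g' = g' * g := by
  have h1 : Triv J X ψ (1 : Yb ψ ⟶ X) := triv_one J X ψ
  obtain ⟨θ₁, hθ₁⟩ := fac hW (lift g g').left (mem_W J X ψ hJ hsm hg hg')
  obtain ⟨θ₀, hθ₀⟩ := fac hW (lift (1 : Yb ψ ⟶ X) 1).left (mem_W J X ψ hJ hsm h1 h1)
  have hφ := rep_of hU hW (fst X X) hfst hθ₁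
  rw [lift_fst] at hφ
  have hφ' := rep_of hU hW (snd X X) hsnd hθ₁
  rw [lift_snd] at hφ'
  have hε := rep_of hU hW (fst X X) hfst hθ₀
  rw [lift_fst] at hε
  obtain ⟨χ, hχ, hχc⟩ := mul_rep J hU hW hJ hfst hsnd hmul hsm g g' hg hg' _ _ _ hφ hφ' hε
  obtain ⟨χ', hχ', hχc'⟩ := mul_rep J hU hW hJ hfst hsnd hmul hsm g' g hg' hg _ _ _ hφ' hφ hε
  have e : χ = χ' := by
    ext c
    rw [hχc, hχc']
    ring
  apply Over.OverMorphism.ext
  rw [hχ, hχ', e]

end rep

end core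

section main

variable {R : Type u} [CommRing R] (J : Ideal R)
  (X : Over (Spec (CommRingCat.of R))) [GrpObj X]

/-- the reduction hypothesis in terms of the closed immersion -/
lemma red_left (Y : Over (Spec (CommRingCat.of R))) (h : Y ⟶ X)
    (hh : (Over.pullback (Spec.map (CommRingCat.ofHom (Ideal.Quotient.mk J)))).map h = 1) :
    prj (Spec.map (CommRingCat.ofHom (Ideal.Quotient.mk J))) Y ≫ h.left =
      prj (Spec.map (CommRingCat.ofHom (Ideal.Quotient.mk J))) Y ≫ Y.hom ≫ η[X].left := by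
  set i := Spec.map (CommRingCat.ofHom (Ideal.Quotient.mk J)) with hi
  have aux : (toUnit (Red.bc i Y)).left ≫ u1 i = prj i Y ≫ Y.hom := by
    have e1 : u1 i = (𝟙_ (Over (Spec (CommRingCat.of (R ⧸ J))))).hom ≫ i := by
      rw [← u1_hom i]
      exact (Category.comp_id _).symm
    rw [e1, ← Category.assoc, Over.w, prj_hom]
  calc prj i Y ≫ h.left = ((Over.pullback i).map h).left ≫ prj i X := (map_left_prj i h).symm
    _ = (toUnit (Red.bc i Y) ≫ η[Red.bc i X]).left ≫ prj i X := by rw [hh]; rfl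
    _ = (toUnit (Red.bc i Y)).left ≫ (η[Red.bc i X].left ≫ prj i X) := by
      rw [Over.comp_left, Category.assoc]
    _ = (toUnit (Red.bc i Y)).left ≫ (u1 i ≫ η[X].left) := by rw [u1_unit]
    _ = ((toUnit (Red.bc i Y)).left ≫ u1 i) ≫ η[X].left := (Category.assoc _ _ _).symm
    _ = (prj i Y ≫ Y.hom) ≫ η[X].left := by rw [aux]
    _ = prj i Y ≫ Y.hom ≫ η[X].left := Category.assoc _ _ _

/-- transfer of the reduction hypothesis to an affine chart -/
lemma triv_of_red (Y : Over (Spec (CommRingCat.of R))) (h : Y ⟶ X)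
    (hh : prj (Spec.map (CommRingCat.ofHom (Ideal.Quotient.mk J))) Y ≫ h.left =
      prj (Spec.map (CommRingCat.ofHom (Ideal.Quotient.mk J))) Y ≫ Y.hom ≫ η[X].left)
    {B : CommRingCat.{u}} (ψ : CommRingCat.of R ⟶ B) (τ : Yb ψ ⟶ Y) :
    Triv J X ψ (τ ≫ h) := by
  set i := Spec.map (CommRingCat.ofHom (Ideal.Quotient.mk J)) with hi
  have hle : J ≤ (NN J ψ).comap ψ.hom := Ideal.le_comap_map
  let ψb : CommRingCat.of (R ⧸ J) ⟶ CommRingCat.of (B ⧸ NN J ψ) :=
    CommRingCat.ofHom (Ideal.quotientMap (NN J ψ) ψ.hom hle)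
  have hring : ψ ≫ qB J ψ = CommRingCat.ofHom (Ideal.Quotient.mk J) ≫ ψb := by
    ext r
    simp only [CommRingCat.hom_comp, RingHom.comp_apply, CommRingCat.hom_ofHom, ψb, qB]
    exact (Ideal.quotientMap_mk).symm
  have hτ : τ.left ≫ Y.hom = Spec.map ψ := Over.w τ
  have w : (Spec.map (qB J ψ) ≫ τ.left) ≫ Y.hom = Spec.map ψb ≫ i := by
    rw [Category.assoc, hτ, ← Spec.map_comp, hring, Spec.map_comp]
  let k : Spec (CommRingCat.of (B ⧸ NN J ψ)) ⟶ (Red.bc i Y).left :=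
    pullback.lift (Spec.map (qB J ψ) ≫ τ.left) (Spec.map ψb) w
  have hk : k ≫ prj i Y = Spec.map (qB J ψ) ≫ τ.left := pullback.lift_fst _ _ _
  apply Over.OverMorphism.ext
  show Spec.map (qB J ψ) ≫ τ.left ≫ h.left = (Spec.map (qB J ψ) ≫ Spec.map ψ) ≫ η[X].left
  rw [← Category.assoc, ← hk, Category.assoc, hh, ← Category.assoc, hk, Category.assoc,
    ← Category.assoc τ.left, hτ, Category.assoc]

theorem main (hJ : J * J = ⊥) (Y : Over (Spec (CommRingCat.of R))) (g g' : Y ⟶ X)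
    (hg : (Over.pullback (Spec.map (CommRingCat.ofHom (Ideal.Quotient.mk J)))).map g = 1)
    (hg' : (Over.pullback (Spec.map (CommRingCat.ofHom (Ideal.Quotient.mk J)))).map g' = 1) :
    g * g' = g' * g := by
  have hgj := red_left J X Y g hg
  have hgj' := red_left J X Y g' hg'
  apply Over.OverMorphism.ext
  apply Scheme.hom_ext_of_forall
  intro y
  let e : Spec (CommRingCat.of R) ⟶ X.left := η[X].left
  let ee : Spec (CommRingCat.of R) ⟶ (X ⊗ X).left := (lift η[X] η[X]).left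
  have hee1 : ee ≫ (fst X X).left = e := by
    show (lift η[X] η[X]).left ≫ (fst X X).left = η[X].left
    rw [← Over.comp_left, lift_fst]
  have hee2 : ee ≫ (snd X X).left = e := by
    show (lift η[X] η[X]).left ≫ (snd X X).left = η[X].left
    rw [← Over.comp_left, lift_snd]
  have hee3 : ee ≫ μ[X].left = e := by
    show (lift η[X] η[X]).left ≫ μ[X].left = η[X].left
    rw [← Over.comp_left]
    have := MonObj.lift_comp_one_left (𝟙 (𝟙_ (Over (Spec (CommRingCat.of R))))) η[X]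
    rw [Category.id_comp] at this
    rw [this]
  obtain ⟨U, hU, hyU, -⟩ := exists_isAffineOpen_mem_and_subset (x := e (Y.hom y)) (U := ⊤) trivial
  have hp₀ : ee (Y.hom y) ∈
      ((fst X X).left ⁻¹ᵁ U ⊓ (snd X X).left ⁻¹ᵁ U ⊓ μ[X].left ⁻¹ᵁ U : (X ⊗ X).left.Opens) := by
    refine ⟨⟨?_, ?_⟩, ?_⟩
    · show (fst X X).left (ee (Y.hom y)) ∈ U
      have := apply_congr hee1 (Y.hom y)
      simp only [Scheme.Hom.comp_apply] at this
      rw [this]; exact hyU
    · show (snd X X).left (ee (Y.hom y)) ∈ U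
      have := apply_congr hee2 (Y.hom y)
      simp only [Scheme.Hom.comp_apply] at this
      rw [this]; exact hyU
    · show μ[X].left (ee (Y.hom y)) ∈ U
      have := apply_congr hee3 (Y.hom y)
      simp only [Scheme.Hom.comp_apply] at this
      rw [this]; exact hyU
  obtain ⟨W, hW, hpW, hWW₀⟩ := exists_isAffineOpen_mem_and_subset hp₀
  obtain ⟨V, hV, hyV, hVle⟩ := exists_isAffineOpen_mem_and_subset
    (x := y) (U := Y.hom ⁻¹ᵁ ee ⁻¹ᵁ W) hpW
  refine ⟨V, hyV, ?_⟩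
  let t : Spec Γ(Y.left, V) ⟶ Y.left := hV.fromSpec
  let ψ : CommRingCat.of R ⟶ Γ(Y.left, V) := Spec.preimage (t ≫ Y.hom)
  have hψ : Spec.map ψ = t ≫ Y.hom := Spec.map_preimage _
  let τ : Yb ψ ⟶ Y := Over.homMk t hψ.symm
  have hsm : ∀ z : Spec Γ(Y.left, V), (lift (1 : Yb ψ ⟶ X) 1).left z ∈ W := by
    intro z
    have e1 : (lift (1 : Yb ψ ⟶ X) 1) = toUnit (Yb ψ) ≫ lift η[X] η[X] := by
      rw [comp_lift]
      rfl
    have e2 : (lift (1 : Yb ψ ⟶ X) 1).left = t ≫ Y.hom ≫ ee := by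
      rw [e1, Over.comp_left, Over.toUnit_left, ← Category.assoc, ← hψ]
      rfl
    rw [e2]
    simp only [Scheme.Hom.comp_apply]
    have htz : t z ∈ V := by
      have : t z ∈ Set.range t := ⟨z, rfl⟩
      rw [hV.range_fromSpec] at this
      exact this
    exact hVle htz
  have hc := core_comm J hU hW hJ (fun z hz => (hWW₀ hz).1.1) (fun z hz => (hWW₀ hz).1.2)
    (fun z hz => (hWW₀ hz).2) hsm (τ ≫ g) (τ ≫ g')
    (triv_of_red J X Y g hgj ψ τ) (triv_of_red J X Y g' hgj' ψ τ)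
  rw [← MonObj.comp_mul, ← MonObj.comp_mul] at hc
  have hl := congrArg Over.Hom.left hc
  simp only [Over.comp_left] at hl
  have ht : τ.left = hV.isoSpec.inv ≫ V.ι := rfl
  rw [ht, Category.assoc, Category.assoc] at hl
  exact (cancel_epi _).mp hl

end main

end Groth.Agent.Lib.Helper11.SQ0
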