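import Mathlib

/-!
# SecIsoAlg: algebra for "a section through a point with trivial fibre is a local isomorphism"
(helper11)
-/

set_option autoImplicit false
universe u

open TensorProduct

namespace Groth.Agent.Lib.Helper11.SecIsoAlg

variable {R B : Type u} [CommRing R] [CommRing B] [Algebra R B] (σ : B →ₐ[R] R)
  (p : Ideal R) [p.IsPrime]

/-- `D x = x - φ (σ x)` -/
noncomputable def D : B →ₗ[R] B := LinearMap.id - (Algebra.linearMap R B).comp σ.toLinearMap

lemma D_apply (x : B) : D σ x = x - algebraMap R B (σ x) := rfl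

lemma D_mem_ker (x : B) : σ (D σ x) = 0 := by
  rw [D_apply, map_sub, AlgHom.commutes, Algebra.algebraMap_self_apply, sub_self]

lemma D_of_mem_ker {x : B} (hx : σ x = 0) : D σ x = x := by
  rw [D_apply, hx, map_zero, sub_zero]

/-- `D` maps `pB` into `pB * ker σ`. -/
lemma D_mem_of_mem_map {y : B} (hy : y ∈ p.map (algebraMap R B)) :
    D σ y ∈ p.map (algebraMap R B) * RingHom.ker σ.toRingHom := by
  have hy' : y ∈ p • (⊤ : Submodule R B) := by
    rw [Ideal.smul_top_eq_map]; exact hy
  refine Submodule.smul_induction_on hy' (fun r hr n _ => ?_) (fun x y hx hy => ?_)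
  · rw [map_smul, Algebra.smul_def]
    exact Ideal.mul_mem_mul (Ideal.mem_map_of_mem _ hr) (D_mem_ker σ n)
  · rw [map_add]; exact Ideal.add_mem _ hx hy

lemma one_tmul_eq_zero
    (hbij : Function.Bijective (algebraMap p.ResidueField (p.Fiber B))) {i : B} (hi : σ i = 0) :
    (1 : p.ResidueField) ⊗ₜ[R] i = 0 := by
  obtain ⟨c, hc⟩ := hbij.2 ((1 : p.ResidueField) ⊗ₜ[R] i)
  have hc' : c ⊗ₜ[R] (1 : B) = (1 : p.ResidueField) ⊗ₜ[R] i := by
    rw [← hc, Algebra.TensorProduct.algebraMap_apply, Algebra.algebraMap_self_apply]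
  have h1 := congrArg ((TensorProduct.rid R p.ResidueField).toLinearMap ∘ₗ
    (σ.toLinearMap.lTensor p.ResidueField)) hc'
  simp only [LinearMap.coe_comp, LinearEquiv.coe_coe, Function.comp_apply,
    LinearMap.lTensor_tmul, AlgHom.toLinearMap_apply, map_one, TensorProduct.rid_tmul, one_smul,
    hi, zero_smul] at h1
  rw [← hc', h1, TensorProduct.zero_tmul]

attribute [local instance] Algebra.TensorProduct.rightAlgebra in
lemma exists_smul_mem_of_one_tmul_eq_zero {x : B} (hx : (1 : p.ResidueField) ⊗ₜ[R] x = 0) :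
    ∃ t ∉ p, algebraMap R B t * x ∈ p.map (algebraMap R B) := by
  have h1 : Ideal.Fiber.algEquivQuotient (S := B) p ((1 : p.ResidueField) ⊗ₜ[R] x) = 0 := by
    rw [hx, map_zero]
  have h2 : (1 : p.ResidueField) ⊗ₜ[R] x = algebraMap B (p.Fiber B) x := rfl
  rw [h2, AlgEquiv.commutes, ← Ideal.Quotient.mk_algebraMap, Ideal.Quotient.eq_zero_iff_mem,
    ← Localization.AtPrime.map_eq_maximalIdeal, Ideal.map_map, ← IsScalarTower.algebraMap_eq,
    IsScalarTower.algebraMap_eq R B (Localization (Algebra.algebraMapSubmonoid B p.primeCompl)),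
    ← Ideal.map_map,
    IsLocalization.mem_map_algebraMap_iff (Algebra.algebraMapSubmonoid B p.primeCompl)] at h1
  obtain ⟨⟨⟨i, hi⟩, ⟨m, hm⟩⟩, h3⟩ := h1
  simp only at h3
  rw [← map_mul, IsLocalization.eq_iff_exists (Algebra.algebraMapSubmonoid B p.primeCompl)] at h3
  obtain ⟨⟨m', hm'⟩, h4⟩ := h3
  simp only at h4
  obtain ⟨t, ht, rfl⟩ := hm
  obtain ⟨t', ht', rfl⟩ := hm'
  refine ⟨t' * t, p.primeCompl.mul_mem ht' ht, ?_⟩
  have : algebraMap R B (t' * t) * x = algebraMap R B t' * i := by
    rw [map_mul, ← h4]; ring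
  rw [this]
  exact Ideal.mul_mem_left _ _ hi

/-- The main algebraic statement. -/
theorem exists_annihilator [Algebra.FinitePresentation R B]
    (hbij : Function.Bijective (algebraMap p.ResidueField (p.Fiber B))) :
    ∃ b : B, σ b ∉ p ∧ ∀ x : B, b * (x - algebraMap R B (σ x)) = 0 := by
  classical
  have hsurj : Function.Surjective σ := fun r => ⟨algebraMap R B r, by
    rw [AlgHom.commutes, Algebra.algebraMap_self_apply]⟩
  have hfg : (RingHom.ker σ.toRingHom).FG :=
    Algebra.FinitePresentation.ker_fG_of_surjective σ hsurj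
  obtain ⟨G, hG⟩ := hfg
  -- for each generator, an element t
  have hgen : ∀ g ∈ G, ∃ t ∉ p, algebraMap R B t * g ∈
      p.map (algebraMap R B) * RingHom.ker σ.toRingHom := by
    intro g hg
    have hgk : σ g = 0 := by
      have : g ∈ RingHom.ker σ.toRingHom := hG ▸ Ideal.subset_span hg
      exact this
    obtain ⟨t, ht, hmem⟩ := exists_smul_mem_of_one_tmul_eq_zero p
      (one_tmul_eq_zero σ p hbij hgk)
    refine ⟨t, ht, ?_⟩
    have h1 := D_mem_of_mem_map σ p hmem
    rwa [← Algebra.smul_def, map_smul, D_of_mem_ker σ hgk, Algebra.smul_def] at h1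
  choose! tt htt hmem using hgen
  obtain ⟨t, htdef⟩ : ∃ t : R, t = ∏ g ∈ G, tt g := ⟨_, rfl⟩
  have htp : t ∉ p := by
    rw [htdef]
    intro h
    obtain ⟨g, hg, hgp⟩ := (Ideal.IsPrime.prod_mem_iff).mp h
    exact htt g hg hgp
  have hall : ∀ i ∈ RingHom.ker σ.toRingHom, algebraMap R B t * i ∈
      p.map (algebraMap R B) * RingHom.ker σ.toRingHom := by
    intro i hi
    rw [← hG] at hi
    induction hi using Submodule.span_induction with
    | mem g hg =>
      have : t = (∏ g' ∈ G.erase g, tt g') * tt g := by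
        rw [htdef, Finset.prod_erase_mul _ _ hg]
      rw [this, map_mul, mul_assoc]
      exact Ideal.mul_mem_left _ _ (hmem g hg)
    | zero => rw [mul_zero]; exact Ideal.zero_mem _
    | add x y _ _ hx hy => rw [mul_add]; exact Ideal.add_mem _ hx hy
    | smul a x _ hx =>
      rw [smul_eq_mul, mul_left_comm]
      exact Ideal.mul_mem_left _ _ hx
  -- Cayley–Hamilton on the module `ker σ`
  haveI : Module.Finite B (RingHom.ker σ.toRingHom) :=
    Module.Finite.iff_fg.mpr ⟨G, hG⟩
  have hrange : LinearMap.range (algebraMap B (Module.End B (RingHom.ker σ.toRingHom))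
      (algebraMap R B t)) ≤ (p.map (algebraMap R B)) •
        (⊤ : Submodule B (RingHom.ker σ.toRingHom)) := by
    rintro _ ⟨i, rfl⟩
    rw [Module.algebraMap_end_apply]
    have h1 := hall i.1 i.2
    have h2 : (p.map (algebraMap R B)) • (⊤ : Submodule B (RingHom.ker σ.toRingHom)) =
        Submodule.comap (RingHom.ker σ.toRingHom).subtype
          (p.map (algebraMap R B) • RingHom.ker σ.toRingHom) := by
      apply Submodule.map_injective_of_injective (RingHom.ker σ.toRingHom).subtype_injective
      rw [Submodule.map_smul'', Submodule.map_top, Submodule.range_subtype,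
        Submodule.map_comap_eq, Submodule.range_subtype]
      exact (inf_eq_right.mpr Submodule.smul_le_right).symm
    rw [h2, Submodule.mem_comap]
    exact h1
  obtain ⟨P, hmonic, -, hcoeff, haeval⟩ :=
    LinearMap.exists_monic_and_natDegree_eq_and_coeff_mem_pow_and_aeval_eq_zero B _ _ hrange
  rw [Polynomial.aeval_algebraMap_apply] at haeval
  refine ⟨Polynomial.aeval (algebraMap R B t) P, ?_, ?_⟩
  · -- σ b ∉ p
    have hσJ : ∀ y ∈ p.map (algebraMap R B), σ y ∈ p := by
      have : p.map (algebraMap R B) ≤ Ideal.comap σ.toRingHom p := by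
        rw [Ideal.map_le_iff_le_comap]
        intro r hr
        rw [Ideal.mem_comap, Ideal.mem_comap]
        show σ (algebraMap R B r) ∈ p
        rw [AlgHom.commutes, Algebra.algebraMap_self_apply]; exact hr
      intro y hy; exact this hy
    rw [Polynomial.coe_aeval_eq_eval, Polynomial.eval_eq_sum_range, Finset.sum_range_succ,
      hmonic.coeff_natDegree, one_mul, map_add, map_pow, AlgHom.commutes,
      Algebra.algebraMap_self_apply]
    intro hmem
    have hsum : σ (∑ k ∈ Finset.range P.natDegree, P.coeff k * algebraMap R B t ^ k) ∈ p := by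
      rw [map_sum]
      refine Ideal.sum_mem _ fun k hk => ?_
      rw [map_mul]
      refine Ideal.mul_mem_right _ _ (hσJ _ ?_)
      have hk' : P.natDegree - k ≠ 0 := by
        have := Finset.mem_range.mp hk; omega
      exact Ideal.pow_le_self hk' (hcoeff k)
    have := (Ideal.add_mem_iff_right _ hsum).mp hmem
    exact htp (Ideal.IsPrime.mem_of_pow_mem ‹p.IsPrime› _ this)
  · intro x
    have h1 := congrArg (fun f => f ⟨D σ x, D_mem_ker σ x⟩) haeval
    simp only [Module.algebraMap_end_apply, LinearMap.zero_apply] at h1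
    have h3 := congrArg Subtype.val h1
    rw [Submodule.coe_smul] at h3
    exact h3

end Groth.Agent.Lib.Helper11.SecIsoAlg
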