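import Mathlib
import Groth.Agent.Lib.Helper11.SecIsoAlg

/-!
# SecIso: a section through a point with trivial fibre is a local isomorphism (helper11)
-/

set_option autoImplicit false
universe u

open CategoryTheory CategoryTheory.Limits AlgebraicGeometry

namespace Groth.Agent.Lib.Helper11.SecIso

/-- If `ε ∘ π` is the identity on an open `j : Y ⟶ X`, then `π` restricted to it is an open
immersion. -/
theorem isOpenImmersion_comp_of_section {X S Y : Scheme.{u}} (π : X ⟶ S) (ε : S ⟶ X)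
    (hε : ε ≫ π = 𝟙 S) (j : Y ⟶ X) [IsOpenImmersion j] (hj : j ≫ π ≫ ε = j) :
    IsOpenImmersion (j ≫ π) := by
  have hr1 : Set.range (j ≫ π).base ⊆ Set.range (ε ⁻¹ᵁ j.opensRange).ι.base := by
    rintro _ ⟨y, rfl⟩
    rw [Scheme.Opens.range_ι]
    show ε.base ((j ≫ π).base y) ∈ Set.range j.base
    have h1 : ε.base ((j ≫ π).base y) = j.base y := by
      have := congrArg (fun f => f.base y) hj
      simpa using this
    rw [h1]; exact ⟨y, rfl⟩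
  have hr2 : Set.range ((ε ⁻¹ᵁ j.opensRange).ι ≫ ε).base ⊆ Set.range j.base := by
    rintro _ ⟨u, rfl⟩
    exact u.2
  have hg : IsOpenImmersion.lift (ε ⁻¹ᵁ j.opensRange).ι (j ≫ π) hr1 ≫
      (ε ⁻¹ᵁ j.opensRange).ι = j ≫ π := IsOpenImmersion.lift_fac _ _ _
  have hh : IsOpenImmersion.lift j ((ε ⁻¹ᵁ j.opensRange).ι ≫ ε) hr2 ≫ j =
      (ε ⁻¹ᵁ j.opensRange).ι ≫ ε := IsOpenImmersion.lift_fac _ _ _
  have h1 : IsOpenImmersion.lift (ε ⁻¹ᵁ j.opensRange).ι (j ≫ π) hr1 ≫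
      IsOpenImmersion.lift j ((ε ⁻¹ᵁ j.opensRange).ι ≫ ε) hr2 = 𝟙 _ := by
    rw [← cancel_mono j, Category.assoc, hh, ← Category.assoc, hg, Category.assoc, hj,
      Category.id_comp]
  have h2 : IsOpenImmersion.lift j ((ε ⁻¹ᵁ j.opensRange).ι ≫ ε) hr2 ≫
      IsOpenImmersion.lift (ε ⁻¹ᵁ j.opensRange).ι (j ≫ π) hr1 = 𝟙 _ := by
    rw [← cancel_mono (ε ⁻¹ᵁ j.opensRange).ι, Category.assoc, hg, ← Category.assoc, hh,
      Category.assoc, hε, Category.comp_id, Category.id_comp]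
  haveI : IsIso (IsOpenImmersion.lift (ε ⁻¹ᵁ j.opensRange).ι (j ≫ π) hr1) := ⟨_, h1, h2⟩
  rw [← hg]; infer_instance

/-- globalisation using closedness of `π` -/
theorem exists_restrict_iso {X S Y : Scheme.{u}} (π : X ⟶ S) (hcl : IsClosedMap π.base) (s : S)
    (j : Y ⟶ X) [IsOpenImmersion j] [IsOpenImmersion (j ≫ π)]
    (hfib : ∀ x : X, π.base x = s → x ∈ Set.range j.base)
    (hne : s ∈ Set.range (j ≫ π).base) :
    ∃ U : S.Opens, s ∈ U ∧ IsIso (π ∣_ U) := by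
  have hC : IsClosed (π.base '' (Set.range j.base)ᶜ) :=
    hcl _ (j.isOpenEmbedding.isOpen_range.isClosed_compl)
  have hsC : s ∉ π.base '' (Set.range j.base)ᶜ := by
    rintro ⟨x, hx, hxs⟩; exact hx (hfib x hxs)
  obtain ⟨U, hUdef⟩ : ∃ U : S.Opens, U = ⟨(π.base '' (Set.range j.base)ᶜ)ᶜ, hC.isOpen_compl⟩ ⊓
      (j ≫ π).opensRange := ⟨_, rfl⟩
  have hU1 : ∀ u ∈ U, u ∉ π.base '' (Set.range j.base)ᶜ := by
    intro u hu; rw [hUdef] at hu; exact hu.1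
  have hU2 : ∀ u ∈ U, u ∈ Set.range (j ≫ π).base := by
    intro u hu; rw [hUdef] at hu; exact hu.2
  refine ⟨U, by rw [hUdef]; exact ⟨hsC, hne⟩, ?_⟩
  have hsub : Set.range (π ⁻¹ᵁ U).ι.base ⊆ Set.range j.base := by
    rintro _ ⟨x, rfl⟩
    by_contra hx
    exact hU1 _ x.2 ⟨_, hx, rfl⟩
  have hl : IsOpenImmersion.lift j (π ⁻¹ᵁ U).ι hsub ≫ j = (π ⁻¹ᵁ U).ι :=
    IsOpenImmersion.lift_fac _ _ _
  haveI : IsOpenImmersion (IsOpenImmersion.lift j (π ⁻¹ᵁ U).ι hsub ≫ j) := by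
    rw [hl]; infer_instance
  haveI : IsOpenImmersion (IsOpenImmersion.lift j (π ⁻¹ᵁ U).ι hsub) :=
    IsOpenImmersion.of_comp _ j
  haveI h1 : IsOpenImmersion ((π ∣_ U) ≫ U.ι) := by
    rw [morphismRestrict_ι, ← hl, Category.assoc]; infer_instance
  haveI : IsOpenImmersion (π ∣_ U) := IsOpenImmersion.of_comp _ U.ι
  apply isIso_of_isOpenImmersion_of_opensRange_eq_top
  rw [eq_top_iff]
  rintro u -
  obtain ⟨y, hy⟩ := hU2 u.1 u.2
  have hx : j.base y ∈ π ⁻¹ᵁ U := by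
    show π.base (j.base y) ∈ U
    have : π.base (j.base y) = u.1 := by rw [← hy]; simp
    rw [this]; exact u.2
  refine ⟨⟨j.base y, hx⟩, ?_⟩
  apply Subtype.ext
  rw [morphismRestrict_base_coe]
  rw [← hy]; simp

/-- restricting a trivial fibre to an open subscheme containing the point -/
theorem isIso_fiber_of_isOpenImmersion {Y Z Y' : Scheme.{u}} (f : Y ⟶ Z) (j : Y' ⟶ Y)
    [IsOpenImmersion j] (z : Z) (hf : IsIso (f.fiberToSpecResidueField z)) (y' : Y')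
    (hy' : f.base (j.base y') = z) : IsIso ((j ≫ f).fiberToSpecResidueField z) := by
  have hfac : (j ≫ f).fiberToSpecResidueField z =
      pullback.map (j ≫ f) (Z.fromSpecResidueField z) f (Z.fromSpecResidueField z) j (𝟙 _) (𝟙 _)
        (by simp) (by simp) ≫ f.fiberToSpecResidueField z := by
    unfold Scheme.Hom.fiberToSpecResidueField
    rw [pullback.lift_snd, Category.comp_id]
  have hsub : Subsingleton ↥(f.fiber z) :=
    (f.fiberToSpecResidueField z).homeomorph.injective.subsingleton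
  have hmap : IsIso (pullback.map (j ≫ f) (Z.fromSpecResidueField z) f (Z.fromSpecResidueField z) j
      (𝟙 _) (𝟙 _) (by simp) (by simp)) := by
    apply isIso_of_isOpenImmersion_of_opensRange_eq_top
    rw [eq_top_iff]
    rintro w -
    obtain ⟨w₀, -, -⟩ := Scheme.Pullback.exists_preimage_pullback (f := j ≫ f)
      (g := Z.fromSpecResidueField z) y' (IsLocalRing.closedPoint _) (by
        rw [Scheme.fromSpecResidueField_apply]
        simpa using hy')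
    exact ⟨w₀, @Subsingleton.elim _ hsub _ _⟩
  rw [hfac]
  exact @IsIso.comp_isIso _ _ _ _ _ _ _ hmap hf

/-- base change of a trivial fibre -/
theorem isIso_fiber_of_isPullback {P X Y Z : Scheme.{u}} {fst : P ⟶ X} {snd : P ⟶ Y}
    {f : X ⟶ Z} {g : Y ⟶ Z} (h : IsPullback fst snd f g) (y : Y)
    (hf : IsIso (f.fiberToSpecResidueField (g.base y))) :
    IsIso (snd.fiberToSpecResidueField y) :=
  MorphismProperty.of_isPullback (P := MorphismProperty.isomorphisms Scheme)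
    (isPullback_fiberToSpecResidueField_of_isPullback h y) hf

theorem isUnit_of_basicOpen_eq_top (Y : Scheme.{u}) (r : Γ(Y, ⊤)) (h : Y.basicOpen r = ⊤) :
    IsUnit r := by
  refine RingedSpace.isUnit_of_isUnit_germ Y.toRingedSpace ⊤ r (fun x _ => ?_)
  have hx : x ∈ Y.basicOpen r := by rw [h]; trivial
  exact (Y.mem_basicOpen_top r x).mp hx

/-- the affine core -/
theorem affine_core {R B : CommRingCat.{u}} (φ : R ⟶ B) (σ : B ⟶ R) (hσ : φ ≫ σ = 𝟙 R)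
    (hfp : φ.hom.FinitePresentation) (p : Spec R)
    (hiso : IsIso ((Spec.map φ).fiberToSpecResidueField p)) :
    ∃ b : B, σ.hom b ∉ p.asIdeal ∧ ∀ x : B, b * (x - φ.hom (σ.hom x)) = 0 := by
  letI : Algebra R B := φ.hom.toAlgebra
  haveI : Algebra.FinitePresentation R B := hfp
  let σ' : B →ₐ[R] R :=
    { σ.hom with
      commutes' := fun r => by
        have := congrArg (fun g => g.hom r) hσ
        exact this }
  have hbij : Function.Bijective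
      (algebraMap p.asIdeal.ResidueField (p.asIdeal.Fiber B)) := by
    have h1 : IsIso (Spec.map (CommRingCat.ofHom
        (algebraMap p.asIdeal.ResidueField (p.asIdeal.Fiber B)))) :=
      ((MorphismProperty.isomorphisms Scheme).arrow_mk_iso_iff
        (Spec.fiberToSpecResidueFieldIso R B p)).mp hiso
    exact isIso_SpecMap_iff.mp h1
  exact SecIsoAlg.exists_annihilator σ' p.asIdeal hbij

theorem main (X S : Scheme.{u}) (π : X ⟶ S) (ε : S ⟶ X) (hε : ε ≫ π = 𝟙 S)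
    (hcl : IsClosedMap π.base) (s : S)
    (hfp : ∃ W : X.Opens, ε.base s ∈ W ∧ LocallyOfFinitePresentation (W.ι ≫ π))
    (hs : IsIso (π.fiberToSpecResidueField s)) :
    ∃ U : S.Opens, s ∈ U ∧ IsIso (π ∣_ U) := by
  obtain ⟨W, hsW, hWfp⟩ := hfp
  have hπε : ∀ u : S, π.base (ε.base u) = u := by
    intro u
    have := congrArg (fun f => f.base u) hε
    simpa using this
  -- the fibre is a single point
  have hfib : ∀ x : X, π.base x = s → x = ε.base s := by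
    intro x hx
    haveI : Subsingleton ↥(π.fiber s) :=
      (π.fiberToSpecResidueField s).homeomorph.injective.subsingleton
    haveI : Subsingleton ↥(π ⁻¹' {s}) := (π.fiberHomeo s).symm.injective.subsingleton
    exact congrArg Subtype.val
      (Subsingleton.elim (⟨x, hx⟩ : ↥(π ⁻¹' {s})) ⟨ε.base s, hπε s⟩)
  -- affine opens
  obtain ⟨U₂, hU₂, hsU₂, -⟩ := exists_isAffineOpen_mem_and_subset (x := s) (U := ⊤) trivial
  obtain ⟨V₂, hV₂, hsV₂, hV₂le⟩ := exists_isAffineOpen_mem_and_subset (x := ε.base s)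
    (U := W ⊓ π ⁻¹ᵁ U₂) ⟨hsW, by show π.base (ε.base s) ∈ U₂; rw [hπε]; exact hsU₂⟩
  obtain ⟨a, hale, hsa⟩ := hU₂.exists_basicOpen_le (V := U₂ ⊓ ε ⁻¹ᵁ V₂)
    ⟨s, ⟨hsU₂, hsV₂⟩⟩ hsU₂
  have hV₂U : V₂ ≤ π ⁻¹ᵁ U₂ := fun x hx => (hV₂le hx).2
  obtain ⟨U₃, hU₃def⟩ : ∃ U₃ : S.Opens, U₃ = S.basicOpen a := ⟨_, rfl⟩
  have hU₃ : IsAffineOpen U₃ := hU₃def ▸ hU₂.basicOpen a
  obtain ⟨V₃, hV₃def⟩ : ∃ V₃ : X.Opens,
      V₃ = X.basicOpen (X.presheaf.map (homOfLE hV₂U).op (π.app U₂ a)) := ⟨_, rfl⟩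
  have hV₃ : IsAffineOpen V₃ := hV₃def ▸ hV₂.basicOpen _
  have hV₃eq : V₃ = V₂ ⊓ π ⁻¹ᵁ U₃ := by
    rw [hV₃def, hU₃def, Scheme.basicOpen_res, Scheme.preimage_basicOpen]
  have hsU₃ : s ∈ U₃ := hU₃def ▸ hsa
  have e : V₃ ≤ π ⁻¹ᵁ U₃ := hV₃eq ▸ inf_le_right
  have e' : U₃ ≤ ε ⁻¹ᵁ V₃ := by
    intro u hu
    show ε.base u ∈ V₃
    rw [hV₃eq]
    refine ⟨(hale (hU₃def ▸ hu)).2, ?_⟩
    show π.base (ε.base u) ∈ U₃
    rw [hπε]; exact hu
  have hV₃W : V₃ ≤ W := by rw [hV₃eq]; exact fun x hx => (hV₂le hx.1).1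
  have hεsV₃ : ε.base s ∈ V₃ := e' hsU₃
  haveI : IsAffine (↑U₃ : Scheme.{u}) := hU₃
  haveI : IsAffine (↑V₃ : Scheme.{u}) := hV₃
  have h₃ : ε.resLE V₃ U₃ e' ≫ π.resLE U₃ V₃ e = 𝟙 _ := by
    rw [← cancel_mono U₃.ι, Category.assoc, Scheme.Hom.resLE_comp_ι, ← Category.assoc,
      Scheme.Hom.resLE_comp_ι, Category.assoc, hε, Category.comp_id, Category.id_comp]
  haveI hlfp : LocallyOfFinitePresentation (π.resLE U₃ V₃ e) := by
    have h1 : LocallyOfFinitePresentation (π.resLE U₃ V₃ e ≫ U₃.ι) := by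
      rw [Scheme.Hom.resLE_comp_ι]
      have : V₃.ι = X.homOfLE hV₃W ≫ W.ι := (X.homOfLE_ι _).symm
      rw [this, Category.assoc]; infer_instance
    exact MorphismProperty.of_isPullback (P := @LocallyOfFinitePresentation)
      (IsPullback.of_horiz_isIso_mono ⟨by simp⟩ :
        IsPullback (𝟙 _) (π.resLE U₃ V₃ e) (π.resLE U₃ V₃ e ≫ U₃.ι) U₃.ι) h1
  -- the fibre of the restriction
  have hf1 : IsIso ((π ∣_ U₃).fiberToSpecResidueField ⟨s, hsU₃⟩) :=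
    isIso_fiber_of_isPullback (isPullback_morphismRestrict π U₃).flip ⟨s, hsU₃⟩ hs
  have hf2 : IsIso ((π.resLE U₃ V₃ e).fiberToSpecResidueField ⟨s, hsU₃⟩) := by
    show IsIso ((X.homOfLE e ≫ π ∣_ U₃).fiberToSpecResidueField ⟨s, hsU₃⟩)
    refine isIso_fiber_of_isOpenImmersion (π ∣_ U₃) (X.homOfLE e) ⟨s, hsU₃⟩ hf1
      ⟨ε.base s, hεsV₃⟩ ?_
    apply Subtype.ext
    rw [morphismRestrict_base_coe]
    show π.base ((X.homOfLE e).base ⟨ε.base s, hεsV₃⟩).1 = s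
    rw [Scheme.homOfLE_apply]
    exact hπε s
  -- transfer to Spec
  have hσφ : (π.resLE U₃ V₃ e).appTop ≫ (ε.resLE V₃ U₃ e').appTop = 𝟙 _ := by
    rw [← Scheme.Hom.comp_appTop, h₃, Scheme.Hom.id_appTop]
  have hfpφ : (π.resLE U₃ V₃ e).appTop.hom.FinitePresentation :=
    Scheme.Hom.finitePresentation_appTop (π.resLE U₃ V₃ e)
  have hp : (Scheme.isoSpec (↑U₃ : Scheme.{u})).inv.base ((Scheme.isoSpec (↑U₃ : Scheme.{u})).hom.base ⟨s, hsU₃⟩) =
      ⟨s, hsU₃⟩ := by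
    rw [← TopCat.comp_app, ← Scheme.Hom.comp_base, Iso.hom_inv_id]; rfl
  have hf3 : IsIso ((Spec.map (π.resLE U₃ V₃ e).appTop).fiberToSpecResidueField
      ((Scheme.isoSpec (↑U₃ : Scheme.{u})).hom.base ⟨s, hsU₃⟩)) := by
    refine isIso_fiber_of_isPullback (fst := (Scheme.isoSpec (↑V₃ : Scheme.{u})).inv)
      (f := π.resLE U₃ V₃ e) (g := (Scheme.isoSpec (↑U₃ : Scheme.{u})).inv)
      (IsPullback.of_horiz_isIso ⟨(Scheme.isoSpec_inv_naturality _).symm⟩) _ ?_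
    rw [hp]; exact hf2
  obtain ⟨b, hb1, hb2⟩ := affine_core _ _ hσφ hfpφ _ hf3
  -- the basic open of `b`
  obtain ⟨Db, hDb⟩ : ∃ Db : (↑V₃ : Scheme.{u}).Opens, Db = (↑V₃ : Scheme.{u}).basicOpen b :=
    ⟨_, rfl⟩
  have key : Db.ι ≫ π.resLE U₃ V₃ e ≫ ε.resLE V₃ U₃ e' = Db.ι := by
    apply ext_of_isAffine
    rw [Scheme.Hom.comp_appTop, Scheme.Hom.comp_appTop]
    ext x
    have hu : IsUnit (Db.ι.appTop b) := by
      apply isUnit_of_basicOpen_eq_top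
      rw [← Scheme.preimage_basicOpen_top, ← hDb]
      exact Db.ι_preimage_self
    have h0 := congrArg Db.ι.appTop (hb2 x)
    rw [map_mul, map_zero, map_sub] at h0
    have h1 := (hu.mul_right_eq_zero).mp h0
    exact (sub_eq_zero.mp h1).symm
  have hj : (Db.ι ≫ V₃.ι) ≫ π ≫ ε = Db.ι ≫ V₃.ι := by
    calc (Db.ι ≫ V₃.ι) ≫ π ≫ ε = Db.ι ≫ (V₃.ι ≫ π) ≫ ε := by simp only [Category.assoc]
      _ = Db.ι ≫ (π.resLE U₃ V₃ e ≫ U₃.ι) ≫ ε := by rw [Scheme.Hom.resLE_comp_ι]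
      _ = Db.ι ≫ π.resLE U₃ V₃ e ≫ (U₃.ι ≫ ε) := by simp only [Category.assoc]
      _ = Db.ι ≫ π.resLE U₃ V₃ e ≫ ε.resLE V₃ U₃ e' ≫ V₃.ι := by
          rw [Scheme.Hom.resLE_comp_ι]
      _ = (Db.ι ≫ π.resLE U₃ V₃ e ≫ ε.resLE V₃ U₃ e') ≫ V₃.ι := by
          simp only [Category.assoc]
      _ = Db.ι ≫ V₃.ι := by rw [key]
  -- the point lies in the basic open
  have hy₃ : (ε.resLE V₃ U₃ e').base ⟨s, hsU₃⟩ ∈ Db := by
    show (⟨s, hsU₃⟩ : ↥U₃) ∈ (ε.resLE V₃ U₃ e') ⁻¹ᵁ Db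
    rw [hDb, Scheme.preimage_basicOpen_top, ← Scheme.toSpecΓ_preimage_basicOpen]
    exact hb1
  have hjy : (Db.ι ≫ V₃.ι).base ⟨(ε.resLE V₃ U₃ e').base ⟨s, hsU₃⟩, hy₃⟩ = ε.base s := by
    simp
  haveI := isOpenImmersion_comp_of_section π ε hε (Db.ι ≫ V₃.ι) hj
  refine exists_restrict_iso π hcl s (Db.ι ≫ V₃.ι) ?_ ?_
  · intro x hx
    rw [hfib x hx, ← hjy]; exact ⟨_, rfl⟩
  · refine ⟨⟨(ε.resLE V₃ U₃ e').base ⟨s, hsU₃⟩, hy₃⟩, ?_⟩
    rw [Scheme.Hom.comp_base, TopCat.comp_app, hjy, hπε]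

end Groth.Agent.Lib.Helper11.SecIso
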