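import Mathlib
import Groth.Agent.Lib.Helper11.ExtPowAlg

/-!
# Wedge pairing on a free module of rank two (helper11)
-/

set_option autoImplicit false
open Module

namespace Groth.Agent.Lib.Helper11.SimpleTwoAlg

open Groth.Agent.Lib.Helper11.ExtPowAlg

variable {R M : Type*} [CommRing R] [AddCommGroup M] [Module R M]

/-- `a ∧ b` -/
noncomputable def w2 (a b : M) : ↥(⋀[R]^2 M) := exteriorPower.ιMulti R 2 ![a, b]

theorem update_one (a b x : M) : Function.update ![a, b] 1 x = ![a, x] := by
  funext i
  fin_cases i <;> simp

theorem update_zero (a b x : M) : Function.update ![a, b] 0 x = ![x, b] := by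
  funext i
  fin_cases i <;> simp

theorem w2_self (a : M) : w2 (R := R) a a = 0 :=
  (exteriorPower.ιMulti R 2 (M := M)).map_eq_zero_of_eq ![a, a] (i := 0) (j := 1) rfl
    (by decide)

theorem w2_add_right (a b b' : M) : w2 (R := R) a (b + b') = w2 a b + w2 a b' := by
  have h := (exteriorPower.ιMulti R 2 (M := M)).map_update_add ![a, b] 1 b b'
  rw [update_one, update_one, update_one] at h
  exact h

theorem w2_smul_right (r : R) (a b : M) : w2 (R := R) a (r • b) = r • w2 a b := by
  have h := (exteriorPower.ιMulti R 2 (M := M)).map_update_smul ![a, b] 1 r b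
  rw [update_one, update_one] at h
  exact h

theorem w2_smul_left (r : R) (a b : M) : w2 (R := R) (r • a) b = r • w2 a b := by
  have h := (exteriorPower.ιMulti R 2 (M := M)).map_update_smul ![a, b] 0 r a
  rw [update_zero, update_zero] at h
  exact h

theorem w2_smul_zero_right (a : M) : w2 (R := R) a 0 = 0 := by
  have := w2_smul_right (R := R) 0 a (0 : M)
  rwa [zero_smul, zero_smul] at this

theorem exists_w2_ne_zero [Nontrivial R] (b : Basis (Fin 2) R M) (s : M) (hs : s ≠ 0) :
    ∃ e : M, w2 (R := R) s e ≠ 0 := by
  by_contra hcon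
  push Not at hcon
  apply hs
  apply b.repr.injective
  rw [map_zero]
  ext i
  rw [Finsupp.zero_apply]
  have key : ∀ e : M, b.det ![s, e] = 0 := by
    intro e
    have := congrArg (detLin b) (hcon e)
    rwa [map_zero, w2, detLin_ιMulti] at this
  fin_cases i
  · have h := key (b 1)
    rw [Basis.det_apply, Matrix.det_fin_two] at h
    simp only [Basis.toMatrix_apply, Matrix.cons_val_zero, Matrix.cons_val_one,
      Basis.repr_self] at h
    simpa using h
  · have h := key (b 0)
    rw [Basis.det_apply, Matrix.det_fin_two] at h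
    simp only [Basis.toMatrix_apply, Matrix.cons_val_zero, Matrix.cons_val_one,
      Basis.repr_self] at h
    simpa using h

theorem smul_ne_zero_of_basis [IsDomain R] {ι : Type*} (b : Basis ι R M) {a : R} {s : M}
    (ha : a ≠ 0) (hs : s ≠ 0) : a • s ≠ 0 := by
  intro h
  apply hs
  apply b.repr.injective
  rw [map_zero]
  ext i
  have h1 := congrArg (fun t => b.repr t i) h
  simp only [map_smul, Finsupp.smul_apply, map_zero, Finsupp.zero_apply, smul_eq_mul] at h1
  rcases mul_eq_zero.mp h1 with h2 | h2
  · exact (ha h2).elim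
  · rw [Finsupp.zero_apply]; exact h2

end Groth.Agent.Lib.Helper11.SimpleTwoAlg
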