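import Mathlib
import Groth.Prelude.Def_ExtPow2
import Groth.Agent.Lib.Helper11.SimpleTwoAlg
import Groth.Agent.Lib.Helper3.FreeBasis
import Groth.Agent.Lib.Helper3.QCProps
import Groth.Agent.Lib.Helper25.ExtPowTw
import Groth.Agent.Lib.Helper17.ExtPowCoh

/-!
# A twisted section of a rank two bundle gives a nilpotent endomorphism (helper11)

Let `E` be locally free of rank two with `Λ² E = L`, `T` invertible, `κ : (L ⊗ T) ⊗ T ⟶ O` a
monomorphism and `σ` a non-zero global section of `E ⊗ T`, on an integral scheme.  Then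
`e ↦ κ(σ ∧ e) σ` is a non-zero endomorphism of `E` of square zero.
-/

set_option autoImplicit false
set_option linter.style.haveILetI false
set_option linter.unusedSectionVars false
universe u
open CategoryTheory CategoryTheory.Limits AlgebraicGeometry TopologicalSpace Opposite
open Scheme.Modules

namespace Groth.Agent.Lib.Helper11.SimpleTwoA

open Groth.Agent.Lib.Helper3 Groth.Agent.Lib.Helper3.QCSec Groth.Agent.Lib.Helper3.InvGen
  Groth.Agent.Lib.Helper3.FreeBasis Groth.Agent.Lib.Helper3.InvTensor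
open Groth.Agent.Lib.Helper25.TwKosz Groth.Agent.Lib.Helper11.SimpleTwoAlg

variable {X : Scheme.{u}} {E L T : X.Modules}

section mu

variable (κ : CohB1.tensorMod (CohB1.tensorMod L T) T ⟶ Coh.structureModule X)

/-- `l ↦ κ(l ⊗ g ⊗ g)` -/
noncomputable def mu (V : X.Opens) (g : Γ(T, V)) (l : Γ(L, V)) : Γ(X, V) :=
  toFun V (κ.app V (tm (CohB1.tensorMod L T) T V (tm L T V l g) g))

theorem mu_add (V : X.Opens) (g : Γ(T, V)) (l l' : Γ(L, V)) :
    mu κ V g (l + l') = mu κ V g l + mu κ V g l' := by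
  unfold mu
  rw [tm_add_left, tm_add_left, QCExact.app_add]
  rfl

theorem mu_smul (V : X.Opens) (g : Γ(T, V)) (a : Γ(X, V)) (l : Γ(L, V)) :
    mu κ V g (a • l) = a * mu κ V g l := by
  unfold mu
  rw [tm_smul_left, tm_smul_left, Scheme.Modules.Hom.app_smul]
  rfl

theorem mu_smul_gen (V : X.Opens) (g : Γ(T, V)) (u : Γ(X, V)) (l : Γ(L, V)) :
    mu κ V (u • g) l = u * (u * mu κ V g l) := by
  unfold mu
  rw [tm_smul_right, tm_smul_right, tm_smul_left, Scheme.Modules.Hom.app_smul,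
    Scheme.Modules.Hom.app_smul]
  rfl

theorem mu_res {V V' : X.Opens} (h : V' ≤ V) (g : Γ(T, V)) (l : Γ(L, V)) :
    rres X h (mu κ V g l) = mu κ V' (res T h g) (res L h l) := by
  unfold mu
  rw [← tm_res, ← tm_res, QCExact.app_res']
  rfl

theorem mu_eq_zero [Mono κ] {V : X.Opens} {g : Γ(T, V)} (hg : IsGen T V g) (l : Γ(L, V))
    (h : mu κ V g l = 0) : l = 0 := by
  have hinj := (QCProps.mono_iff_app_injective κ).mp inferInstance V
  have h1 : κ.app V (tm (CohB1.tensorMod L T) T V (tm L T V l g) g) = κ.app V 0 := by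
    rw [QCExact.app_zero]
    exact h
  have h2 := hinj h1
  have h3 := (tm_eq_zero_iff hg _).mp h2
  exact (tm_eq_zero_iff hg _).mp h3

end mu

section sg

variable (σ : Γ(CohB1.tensorMod E T, (⊤ : X.Opens)))

/-- the local section `s` of `E` with `s ⊗ g = σ` -/
noncomputable def sg {V : X.Opens} {g : Γ(T, V)} (hg : IsGen T V g) : Γ(E, V) :=
  (tauEquiv E hg).symm (res (CohB1.tensorMod E T) le_top σ)

theorem tm_sg {V : X.Opens} {g : Γ(T, V)} (hg : IsGen T V g) :
    tm E T V (sg σ hg) g = res (CohB1.tensorMod E T) le_top σ := by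
  rw [← tauEquiv_apply E hg]
  exact (tauEquiv E hg).apply_symm_apply _

theorem sg_unique {V : X.Opens} {g : Γ(T, V)} (hg : IsGen T V g) (x : Γ(E, V))
    (hx : tm E T V x g = res (CohB1.tensorMod E T) le_top σ) : x = sg σ hg := by
  apply (tauEquiv E hg).injective
  rw [tauEquiv_apply, tauEquiv_apply, hx, tm_sg]

theorem sg_res {V V' : X.Opens} (h : V' ≤ V) {g : Γ(T, V)} (hg : IsGen T V g) :
    res E h (sg σ hg) = sg σ (hg.mono h) := by
  apply sg_unique
  rw [← tm_res, tm_sg, res_res]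

theorem sg_smul {V : X.Opens} {g : Γ(T, V)} (hg : IsGen T V g) (u w : Γ(X, V))
    (hwu : w * u = 1) (hg' : IsGen T V (u • g)) : sg σ hg' = w • sg σ hg := by
  symm
  apply sg_unique
  rw [tm_smul_left, tm_smul_right, smul_smul, hwu, one_smul, tm_sg]

theorem sg_ne_zero {V : X.Opens} {g : Γ(T, V)} (hg : IsGen T V g)
    (h : res (CohB1.tensorMod E T) le_top σ ≠ (0 : Γ(CohB1.tensorMod E T, V))) :
    sg σ hg ≠ 0 := by
  intro h0
  apply h
  rw [← tm_sg σ hg, h0, tm_zero_left]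

end sg

section D

variable (φ : ∀ U : X.affineOpens, Γ(L, U.1) ≃ₗ[Γ(X, U.1)] ↥(⋀[Γ(X, U.1)]^2 Γ(E, U.1)))
  (hφ : ∀ (U V : X.affineOpens) (h : V.1 ≤ U.1) (e : Fin 2 → Γ(E, U.1)),
    res L h ((φ U).symm (exteriorPower.ιMulti _ 2 e)) =
      (φ V).symm (exteriorPower.ιMulti _ 2 (fun j => res E h (e j))))
  (κ : CohB1.tensorMod (CohB1.tensorMod L T) T ⟶ Coh.structureModule X)
  (σ : Γ(CohB1.tensorMod E T, (⊤ : X.Opens)))

/-- the wedge pairing with values in `L` -/
noncomputable def om (V : X.affineOpens) (a b : Γ(E, V.1)) : Γ(L, V.1) :=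
  (φ V).symm (w2 a b)

include hφ in
theorem om_res {V V' : X.affineOpens} (h : V'.1 ≤ V.1) (a b : Γ(E, V.1)) :
    res L h (om φ V a b) = om φ V' (res E h a) (res E h b) := by
  unfold om w2
  rw [hφ V V' h]
  have h1 : (fun j => res E h ((![a, b] : Fin 2 → Γ(E, V.1)) j)) = ![res E h a, res E h b] := by
    funext j
    fin_cases j <;> rfl
  rw [h1]

/-- the local endomorphism -/
noncomputable def D (V : X.affineOpens) {g : Γ(T, V.1)} (hg : IsGen T V.1 g) (e : Γ(E, V.1)) :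
    Γ(E, V.1) :=
  mu κ V.1 g (om φ V (sg σ hg) e) • sg σ hg

theorem D_add (V : X.affineOpens) {g : Γ(T, V.1)} (hg : IsGen T V.1 g) (e e' : Γ(E, V.1)) :
    D φ κ σ V hg (e + e') = D φ κ σ V hg e + D φ κ σ V hg e' := by
  unfold D om
  rw [w2_add_right, _root_.map_add, mu_add, add_smul]

theorem D_smul (V : X.affineOpens) {g : Γ(T, V.1)} (hg : IsGen T V.1 g) (a : Γ(X, V.1))
    (e : Γ(E, V.1)) : D φ κ σ V hg (a • e) = a • D φ κ σ V hg e := by
  unfold D om
  rw [w2_smul_right, _root_.map_smul, mu_smul, mul_smul]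

theorem D_indep (V : X.affineOpens) {g g' : Γ(T, V.1)} (hg : IsGen T V.1 g)
    (hg' : IsGen T V.1 g') (e : Γ(E, V.1)) : D φ κ σ V hg' e = D φ κ σ V hg e := by
  obtain ⟨u, hu, rfl⟩ := hg.self.exists_unit hg'.self
  obtain ⟨w, hw⟩ := hu.exists_left_inv
  unfold D om
  rw [sg_smul σ hg u w hw hg', w2_smul_left, _root_.map_smul, mu_smul_gen, mu_smul, smul_smul]
  congr 1
  have : u * (u * (w * mu κ V.1 g ((φ V).symm (w2 (sg σ hg) e)))) * w =
      (w * u) * (w * u) * mu κ V.1 g ((φ V).symm (w2 (sg σ hg) e)) := by ring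
  rw [this, hw, one_mul, one_mul]

include hφ in
theorem D_res {V V' : X.affineOpens} (h : V'.1 ≤ V.1) {g : Γ(T, V.1)} (hg : IsGen T V.1 g)
    (e : Γ(E, V.1)) :
    res E h (D φ κ σ V hg e) = D φ κ σ V' (hg.mono h) (res E h e) := by
  unfold D
  rw [res_smul, mu_res, om_res φ hφ h, sg_res]

theorem D_D (V : X.affineOpens) {g : Γ(T, V.1)} (hg : IsGen T V.1 g) (e : Γ(E, V.1)) :
    D φ κ σ V hg (D φ κ σ V hg e) = 0 := by
  have h : D φ κ σ V hg (sg σ hg) = 0 := by
    unfold D om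
    rw [w2_self, _root_.map_zero]
    have : mu κ V.1 g (0 : Γ(L, V.1)) = 0 := by
      have := mu_smul κ V.1 g 0 (0 : Γ(L, V.1))
      rwa [zero_smul, zero_mul] at this
    rw [this, zero_smul]
  conv_lhs => arg 6; unfold D
  rw [D_smul, h, smul_zero]

end D

end Groth.Agent.Lib.Helper11.SimpleTwoA
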