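import Mathlib
import Groth.Agent.Lib.Helper11.SimpleTwoA
import Groth.Agent.Lib.Helper3.ModGlue
import Groth.Agent.Lib.Helper3.ModBasis

/-!
# A twisted section of a rank two bundle gives a nilpotent endomorphism: gluing (helper11)
-/

set_option autoImplicit false
set_option linter.style.haveILetI false
set_option linter.unusedSectionVars false
universe u
open CategoryTheory CategoryTheory.Limits AlgebraicGeometry TopologicalSpace Opposite
open Scheme.Modules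

namespace Groth.Agent.Lib.Helper11.SimpleTwoB

open Groth.Agent.Lib.Helper3 Groth.Agent.Lib.Helper3.QCSec Groth.Agent.Lib.Helper3.InvGen
  Groth.Agent.Lib.Helper3.FreeBasis Groth.Agent.Lib.Helper3.InvTensor
open Groth.Agent.Lib.Helper25.TwKosz Groth.Agent.Lib.Helper11.SimpleTwoAlg
  Groth.Agent.Lib.Helper11.SimpleTwoA Groth.Agent.Lib.Helper11.ExtPowAlg

variable {X : Scheme.{u}}

/-- **Nilpotent endomorphism from a twisted section.** -/
theorem exists_nilpotent [IsIntegral X] {E L T : X.Modules}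
    (hE : FlatMod.IsFinLocFreeOfRank 2 E) (hL : ExtPow.IsExtPow 2 E L)
    (hT : PicF.IsInvertible T)
    (κ : CohB1.tensorMod (CohB1.tensorMod L T) T ⟶ Coh.structureModule X) [Mono κ]
    (σ : Γ(CohB1.tensorMod E T, (⊤ : X.Opens))) (hσ : σ ≠ 0) :
    ∃ ψ : E ⟶ E, ψ ≠ 0 ∧ ψ ≫ ψ = 0 := by
  obtain ⟨φ, hφ⟩ := Groth.Agent.Lib.Helper17.ExtPowCoh.exists_phi hL
  let Small : X.Opens → Prop := fun V => IsAffineOpen V ∧ ∃ g : Γ(T, V), IsGen T V g
  have hcov : ∀ (W : X.Opens) (x : X), x ∈ W → ∃ V : X.Opens, Small V ∧ x ∈ V ∧ V ≤ W := by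
    intro W x hx
    obtain ⟨U, e, hU, hxU, hUW, hg⟩ := exists_affine_isGen_le hT x W hx
    exact ⟨U, ⟨hU, e, hg⟩, hxU, hUW⟩
  obtain ⟨ψ, hψ⟩ := Groth.Agent.Lib.Helper25.ExtPowTw.exists_hom_of_basis (M := E) (N := E)
    Small hcov
    (fun V hV => D φ κ σ ⟨V, hV.1⟩ hV.2.choose_spec)
    (fun V hV s s' => D_add φ κ σ ⟨V, hV.1⟩ hV.2.choose_spec s s')
    (fun V hV a s => D_smul φ κ σ ⟨V, hV.1⟩ hV.2.choose_spec a s)
    (fun {V V'} h hV hV' s =>
      (D_res φ hφ κ σ (V := ⟨V, hV.1⟩) (V' := ⟨V', hV'.1⟩) h hV.2.choose_spec s).trans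
        (D_indep φ κ σ ⟨V', hV'.1⟩ hV'.2.choose_spec (hV.2.choose_spec.mono h) _))
  refine ⟨ψ, ?_, ?_⟩
  · intro h0
    have hpt : ∃ x : X, ∀ (V : X.Opens) (hV : V ≤ ⊤), x ∈ V →
        res (CohB1.tensorMod E T) hV σ ≠ 0 := by
      by_contra hcon
      push Not at hcon
      refine hσ (ModBasis.eq_zero_of_locally_zero _ ⊤ σ (fun x _ => ?_))
      obtain ⟨V, hV, hxV, h⟩ := hcon x
      exact ⟨V, hV, hxV, h⟩
    obtain ⟨x, hx⟩ := hpt
    obtain ⟨U, e, hxU, he⟩ := FreeBasis.isFinLocFreeOfRank_iff.mp hE x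
    obtain ⟨V, g, hV, hxV, hVU, hg⟩ := exists_affine_isGen_le hT x U hxU
    have hB : IsBasisAt E V (fun i => res E hVU (e i)) := he V hVU
    haveI : Nonempty V := ⟨⟨x, hxV⟩⟩
    haveI : IsDomain Γ(X, V) := inferInstance
    let b := basisOfBij _ hB
    have hV' : Small V := ⟨hV, g, hg⟩
    have hs : sg σ hV'.2.choose_spec ≠ 0 := sg_ne_zero σ _ (hx V le_top hxV)
    obtain ⟨e', he'⟩ := exists_w2_ne_zero b _ hs
    have h1 := hψ V hV' e'
    rw [h0] at h1
    have h2 : D φ κ σ ⟨V, hV'.1⟩ hV'.2.choose_spec e' = 0 := h1.symm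
    unfold D at h2
    refine smul_ne_zero_of_basis b ?_ hs h2
    intro h3
    have h4 := mu_eq_zero κ hV'.2.choose_spec _ h3
    exact he' ((φ ⟨V, hV'.1⟩).symm.injective (h4.trans (_root_.map_zero _).symm))
  · apply ModGlue.hom_ext_of_small Small hcov
    intro V hV s
    change ψ.app V (ψ.app V s) = 0
    rw [hψ V hV, hψ V hV, D_D]

end Groth.Agent.Lib.Helper11.SimpleTwoB
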