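import Mathlib
import Groth.Prelude
import Groth.Agent.Lib.Helper11.SimpleTwoB
import Groth.Agent.Lib.Helper7.LocFreePn
import Groth.Agent.Lib.Helper7.TwistH0
import Groth.Agent.Lib.Helper7.Mumford

/-!
# Simple rank two bundles on projective space: vanishing of `H⁰` of the normalised twist (helper11)
-/

set_option autoImplicit false
set_option linter.style.haveILetI false
set_option linter.unusedSectionVars false
universe u
open CategoryTheory CategoryTheory.Limits AlgebraicGeometry TopologicalSpace Opposite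
open Scheme.Modules

namespace Groth.Agent.Lib.Helper11.SimpleTwoC

open Groth.Agent.Lib.Helper3 Groth.Agent.Lib.Helper3.QCSec Groth.Agent.Lib.Helper3.InvGen
  Groth.Agent.Lib.Helper3.InvTensor Groth.Agent.Lib.Helper3.InvMonoidal
  Groth.Agent.Lib.Helper3.TwistBasic Groth.Agent.Lib.Helper3.TwistMul
  Groth.Agent.Lib.Helper7.TwFun Groth.Agent.Lib.Helper7.TwProj

section Scalar

variable {X : Scheme.{u}} (k : Type u) [Field k] [X.Over (Spec (CommRingCat.of k))]

/-- an endomorphism which is a scalar on the underlying abelian sheaf is a scalar -/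
theorem eq_smul_id_of_toSheaf {E : X.Modules} (φ : E ⟶ E) (c : k)
    (h : (SheafOfModules.toSheaf X.ringCatSheaf).map φ =
      Coh.smulAb E (Coh.toGlobal (X ↘ Spec (CommRingCat.of k)) c)) : φ = c • 𝟙 E := by
  apply (SheafOfModules.toSheaf X.ringCatSheaf).map_injective
  rw [h, KLin.smul_id]
  rfl

/-- a nonzero endomorphism of square zero is not a scalar -/
theorem not_scalar_of_sq_zero {E : X.Modules} (φ : E ⟶ E) (hφ : φ ≠ 0) (h2 : φ ≫ φ = 0)
    (c : k) : φ ≠ c • 𝟙 E := by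
  intro h
  by_cases hc : c = 0
  · apply hφ
    rw [h, hc, zero_smul]
  · have h3 : (c * c) • 𝟙 E = 0 := by
      rw [← h2, h, Linear.smul_comp, Linear.comp_smul, Category.comp_id, smul_smul]
    have h4 : 𝟙 E = 0 := by
      have := congrArg (fun ψ => (c * c)⁻¹ • ψ) h3
      simp only [smul_smul, smul_zero] at this
      rwa [inv_mul_cancel₀ (mul_ne_zero hc hc), one_smul] at this
    apply hφ
    rw [← Category.comp_id φ, h4, comp_zero]

end Scalar

section Pn

variable (n : ℕ) (k : Type u) [Field k]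

/-- `O(d) ⟶ O` is a monomorphism for `d = 0, -1`. -/
theorem exists_mono_twist_unit' (d : ℤ) (hd : d = 0 ∨ d = -1) :
    ∃ κ : Twist.twist (CohB1.polyGrading n k) d ⟶
      Coh.structureModule (Proj (CohB1.polyGrading n k)), Mono κ := by
  rcases hd with rfl | rfl
  · exact ⟨(unitIso (𝒜 := CohB1.polyGrading n k)).inv, inferInstance⟩
  · let f : (CohB1.polyGrading n k) 1 := ⟨MvPolynomial.X 0, MvPolynomial.isHomogeneous_X k _⟩
    haveI : Mono (mulBy f (-1)) :=
      Groth.Agent.Lib.Helper7.TwistH0.mono_mulBy f (MvPolynomial.X_ne_zero _) (-1)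
    refine ⟨mulBy f (-1) ≫ (twistCast (𝒜 := CohB1.polyGrading n k)
      (show (-1 : ℤ) + 1 = 0 by norm_num)).hom ≫
      (unitIso (𝒜 := CohB1.polyGrading n k)).inv, ?_⟩
    exact mono_comp _ _

theorem exists_mono_twist_unit (d : ℤ) (hd : d = 0 ∨ d = -1) :
    ∃ κ : Twist.twistProjSpace n k d ⟶ Coh.structureModule (CohB1.ProjSpace n k), Mono κ :=
  exists_mono_twist_unit' n k d hd

/-- **Simple rank two bundles on `P^n`: `H⁰` of the normalised twist vanishes.** -/
theorem h0_vanish [IsAlgClosed k] [CharZero k]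
    (E : (CohB1.ProjSpace n k).Modules) (hE : FlatMod.IsFinLocFreeOfRank 2 E) (c k₀ : ℤ)
    (hdet : ∃ L : (CohB1.ProjSpace n k).Modules, ExtPow.IsExtPow 2 E L ∧
      Nonempty (L ≅ Twist.twistProjSpace n k c))
    (hk₀ : c + 2 * k₀ = 0 ∨ c + 2 * k₀ = -1)
    (hsimple : ∀ φ : E ⟶ E, ∃ c' : k,
      (SheafOfModules.toSheaf (CohB1.ProjSpace n k).ringCatSheaf).map φ =
        Coh.smulAb E (Coh.toGlobal (CohB1.ProjSpace.toSpec n k) c')) :
    Subsingleton (Coh.HH (CohB1.ProjSpace n k)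
      (CohB1.tensorMod E (Twist.twistProjSpace n k k₀)) 0) := by
  obtain ⟨L, hL, ⟨eL⟩⟩ := hdet
  have hU := Groth.Agent.Lib.Helper7.Mumford.hU n k
  apply Groth.Agent.Lib.Helper7.LocFreePn.sub_H0_of_sections
  intro σ
  by_contra hσ
  have hd : c + (k₀ + k₀) = 0 ∨ c + (k₀ + k₀) = -1 := by
    rcases hk₀ with h | h
    · left; omega
    · right; omega
  obtain ⟨κ₀, hκ₀⟩ := exists_mono_twist_unit n k (c + (k₀ + k₀)) hd
  haveI := hκ₀
  let T : (CohB1.ProjSpace n k).Modules := Twist.twistProjSpace n k k₀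
  have hT : PicF.IsInvertible T := isInvertible_twist hU k₀
  let ι : CohB1.tensorMod (CohB1.tensorMod L T) T ≅
      Twist.twistProjSpace n k (c + (k₀ + k₀)) :=
    tensorMapIso (tensorMapIso eL (Iso.refl T)) (Iso.refl T) ≪≫
      twAdd hU (Twist.twist (CohB1.polyGrading n k) c) k₀ k₀ ≪≫
      mulIsoRight c (k₀ + k₀) (hU (k₀ + k₀))
  haveI : Mono (ι.hom ≫ κ₀) := mono_comp _ _
  obtain ⟨ψ, hψ0, hψ2⟩ := Groth.Agent.Lib.Helper11.SimpleTwoB.exists_nilpotent
    (X := CohB1.ProjSpace n k) hE hL hT (ι.hom ≫ κ₀) σ hσ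
  obtain ⟨c', hc'⟩ := hsimple ψ
  exact not_scalar_of_sq_zero k ψ hψ0 hψ2 c' (eq_smul_id_of_toSheaf k ψ c' hc')

end Pn

end Groth.Agent.Lib.Helper11.SimpleTwoC
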