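import Mathlib
import Groth.Agent.Lib.Helper17.DevSpread

/-!
# SpreadHom: spreading out a homomorphism of stalks of coherent modules (helper11)
-/

set_option autoImplicit false
set_option linter.style.haveILetI false
universe u

open CategoryTheory CategoryTheory.Limits AlgebraicGeometry TopologicalSpace Opposite

namespace Groth.Agent.Lib.Helper11.SpreadHom

open Scheme.Modules Groth.Agent.Lib.Helper3 Groth.Agent.Lib.Helper17

variable {X : Scheme.{u}}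

/-- the conjugated stalk map of a morphism between restrictions -/
noncomputable def conj (V : X.Opens) (G F : X.Modules)
    (φ : (restrictFunctor V.ι).obj G ⟶ (restrictFunctor V.ι).obj F) (x' : ↥(V : Scheme.{u})) :
    G.presheaf.stalk (V.ι x') ⟶ F.presheaf.stalk (V.ι x') :=
  (restrictStalkNatIso V.ι x').inv.app G ≫
    (TopCat.Presheaf.stalkFunctor _ x').map φ.mapPresheaf ≫
      (restrictStalkNatIso V.ι x').hom.app F

theorem conj_germ (V : X.Opens) (G F : X.Modules)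
    (φ : (restrictFunctor V.ι).obj G ⟶ (restrictFunctor V.ι).obj F) (x' : ↥(V : Scheme.{u}))
    (W' : (V : Scheme.{u}).Opens) (hxW : x' ∈ W') (m : Γ(G, V.ι ''ᵁ W')) :
    conj V G F φ x' (G.presheaf.germ (V.ι ''ᵁ W') (V.ι x') ⟨x', hxW, rfl⟩ m) =
      F.presheaf.germ (V.ι ''ᵁ W') (V.ι x') ⟨x', hxW, rfl⟩ (φ.app W' m) := by
  have h1 := germ_restrictStalkNatIso_inv_app V.ι x' G hxW
  have h3 := germ_restrictStalkNatIso_hom_app V.ι x' F hxW
  have h2 := TopCat.Presheaf.stalkFunctor_map_germ W' x' hxW φ.mapPresheaf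
  have e1 : (restrictStalkNatIso V.ι x').inv.app G
      (G.presheaf.germ (V.ι ''ᵁ W') (V.ι x') ⟨x', hxW, rfl⟩ m) =
      ((restrictFunctor V.ι).obj G).presheaf.germ W' x' hxW m := congr($h1 m)
  have e2 : (TopCat.Presheaf.stalkFunctor _ x').map φ.mapPresheaf
      (((restrictFunctor V.ι).obj G).presheaf.germ W' x' hxW m) =
      ((restrictFunctor V.ι).obj F).presheaf.germ W' x' hxW (φ.app W' m) := congr($h2 m)
  have e3 : (restrictStalkNatIso V.ι x').hom.app F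
      (((restrictFunctor V.ι).obj F).presheaf.germ W' x' hxW (φ.app W' m)) =
      F.presheaf.germ (V.ι ''ᵁ W') (V.ι x') ⟨x', hxW, rfl⟩ (φ.app W' m) := congr($h3 (φ.app W' m))
  show (restrictStalkNatIso V.ι x').hom.app F ((TopCat.Presheaf.stalkFunctor _ x').map φ.mapPresheaf
    ((restrictStalkNatIso V.ι x').inv.app G _)) = _
  rw [e1, e2, e3]

theorem exists_germ_pair (V : X.Opens) (M : X.Modules) (x' : ↥(V : Scheme.{u}))
    (r : X.presheaf.stalk (V.ι x')) (t : M.presheaf.stalk (V.ι x')) :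
    ∃ (W' : (V : Scheme.{u}).Opens) (hxW : x' ∈ W') (r' : Γ(X, V.ι ''ᵁ W'))
      (t' : Γ(M, V.ι ''ᵁ W')),
      X.presheaf.germ (V.ι ''ᵁ W') (V.ι x') ⟨x', hxW, rfl⟩ r' = r ∧
      M.presheaf.germ (V.ι ''ᵁ W') (V.ι x') ⟨x', hxW, rfl⟩ t' = t := by
  obtain ⟨W₁, h₁, r₁, rfl⟩ := TopCat.Presheaf.exists_germ_eq X.presheaf r
  obtain ⟨W₂, h₂, t₂, rfl⟩ := TopCat.Presheaf.exists_germ_eq M.presheaf t
  refine ⟨V.ι ⁻¹ᵁ (W₁ ⊓ W₂), ⟨h₁, h₂⟩,
    X.presheaf.map (homOfLE ((V.ι.image_preimage_le _).trans inf_le_left)).op r₁,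
    M.presheaf.map (homOfLE ((V.ι.image_preimage_le _).trans inf_le_right)).op t₂, ?_, ?_⟩
  · exact TopCat.Presheaf.germ_res_apply X.presheaf _ _ _ _
  · exact TopCat.Presheaf.germ_res_apply M.presheaf _ _ _ _

theorem conj_smul (V : X.Opens) (G F : X.Modules)
    (φ : (restrictFunctor V.ι).obj G ⟶ (restrictFunctor V.ι).obj F) (x' : ↥(V : Scheme.{u}))
    (r : X.presheaf.stalk (V.ι x')) (t : G.presheaf.stalk (V.ι x')) :
    conj V G F φ x' (r • t) = r • conj V G F φ x' t := by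
  obtain ⟨W', hxW, r', t', rfl, rfl⟩ := exists_germ_pair V G x' r t
  rw [← QS.germ_smul, conj_germ V G F φ x' W' hxW, conj_germ V G F φ x' W' hxW, ← QS.germ_smul]
  congr 1
  have h1 := Hom.app_smul φ (show Γ((V : Scheme.{u}), W') from r')
    (show Γ((restrictFunctor V.ι).obj G, W') from t')
  rw [DevSpread.restrict_smul_ι, DevSpread.restrict_smul_ι] at h1
  exact h1

/-- the conjugated stalk map as a linear map -/
noncomputable def conjLin (V : X.Opens) (G F : X.Modules)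
    (φ : (restrictFunctor V.ι).obj G ⟶ (restrictFunctor V.ι).obj F) (x' : ↥(V : Scheme.{u})) :
    G.presheaf.stalk (V.ι x') →ₗ[X.presheaf.stalk (V.ι x')] F.presheaf.stalk (V.ι x') where
  toFun := conj V G F φ x'
  map_add' := map_add _
  map_smul' := conj_smul V G F φ x'

theorem map_map_op (M : X.Modules) {A B C : X.Opens} (a : A ⟶ B) (b : B ⟶ C) (m : Γ(M, C)) :
    M.presheaf.map a.op (M.presheaf.map b.op m) = M.presheaf.map (a ≫ b).op m := by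
  rw [← ConcreteCategory.comp_apply, ← Functor.map_comp]
  rfl

theorem map_op_congr (M : X.Modules) {A B : X.Opens} (a b : A ⟶ B) (m : Γ(M, B)) :
    M.presheaf.map a.op m = M.presheaf.map b.op m := by
  rw [Subsingleton.elim a b]

theorem main [IsLocallyNoetherian X] (F G : X.Modules) [G.IsQuasicoherent] [G.IsFiniteType]
    [F.IsQuasicoherent] (x : X)
    (ψ : G.presheaf.stalk x →ₗ[X.presheaf.stalk x] F.presheaf.stalk x) :
    ∃ (U : X.Opens) (hx : x ∈ U)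
      (φ : (restrictFunctor U.ι).obj G ⟶ (restrictFunctor U.ι).obj F),
      ∀ t : G.presheaf.stalk x, conj U G F φ ⟨x, hx⟩ t = ψ t := by
  obtain ⟨U₀, hU₀, hx₀⟩ : ∃ U₀ : X.Opens, IsAffineOpen U₀ ∧ x ∈ U₀ := by
    obtain ⟨_, ⟨U₀, hU₀, rfl⟩, hx₀, -⟩ :=
      X.isBasis_affineOpens.exists_subset_of_mem_open (Set.mem_univ x) isOpen_univ
    exact ⟨U₀, hU₀, hx₀⟩
  have hU₁eq : U₀.ι ''ᵁ ⊤ = U₀ := Scheme.Opens.ι_image_top U₀
  have hU₁ : IsAffineOpen (U₀.ι ''ᵁ ⊤) := by rw [hU₁eq]; exact hU₀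
  have hx₁ : x ∈ U₀.ι ''ᵁ ⊤ := by rw [hU₁eq]; exact hx₀
  obtain ⟨h, s, hs, hgerm⟩ := DevSpread.spread hU₁ G F x hx₁ ψ
  obtain ⟨φ₀, hφ₀⟩ := DevSpread.exists_restrict_hom hU₀ G F h
  -- V
  let V : X.Opens := X.basicOpen s
  have hV : IsAffineOpen V := hU₁.basicOpen s
  have hxV : x ∈ V := (Scheme.mem_basicOpen X s x hx₁).mpr hs
  have hVU₁ : V ≤ U₀.ι ''ᵁ ⊤ := X.basicOpen_le s
  have hVU : V ≤ U₀ := hVU₁.trans hU₁eq.le
  let j : (V : Scheme.{u}) ⟶ (U₀ : Scheme.{u}) := X.homOfLE hVU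
  have hfac : j ≫ U₀.ι = V.ι := X.homOfLE_ι hVU
  let eN : restrictFunctor V.ι ≅ restrictFunctor U₀.ι ⋙ restrictFunctor j :=
    restrictFunctorCongr hfac.symm ≪≫ restrictFunctorComp j U₀.ι
  let φr : (restrictFunctor V.ι).obj G ⟶ (restrictFunctor V.ι).obj F :=
    eN.hom.app G ≫ (restrictFunctor j).map φ₀ ≫ eN.inv.app F
  have hV₁eq : V.ι ''ᵁ ⊤ = V := Scheme.Opens.ι_image_top V
  have hV₁U₁ : V.ι ''ᵁ ⊤ ≤ U₀.ι ''ᵁ ⊤ := hV₁eq.le.trans hVU₁
  have hxV₁ : x ∈ V.ι ''ᵁ ⊤ := by rw [hV₁eq]; exact hxV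
  have key : ∀ m₀ : Γ(G, U₀.ι ''ᵁ ⊤),
      F.presheaf.germ (V.ι ''ᵁ ⊤) x hxV₁ (φr.app ⊤ (G.presheaf.map (homOfLE hV₁U₁).op m₀)) =
        F.presheaf.germ (U₀.ι ''ᵁ ⊤) x hx₁ (h m₀) := by
    intro m₀
    have E1' : ∀ (f : (V : Scheme.{u}) ⟶ X) [IsOpenImmersion f], f = V.ι →
        f ''ᵁ ⊤ = V.ι ''ᵁ ⊤ := by
      intro f _ hf; subst hf; rfl
    have E1 : (j ≫ U₀.ι) ''ᵁ ⊤ = V.ι ''ᵁ ⊤ := E1' _ hfac
    have E2 : U₀.ι ''ᵁ (j ''ᵁ ⊤) = (j ≫ U₀.ι) ''ᵁ ⊤ := (Scheme.Hom.comp_image j U₀.ι ⊤).symm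
    have hhom : (eN.hom.app G).app ⊤ =
        G.presheaf.map (eqToHom E1).op ≫ G.presheaf.map (eqToHom E2).op := rfl
    have hinv : (eN.inv.app F).app ⊤ =
        F.presheaf.map (eqToHom E2.symm).op ≫ F.presheaf.map (eqToHom E1.symm).op := rfl
    let a₁ : Γ(G, V.ι ''ᵁ ⊤) := G.presheaf.map (homOfLE hV₁U₁).op m₀
    have ha₂ : (eN.hom.app G).app ⊤ a₁ =
        ((restrictFunctor U₀.ι).obj G).presheaf.map (homOfLE (le_top : j ''ᵁ ⊤ ≤ ⊤)).op m₀ := by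
      have h1 := congr($hhom a₁)
      refine h1.trans ?_
      show G.presheaf.map (eqToHom E2).op (G.presheaf.map (eqToHom E1).op
        (G.presheaf.map (homOfLE hV₁U₁).op m₀)) =
          G.presheaf.map (U₀.ι.opensFunctor.map (homOfLE le_top)).op m₀
      rw [map_map_op, map_map_op]
      exact map_op_congr G _ _ m₀
    have hb : φ₀.app (j ''ᵁ ⊤) ((eN.hom.app G).app ⊤ a₁) =
        ((restrictFunctor U₀.ι).obj F).presheaf.map (homOfLE (le_top : j ''ᵁ ⊤ ≤ ⊤)).op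
          (h m₀) := by
      rw [ha₂, ModBasic.app_res φ₀ le_top m₀, hφ₀]
    have hc : φr.app ⊤ a₁ = F.presheaf.map (eqToHom E1.symm).op
        (F.presheaf.map (eqToHom E2.symm).op
          (F.presheaf.map (U₀.ι.opensFunctor.map (homOfLE le_top)).op (h m₀))) := by
      have h0 : φr.app ⊤ a₁ = (eN.inv.app F).app ⊤ (φ₀.app (j ''ᵁ ⊤)
          ((eN.hom.app G).app ⊤ a₁)) := rfl
      rw [h0, hb]
      exact congr($hinv _)
    show F.presheaf.germ (V.ι ''ᵁ ⊤) x hxV₁ (φr.app ⊤ a₁) = _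
    rw [hc, TopCat.Presheaf.germ_res_apply, TopCat.Presheaf.germ_res_apply]
    exact TopCat.Presheaf.germ_res_apply F.presheaf (U₀.ι.opensFunctor.map (homOfLE le_top)) x _
      (h m₀)
  -- the inverse of `s` on `V`
  have hsV : IsUnit (X.presheaf.map (homOfLE hV₁U₁).op s) := by
    have h1 := X.toRingedSpace.isUnit_res_basicOpen s
    have h2 : X.presheaf.map (homOfLE hV₁U₁).op s =
        X.presheaf.map (eqToHom hV₁eq).op (X.presheaf.map (homOfLE hVU₁).op s) := by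
      rw [← ConcreteCategory.comp_apply, ← Functor.map_comp]; rfl
    rw [h2]
    exact h1.map (X.presheaf.map (eqToHom hV₁eq).op).hom
  obtain ⟨c, hc⟩ := hsV.exists_left_inv
  let ev : Γ(G, V.ι ''ᵁ ⊤) → Γ(F, V.ι ''ᵁ ⊤) := fun m => φr.app ⊤ m
  have hev_add : ∀ a b, ev (a + b) = ev a + ev b := fun a b => map_add (φr.app ⊤).hom a b
  have hev_smul : ∀ (r : Γ(X, V.ι ''ᵁ ⊤)) (m : Γ(G, V.ι ''ᵁ ⊤)), ev (r • m) = r • ev m := by
    intro r m
    have h1 := Hom.app_smul φr (show Γ((V : Scheme.{u}), ⊤) from r)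
      (show Γ((restrictFunctor V.ι).obj G, ⊤) from m)
    rw [DevSpread.restrict_smul_ι, DevSpread.restrict_smul_ι] at h1
    exact h1
  let hVlin : Γ(G, V.ι ''ᵁ ⊤) →ₗ[Γ(X, V.ι ''ᵁ ⊤)] Γ(F, V.ι ''ᵁ ⊤) :=
    { toFun := fun m => c • ev m
      map_add' := fun a b => by rw [hev_add, smul_add]
      map_smul' := fun r m => by
        rw [hev_smul, smul_comm]
        rfl }
  obtain ⟨φ, hφ⟩ := DevSpread.exists_restrict_hom hV G F hVlin
  let x' : ↥(V : Scheme.{u}) := ⟨x, hxV⟩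
  refine ⟨V, hxV, φ, ?_⟩
  have hL : conjLin V G F φ x' = ψ := by
    refine AffGlue.stalkHom_ext G F hU₁ x hx₁ (conjLin V G F φ x') ψ (fun m₀ => ?_)
    have g1 : G.presheaf.germ (U₀.ι ''ᵁ ⊤) x hx₁ m₀ =
        G.presheaf.germ (V.ι ''ᵁ ⊤) x hxV₁ (G.presheaf.map (homOfLE hV₁U₁).op m₀) :=
      (TopCat.Presheaf.germ_res_apply G.presheaf (homOfLE hV₁U₁) x hxV₁ m₀).symm
    have g2 := conj_germ V G F φ x' ⊤ trivial (G.presheaf.map (homOfLE hV₁U₁).op m₀)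
    have g3 : conjLin V G F φ x' (G.presheaf.germ (U₀.ι ''ᵁ ⊤) x hx₁ m₀) =
        F.presheaf.germ (V.ι ''ᵁ ⊤) x hxV₁ (φ.app ⊤ (G.presheaf.map (homOfLE hV₁U₁).op m₀)) :=
      (congrArg (fun z => conjLin V G F φ x' z) g1).trans g2
    refine g3.trans ?_
    rw [hφ]
    show F.presheaf.germ (V.ι ''ᵁ ⊤) x hxV₁
      (c • ev (G.presheaf.map (homOfLE hV₁U₁).op m₀)) = _
    rw [QS.germ_smul]
    have k1 : F.presheaf.germ (V.ι ''ᵁ ⊤) x hxV₁ (ev (G.presheaf.map (homOfLE hV₁U₁).op m₀)) =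
        F.presheaf.germ (U₀.ι ''ᵁ ⊤) x hx₁ (h m₀) := key m₀
    rw [k1, hgerm, smul_smul]
    have h1 : X.presheaf.germ (V.ι ''ᵁ ⊤) x hxV₁ c * X.presheaf.germ (U₀.ι ''ᵁ ⊤) x hx₁ s = 1 := by
      rw [← TopCat.Presheaf.germ_res_apply X.presheaf (homOfLE hV₁U₁) x hxV₁ s, ← map_mul, hc,
        map_one]
    rw [h1, one_smul]
  intro t
  exact LinearMap.congr_fun hL t

end Groth.Agent.Lib.Helper11.SpreadHom
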