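import Mathlib

/-!
# Kernel of an endomorphism of a free module of rank two over a factorial domain (helper11)

If `R` is a factorial domain, `M` free of rank two and `f : M → M` a non-zero linear map killing a
non-zero vector, then `ker f` is free of rank one.
-/

set_option autoImplicit false
universe u

namespace Groth.Agent.Lib.Helper11.StableSimpleAlg

variable {R : Type u} [CommRing R] [IsDomain R] [UniqueFactorizationMonoid R]

/-- the kernel of a non-zero linear form `(x, y) ↦ p x + q y` on `R²` is generated by a primitive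
vector. -/
theorem exists_gen_ker_form (p q : R) (hpq : p ≠ 0 ∨ q ≠ 0) :
    ∃ a b : R, (a ≠ 0 ∨ b ≠ 0) ∧ p * a + q * b = 0 ∧
      ∀ x y : R, p * x + q * y = 0 → ∃ c : R, x = c * a ∧ y = c * b := by
  classical
  letI : GCDMonoid R := UniqueFactorizationMonoid.toGCDMonoid R
  obtain ⟨p', q', hp, hq, hu⟩ := extract_gcd p q
  have hg : gcd p q ≠ 0 := by
    intro h
    obtain ⟨h1, h2⟩ := (gcd_eq_zero_iff p q).1 h
    rcases hpq with h' | h'
    · exact h' h1
    · exact h' h2
  have hrel : IsRelPrime p' q' := gcd_isUnit_iff_isRelPrime.mp hu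
  have hpq' : p' ≠ 0 ∨ q' ≠ 0 := by
    rcases hpq with h | h
    · left
      intro h0
      apply h
      rw [hp, h0, mul_zero]
    · right
      intro h0
      apply h
      rw [hq, h0, mul_zero]
  refine ⟨q', -p', ?_, ?_, ?_⟩
  · rcases hpq' with h | h
    · right
      exact neg_ne_zero.mpr h
    · left
      exact h
  · have : (gcd p q * p') * q' + (gcd p q * q') * -p' = 0 := by ring
    rwa [← hp, ← hq] at this
  · intro x y hxy
    have h1 : gcd p q * (p' * x + q' * y) = 0 := by
      have : gcd p q * (p' * x + q' * y) = (gcd p q * p') * x + (gcd p q * q') * y := by ring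
      rw [this, ← hp, ← hq, hxy]
    have h2 : p' * x + q' * y = 0 := (mul_eq_zero.mp h1).resolve_left hg
    have h3 : p' * x = q' * (-y) := by
      have : p' * x = -(q' * y) := eq_neg_of_add_eq_zero_left h2
      rw [this]
      ring
    by_cases hq0 : q' = 0
    · -- then p' is a unit... p' x = 0, p' ≠ 0 so x = 0; and y arbitrary: q' = 0, p' unit
      have hp0 : p' ≠ 0 := hpq'.resolve_right (not_not.mpr hq0)
      have hx : x = 0 := by
        rw [hq0, zero_mul] at h3
        exact (mul_eq_zero.mp h3).resolve_left hp0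
      have hup : IsUnit p' := by
        have := hrel (dvd_refl p') (hq0 ▸ dvd_zero p')
        exact this
      obtain ⟨w, hw⟩ := hup.exists_left_inv
      refine ⟨-(w * y), ?_, ?_⟩
      · rw [hx, hq0, mul_zero]
      · have : -(w * y) * -p' = (w * p') * y := by ring
        rw [this, hw, one_mul]
    · have hdvd : q' ∣ x := by
        have h4 : q' ∣ p' * x := ⟨-y, h3⟩
        exact hrel.symm.dvd_of_dvd_mul_left h4
      obtain ⟨c, hc⟩ := hdvd
      refine ⟨c, ?_, ?_⟩
      · rw [hc]
        ring
      · have h5 : q' * (-y) = q' * (c * p') := by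
          rw [← h3, hc]
          ring
        have h6 : -y = c * p' := mul_left_cancel₀ hq0 h5
        have : y = -(c * p') := by rw [← h6, neg_neg]
        rw [this]
        ring

variable {M : Type u} [AddCommGroup M] [Module R M]

/-- **Kernel of a degenerate non-zero endomorphism of a free module of rank two over a factorial
domain is free of rank one.** -/
theorem exists_gen_ker (b : Module.Basis (Fin 2) R M) (f : M →ₗ[R] M) (hf : f ≠ 0)
    (v₀ : M) (hv₀ : v₀ ≠ 0) (hfv₀ : f v₀ = 0) :
    ∃ v : M, v ≠ 0 ∧ f v = 0 ∧ ∀ w : M, f w = 0 → ∃ c : R, w = c • v := by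
  classical
  -- a non-zero coordinate form of `f`
  have hex : ∃ j : Fin 2, (b.coord j).comp f ≠ 0 := by
    by_contra hcon
    push Not at hcon
    apply hf
    apply LinearMap.ext
    intro m
    apply b.ext_elem
    intro j
    have := LinearMap.congr_fun (hcon j) m
    simpa using this
  obtain ⟨j, hj⟩ := hex
  set ℓ : M →ₗ[R] R := (b.coord j).comp f with hℓ
  have hℓf : ∀ w, f w = 0 → ℓ w = 0 := by
    intro w hw
    rw [hℓ, LinearMap.comp_apply, hw, map_zero]
  have hexp : ∀ m : M, m = b.repr m 0 • b 0 + b.repr m 1 • b 1 := by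
    intro m
    conv_lhs => rw [← b.sum_repr m]
    rw [Fin.sum_univ_two]
  have hℓm : ∀ m : M, ℓ m = ℓ (b 0) * b.repr m 0 + ℓ (b 1) * b.repr m 1 := by
    intro m
    conv_lhs => rw [hexp m]
    rw [map_add, map_smul, map_smul, smul_eq_mul, smul_eq_mul]
    ring
  have hpq : ℓ (b 0) ≠ 0 ∨ ℓ (b 1) ≠ 0 := by
    by_contra hcon
    push Not at hcon
    apply hj
    apply b.ext
    intro i
    fin_cases i
    · simpa using hcon.1
    · simpa using hcon.2
  obtain ⟨a, c, hac, hker, hgen⟩ := exists_gen_ker_form (ℓ (b 0)) (ℓ (b 1)) hpq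
  set v : M := a • b 0 + c • b 1 with hv
  have hrv0 : b.repr v 0 = a := by
    rw [hv]; simp
  have hrv1 : b.repr v 1 = c := by
    rw [hv]; simp
  have hv0 : v ≠ 0 := by
    intro h0
    rcases hac with h | h
    · apply h
      rw [← hrv0, h0]; simp
    · apply h
      rw [← hrv1, h0]; simp
  have hℓgen : ∀ w : M, ℓ w = 0 → ∃ t : R, w = t • v := by
    intro w hw
    rw [hℓm w] at hw
    obtain ⟨t, h0, h1⟩ := hgen _ _ hw
    refine ⟨t, ?_⟩
    conv_lhs => rw [hexp w, h0, h1]
    rw [hv, smul_add, smul_smul, smul_smul]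
  -- `f v = 0` since `v₀` is a non-zero multiple of `v`
  obtain ⟨t₀, ht₀⟩ := hℓgen v₀ (hℓf v₀ hfv₀)
  have ht₀0 : t₀ ≠ 0 := by
    intro h
    apply hv₀
    rw [ht₀, h, zero_smul]
  have hfv : f v = 0 := by
    have h1 : t₀ • f v = 0 := by
      rw [← map_smul, ← ht₀, hfv₀]
    apply b.ext_elem
    intro i
    have h2 := congrArg (fun m => b.repr m i) h1
    simp only [map_smul, Finsupp.smul_apply, smul_eq_mul, map_zero, Finsupp.zero_apply] at h2
    rw [map_zero, Finsupp.zero_apply]
    exact (mul_eq_zero.mp h2).resolve_left ht₀0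
  exact ⟨v, hv0, hfv, fun w hw => hℓgen w (hℓf w hw)⟩

end Groth.Agent.Lib.Helper11.StableSimpleAlg
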