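import Mathlib
import Groth.Prelude
import Groth.Agent.Lib.Helper11.StableSimpleAlg
import Groth.Agent.Lib.Helper11.SimpleTwoAlg
import Groth.Agent.Lib.Helper11.ExtPowAlg
import Groth.Agent.Lib.Helper3.FreeBasis
import Groth.Agent.Lib.Helper3.QCProps
import Groth.Agent.Lib.Helper3.QCExact
import Groth.Agent.Lib.Helper3.SecLocGen
import Groth.Agent.Lib.Helper3.ModBasis
import Groth.Agent.Lib.Helper7.TorsFree
import Groth.Agent.Lib.Helper23.CurveE

/-!
# The kernel of a degenerate endomorphism of a rank two bundle on a locally factorial scheme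
is invertible (helper11)
-/

set_option autoImplicit false
set_option linter.style.haveILetI false
set_option linter.unusedSectionVars false
universe u
open CategoryTheory CategoryTheory.Limits AlgebraicGeometry TopologicalSpace Opposite
open Scheme.Modules

namespace Groth.Agent.Lib.Helper11.StableSimpleA

open Groth.Agent.Lib.Helper3 Groth.Agent.Lib.Helper3.QCSec Groth.Agent.Lib.Helper3.InvGen
  Groth.Agent.Lib.Helper3.FreeBasis
open Groth.Agent.Lib.Helper11.SimpleTwoAlg Groth.Agent.Lib.Helper11.ExtPowAlg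
open Groth.Agent.Lib.Helper7.TorsFree Groth.Agent.Lib.Helper23.Curve

variable {X : Scheme.{u}}

/-- a non-zero map between modules, the source having a basis on a non-empty open `W` and the
target being finite locally free on an integral scheme, is non-zero on some basis vector. -/
theorem exists_app_ne_zero [IsIntegral X] {E E' : X.Modules} {r r' : ℕ}
    (hE' : FlatMod.IsFinLocFreeOfRank r' E') (ψ : E ⟶ E') (hψ : ψ ≠ 0) {W : X.Opens}
    (hW : (W : Set X).Nonempty) (e : Fin r → Γ(E, W)) (he : IsBasis E W e) :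
    ∃ i, ψ.app W (e i) ≠ 0 := by
  by_contra hcon
  push Not at hcon
  apply hψ
  apply Scheme.Modules.hom_ext
  intro V
  ext s
  change ψ.app V s = 0
  by_cases hV : (V : Set X).Nonempty
  · have hVW : ((V ⊓ W : X.Opens) : Set X).Nonempty := inter_nonempty hV hW
    have h1 : V ⊓ W ≤ V := inf_le_left
    have h2 : V ⊓ W ≤ W := inf_le_right
    haveI : Nonempty (V ⊓ W : X.Opens) := ⟨⟨_, hVW.some_mem⟩⟩
    haveI : Nontrivial Γ(X, V ⊓ W) := Scheme.component_nontrivial X _
    refine eq_zero_of_smul_res_eq_zero hE' h1 hVW 1 one_ne_zero (ψ.app V s) ?_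
    rw [one_smul, ← QCExact.app_res']
    obtain ⟨c, hc⟩ := (he (V ⊓ W) h2).2 (res E h1 s)
    have hc' : ∑ i, c i • res E h2 (e i) = res E h1 s := hc
    rw [← hc']
    have : ψ.app (V ⊓ W) (∑ i, c i • res E h2 (e i)) =
        ∑ i, c i • ψ.app (V ⊓ W) (res E h2 (e i)) := by
      have := map_sum (appLin ψ (V ⊓ W)) (fun i => c i • res E h2 (e i)) Finset.univ
      simp only [appLin_apply] at this
      rw [this]
      refine Finset.sum_congr rfl fun i _ => ?_
      exact Scheme.Modules.Hom.app_smul ψ (c i) _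
    rw [this]
    refine Finset.sum_eq_zero fun i _ => ?_
    rw [QCExact.app_res', hcon i, res_zero, smul_zero]
  · have hVe : V = ⊥ := by
      apply Opens.ext
      exact Set.not_nonempty_iff_eq_empty.mp hV
    refine ModBasis.eq_zero_of_locally_zero E' V _ (fun x hx => ?_)
    exact (hV ⟨x, hx⟩).elim

/-- **The kernel of a degenerate non-zero endomorphism of a rank two bundle on an integral scheme
with a basis of factorial affine opens is invertible.** -/
theorem isInvertible_kernel [IsIntegral X]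
    (hufd : ∀ (x : X) (U : X.Opens), x ∈ U → ∃ W : X.Opens, IsAffineOpen W ∧ x ∈ W ∧ W ≤ U ∧
      UniqueFactorizationMonoid Γ(X, W))
    {E : X.Modules} (hE : FlatMod.IsFinLocFreeOfRank 2 E) (ψ χ : E ⟶ E) (hψ : ψ ≠ 0) (hχ : χ ≠ 0)
    (h : ψ ≫ χ = 0) : PicF.IsInvertible (kernel χ) := by
  have hcoh := isCoh_of_isFinLocFreeOfRank' hE
  haveI : E.IsQuasicoherent := hcoh.1
  haveI : (kernel χ).IsQuasicoherent := QCProps.isQuasicoherent_kernel χ
  apply isInvertible_of_isGen
  intro x
  obtain ⟨U₀, e₀, hxU₀, hb₀⟩ := isFinLocFreeOfRank_iff.mp hE x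
  obtain ⟨W, hW, hxW, hWU₀, hufdW⟩ := hufd x U₀ hxU₀
  haveI := hufdW
  haveI : Nonempty W := ⟨⟨x, hxW⟩⟩
  haveI : IsDomain Γ(X, W) := inferInstance
  have hWne : (W : Set X).Nonempty := ⟨x, hxW⟩
  have hb : IsBasis E W (fun i => res E hWU₀ (e₀ i)) := hb₀.mono hWU₀
  let b := basisOfBij _ hb.self
  have hbe : ⇑b = fun i => res E hWU₀ (e₀ i) := coe_basisOfBij _ hb.self
  -- the two linear maps
  obtain ⟨i, hi⟩ := exists_app_ne_zero hE ψ hψ hWne _ hb
  obtain ⟨j, hj⟩ := exists_app_ne_zero hE χ hχ hWne _ hb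
  have hf : appLin χ W ≠ 0 := by
    intro h0
    apply hj
    have := LinearMap.congr_fun h0 (res E hWU₀ (e₀ j))
    simpa using this
  have hkill : appLin χ W (ψ.app W (res E hWU₀ (e₀ i))) = 0 := by
    have : (ψ ≫ χ).app W (res E hWU₀ (e₀ i)) = 0 := by
      rw [h]; rfl
    exact this
  obtain ⟨v, hv0, hfv, hgen⟩ := Groth.Agent.Lib.Helper11.StableSimpleAlg.exists_gen_ker b
    (appLin χ W) hf _ hi hkill
  -- lift `v` to the kernel
  let S : ShortComplex X.Modules := ShortComplex.mk (kernel.ι χ) χ (kernel.condition χ)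
  have hS : S.Exact := ShortComplex.exact_of_f_is_kernel _ (kernelIsKernel χ)
  haveI : Mono S.f := (inferInstance : Mono (kernel.ι χ))
  obtain ⟨g, hg⟩ := QCExact.exact_sections S hS W v hfv
  have hg' : (kernel.ι χ).app W g = v := hg
  refine ⟨W, g, hxW, SecLocGen.isGen_of_isGenAt_affine (kernel χ) hW ⟨?_, ?_⟩⟩
  · intro a a' haa
    have haa' : a • g = a' • g := haa
    have h1 : (a - a') • v = 0 := by
      rw [sub_smul, ← hg', ← Scheme.Modules.Hom.app_smul, ← Scheme.Modules.Hom.app_smul, haa',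
        sub_self]
    by_contra hne
    exact smul_ne_zero_of_basis b (sub_ne_zero.mpr hne) hv0 h1
  · intro m
    have h1 : appLin χ W ((kernel.ι χ).app W m) = 0 := by
      have : (kernel.ι χ ≫ χ).app W m = 0 := by
        rw [kernel.condition]; rfl
      exact this
    obtain ⟨c, hc⟩ := hgen _ h1
    refine ⟨c, ?_⟩
    apply QCExact.injective_sections (kernel.ι χ) W
    show (kernel.ι χ).app W (c • g) = (kernel.ι χ).app W m
    rw [Scheme.Modules.Hom.app_smul, hg', hc]

end Groth.Agent.Lib.Helper11.StableSimpleA
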