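import Mathlib
import Groth.Prelude
import Groth.Agent.Lib.Helper7.PicPn

/-!
# Projective space over a field has a basis of factorial affine opens (helper11)
-/

set_option autoImplicit false
set_option linter.style.haveILetI false
set_option linter.unusedSectionVars false
universe u
open CategoryTheory CategoryTheory.Limits AlgebraicGeometry TopologicalSpace Opposite
open MvPolynomial

namespace Groth.Agent.Lib.Helper11.StableSimpleB

open Groth.Agent.Lib.Helper7.PnSections Groth.Agent.Lib.Helper7.PnCech

variable (n : ℕ) (R : Type u) [CommRing R] [IsDomain R] [UniqueFactorizationMonoid R]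

theorem ufd_chart (i : Fin (n + 1)) :
    UniqueFactorizationMonoid Γ(Proj (CohB1.polyGrading n R), V n R i) := by
  let e1 : MvPolynomial {j : Fin (n + 1) // j ≠ i} R ≃+*
      HomogeneousLocalization.Away (CohB1.polyGrading n R) (X i) :=
    RingEquiv.ofBijective (Groth.Agent.Lib.Helper14.Dehomog.Φ n R i)
      (Groth.Agent.Lib.Helper14.Dehomog.Φ_bijective n R i)
  let e2 : HomogeneousLocalization.Away (CohB1.polyGrading n R) (X i) ≃+*
      Γ(Proj (CohB1.polyGrading n R), Proj.basicOpen (CohB1.polyGrading n R) (X i)) :=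
    (Proj.basicOpenIsoAway (CohB1.polyGrading n R) (X i)
      (isHomogeneous_X R i) one_pos).commRingCatIsoToRingEquiv
  exact (e1.trans e2).toMulEquiv.uniqueFactorizationMonoid inferInstance

/-- every point of `P^n_R` (`R` factorial) has arbitrarily small factorial affine open
neighbourhoods. -/
theorem hufd_proj (x : Proj (CohB1.polyGrading n R))
    (U : (Proj (CohB1.polyGrading n R)).Opens) (hx : x ∈ U) :
    ∃ W : (Proj (CohB1.polyGrading n R)).Opens, IsAffineOpen W ∧ x ∈ W ∧ W ≤ U ∧
      UniqueFactorizationMonoid Γ(Proj (CohB1.polyGrading n R), W) := by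
  have hcov := Groth.Agent.Lib.Helper7.PnCech.iSup_Vu n R
  have hxtop : x ∈ (⨆ j, Vu n R j : (Proj (CohB1.polyGrading n R)).Opens) := by
    rw [hcov]; trivial
  obtain ⟨j, hj⟩ := Opens.mem_iSup.mp hxtop
  have hxV : x ∈ V n R j.down := hj
  have hVaff := Groth.Agent.Lib.Helper7.PnCech.isAffineOpen_V n R j.down
  obtain ⟨f, hfU, hxf⟩ := hVaff.exists_basicOpen_le (V := U) ⟨x, hx⟩ hxV
  refine ⟨(Proj (CohB1.polyGrading n R)).basicOpen f, hVaff.basicOpen f, hxf, hfU, ?_⟩
  haveI := ufd_chart n R j.down
  letI : Algebra Γ(Proj (CohB1.polyGrading n R), V n R j.down)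
      Γ(Proj (CohB1.polyGrading n R), (Proj (CohB1.polyGrading n R)).basicOpen f) :=
    ((Proj (CohB1.polyGrading n R)).presheaf.map
      (homOfLE ((Proj (CohB1.polyGrading n R)).basicOpen_le f)).op).hom.toAlgebra
  haveI : IsLocalization.Away f
      Γ(Proj (CohB1.polyGrading n R), (Proj (CohB1.polyGrading n R)).basicOpen f) :=
    hVaff.isLocalization_basicOpen f
  exact UniqueFactorizationMonoid.of_isLocalization (Submonoid.powers f) _

theorem hufd_projSpace (k : Type u) [Field k] (x : CohB1.ProjSpace n k)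
    (U : (CohB1.ProjSpace n k).Opens) (hx : x ∈ U) :
    ∃ W : (CohB1.ProjSpace n k).Opens, IsAffineOpen W ∧ x ∈ W ∧ W ≤ U ∧
      UniqueFactorizationMonoid Γ(CohB1.ProjSpace n k, W) :=
  hufd_proj n k x U hx

end Groth.Agent.Lib.Helper11.StableSimpleB
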