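import Mathlib
import Groth.Prelude
import Groth.Agent.Lib.Helper24.KSCoh

/-!
# The eigenvalue trick for endomorphisms of coherent sheaves on a proper scheme over an
algebraically closed field (helper11)
-/

set_option autoImplicit false
set_option linter.style.haveILetI false
set_option linter.unusedSectionVars false
universe u
open CategoryTheory CategoryTheory.Limits AlgebraicGeometry TopologicalSpace Opposite

namespace Groth.Agent.Lib.Helper11.StableSimpleC

variable {X : Scheme.{u}} (k : Type u) [Field k] [IsAlgClosed k]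
  [X.Over (Spec (CommRingCat.of k))] [IsProper (X ↘ Spec (CommRingCat.of k))]

/-- left composition with `φ` as a `k`-linear endomorphism of `End E`. -/
noncomputable def lcomp {E : X.Modules} (φ : E ⟶ E) : (E ⟶ E) →ₗ[k] (E ⟶ E) where
  toFun χ := φ ≫ χ
  map_add' χ χ' := Preadditive.comp_add _ _ _ φ χ χ'
  map_smul' a χ := Linear.comp_smul _ _ _ φ a χ

/-- **Eigenvalue trick**: for every endomorphism `φ` of a non-zero coherent module on a proper
scheme over an algebraically closed field there are a scalar `a` and a non-zero `χ` with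
`(φ - a) ≫ χ = 0`. -/
theorem exists_eigen {E : X.Modules} (hE : Coh.IsCoh E) (hne : 𝟙 E ≠ 0) (φ : E ⟶ E) :
    ∃ (a : k) (χ : E ⟶ E), χ ≠ 0 ∧ (φ - a • 𝟙 E) ≫ χ = 0 := by
  haveI : Module.Finite k (E ⟶ E) := Groth.Agent.Lib.Helper24.KSCoh.finite_hom k hE hE
  haveI : Nontrivial (E ⟶ E) := ⟨⟨𝟙 E, 0, hne⟩⟩
  obtain ⟨a, ha⟩ := Module.End.exists_eigenvalue (lcomp k φ)
  obtain ⟨χ, hχ⟩ := ha.exists_hasEigenvector
  refine ⟨a, χ, hχ.2, ?_⟩
  have h1 : φ ≫ χ = a • χ := hχ.apply_eq_smul
  rw [Preadditive.sub_comp, h1, Linear.smul_comp, Category.id_comp, sub_self]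

end Groth.Agent.Lib.Helper11.StableSimpleC
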