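import Mathlib
import Groth.Prelude
import Groth.Agent.Lib.Helper11.SimpleTwoC
import Groth.Agent.Lib.Helper11.StableSimpleA
import Groth.Agent.Lib.Helper11.StableSimpleB
import Groth.Agent.Lib.Helper11.StableSimpleC
import Groth.Agent.Lib.Helper7.PicPn
import Groth.Agent.Lib.Helper23.Twist

/-!
# Rank two bundles on `P^n` with vanishing `H⁰` of the normalised twist are simple (helper11)

`simple_of_h0` takes the two auxiliary statements `B3` (a non-zero map `O(b) ⟶ E'` with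
`0 ≤ b + m` gives `H⁰(E'(m)) ≠ 0`) and `B4` (a non-zero functional `E ⟶ T` gives a non-zero map
`Λ²E ⟶ E ⊗ T`) as hypotheses; they are proved in `Helper5.H0OfHom` and `Helper25.FunctionalTw`.
-/

set_option autoImplicit false
set_option linter.style.haveILetI false
set_option linter.unusedSectionVars false
universe u
open CategoryTheory CategoryTheory.Limits AlgebraicGeometry TopologicalSpace Opposite
open Scheme.Modules

namespace Groth.Agent.Lib.Helper11.StableSimpleD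

open Groth.Agent.Lib.Helper3 Groth.Agent.Lib.Helper3.QCSec Groth.Agent.Lib.Helper3.InvGen
  Groth.Agent.Lib.Helper3.InvTensor Groth.Agent.Lib.Helper3.InvMonoidal
  Groth.Agent.Lib.Helper3.TwistBasic Groth.Agent.Lib.Helper3.TwistMul
  Groth.Agent.Lib.Helper7.TwFun Groth.Agent.Lib.Helper7.TwProj

/-- transport of vanishing of `H⁰` along an isomorphism -/
theorem subsingleton_H0_of_iso {X : Scheme.{u}} {M N : X.Modules} (e : M ≅ N)
    (h : Subsingleton (Coh.HH X M 0)) : Subsingleton (Coh.HH X N 0) := by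
  apply Groth.Agent.Lib.Helper7.LocFreePn.sub_H0_of_sections
  intro s
  have h1 : e.inv.app ⊤ s = 0 := Groth.Agent.Lib.Helper7.Horrocks.sections_eq_zero M h _
  have h2 : e.hom.app ⊤ (e.inv.app ⊤ s) = s := by
    have : (e.inv ≫ e.hom).app ⊤ s = s := by
      rw [e.inv_hom_id]; rfl
    exact this
  rw [← h2, h1]
  exact QCExact.app_zero _ _

variable (n : ℕ) (k : Type u) [Field k] [IsAlgClosed k]

theorem simple_of_h0 (E : (CohB1.ProjSpace n k).Modules) (hE : FlatMod.IsFinLocFreeOfRank 2 E)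
    (c k₀ : ℤ)
    (hdet : ∃ L : (CohB1.ProjSpace n k).Modules, ExtPow.IsExtPow 2 E L ∧
      Nonempty (L ≅ Twist.twistProjSpace n k c))
    (hk₀ : c + 2 * k₀ = 0 ∨ c + 2 * k₀ = -1)
    (h0 : Subsingleton (Coh.HH (CohB1.ProjSpace n k)
      (CohB1.tensorMod E (Twist.twistProjSpace n k k₀)) 0))
    (B3 : ∀ (E' : (CohB1.ProjSpace n k).Modules), FlatMod.IsFinLocFreeOfRank 2 E' → ∀ (b m : ℤ),
      0 ≤ b + m → ∀ ρ : Twist.twistProjSpace n k b ⟶ E', ρ ≠ 0 →
      ¬ Subsingleton (Coh.HH (CohB1.ProjSpace n k)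
        (CohB1.tensorMod E' (Twist.twistProjSpace n k m)) 0))
    (B4 : ∀ {L T : (CohB1.ProjSpace n k).Modules}, ExtPow.IsExtPow 2 E L → PicF.IsInvertible T →
      ∀ θ : E ⟶ T, θ ≠ 0 → ∃ ρ : L ⟶ CohB1.tensorMod E T, ρ ≠ 0)
    (φ : E ⟶ E) : ∃ c' : k, φ = c' • 𝟙 E := by
  obtain ⟨L, hL, ⟨eL⟩⟩ := hdet
  have hU := Groth.Agent.Lib.Helper7.Mumford.hU n k
  by_cases hne : 𝟙 E = 0
  · refine ⟨0, ?_⟩
    rw [zero_smul, ← Category.comp_id φ, hne, comp_zero]
  haveI : IsProper (CohB1.ProjSpace n k ↘ Spec (CommRingCat.of k)) :=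
    Groth.Agent.Lib.Helper3.QProj.isProper_toSpec k n
  have hcoh : Coh.IsCoh E := Groth.Agent.Lib.Helper7.TorsFree.isCoh_of_isFinLocFreeOfRank' hE
  obtain ⟨a, χ, hχ, hcomp⟩ := Groth.Agent.Lib.Helper11.StableSimpleC.exists_eigen k hcoh hne φ
  refine ⟨a, ?_⟩
  by_contra hφ
  have hψ : φ - a • 𝟙 E ≠ 0 := sub_ne_zero.mpr hφ
  haveI : IsIntegral (CohB1.ProjSpace n k) :=
    Groth.Agent.Lib.Helper7.PicPn.isIntegral_proj n k
  have hinv : PicF.IsInvertible (kernel χ) :=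
    Groth.Agent.Lib.Helper11.StableSimpleA.isInvertible_kernel
      (Groth.Agent.Lib.Helper11.StableSimpleB.hufd_projSpace n k) hE _ χ hψ hχ hcomp
  have hex : ∃ d : ℤ, Nonempty (kernel χ ≅ Twist.twistProjSpace n k d) :=
    Groth.Agent.Lib.Helper7.PicPn.exists_iso_twist n k (kernel χ) hinv
  obtain ⟨a', ⟨eF⟩⟩ := hex
  -- the sub line bundle
  have hlift : kernel.lift χ (φ - a • 𝟙 E) hcomp ≫ kernel.ι χ = φ - a • 𝟙 E := kernel.lift_ι _ _ _
  let ι : Twist.twistProjSpace n k a' ⟶ E := eF.inv ≫ kernel.ι χ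
  have hι : ι ≠ 0 := by
    intro h
    have h1 : kernel.ι χ = 0 := by
      have : eF.hom ≫ ι = kernel.ι χ := by
        show eF.hom ≫ eF.inv ≫ kernel.ι χ = _
        rw [Iso.hom_inv_id_assoc]
      rw [← this, h, comp_zero]
    apply hψ
    rw [← hlift, h1, comp_zero]
  have hb1 : a' + k₀ < 0 := by
    by_contra hcon
    push Not at hcon
    exact B3 E hE a' k₀ hcon ι hι h0
  -- the quotient line bundle
  let T : (CohB1.ProjSpace n k).Modules := Twist.twistProjSpace n k a'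
  have hT : PicF.IsInvertible T := isInvertible_twist hU a'
  let θ : E ⟶ T := kernel.lift χ (φ - a • 𝟙 E) hcomp ≫ eF.hom
  have hθ : θ ≠ 0 := by
    intro h
    apply hψ
    have : θ ≫ ι = φ - a • 𝟙 E := by
      show (kernel.lift χ (φ - a • 𝟙 E) hcomp ≫ eF.hom) ≫ eF.inv ≫ kernel.ι χ = _
      rw [Category.assoc, Iso.hom_inv_id_assoc, hlift]
    rw [← this, h, zero_comp]
  obtain ⟨ρ, hρ⟩ := B4 hL hT θ hθ
  have hρ' : eL.inv ≫ ρ ≠ 0 := by
    intro h
    apply hρ
    rw [← Iso.hom_inv_id_assoc eL ρ, h, comp_zero]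
  have hE' : FlatMod.IsFinLocFreeOfRank 2 (CohB1.tensorMod E T) :=
    Groth.Agent.Lib.Helper23.Twist.isFinLocFreeOfRank_tensor hT hE
  have hb2 : c + (k₀ - a') < 0 := by
    by_contra hcon
    push Not at hcon
    apply B3 (CohB1.tensorMod E T) hE' c (k₀ - a') hcon (eL.inv ≫ ρ) hρ'
    have hk : a' + (k₀ - a') = k₀ := by ring
    have e1 := twAdd hU E a' (k₀ - a')
    rw [hk] at e1
    exact subsingleton_H0_of_iso e1.symm h0
  rcases hk₀ with h | h <;> omega

end Groth.Agent.Lib.Helper11.StableSimpleD
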