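import Mathlib
import Groth.Prelude
import Groth.Agent.Lib.Helper7.LocFreePn
import Groth.Agent.Lib.Helper7.TwistH0
import Groth.Agent.Lib.Helper7.Mumford
import Groth.Agent.Lib.Helper7.TorsFree

/-!
# A non-zero map `O(b) ⟶ E` gives sections of `E(m)` for `b + m ≥ 0` (helper11)
-/

set_option autoImplicit false
set_option linter.style.haveILetI false
set_option linter.unusedSectionVars false
universe u
open CategoryTheory CategoryTheory.Limits AlgebraicGeometry TopologicalSpace Opposite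
open Scheme.Modules

namespace Groth.Agent.Lib.Helper11.StableSimpleE

open Groth.Agent.Lib.Helper3 Groth.Agent.Lib.Helper3.QCSec Groth.Agent.Lib.Helper3.InvGen
  Groth.Agent.Lib.Helper3.TwistBasic Groth.Agent.Lib.Helper3.TwistMul
  Groth.Agent.Lib.Helper7.TwFun Groth.Agent.Lib.Helper7.TwProj
  Groth.Agent.Lib.Helper7.LocFreePn Groth.Agent.Lib.Helper7.TorsFree

/-- an invertible module on a non-empty scheme is not zero -/
theorem not_isZero_of_isInvertible {X : Scheme.{u}} [Nonempty X] {L : X.Modules}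
    (hL : PicF.IsInvertible L) : ¬ IsZero L := by
  intro hz
  obtain ⟨x⟩ := (inferInstance : Nonempty X)
  obtain ⟨U, e, hU, hxU, -, hg⟩ := exists_affine_isGen_le hL x ⊤ trivial
  haveI : Nonempty U := ⟨⟨x, hxU⟩⟩
  haveI : Nontrivial Γ(X, U) := Scheme.component_nontrivial X U
  have h0 : ∀ s : Γ(L, U), s = 0 := by
    intro s
    have h1 : (𝟙 L : L ⟶ L) = 0 := hz.eq_of_src _ _
    have h2 : (𝟙 L : L ⟶ L).app U s = (0 : L ⟶ L).app U s := by rw [h1]
    exact h2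
  have h3 := hg.self.1 ((h0 ((1 : Γ(X, U)) • e)).trans (h0 ((0 : Γ(X, U)) • e)).symm)
  exact one_ne_zero h3

variable (n : ℕ) (k : Type u) [Field k]

theorem cast_hom {E : (CohB1.ProjSpace n k).Modules} {a b : ℤ} (h : a = b)
    (ρ : Twist.twistProjSpace n k b ⟶ E) (hρ : ρ ≠ 0) :
    ∃ ρ' : Twist.twistProjSpace n k a ⟶ E, ρ' ≠ 0 := by
  subst h
  exact ⟨ρ, hρ⟩

/-- lowering the twist by one -/
theorem step (E : (CohB1.ProjSpace n k).Modules) (r : ℕ) (hE : FlatMod.IsFinLocFreeOfRank r E)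
    (c : ℤ) (ρ : Twist.twistProjSpace n k (c + 1) ⟶ E) (hρ : ρ ≠ 0) :
    ∃ ρ' : Twist.twistProjSpace n k c ⟶ E, ρ' ≠ 0 := by
  have hU := Groth.Agent.Lib.Helper7.Mumford.hU n k
  let f : (CohB1.polyGrading n k) 1 := ⟨MvPolynomial.X 0, MvPolynomial.isHomogeneous_X k _⟩
  haveI : Mono (mulBy f c) :=
    Groth.Agent.Lib.Helper7.TwistH0.mono_mulBy f (MvPolynomial.X_ne_zero _) c
  have hL1 : FlatMod.IsFinLocFreeOfRank 1 (Twist.twistProjSpace n k (c + 1)) :=
    isFinLocFreeOfRank_one_of_isInvertible' (isInvertible_twist hU (c + 1))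
  haveI : Mono ρ := mono_of_ne_zero hL1 hE ρ hρ
  let μ : Twist.twistProjSpace n k c ⟶ Twist.twistProjSpace n k (c + 1) := mulBy f c
  haveI : Mono μ := (inferInstance : Mono (mulBy f c))
  refine ⟨μ ≫ ρ, ?_⟩
  intro h0
  haveI : Mono (μ ≫ ρ) := mono_comp _ _
  haveI : Mono (0 : Twist.twistProjSpace n k c ⟶ E) := h0 ▸ (inferInstance : Mono (μ ≫ ρ))
  exact not_isZero_of_isInvertible (isInvertible_twist hU c)
    (IsZero.of_mono_zero (Twist.twistProjSpace n k c) E)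

theorem lower (E : (CohB1.ProjSpace n k).Modules) (r : ℕ) (hE : FlatMod.IsFinLocFreeOfRank r E)
    (t : ℕ) : ∀ (c : ℤ) (ρ : Twist.twistProjSpace n k (c + t) ⟶ E), ρ ≠ 0 →
      ∃ ρ' : Twist.twistProjSpace n k c ⟶ E, ρ' ≠ 0 := by
  induction t with
  | zero =>
    intro c ρ hρ
    exact cast_hom n k (by simp) ρ hρ
  | succ t ih =>
    intro c ρ hρ
    obtain ⟨ρ₁, hρ₁⟩ := cast_hom n k (show (c + t) + 1 = c + ((t + 1 : ℕ) : ℤ) by push_cast; ring) ρ hρ
    obtain ⟨ρ₂, hρ₂⟩ := step n k E r hE (c + t) ρ₁ hρ₁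
    exact ih c ρ₂ hρ₂

/-- `E` locally free on `P^n_k`: a nonzero map `O(b) ⟶ E` with `0 ≤ b + m` gives `H⁰(E(m)) ≠ 0`. -/
theorem not_subsingleton_H0_of_hom
    (E : (CohB1.ProjSpace n k).Modules) (r : ℕ) (hE : FlatMod.IsFinLocFreeOfRank r E) (b m : ℤ)
    (hbm : 0 ≤ b + m) (ρ : Twist.twistProjSpace n k b ⟶ E) (hρ : ρ ≠ 0) :
    ¬ Subsingleton (Coh.HH (CohB1.ProjSpace n k)
      (CohB1.tensorMod E (Twist.twistProjSpace n k m)) 0) := by
  have hU := Groth.Agent.Lib.Helper7.Mumford.hU n k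
  obtain ⟨t, ht⟩ := Int.eq_ofNat_of_zero_le hbm
  obtain ⟨ρ₁, hρ₁⟩ := cast_hom n k (show -m + (t : ℤ) = b by omega) ρ hρ
  obtain ⟨ρ₂, hρ₂⟩ := lower n k E r hE t (-m) ρ₁ hρ₁
  intro hsub
  haveI := isEquivalence_twR (Twist.twistProjSpace n k m) (Twist.twistProjSpace n k (-m))
    (pairIso hU m)
  have h1 : (twR (Twist.twistProjSpace n k m)).map ρ₂ ≠ 0 := by
    intro h
    apply hρ₂
    apply (twR (Twist.twistProjSpace n k m)).map_injective
    rw [h, Functor.map_zero]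
  obtain ⟨α, -⟩ : ∃ α : CohB1.tensorMod (Twist.twistProjSpace n k (-m))
      (Twist.twistProjSpace n k m) ≅ Coh.structureModule (CohB1.ProjSpace n k), True :=
    ⟨Groth.Agent.Lib.Helper7.RegRes.pairIso' hU (-m) m (by omega), trivial⟩
  obtain ⟨φ', hφ'⟩ : ∃ φ' : CohB1.tensorMod (Twist.twistProjSpace n k (-m))
      (Twist.twistProjSpace n k m) ⟶ CohB1.tensorMod E (Twist.twistProjSpace n k m),
      φ' = (twR (Twist.twistProjSpace n k m)).map ρ₂ := ⟨_, rfl⟩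
  have hz : α.inv ≫ φ' = 0 := hom_unit_eq_zero _ hsub _
  apply h1
  rw [← hφ']
  exact (cancel_epi α.inv).mp (hz.trans comp_zero.symm)

end Groth.Agent.Lib.Helper11.StableSimpleE
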