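import Mathlib
import Groth.Agent.Lib.Helper11.OrbitSum

/-!
# Symmetric tensors and purely inseparable-like extensions: the core computation (helper11)
-/

set_option autoImplicit false

namespace Groth.Agent.Lib.Helper11.SymCore

open scoped TensorProduct
open PiTensorProduct
open Fin.NatCast

section Tau
variable {α : Type*} {d n : ℕ} (e : Fin d ≃ α × Fin (n + 1))

/-- the permutation of `Fin d` rotating each block `{a} × Fin (n+1)`. -/
def tau : Equiv.Perm (Fin d) :=
  (e.trans ((Equiv.refl α).prodCongr (Equiv.addRight (1 : Fin (n + 1))))).trans e.symm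

theorem tau_apply (j : Fin d) : tau e j = e.symm ((e j).1, (e j).2 + 1) := rfl

theorem tau_pow_apply (m : ℕ) (j : Fin d) :
    (tau e ^ m) j = e.symm ((e j).1, (e j).2 + (m : Fin (n + 1))) := by
  induction m generalizing j with
  | zero => simp
  | succ m ih =>
    rw [pow_succ, Equiv.Perm.mul_apply, ih, tau_apply]
    simp [add_assoc, add_comm]

theorem tau_pow : tau e ^ (n + 1) = 1 := by
  ext j
  rw [tau_pow_apply]
  simp

theorem const_of_comp_tau {ι : Type*} (f : Fin d → ι) (hf : ∀ j, f (tau e j) = f j) (a : α)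
    (c : Fin (n + 1)) : f (e.symm (a, c)) = f (e.symm (a, 0)) := by
  induction c using Fin.induction with
  | zero => rfl
  | succ i ih =>
    rw [← ih, ← Fin.coeSucc_eq_succ, ← hf (e.symm (a, i.castSucc)), tau_apply]
    simp

theorem prod_eq_of_comp_tau [Fintype α] {ι M : Type*} [CommMonoid M] (β : ι → M)
    (f : Fin d → ι) (hf : ∀ j, f (tau e j) = f j) :
    ∏ j, β (f j) = ∏ a : α, β (f (e.symm (a, 0))) ^ (n + 1) := by
  rw [← Equiv.prod_comp e.symm, Fintype.prod_prod_type]
  refine Fintype.prod_congr _ _ (fun a => ?_)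
  simp_rw [const_of_comp_tau e f hf a]
  simp

end Tau

/-- precomposition as a monoid hom `Perm α → Perm (α → ι)`. -/
def precomp (α ι : Type*) : Equiv.Perm α →* Equiv.Perm (α → ι) where
  toFun σ := σ.arrowCongr (Equiv.refl ι)
  map_one' := by ext f j; rfl
  map_mul' σ₁ σ₂ := by ext f j; rfl

theorem precomp_apply {α ι : Type*} (σ : Equiv.Perm α) (f : α → ι) (j : α) :
    precomp α ι σ f j = f (σ.symm j) := rfl


section Tensor

variable {A B : Type*} [CommRing A] [CommRing B] [Algebra A B]
variable {k K : Type*} [CommRing k] [CommRing K] [Algebra k K] [Algebra A k] [Algebra A K]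
  [IsScalarTower A k K]
variable {ι : Type*} [Fintype ι] (b : Module.Basis ι k K) (ψ : B →ₐ[A] K) (d : ℕ)

/-- coordinate functionals of `ψ`. -/
noncomputable def r (i : ι) : B →ₗ[A] k := ((b.coord i).restrictScalars A).comp ψ.toLinearMap

theorem r_apply (i : ι) (v : B) : r b ψ i v = b.repr (ψ v) i := rfl

/-- coefficient functionals on the tensor power. -/
noncomputable def c (f : Fin d → ι) : (⨂[A] _ : Fin d, B) →ₗ[A] k :=
  PiTensorProduct.lift
    ((MultilinearMap.mkPiAlgebra A (Fin d) k).compLinearMap (fun j => r b ψ (f j)))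

theorem c_tprod (f : Fin d → ι) (v : Fin d → B) :
    c b ψ d f (tprod A v) = ∏ j, b.repr (ψ (v j)) (f j) := by
  simp [c, r_apply]

theorem c_reindex (f : Fin d → ι) (σ : Equiv.Perm (Fin d)) (t : ⨂[A] _ : Fin d, B) :
    c b ψ d f (PiTensorProduct.reindex A (fun _ : Fin d => B) σ t) =
      c b ψ d (fun j => f (σ j)) t := by
  induction t using PiTensorProduct.induction_on with
  | smul_tprod a v =>
    rw [map_smul, map_smul, map_smul, PiTensorProduct.reindex_tprod, c_tprod, c_tprod]
    congr 1
    exact (Equiv.prod_comp σ (fun j => b.repr (ψ (v (σ.symm j))) (f j))).symm.trans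
      (by simp)
  | add x y hx hy => rw [map_add, map_add, map_add, hx, hy]

theorem expand (t : ⨂[A] _ : Fin d, B) :
    ψ (PiTensorProduct.lift (MultilinearMap.mkPiAlgebra A (Fin d) B) t) =
      ∑ f : Fin d → ι, algebraMap k K (c b ψ d f t) * ∏ j, b (f j) := by
  classical
  induction t using PiTensorProduct.induction_on with
  | smul_tprod a v =>
    simp only [map_smul, PiTensorProduct.lift.tprod, MultilinearMap.mkPiAlgebra_apply, map_prod,
      c_tprod]
    have hsm : ∀ (a : A) (z : k), algebraMap k K (a • z) = a • algebraMap k K z := fun a z => by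
      rw [Algebra.algebraMap_eq_smul_one, Algebra.algebraMap_eq_smul_one, smul_assoc]
    simp only [hsm, smul_mul_assoc]
    rw [← Finset.smul_sum]
    congr 1
    have h1 : ∀ j, ψ (v j) = ∑ i, algebraMap k K (b.repr (ψ (v j)) i) * b i := by
      intro j
      conv_lhs => rw [← b.sum_repr (ψ (v j))]
      simp [Algebra.smul_def]
    rw [Finset.prod_congr rfl (fun j _ => h1 j), Fintype.prod_sum]
    refine Fintype.sum_congr _ _ (fun f => ?_)
    rw [Finset.prod_mul_distrib, map_prod]
  | add x y hx hy =>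
    simp only [map_add, hx, hy, add_mul, Finset.sum_add_distrib]


include b in
theorem core (Q : ℕ) (hQ : 0 < Q) (hQd : Q ∣ d)
    (hpow : ∀ t : K, t ^ Q ∈ (algebraMap k K).range)
    (hchar : ∀ n : ℕ, 1 < n → n ∣ Q → (n : K) = 0)
    (x : ⨂[A] _ : Fin d, B)
    (hx : ∀ σ : Equiv.Perm (Fin d), PiTensorProduct.reindex A (fun _ : Fin d => B) σ x = x) :
    ψ (PiTensorProduct.lift (MultilinearMap.mkPiAlgebra A (Fin d) B) x) ∈
      (algebraMap k K).range := by
  classical
  obtain ⟨n, rfl⟩ : ∃ n, Q = n + 1 := ⟨Q - 1, by omega⟩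
  obtain ⟨m, hm⟩ := hQd
  let e : Fin d ≃ Fin m × Fin (n + 1) :=
    (finCongr (hm.trans (mul_comm _ _))).trans finProdFinEquiv.symm
  rw [expand b ψ d x]
  set F : (Fin d → ι) → K := fun f => algebraMap k K (c b ψ d f x) * ∏ j, b (f j) with hF
  have hinv : ∀ (σ : Equiv.Perm (Fin d)) (f : Fin d → ι), F (fun j => f (σ j)) = F f := by
    intro σ f
    simp only [hF]
    rw [← c_reindex, hx σ, Equiv.prod_comp σ (fun j => b (f j))]
  have hsum := OrbitSum.sum_eq_sum_fixed (K := K) (precomp (Fin d) ι (tau e)) (n + 1)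
    (by rw [← map_pow, tau_pow, map_one]) hchar F (fun f => hinv (tau e).symm f)
  rw [hsum]
  refine Subring.sum_mem _ (fun f _ => ?_)
  split_ifs with hfix
  · refine Subring.mul_mem _ ⟨_, rfl⟩ ?_
    have hf : ∀ j, f (tau e j) = f j := by
      intro j
      have := congrFun hfix (tau e j)
      rw [precomp_apply, Equiv.symm_apply_apply] at this
      exact this.symm
    rw [prod_eq_of_comp_tau e (fun i => b i) f hf]
    exact Subring.prod_mem _ (fun a _ => hpow _)
  · exact Subring.zero_mem _

end Tensor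

end Groth.Agent.Lib.Helper11.SymCore
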