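import Mathlib

/-!
# Derivations of the symmetric algebra

Every `A`-linear map `h : M → N` into a `Sym_A M`-module extends to an `A`-derivation
`Sym_A M → N`, and `Ω_{Sym M / A} ≅ Sym M ⊗_A M`.
-/

namespace Groth.Agent.Lib.Helper11

open TensorProduct

universe u v w

section

variable (A : Type u) [CommRing A] (M : Type v) [AddCommGroup M] [Module A M]

/-- Every `A`-linear map from `M` to a `Sym_A M`-module `N` extends to an `A`-derivation. -/
theorem SymmetricAlgebra.exists_derivation (N : Type w) [AddCommGroup N] [Module A N]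
    [Module (SymmetricAlgebra A M) N] [IsScalarTower A (SymmetricAlgebra A M) N]
    (h : M →ₗ[A] N) :
    ∃ D : Derivation A (SymmetricAlgebra A M) N, ∀ m, D (SymmetricAlgebra.ι A M m) = h m := by
  letI : Module (SymmetricAlgebra A M)ᵐᵒᵖ N :=
    Module.compHom _ ((RingHom.id (SymmetricAlgebra A M)).fromOpposite mul_comm)
  haveI : IsCentralScalar (SymmetricAlgebra A M) N := ⟨fun r m => rfl⟩
  haveI : IsScalarTower A (SymmetricAlgebra A M)ᵐᵒᵖ N := ⟨fun a c n => by
    show (MulOpposite.unop (a • c)) • n = a • (MulOpposite.unop c • n)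
    rw [MulOpposite.unop_smul, smul_assoc]⟩
  let l : M →ₗ[A] TrivSqZeroExt (SymmetricAlgebra A M) N :=
    { toFun := fun m => TrivSqZeroExt.inl (SymmetricAlgebra.ι A M m) + TrivSqZeroExt.inr (h m)
      map_add' := fun x y => by
        ext <;> simp [add_add_add_comm]
      map_smul' := fun a x => by
        ext <;> simp }
  let φ : SymmetricAlgebra A M →ₐ[A] TrivSqZeroExt (SymmetricAlgebra A M) N :=
    SymmetricAlgebra.lift l
  have hφ : ∀ m, φ (SymmetricAlgebra.ι A M m) =
      TrivSqZeroExt.inl (SymmetricAlgebra.ι A M m) + TrivSqZeroExt.inr (h m) :=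
    fun m => SymmetricAlgebra.lift_ι_apply l m
  have hfst : ∀ c, (φ c).fst = c := by
    have : (TrivSqZeroExt.fstHom A (SymmetricAlgebra A M) N).comp φ =
        AlgHom.id A (SymmetricAlgebra A M) := by
      apply SymmetricAlgebra.algHom_ext
      ext m
      simp [hφ]
    intro c
    exact DFunLike.congr_fun this c
  refine ⟨{ toFun := fun c => (φ c).snd
            map_add' := fun x y => by simp
            map_smul' := fun a x => by simp
            map_one_eq_zero' := by simp
            leibniz' := fun a b => ?_ }, fun m => ?_⟩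
  · show (φ (a * b)).snd = a • (φ b).snd + b • (φ a).snd
    rw [map_mul, TrivSqZeroExt.snd_mul, hfst, hfst, op_smul_eq_smul]
  · show (φ (SymmetricAlgebra.ι A M m)).snd = h m
    rw [hφ]
    simp

/-- `Ω_{Sym M / A} = Sym M ⊗_A M`. -/
theorem SymmetricAlgebra.kaehler_liftBaseChange_bijective :
    Function.Bijective (LinearMap.liftBaseChange (SymmetricAlgebra A M)
      ((KaehlerDifferential.D A (SymmetricAlgebra A M)).toLinearMap.restrictScalars A ∘ₗ
        SymmetricAlgebra.ι A M)) := by
  constructor
  · obtain ⟨D, hD⟩ := SymmetricAlgebra.exists_derivation A M (SymmetricAlgebra A M ⊗[A] M)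
      (TensorProduct.mk A (SymmetricAlgebra A M) M 1)
    have hinv : ∀ x, D.liftKaehlerDifferential (LinearMap.liftBaseChange (SymmetricAlgebra A M)
        ((KaehlerDifferential.D A (SymmetricAlgebra A M)).toLinearMap.restrictScalars A ∘ₗ
          SymmetricAlgebra.ι A M) x) = x := by
      intro x
      induction x using TensorProduct.induction_on with
      | zero => simp
      | tmul c m =>
        rw [LinearMap.liftBaseChange_tmul, map_smul]
        show c • D.liftKaehlerDifferential (KaehlerDifferential.D A (SymmetricAlgebra A M)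
          (SymmetricAlgebra.ι A M m)) = c ⊗ₜ[A] m
        rw [Derivation.liftKaehlerDifferential_comp_D, hD, TensorProduct.mk_apply,
          TensorProduct.smul_tmul', smul_eq_mul, mul_one]
      | add x y hx hy => rw [map_add, map_add, hx, hy]
    exact Function.LeftInverse.injective hinv
  · rw [← LinearMap.range_eq_top, eq_top_iff, ← KaehlerDifferential.span_range_derivation,
      Submodule.span_le]
    rintro _ ⟨c, rfl⟩
    induction c using SymmetricAlgebra.induction with
    | algebraMap r =>
      rw [Derivation.map_algebraMap]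
      exact Submodule.zero_mem _
    | ι m =>
      refine ⟨1 ⊗ₜ[A] m, ?_⟩
      rw [LinearMap.liftBaseChange_tmul, one_smul]
      rfl
    | mul a b ha hb =>
      rw [Derivation.leibniz]
      exact Submodule.add_mem _ (Submodule.smul_mem _ _ hb) (Submodule.smul_mem _ _ ha)
    | add a b ha hb =>
      rw [map_add]
      exact Submodule.add_mem _ ha hb

end

end Groth.Agent.Lib.Helper11
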