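import Mathlib

/-!
# Finite purely inseparable extensions: powers and characteristic (helper11)
-/

set_option autoImplicit false

namespace Groth.Agent.Lib.Helper11.SymField

variable (k K : Type*) [Field k] [Field K] [Algebra k K] [FiniteDimensional k K]
  [IsPurelyInseparable k K]

theorem pow_finrank_mem (t : K) : t ^ Module.finrank k K ∈ (algebraMap k K).range := by
  have h1 := IsPurelyInseparable.minpoly_natDegree_eq k t
  have h2 := IsPurelyInseparable.algebraMap_elemReduct_eq k t
  have h3 : (minpoly k t).natDegree ∣ Module.finrank k K :=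
    minpoly.degree_dvd (Algebra.IsIntegral.isIntegral t)
  obtain ⟨m, hm⟩ := h3
  rw [hm, pow_mul, h1, ← h2, ← map_pow]
  exact ⟨_, rfl⟩

theorem natCast_eq_zero_of_dvd_finrank (n : ℕ) (hn : 1 < n) (hdvd : n ∣ Module.finrank k K) :
    (n : K) = 0 := by
  obtain ⟨p, hp⟩ := ExpChar.exists k
  obtain ⟨e, he⟩ := IsPurelyInseparable.finrank_eq_pow (F := k) K p
  rw [he] at hdvd
  cases hp with
  | zero =>
    rw [one_pow, Nat.dvd_one] at hdvd
    omega
  | prime hprime =>
    obtain ⟨j, _, rfl⟩ := (Nat.dvd_prime_pow hprime).1 hdvd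
    have hj : j ≠ 0 := by
      rintro rfl
      simp at hn
    haveI : CharP K p := (Algebra.charP_iff k K p).mp inferInstance
    rw [Nat.cast_pow, CharP.cast_eq_zero K p, zero_pow hj]

end Groth.Agent.Lib.Helper11.SymField
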