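import Mathlib
import Groth.Agent.Lib.Helper11.SNRing
import Groth.Agent.Lib.Helper11.ResDeg
import Groth.Agent.Lib.Helper11.SymCore
import Groth.Agent.Lib.Helper11.SymField

/-!
# Symmetric tensors and seminormal rings: assembly lemmas (helper11)
-/

set_option autoImplicit false
universe u

open scoped TensorProduct

namespace Groth.Agent.Lib.Helper11.SymSN

open Groth.Agent.Lib.Helper11.UHRing

/-- the field-level statement with plain ring homs. -/
theorem core' {A B k K : Type*} [CommRing A] [CommRing B] [Algebra A B] [Field k] [Field K]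
    [Algebra k K] [FiniteDimensional k K] [IsPurelyInseparable k K]
    (α : A →+* k) (ψ : B →+* K) (hα : ∀ a, ψ (algebraMap A B a) = algebraMap k K (α a))
    (d : ℕ) (hd : Module.finrank k K ∣ d) (x : ⨂[A] _ : Fin d, B)
    (hx : ∀ σ : Equiv.Perm (Fin d), PiTensorProduct.reindex A (fun _ : Fin d => B) σ x = x) :
    ψ (PiTensorProduct.lift (MultilinearMap.mkPiAlgebra A (Fin d) B) x) ∈
      (algebraMap k K).range := by
  letI : Algebra A k := α.toAlgebra
  letI : Algebra A K := ((algebraMap k K).comp α).toAlgebra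
  haveI : IsScalarTower A k K := IsScalarTower.of_algebraMap_eq (fun _ => rfl)
  let ψ' : B →ₐ[A] K := { ψ with commutes' := hα }
  exact SymCore.core (Module.finBasis k K) ψ' d (Module.finrank k K) Module.finrank_pos hd
    (SymField.pow_finrank_mem k K) (SymField.natCast_eq_zero_of_dvd_finrank k K) x hx

variable {C C' : Type u} [CommRing C] [CommRing C']

theorem mem_range_of_forall_resAlg [Algebra C C'] (hUH : UH (algebraMap C C'))
    (hC : HTop.IsSeminormalRing C) [IsReduced C'] (y : C')
    (hy : ∀ q : PrimeSpectrum C', y ∈ resAlg (A := C) q.asIdeal) :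
    y ∈ (algebraMap C C').range := by
  set D : Subalgebra C C' := ⨅ q : PrimeSpectrum C', resAlg (A := C) q.asIdeal with hD
  have hyD : y ∈ D := by
    rw [hD, Algebra.mem_iInf]
    exact hy
  have hUHD : UH (algebraMap C D) := UH.subalgebra D hUH
  have hRT : ResTriv (algebraMap C D) := by
    intro q' b'
    obtain ⟨q, hq⟩ := val_comap_surjective D hUH.integral q'
    have hb : (b' : C') ∈ resAlg (A := C) q.asIdeal := by
      have h0 : ∀ z : C', z ∈ D → z ∈ resAlg (A := C) q.asIdeal := by
        intro z hz
        rw [hD, Algebra.mem_iInf] at hz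
        exact hz q
      exact h0 _ b'.2
    obtain ⟨a, s, hs, hsa⟩ := hb
    refine ⟨a, s, ?_, ?_⟩
    · rw [← hq]; exact hs
    · rw [← hq]; exact hsa
  haveI : IsReduced D := isReduced_of_injective D.val Subtype.val_injective
  obtain ⟨c, hc⟩ := (bijective_of_UH_resTriv_of_isReduced (algebraMap C D) hUHD hRT hC).2 ⟨y, hyD⟩
  exact ⟨c, congrArg Subtype.val hc⟩


theorem isPurelyInseparable_residueField (g : C →+* C') (hUH : UH g) (q : PrimeSpectrum C') :
    letI := (Ideal.ResidueField.map (PrimeSpectrum.comap g q).asIdeal q.asIdeal g rfl).toAlgebra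
    IsPurelyInseparable (PrimeSpectrum.comap g q).asIdeal.ResidueField
      q.asIdeal.ResidueField := by
  letI := (Ideal.ResidueField.map (PrimeSpectrum.comap g q).asIdeal q.asIdeal g rfl).toAlgebra
  haveI : Nonempty (q.asIdeal.ResidueField →+* AlgebraicClosure q.asIdeal.ResidueField) :=
    ⟨algebraMap _ _⟩
  apply IsPurelyInseparable.of_injective_comp_algebraMap _ _
    (AlgebraicClosure q.asIdeal.ResidueField)
  intro f₁ f₂ h
  apply Ideal.ResidueField.ringHom_ext
  apply hUH.inj
  ext c
  have h1 := RingHom.congr_fun h (algebraMap C _ c)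
  simp only [RingHom.comp_apply] at h1 ⊢
  have h2 : algebraMap (PrimeSpectrum.comap g q).asIdeal.ResidueField q.asIdeal.ResidueField
      (algebraMap C _ c) = algebraMap C' _ (g c) :=
    Ideal.ResidueField.map_algebraMap _ _ g rfl c
  rw [h2] at h1
  exact h1

theorem finite_residueField (g : C →+* C') (hfin : g.Finite) (q : PrimeSpectrum C') :
    letI := (Ideal.ResidueField.map (PrimeSpectrum.comap g q).asIdeal q.asIdeal g rfl).toAlgebra
    Module.Finite (PrimeSpectrum.comap g q).asIdeal.ResidueField q.asIdeal.ResidueField := by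
  letI := g.toAlgebra
  haveI : Module.Finite C C' := hfin
  obtain ⟨N, b, hb⟩ := Module.Finite.exists_fin (R := C) (M := C')
  refine (ResDeg.finrank_le_of_span g
    (Ideal.ResidueField.map (PrimeSpectrum.comap g q).asIdeal q.asIdeal g rfl)
    (algebraMap C _) (algebraMap C' _)
    (fun a => Ideal.ResidueField.map_algebraMap _ _ g rfl a) N b ?_ ?_).1
  · intro x
    have hx : x ∈ Submodule.span C (Set.range b) := by rw [hb]; trivial
    obtain ⟨c, hc⟩ := (Submodule.mem_span_range_iff_exists_fun C).mp hx
    refine ⟨c, ?_⟩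
    rw [← hc]
    refine Finset.sum_congr rfl (fun i _ => ?_)
    rw [Algebra.smul_def]
    rfl
  · intro z
    obtain ⟨a, s, hs, hzs⟩ := exists_residueField_div' q.asIdeal z
    have hs0 : algebraMap C' q.asIdeal.ResidueField s ≠ 0 := by
      rw [Ne, Ideal.algebraMap_residueField_eq_zero]
      exact hs
    refine ⟨a, s, hs0, ?_⟩
    rw [← hzs, mul_div_assoc, div_self hs0, mul_one]

end Groth.Agent.Lib.Helper11.SymSN
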