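import Mathlib
import Groth.Agent.Lib.Helper11.GrassSch

/-!
# TanMono: a homomorphism injective on geometric points and tangent vectors is a monomorphism
(helper11)
-/

set_option autoImplicit false
universe u

namespace Groth.Agent.Lib.Helper11.TanMono

section Algebra

variable {k : Type u} [Field k] {A : Type u} [CommRing A] [Algebra k A]

/-- the algebra map to the dual numbers attached to a functional killing `m²` -/
noncomputable def dualHom (ψ : A →ₐ[k] k) (l : A →ₗ[k] k)
    (hl : ∀ x y : A, ψ x = 0 → ψ y = 0 → l (x * y) = 0) : A →ₐ[k] DualNumber k where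
  toFun x := TrivSqZeroExt.inl (ψ x) + TrivSqZeroExt.inr (l (x - algebraMap k A (ψ x)))
  map_one' := by
    apply TrivSqZeroExt.ext
    · simp
    · simp
  map_zero' := by
    apply TrivSqZeroExt.ext
    · simp
    · simp
  map_add' x y := by
    apply TrivSqZeroExt.ext
    · simp
    · simp only [TrivSqZeroExt.snd_add, TrivSqZeroExt.snd_inl, TrivSqZeroExt.snd_inr,
        zero_add]
      rw [← map_add]
      congr 1
      rw [map_add, map_add]
      ring
  map_mul' x y := by
    have hx : ψ (x - algebraMap k A (ψ x)) = 0 := by simp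
    have hy : ψ (y - algebraMap k A (ψ y)) = 0 := by simp
    have key : x * y - algebraMap k A (ψ (x * y)) =
        ψ x • (y - algebraMap k A (ψ y)) + ψ y • (x - algebraMap k A (ψ x)) +
          (x - algebraMap k A (ψ x)) * (y - algebraMap k A (ψ y)) := by
      simp only [Algebra.smul_def, map_mul]
      ring
    apply TrivSqZeroExt.ext
    · simp
    · simp only [TrivSqZeroExt.snd_add, TrivSqZeroExt.snd_mul, TrivSqZeroExt.snd_inl,
        TrivSqZeroExt.snd_inr, TrivSqZeroExt.fst_add, TrivSqZeroExt.fst_inl,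
        TrivSqZeroExt.fst_inr, zero_add, add_zero]
      rw [key, map_add, map_add, map_smul, map_smul, hl _ _ hx hy]
      simp only [smul_eq_mul, add_zero, MulOpposite.smul_eq_mul_unop, MulOpposite.unop_op]
      ring
  commutes' c := by
    apply TrivSqZeroExt.ext
    · simp [TrivSqZeroExt.algebraMap_eq_inl]
    · simp [TrivSqZeroExt.algebraMap_eq_inl]

theorem dualHom_apply (ψ : A →ₐ[k] k) (l : A →ₗ[k] k)
    (hl : ∀ x y : A, ψ x = 0 → ψ y = 0 → l (x * y) = 0) (x : A) :
    dualHom ψ l hl x =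
      TrivSqZeroExt.inl (ψ x) + TrivSqZeroExt.inr (l (x - algebraMap k A (ψ x))) := rfl

/-- the algebraic core -/
theorem bijective_of_tangent [IsNoetherianRing A] [Subsingleton (PrimeSpectrum A)]
    (ψ : A →ₐ[k] k)
    (H : ∀ D : A →ₐ[k] DualNumber k, (∀ x, (D x).fst = ψ x) →
      ∀ x, D x = algebraMap k (DualNumber k) (ψ x)) :
    Function.Bijective ψ := by
  have hsurj : Function.Surjective ψ := fun c => ⟨algebraMap k A c, by simp⟩
  refine ⟨?_, hsurj⟩
  obtain ⟨m, hm⟩ : ∃ m : Ideal A, m = RingHom.ker ψ.toRingHom := ⟨_, rfl⟩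
  have hmem : ∀ x, x ∈ m ↔ ψ x = 0 := by
    intro x; rw [hm]; exact RingHom.mem_ker
  haveI hmax : m.IsMaximal := by
    rw [hm]
    exact RingHom.ker_isMaximal_of_surjective ψ.toRingHom hsurj
  have hjac : m ≤ Ideal.jacobson ⊥ := by
    rw [Ideal.jacobson]
    apply le_sInf
    rintro J ⟨-, hJ⟩
    have : (⟨J, hJ.isPrime⟩ : PrimeSpectrum A) = ⟨m, hmax.isPrime⟩ := Subsingleton.elim _ _
    have h2 : J = m := congrArg PrimeSpectrum.asIdeal this
    rw [h2]
  by_cases hbot : m = ⊥
  · rw [injective_iff_map_eq_zero]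
    intro x hx
    have : x ∈ m := (hmem x).mpr hx
    rw [hbot] at this
    exact this
  · exfalso
    have hne : ¬ (m ≤ m • m) := by
      intro hle
      exact hbot (Submodule.eq_bot_of_le_smul_of_le_jacobson_bot m m
        (IsNoetherian.noetherian m) hle hjac)
    obtain ⟨a, ham, ha2⟩ := Set.not_subset.mp hne
    obtain ⟨l, hla, hlker⟩ := Submodule.exists_le_ker_of_notMem
      (p := (m • m).restrictScalars k) (v := a) ha2
    have hl : ∀ x y : A, ψ x = 0 → ψ y = 0 → l (x * y) = 0 := by
      intro x y hx hy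
      have : x * y ∈ m • m := by
        rw [smul_eq_mul]
        exact Ideal.mul_mem_mul ((hmem x).mpr hx) ((hmem y).mpr hy)
      exact hlker this
    have h1 := H (dualHom ψ l hl) (by intro x; simp [dualHom_apply]) a
    have h2 := congrArg TrivSqZeroExt.snd h1
    rw [dualHom_apply, (hmem a).mp ham] at h2
    simp [TrivSqZeroExt.algebraMap_eq_inl] at h2
    exact hla h2

end Algebra

section Schemes

open CategoryTheory CategoryTheory.Limits MonoidalCategory CartesianMonoidalCategory MonObj GrpObj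
  AlgebraicGeometry
open Groth.Agent.Lib.Helper11.GrassSch

variable {k : Type u} [Field k]

/-- every retraction of `k → k[ε]` is the projection -/
theorem retraction_dual (χ : DualNumber k →+* k)
    (hχ : ∀ c : k, χ (algebraMap k (DualNumber k) c) = c) (y : DualNumber k) :
    χ y = y.fst := by
  have h1 : y = algebraMap k (DualNumber k) y.fst + TrivSqZeroExt.inr y.snd := by
    rw [TrivSqZeroExt.algebraMap_eq_inl]
    exact (TrivSqZeroExt.inl_fst_add_inr_snd_eq y).symm
  have h2 : χ (TrivSqZeroExt.inr y.snd) = 0 := by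
    have h3 : χ (TrivSqZeroExt.inr y.snd) * χ (TrivSqZeroExt.inr y.snd) = 0 := by
      rw [← map_mul, TrivSqZeroExt.inr_mul_inr, map_zero]
    exact mul_self_eq_zero.mp h3
  conv_lhs => rw [h1]
  rw [map_add, hχ, h2, add_zero]

variable {G G' : Over (Spec (CommRingCat.of k))} [GrpObj G] [GrpObj G'] (f : G ⟶ G') [IsMonHom f]

/-- the kernel -/
noncomputable abbrev Ker : Over (Spec (CommRingCat.of k)) := Limits.pullback f η[G']

/-- the inclusion of the kernel -/
noncomputable abbrev ki : Ker f ⟶ G := pullback.fst f η[G']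

/-- the unit section of the kernel -/
noncomputable def ksec : 𝟙_ (Over (Spec (CommRingCat.of k))) ⟶ Ker f :=
  pullback.lift η[G] (𝟙 _) (by rw [IsMonHom.one_hom, Category.id_comp])

theorem ksec_ki : ksec f ≫ ki f = η[G] := pullback.lift_fst _ _ _

theorem ki_comp {T : Over (Spec (CommRingCat.of k))} (n : T ⟶ Ker f) :
    (n ≫ ki f) ≫ f = toUnit T ≫ η[G'] := by
  rw [Category.assoc, pullback.condition, ← Category.assoc]
  congr 1
  exact toUnit_unique _ _

/-- if the kernel is trivial then `f` is a monomorphism -/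
theorem mono_of_ki (h : ki f = toUnit (Ker f) ≫ η[G]) : Mono f := by
  constructor
  intro T g₁ g₂ hg
  have h1 : (g₁ * g₂⁻¹) ≫ f = toUnit T ≫ η[G'] := by
    rw [MonObj.mul_comp, GrpObj.inv_comp, hg, mul_inv_cancel, Hom.one_def]
  obtain ⟨n, hn⟩ : ∃ n : T ⟶ Ker f, n ≫ ki f = g₁ * g₂⁻¹ :=
    ⟨pullback.lift (g₁ * g₂⁻¹) (toUnit T) h1, pullback.lift_fst _ _ _⟩
  have h2 : g₁ * g₂⁻¹ = 1 := by
    rw [← hn, h, ← Category.assoc, Hom.one_def]
    congr 1
    exact toUnit_unique _ _
  exact mul_inv_eq_one.mp h2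

theorem ki_of_isIso (h : IsIso (Ker f).hom) : ki f = toUnit (Ker f) ≫ η[G] := by
  haveI : IsIso ((Over.forget _).map (toUnit (Ker f))) := h
  haveI : IsIso (toUnit (Ker f)) := isIso_of_reflects_iso _ (Over.forget _)
  have h1 : ksec f ≫ toUnit (Ker f) = 𝟙 _ := toUnit_unique _ _
  have h2 : toUnit (Ker f) ≫ ksec f = 𝟙 _ := by
    rw [← cancel_epi (inv (toUnit (Ker f))), IsIso.inv_hom_id_assoc, Category.comp_id,
      ← cancel_mono (toUnit (Ker f)), h1, IsIso.inv_hom_id]
  rw [← ksec_ki f, ← Category.assoc, h2, Category.id_comp]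

/-- all points of the kernel map to the unit point -/
theorem ki_left_eq
    (hgeom : ∀ (K : Type u) [Field K] [IsAlgClosed K] [Algebra k K],
      Function.Injective
        (fun g : (Over.mk (Spec.map (CommRingCat.ofHom (algebraMap k K)))) ⟶ G => g ≫ f))
    (x : (Ker f).left) (pt : (𝟙_ (Over (Spec (CommRingCat.of k)))).left) :
    (ki f).left x = η[G].left pt := by
  obtain ⟨jx, hjx⟩ : ∃ jx : Spec (CommRingCat.of
      (AlgebraicClosure ((Ker f).left.residueField x))) ⟶ (Ker f).left,
      jx = Spec.map (CommRingCat.ofHom (algebraMap ((Ker f).left.residueField x)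
        (AlgebraicClosure ((Ker f).left.residueField x)))) ≫
        (Ker f).left.fromSpecResidueField x := ⟨_, rfl⟩
  letI : Algebra k (AlgebraicClosure ((Ker f).left.residueField x)) :=
    (Spec.preimage (jx ≫ (Ker f).hom)).hom.toAlgebra
  have hstr : Spec.map (CommRingCat.ofHom (algebraMap k
      (AlgebraicClosure ((Ker f).left.residueField x)))) = jx ≫ (Ker f).hom :=
    Spec.map_preimage _
  obtain ⟨gx, hgx⟩ : ∃ gx : Over.mk (Spec.map (CommRingCat.ofHom (algebraMap k
      (AlgebraicClosure ((Ker f).left.residueField x))))) ⟶ Ker f, gx.left = jx :=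
    ⟨Over.homMk jx hstr.symm, rfl⟩
  have h1 : gx ≫ ki f = toUnit _ ≫ η[G] := by
    apply hgeom (AlgebraicClosure ((Ker f).left.residueField x))
    show (gx ≫ ki f) ≫ f = (toUnit _ ≫ η[G]) ≫ f
    rw [ki_comp, Category.assoc, IsMonHom.one_hom]
  obtain ⟨p⟩ : Nonempty ↥(Spec (CommRingCat.of
    (AlgebraicClosure ((Ker f).left.residueField x)))) := inferInstance
  have h2 : (gx ≫ ki f).left p = (toUnit (Over.mk (Spec.map (CommRingCat.ofHom (algebraMap k
      (AlgebraicClosure ((Ker f).left.residueField x)))))) ≫ η[G]).left p := by rw [h1]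
  rw [Over.comp_left, Scheme.Hom.comp_apply, Over.comp_left, Scheme.Hom.comp_apply] at h2
  have h3 : gx.left p = x := by
    rw [hgx, hjx, Scheme.Hom.comp_apply]
    exact Scheme.fromSpecResidueField_apply x _
  rw [h3] at h2
  rw [h2]
  congr 1
  exact Subsingleton.elim (α := ↥(Spec (CommRingCat.of k))) _ _

theorem subsingleton_ker
    (hgeom : ∀ (K : Type u) [Field K] [IsAlgClosed K] [Algebra k K],
      Function.Injective
        (fun g : (Over.mk (Spec.map (CommRingCat.ofHom (algebraMap k K)))) ⟶ G => g ≫ f)) :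
    Subsingleton ↥(Ker f).left := by
  constructor
  intro x y
  haveI : Mono (ki f) := inferInstance
  obtain ⟨pt⟩ : Nonempty ↥(Spec (CommRingCat.of k)) := inferInstance
  apply (ki f).left.injective
  rw [ki_left_eq f hgeom x pt, ki_left_eq f hgeom y pt]

theorem locallyOfFiniteType_ker [LocallyOfFiniteType G.hom] [LocallyOfFiniteType G'.hom] :
    LocallyOfFiniteType (Ker f).hom := by
  have h1 : LocallyOfFiniteType η[G'].left := by
    haveI : LocallyOfFiniteType (η[G'].left ≫ G'.hom) := by
      rw [Over.w η[G']]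
      show LocallyOfFiniteType (𝟙 _)
      infer_instance
    exact locallyOfFiniteType_of_comp η[G'].left G'.hom
  have hpb := ((IsPullback.of_hasPullback f η[G']).map (Over.forget _)).flip
  have h2 : LocallyOfFiniteType (ki f).left :=
    MorphismProperty.of_isPullback (P := @LocallyOfFiniteType) hpb h1
  rw [← Over.w (ki f)]
  infer_instance

theorem isIso_ker_hom [LocallyOfFiniteType G.hom] [LocallyOfFiniteType G'.hom]
    (hgeom : ∀ (K : Type u) [Field K] [IsAlgClosed K] [Algebra k K],
      Function.Injective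
        (fun g : (Over.mk (Spec.map (CommRingCat.ofHom (algebraMap k K)))) ⟶ G => g ≫ f))
    (htan : ∀ g : (Over.mk (Spec.map (CommRingCat.ofHom (algebraMap k (DualNumber k))))) ⟶ G,
      (∀ x : 𝟙_ (Over (Spec (CommRingCat.of k))) ⟶
        (Over.mk (Spec.map (CommRingCat.ofHom (algebraMap k (DualNumber k))))), x ≫ g = η[G]) →
        g ≫ f = toUnit _ ≫ η[G'] → g = toUnit _ ≫ η[G]) :
    IsIso (Ker f).hom := by
  haveI := subsingleton_ker f hgeom
  haveI hlft := locallyOfFiniteType_ker f
  haveI : IsAffine (Ker f).left := inferInstance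
  obtain ⟨t, ht⟩ : ∃ t : Spec Γ((Ker f).left, ⊤) ⟶ Spec (CommRingCat.of k),
      t = (Ker f).left.isoSpec.inv ≫ (Ker f).hom := ⟨_, rfl⟩
  obtain ⟨A, hA⟩ : ∃ A : CommAlgCat.{u} k, A = APt Γ((Ker f).left, ⊤) t := ⟨_, rfl⟩
  obtain ⟨e⟩ : Nonempty (pt A ≅ Ker f) := by
    rw [hA]
    exact ⟨Over.isoMk (Ker f).left.isoSpec.symm (by
      show (Ker f).left.isoSpec.inv ≫ (Ker f).hom = (pt (APt Γ((Ker f).left, ⊤) t)).hom
      rw [pt_hom_eq, ht])⟩
  -- finiteness
  haveI : LocallyOfFiniteType (pt A).hom := by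
    rw [← Over.w e.hom]
    infer_instance
  haveI : Algebra.FiniteType k A := by
    have h1 : LocallyOfFiniteType (Spec.map (CommRingCat.ofHom (algebraMap k A))) :=
      inferInstanceAs (LocallyOfFiniteType (pt A).hom)
    rw [HasRingHomProperty.Spec_iff (P := @LocallyOfFiniteType)] at h1
    exact RingHom.finiteType_algebraMap.mp h1
  haveI : IsNoetherianRing A := Algebra.FiniteType.isNoetherianRing k A
  haveI : Subsingleton (PrimeSpectrum A) := by
    constructor
    intro p q
    have hinj : Function.Injective e.hom.left := e.hom.left.injective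
    exact hinj (Subsingleton.elim (α := ↥(Ker f).left) _ _)
  -- the section
  obtain ⟨σ', hσ'⟩ : ∃ σ' : 𝟙_ (Over (Spec (CommRingCat.of k))) ⟶ pt A, σ' = ksec f ≫ e.inv :=
    ⟨_, rfl⟩
  obtain ⟨ψ₀, hψ₀⟩ : ∃ ψ₀ : CommRingCat.of A ⟶ CommRingCat.of k, Spec.map ψ₀ = σ'.left :=
    ⟨Spec.preimage σ'.left, Spec.map_preimage _⟩
  have hψc : CommRingCat.ofHom (algebraMap k A) ≫ ψ₀ = 𝟙 _ := by
    apply Spec.map_injective
    rw [Spec.map_comp, hψ₀, Spec.map_id]
    exact Over.w σ'
  obtain ⟨ψ, hψ⟩ : ∃ ψ : A →ₐ[k] k, ∀ a, ψ a = ψ₀.hom a :=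
    ⟨{ toRingHom := ψ₀.hom
       commutes' := fun c => by
        have := congrArg (fun m => CommRingCat.Hom.hom m c) hψc
        exact this }, fun a => rfl⟩
  have H : ∀ D : A →ₐ[k] DualNumber k, (∀ x, (D x).fst = ψ x) →
      ∀ x, D x = algebraMap k (DualNumber k) (ψ x) := by
    intro D hD
    obtain ⟨g, hg⟩ : ∃ g : pt (CommAlgCat.of k (DualNumber k)) ⟶ Ker f,
        g = ptMap (CommAlgCat.ofHom D : A ⟶ CommAlgCat.of k (DualNumber k)) ≫ e.hom := ⟨_, rfl⟩
    have hgD : g ≫ e.inv = ptMap (CommAlgCat.ofHom D : A ⟶ CommAlgCat.of k (DualNumber k)) := by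
      rw [hg, Category.assoc, e.hom_inv_id, Category.comp_id]
    have c1 : ∀ x : 𝟙_ (Over (Spec (CommRingCat.of k))) ⟶
        pt (CommAlgCat.of k (DualNumber k)), x ≫ (g ≫ ki f) = η[G] := by
      intro x
      have hx : x ≫ ptMap (CommAlgCat.ofHom D : A ⟶ CommAlgCat.of k (DualNumber k)) = σ' := by
        apply Over.OverMorphism.ext
        rw [Over.comp_left, ptMap_left, ← hψ₀]
        obtain ⟨χ, hχ⟩ : ∃ χ : CommRingCat.of (DualNumber k) ⟶ CommRingCat.of k,
            Spec.map χ = x.left := ⟨Spec.preimage x.left, Spec.map_preimage _⟩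
        rw [← hχ, ← Spec.map_comp]
        congr 1
        have hχc : CommRingCat.ofHom (algebraMap k (DualNumber k)) ≫ χ = 𝟙 _ := by
          apply Spec.map_injective
          rw [Spec.map_comp, hχ, Spec.map_id]
          exact Over.w x
        apply CommRingCat.hom_ext
        apply RingHom.ext
        intro a
        show χ.hom (D a) = ψ₀.hom a
        rw [retraction_dual χ.hom (fun c => congrArg (fun m => CommRingCat.Hom.hom m c) hχc),
          hD, hψ]
      rw [hg, ← Category.assoc, ← Category.assoc, hx, hσ', Category.assoc, Category.assoc,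
        e.inv_hom_id_assoc, ksec_ki]
    have c2 : (g ≫ ki f) ≫ f = toUnit _ ≫ η[G'] := ki_comp f g
    have c3 := htan (g ≫ ki f) c1 c2
    have c4 : g = toUnit _ ≫ ksec f := by
      rw [← cancel_mono (ki f), c3, Category.assoc, ksec_ki]
    have c5 : ptMap (CommAlgCat.ofHom D : A ⟶ CommAlgCat.of k (DualNumber k)) =
        toUnit _ ≫ σ' := by
      rw [← hgD, c4, hσ', Category.assoc]
    have c6 := congrArg Over.Hom.left c5
    rw [ptMap_left, Over.comp_left, Over.toUnit_left, ← hψ₀] at c6
    have c7 : (pt (CommAlgCat.of k (DualNumber k))).hom ≫ Spec.map ψ₀ =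
        Spec.map (ψ₀ ≫ CommRingCat.ofHom (algebraMap k (DualNumber k))) := by
      rw [Spec.map_comp]
      rfl
    rw [c7] at c6
    have c8 := Spec.map_injective c6
    intro x
    have c9 := congrArg (fun m => CommRingCat.Hom.hom m x) c8
    rw [hψ]
    exact c9
  have hbij := bijective_of_tangent ψ H
  have hbij2 : Function.Bijective (algebraMap k A) := by
    refine ⟨Function.LeftInverse.injective (g := ψ) (fun c => ψ.commutes c),
      fun a => ⟨ψ a, hbij.1 ?_⟩⟩
    rw [AlgHom.commutes]
    rfl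
  haveI : IsIso (CommRingCat.ofHom (algebraMap k A)) :=
    (ConcreteCategory.isIso_iff_bijective _).mpr hbij2
  haveI : IsIso (pt A).hom := inferInstanceAs (IsIso (Spec.map (CommRingCat.ofHom (algebraMap k A))))
  rw [← Over.w e.inv]
  infer_instance

/-- the main theorem -/
theorem mono_of_injective [LocallyOfFiniteType G.hom] [LocallyOfFiniteType G'.hom]
    (hgeom : ∀ (K : Type u) [Field K] [IsAlgClosed K] [Algebra k K],
      Function.Injective
        (fun g : (Over.mk (Spec.map (CommRingCat.ofHom (algebraMap k K)))) ⟶ G => g ≫ f))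
    (htan : ∀ g : (Over.mk (Spec.map (CommRingCat.ofHom (algebraMap k (DualNumber k))))) ⟶ G,
      (∀ x : 𝟙_ (Over (Spec (CommRingCat.of k))) ⟶
        (Over.mk (Spec.map (CommRingCat.ofHom (algebraMap k (DualNumber k))))), x ≫ g = η[G]) →
        g ≫ f = toUnit _ ≫ η[G'] → g = toUnit _ ≫ η[G]) :
    Mono f :=
  mono_of_ki f (ki_of_isIso f (isIso_ker_hom f hgeom htan))

end Schemes

end Groth.Agent.Lib.Helper11.TanMono
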