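import Mathlib
import Groth.Prelude.Def_CurvBase
import Groth.Agent.Lib.Helper11.ClosSub
import Groth.Agent.Lib.Helper11.KPts
import Groth.Agent.Lib.Helper12.RatPoint

/-!
# TanZero: a finite type group scheme over an algebraically closed field with zero tangent space
at the unit is finite, discrete, with all local rings equal to the base field (helper11)
-/

set_option autoImplicit false
universe u

open CategoryTheory CategoryTheory.Limits MonoidalCategory CartesianMonoidalCategory MonObj GrpObj
  AlgebraicGeometry

namespace Groth.Agent.Lib.Helper11.TanZero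

open Groth.Agent.Lib.Helper11.ClosSub

/-- a point whose local ring is a field has no proper generalizations -/
theorem stableUnderGeneralization_singleton {X : Scheme.{u}} (x : X)
    (h : IsLocalRing.maximalIdeal (X.presheaf.stalk x) = ⊥) :
    StableUnderGeneralization ({x} : Set X) := by
  intro a y hy ha
  rw [Set.mem_singleton_iff] at ha
  subst ha
  rw [Set.mem_singleton_iff]
  have hy' : y ∈ Set.range (X.fromSpecStalk a) := by
    rw [Scheme.range_fromSpecStalk]; exact hy
  obtain ⟨q, rfl⟩ := hy'
  have hq : q = IsLocalRing.closedPoint _ := by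
    apply PrimeSpectrum.ext
    have h1 : q.asIdeal ≤ IsLocalRing.maximalIdeal _ := IsLocalRing.le_maximalIdeal q.2.ne_top
    rw [h] at h1
    change q.asIdeal = IsLocalRing.maximalIdeal _
    rw [h]
    exact le_bot_iff.mp h1
  rw [hq, Scheme.fromSpecStalk_closedPoint]

/-- a closed point without proper generalizations in a locally noetherian Jacobson scheme is
isolated -/
theorem isOpen_singleton {X : Scheme.{u}} [IsLocallyNoetherian X] [JacobsonSpace X] (x : X)
    (hc : IsClosed ({x} : Set X)) (hg : StableUnderGeneralization ({x} : Set X)) :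
    IsOpen ({x} : Set X) := by
  obtain ⟨W, hW, hxW, -⟩ :=
    exists_isAffineOpen_mem_and_subset (x := x) (U := ⊤) (TopologicalSpace.Opens.mem_top x)
  haveI : IsNoetherianRing Γ(X, W) := IsLocallyNoetherian.component_noetherian ⟨W, hW⟩
  haveI : JacobsonSpace W := JacobsonSpace.of_isOpenEmbedding W.isOpenEmbedding
  let h : W ≃ₜ PrimeSpectrum Γ(X, W) := hW.isoSpec.hom.homeomorph
  haveI : JacobsonSpace (PrimeSpectrum Γ(X, W)) :=
    JacobsonSpace.of_isOpenEmbedding h.symm.isOpenEmbedding
  haveI : IsJacobsonRing Γ(X, W) := PrimeSpectrum.isJacobsonRing_iff_jacobsonSpace.mpr inferInstance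
  let x' : (W : Scheme) := ⟨x, hxW⟩
  have hx' : W.ι x' = x := rfl
  have hinj : Function.Injective W.ι := W.ι.isOpenEmbedding.injective
  have hcl : IsClosed ({h x'} : Set (PrimeSpectrum Γ(X, W))) := by
    rw [← Set.image_singleton, h.isClosed_image]
    have : ({x'} : Set (W : Scheme)) = W.ι ⁻¹' ({x} : Set X) := by
      ext y
      simp only [Set.mem_singleton_iff, Set.mem_preimage]
      constructor
      · rintro rfl; rfl
      · intro hy; exact hinj (hy.trans hx'.symm)
    rw [this]
    exact hc.preimage W.ι.continuous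
  have hgen : StableUnderGeneralization ({h x'} : Set (PrimeSpectrum Γ(X, W))) := by
    intro a q hq ha
    rw [Set.mem_singleton_iff] at ha
    subst ha
    rw [Set.mem_singleton_iff]
    have h1 : h.symm q ⤳ h.symm (h x') := hq.map h.symm.continuous
    rw [h.symm_apply_apply] at h1
    have h2 : W.ι (h.symm q) ⤳ W.ι x' := h1.map W.ι.continuous
    have h3 : W.ι (h.symm q) = x := hg h2 rfl
    have h4 : h.symm q = x' := hinj (h3.trans hx'.symm)
    rw [← h4, h.apply_symm_apply]
  have hop : IsOpen ({h x'} : Set (PrimeSpectrum Γ(X, W))) := by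
    have htfae := (PrimeSpectrum.isOpen_singleton_tfae_of_isNoetherian_of_isJacobsonRing (h x'))
    have h20 : (IsClosed ({h x'} : Set (PrimeSpectrum Γ(X, W))) ∧
        StableUnderGeneralization ({h x'} : Set (PrimeSpectrum Γ(X, W)))) →
        IsOpen ({h x'} : Set (PrimeSpectrum Γ(X, W))) := (htfae.out 2 0).mp
    exact h20 ⟨hcl, hgen⟩
  have hop' : IsOpen ({x'} : Set (W : Scheme)) := by
    have := hop.preimage h.continuous
    rwa [← Set.image_singleton, h.preimage_image] at this
  have := W.ι.isOpenEmbedding.isOpenMap _ hop'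
  rwa [Set.image_singleton] at this

variable {k : Type u} [Field k]

lemma trans_eq (G : Over (Spec (CommRingCat.of k))) [GrpObj G]
    (s : 𝟙_ (Over (Spec (CommRingCat.of k))) ⟶ G) :
    trans G s = (toUnit G ≫ s) * 𝟙 G := by
  rw [← comp_trans, Category.id_comp]

lemma trans_comp_trans (G : Over (Spec (CommRingCat.of k))) [GrpObj G]
    (s s' : 𝟙_ (Over (Spec (CommRingCat.of k))) ⟶ G) :
    trans G s ≫ trans G s' = trans G (s' * s) := by
  rw [comp_trans, trans_eq, trans_eq, MonObj.comp_mul, _root_.mul_assoc]

lemma trans_one (G : Over (Spec (CommRingCat.of k))) [GrpObj G] :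
    trans G (1 : 𝟙_ (Over (Spec (CommRingCat.of k))) ⟶ G) = 𝟙 G := by
  rw [trans_eq, MonObj.comp_one, _root_.one_mul]

/-- translation by a rational point is an automorphism -/
noncomputable def transIso (G : Over (Spec (CommRingCat.of k))) [GrpObj G]
    (s : 𝟙_ (Over (Spec (CommRingCat.of k))) ⟶ G) : G ≅ G where
  hom := trans G s
  inv := trans G s⁻¹
  hom_inv_id := by rw [trans_comp_trans, inv_mul_cancel, trans_one]
  inv_hom_id := by rw [trans_comp_trans, mul_inv_cancel, trans_one]

lemma trans_pt_unit (G : Over (Spec (CommRingCat.of k))) [GrpObj G]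
    (s : 𝟙_ (Over (Spec (CommRingCat.of k))) ⟶ G) :
    (trans G s).left.base (pt η[G]) = pt s := by
  rw [pt_comp, comp_trans]
  have h1 : toUnit (𝟙_ (Over (Spec (CommRingCat.of k)))) = 𝟙 _ := toUnit_unique _ _
  have h2 : η[G] = (1 : 𝟙_ (Over (Spec (CommRingCat.of k))) ⟶ G) := by
    rw [Hom.one_def, h1, Category.id_comp]
  rw [h1, Category.id_comp, h2, _root_.mul_one]

/-- the scheme automorphism underlying a translation -/
noncomputable def transIsoLeft (G : Over (Spec (CommRingCat.of k))) [GrpObj G]
    (s : 𝟙_ (Over (Spec (CommRingCat.of k))) ⟶ G) : G.left ≅ G.left :=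
  (Over.forget _).mapIso (transIso G s)

lemma maximalIdeal_eq_bot_of_ringEquiv {R R' : Type*} [CommRing R] [CommRing R'] [IsLocalRing R]
    [IsLocalRing R'] (f : R ≃+* R') (h : IsLocalRing.maximalIdeal R' = ⊥) :
    IsLocalRing.maximalIdeal R = ⊥ := by
  rw [← IsLocalRing.isField_iff_maximalIdeal_eq] at h ⊢
  exact MulEquiv.isField h f.toMulEquiv

variable [IsAlgClosed k]

/-- every closed point of a locally finite type `k`-scheme is the image of a rational point -/
theorem exists_section (G : Over (Spec (CommRingCat.of k))) [LocallyOfFiniteType G.hom]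
    (g : G.left) (hg : IsClosed ({g} : Set G.left)) :
    ∃ s : 𝟙_ (Over (Spec (CommRingCat.of k))) ⟶ G, pt s = g := by
  obtain ⟨p, hp, hpt⟩ := KPts.exists_point_of_isClosed k k G.hom g hg
  refine ⟨Over.homMk p ?_, ?_⟩
  · rw [hp]
    have : algebraMap k k = RingHom.id k := rfl
    rw [this]
    change Spec.map (𝟙 _) = _
    rw [Spec.map_id]
    rfl
  · exact hpt _

theorem main (G : Over (Spec (CommRingCat.of k))) [GrpObj G] [LocallyOfFiniteType G.hom]
    [QuasiCompact G.hom]
    (hcot : IsLocalRing.maximalIdeal (G.left.presheaf.stalk (pt η[G])) = ⊥) :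
    Finite G.left ∧ DiscreteTopology G.left ∧
      ∀ g : G.left, IsClosed ({g} : Set G.left) ∧
        IsLocalRing.maximalIdeal (G.left.presheaf.stalk g) = ⊥ := by
  haveI : IsLocallyNoetherian G.left := LocallyOfFiniteType.isLocallyNoetherian G.hom
  haveI : JacobsonSpace G.left := LocallyOfFiniteType.jacobsonSpace G.hom
  haveI : CompactSpace G.left := QuasiCompact.compactSpace_of_compactSpace G.hom
  set e : G.left := pt η[G] with he
  -- closed points: translate
  have key : ∀ g : G.left, IsClosed ({g} : Set G.left) →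
      ∃ φ : G.left ≅ G.left, φ.hom.base e = g := by
    intro g hg
    obtain ⟨s, hs⟩ := exists_section G g hg
    refine ⟨transIsoLeft G s, ?_⟩
    rw [← hs]
    exact trans_pt_unit G s
  -- e is closed
  have hecl : IsClosed ({e} : Set G.left) := by
    have hne : (closedPoints G.left).Nonempty := by
      by_contra hcon
      rw [Set.not_nonempty_iff_eq_empty] at hcon
      have := closure_closedPoints (X := G.left)
      rw [hcon, closure_empty] at this
      haveI hne' : Nonempty G.left := ⟨e⟩
      exact Set.empty_ne_univ this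
    obtain ⟨g0, hg0⟩ := hne
    obtain ⟨φ, hφ⟩ := key g0 hg0
    have : ({e} : Set G.left) = φ.hom.base ⁻¹' {g0} := by
      ext y
      simp only [Set.mem_singleton_iff, Set.mem_preimage]
      rw [← hφ]
      exact ⟨fun h => by rw [h], fun h => (φ.hom.homeomorph.injective h)⟩
    rw [this]
    exact hg0.preimage φ.hom.continuous
  have heop : IsOpen ({e} : Set G.left) :=
    isOpen_singleton e hecl (stableUnderGeneralization_singleton e hcot)
  have hclosed_pt : ∀ g : G.left, IsClosed ({g} : Set G.left) →
      IsOpen ({g} : Set G.left) ∧ IsLocalRing.maximalIdeal (G.left.presheaf.stalk g) = ⊥ := by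
    intro g hg
    obtain ⟨φ, hφ⟩ := key g hg
    constructor
    · have := φ.hom.homeomorph.isOpenMap _ heop
      rw [Set.image_singleton] at this
      rw [← hφ]
      exact this
    · subst hφ
      haveI : IsIso (φ.hom.stalkMap e) := inferInstance
      exact maximalIdeal_eq_bot_of_ringEquiv
        (asIso (φ.hom.stalkMap e)).commRingCatIsoToRingEquiv hcot
  have hall : ∀ x : G.left, IsClosed ({x} : Set G.left) := by
    intro x
    obtain ⟨g, hg1, hg2⟩ := nonempty_inter_closedPoints (X := G.left)
      (Z := closure {x}) ⟨x, subset_closure rfl⟩ isClosed_closure.isLocallyClosed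
    have hgo := (hclosed_pt g hg2).1
    have : x ∈ ({g} : Set G.left) := by
      by_contra hx
      have h1 : ({x} : Set G.left) ⊆ ({g} : Set G.left)ᶜ := by
        intro y hy; rw [Set.mem_singleton_iff] at hy; subst hy; exact hx
      have h2 := closure_minimal h1 hgo.isClosed_compl
      exact h2 hg1 rfl
    rw [Set.mem_singleton_iff] at this
    subst this
    exact hg2
  haveI : DiscreteTopology G.left :=
    discreteTopology_iff_isOpen_singleton.mpr fun x => (hclosed_pt x (hall x)).1
  exact ⟨finite_of_compact_of_discrete, inferInstance, fun g => ⟨hall g, (hclosed_pt g (hall g)).2⟩⟩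

/-- the residue field at a closed point of a locally finite type `k`-scheme is `k` -/
theorem resMap_surjective (X : Scheme.{u}) [X.Over (Spec (CommRingCat.of k))]
    [LocallyOfFiniteType (X ↘ Spec (CommRingCat.of k))] (x : X) (hx : IsClosed ({x} : Set X)) :
    Function.Surjective (Curv2.resMap k X x) := by
  have hfin : IsFinite (X.fromSpecResidueField x ≫ (X ↘ Spec (CommRingCat.of k))) := by
    rw [isClosed_singleton_iff_isClosedImmersion] at hx
    rw [isFinite_iff_locallyOfFiniteType_of_jacobsonSpace]
    infer_instance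
  rw [Groth.Agent.Lib.Helper12.fromSpecResidueField_comp_eq] at hfin
  have heq : (Scheme.ΓSpecIso (CommRingCat.of k)).inv ≫ (X ↘ Spec (CommRingCat.of k)).appTop ≫
      X.presheaf.germ ⊤ x trivial ≫ X.residue x = CommRingCat.ofHom (Curv2.resMap k X x) := rfl
  rw [heq] at hfin
  have hint : (Curv2.resMap k X x).IsIntegral := by
    have : (CommRingCat.ofHom (Curv2.resMap k X x)).hom.IsIntegral := by
      rw [← IsIntegralHom.SpecMap_iff]
      infer_instance
    exact this
  letI : Algebra k (X.residueField x) := (Curv2.resMap k X x).toAlgebra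
  haveI : Algebra.IsIntegral k (X.residueField x) := ⟨hint⟩
  exact (IsAlgClosed.algebraMap_bijective_of_isIntegral (k := k) (K := X.residueField x)).2

theorem stalkMap_bijective (X : Scheme.{u}) [X.Over (Spec (CommRingCat.of k))]
    [LocallyOfFiniteType (X ↘ Spec (CommRingCat.of k))] (x : X) (hx : IsClosed ({x} : Set X))
    (hm : IsLocalRing.maximalIdeal (X.presheaf.stalk x) = ⊥) :
    Function.Bijective (Curv2.stalkMap k X x) := by
  refine ⟨(Curv2.stalkMap k X x).injective, ?_⟩
  intro y
  obtain ⟨c, hc⟩ := resMap_surjective (k := k) X x hx ((X.residue x).hom y)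
  refine ⟨c, ?_⟩
  have h1 : (X.residue x).hom (Curv2.stalkMap k X x c) = (X.residue x).hom y := hc
  have h2 : (X.residue x).hom (Curv2.stalkMap k X x c - y) = 0 := by
    rw [map_sub, h1, sub_self]
  have h3 : Curv2.stalkMap k X x c - y ∈ IsLocalRing.maximalIdeal (X.presheaf.stalk x) := by
    rw [← IsLocalRing.residue_eq_zero_iff]
    exact h2
  rw [hm] at h3
  exact sub_eq_zero.mp h3

end Groth.Agent.Lib.Helper11.TanZero
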