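import Mathlib

/-!
# Helper11 UD1: descent of sections of étale morphisms along submersive surjections
-/

set_option autoImplicit false

namespace Groth.Agent.Lib.Helper11.UD1

open CategoryTheory CategoryTheory.Limits AlgebraicGeometry

universe u

/-- Two morphisms into an étale `S`-scheme which agree after a surjection are equal. -/
theorem hom_ext_of_surjective {X X' Y S : Scheme.{u}} (q : Y ⟶ S) [Etale q] (π : X' ⟶ X)
    [Surjective π] (u₁ u₂ : X ⟶ Y) (h : u₁ ≫ q = u₂ ≫ q) (hπ : π ≫ u₁ = π ≫ u₂) : u₁ = u₂ := by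
  haveI : IsOpenImmersion (pullback.diagonal q) := inferInstance
  let w : X ⟶ pullback q q := pullback.lift u₁ u₂ h
  have f₁ : w ≫ pullback.fst q q = u₁ := pullback.lift_fst _ _ _
  have f₂ : w ≫ pullback.snd q q = u₂ := pullback.lift_snd _ _ _
  have hw : Set.range w ⊆ Set.range (pullback.diagonal q) := by
    rintro _ ⟨x, rfl⟩
    obtain ⟨x', rfl⟩ := π.surjective x
    refine ⟨(π ≫ u₁) x', ?_⟩
    have e : (π ≫ u₁) ≫ pullback.diagonal q = π ≫ w := by
      apply pullback.hom_ext
      · rw [Category.assoc, pullback.diagonal_fst, Category.comp_id, Category.assoc, f₁]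
      · rw [Category.assoc, pullback.diagonal_snd, Category.comp_id, Category.assoc, f₂, hπ]
    rw [← Scheme.Hom.comp_apply, ← Scheme.Hom.comp_apply, e]
  have e := IsOpenImmersion.lift_fac (pullback.diagonal q) w hw
  have e₁ := congrArg (· ≫ pullback.fst q q) e
  have e₂ := congrArg (· ≫ pullback.snd q q) e
  simp only [Category.assoc, pullback.diagonal_fst, pullback.diagonal_snd, Category.comp_id] at e₁ e₂
  rw [← f₁, ← f₂, ← e₁, ← e₂]

section

variable {T T' Y : Scheme.{u}} (q : Y ⟶ T) [Etale q] (h : T' ⟶ T)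
  (σ' : T' ⟶ pullback q h) (hσ' : σ' ≫ pullback.snd q h = 𝟙 T')

include hσ' in
theorem isOpenImmersion_section : IsOpenImmersion σ' := by
  haveI : Etale (σ' ≫ pullback.snd q h) := by rw [hσ']; infer_instance
  haveI : Etale σ' := Etale.of_comp σ' (pullback.snd q h)
  haveI : Mono σ' := mono_of_mono_fac hσ'
  exact IsOpenImmersion.of_flat_of_mono σ'

include hσ' in
/-- a morphism landing in the range of the section factors through it -/
theorem eq_of_range_subset {W : Scheme.{u}} (a : W ⟶ pullback q h)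
    (ha : Set.range a ⊆ Set.range σ') : a = (a ≫ pullback.snd q h) ≫ σ' := by
  haveI := isOpenImmersion_section q h σ' hσ'
  have e := IsOpenImmersion.lift_fac σ' a ha
  have e' : IsOpenImmersion.lift σ' a ha = a ≫ pullback.snd q h := by
    have := congrArg (· ≫ pullback.snd q h) e
    simp only [Category.assoc, hσ', Category.comp_id] at this
    exact this
  rw [← e']
  exact e.symm

end

section descent

variable {T T' Y : Scheme.{u}} (q : Y ⟶ T) [Etale q] (h : T' ⟶ T)
  (σ' : T' ⟶ pullback q h) (hσ' : σ' ≫ pullback.snd q h = 𝟙 T')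
  (hcoc : pullback.fst h h ≫ σ' ≫ pullback.fst q h = pullback.snd h h ≫ σ' ≫ pullback.fst q h)

include hσ' hcoc in
theorem saturated (y₁ y₂ : ↥(pullback q h)) (hy : pullback.fst q h y₁ = pullback.fst q h y₂)
    (h₁ : y₁ ∈ Set.range σ') : y₂ ∈ Set.range σ' := by
  haveI := isOpenImmersion_section q h σ' hσ'
  obtain ⟨z, hz₁, hz₂⟩ := Scheme.Pullback.exists_preimage_pullback
    (f := pullback.fst q h) (g := pullback.fst q h) y₁ y₂ hy
  let W : (pullback (pullback.fst q h) (pullback.fst q h)).Opens :=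
    (pullback.fst (pullback.fst q h) (pullback.fst q h)) ⁻¹ᵁ σ'.opensRange
  have hzW : z ∈ W := by
    show pullback.fst (pullback.fst q h) (pullback.fst q h) z ∈ σ'.opensRange
    rw [hz₁]; exact h₁
  let m : pullback (pullback.fst q h) (pullback.fst q h) ⟶ pullback h h :=
    pullback.lift (pullback.fst _ _ ≫ pullback.snd q h) (pullback.snd _ _ ≫ pullback.snd q h) (by
      rw [Category.assoc, Category.assoc, ← pullback.condition,
        ← Category.assoc, ← Category.assoc, pullback.condition])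
  have hm₁ : m ≫ pullback.fst h h = pullback.fst _ _ ≫ pullback.snd q h := pullback.lift_fst _ _ _
  have hm₂ : m ≫ pullback.snd h h = pullback.snd _ _ ≫ pullback.snd q h := pullback.lift_snd _ _ _
  have ha₁ : W.ι ≫ pullback.fst (pullback.fst q h) (pullback.fst q h) =
      ((W.ι ≫ pullback.fst (pullback.fst q h) (pullback.fst q h)) ≫ pullback.snd q h) ≫ σ' := by
    apply eq_of_range_subset q h σ' hσ'
    rintro _ ⟨w, rfl⟩
    exact w.2
  have ha₂ : W.ι ≫ pullback.snd (pullback.fst q h) (pullback.fst q h) =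
      ((W.ι ≫ pullback.snd (pullback.fst q h) (pullback.fst q h)) ≫ pullback.snd q h) ≫ σ' := by
    apply pullback.hom_ext
    · calc (W.ι ≫ pullback.snd (pullback.fst q h) (pullback.fst q h)) ≫ pullback.fst q h
          = (W.ι ≫ pullback.fst (pullback.fst q h) (pullback.fst q h)) ≫ pullback.fst q h := by
            rw [Category.assoc, Category.assoc, pullback.condition]
        _ = (((W.ι ≫ pullback.fst (pullback.fst q h) (pullback.fst q h)) ≫ pullback.snd q h) ≫ σ') ≫
              pullback.fst q h := by rw [← ha₁]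
        _ = W.ι ≫ m ≫ pullback.fst h h ≫ σ' ≫ pullback.fst q h := by
            rw [reassoc_of% hm₁]; simp only [Category.assoc]
        _ = W.ι ≫ m ≫ pullback.snd h h ≫ σ' ≫ pullback.fst q h := by rw [hcoc]
        _ = (((W.ι ≫ pullback.snd (pullback.fst q h) (pullback.fst q h)) ≫ pullback.snd q h) ≫ σ') ≫
              pullback.fst q h := by
            rw [reassoc_of% hm₂]; simp only [Category.assoc]
    · rw [Category.assoc, Category.assoc, hσ', Category.comp_id]
  have : pullback.snd (pullback.fst q h) (pullback.fst q h) z ∈ Set.range σ' := by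
    refine ⟨((W.ι ≫ pullback.snd (pullback.fst q h) (pullback.fst q h)) ≫ pullback.snd q h) ⟨z, hzW⟩, ?_⟩
    rw [← Scheme.Hom.comp_apply, ← ha₂]
    rfl
  rwa [hz₂] at this

include hσ' hcoc in
theorem exists_section (hh : Function.Surjective h)
    (hquot : Topology.IsQuotientMap (pullback.fst q h)) :
    ∃ σ : T ⟶ Y, σ ≫ q = 𝟙 T ∧ σ' ≫ pullback.fst q h = h ≫ σ := by
  haveI := isOpenImmersion_section q h σ' hσ'
  have hsat : (pullback.fst q h) ⁻¹' ((pullback.fst q h) '' Set.range σ') = Set.range σ' := by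
    ext y₂
    constructor
    · rintro ⟨y₁, h₁, hy⟩
      exact saturated q h σ' hσ' hcoc y₁ y₂ hy h₁
    · intro h₂
      exact ⟨y₂, h₂, rfl⟩
  have hopen : IsOpen ((pullback.fst q h) '' Set.range σ') := by
    rw [← hquot.isOpen_preimage, hsat]
    exact σ'.isOpenEmbedding.isOpen_range
  let Γ : Y.Opens := ⟨_, hopen⟩
  have hΓ : ∀ y' : ↥(pullback q h), pullback.fst q h y' ∈ Γ ↔ y' ∈ Set.range σ' := by
    intro y'
    exact Set.ext_iff.mp hsat y'
  have P3 : ∀ {W : Scheme.{u}} (a : W ⟶ Γ) (c : W ⟶ T'), a ≫ Γ.ι ≫ q = c ≫ h →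
      a ≫ Γ.ι = c ≫ σ' ≫ pullback.fst q h := by
    intro W a c hac
    let a' : W ⟶ pullback q h := pullback.lift (a ≫ Γ.ι) c (by rw [Category.assoc]; exact hac)
    have ha'₁ : a' ≫ pullback.fst q h = a ≫ Γ.ι := pullback.lift_fst _ _ _
    have ha'₂ : a' ≫ pullback.snd q h = c := pullback.lift_snd _ _ _
    have := eq_of_range_subset q h σ' hσ' a' (by
      rintro _ ⟨w, rfl⟩
      rw [← hΓ, ← Scheme.Hom.comp_apply, ha'₁, Scheme.Hom.comp_apply]
      exact (a w).2)
    rw [ha'₂] at this
    rw [← ha'₁, this, Category.assoc]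
  let qΓ : (Γ : Scheme) ⟶ T := Γ.ι ≫ q
  haveI : Etale qΓ := inferInstance
  haveI : Surjective qΓ := ⟨fun t => by
    obtain ⟨t', rfl⟩ := hh t
    refine ⟨⟨pullback.fst q h (σ' t'), (hΓ _).mpr ⟨t', rfl⟩⟩, ?_⟩
    show q (pullback.fst q h (σ' t')) = h t'
    rw [← Scheme.Hom.comp_apply, ← Scheme.Hom.comp_apply, pullback.condition,
      reassoc_of% hσ']⟩
  haveI : Mono qΓ := by
    rw [← pullback.isIso_diagonal_iff, isIso_iff_isOpenImmersion_and_surjective]
    refine ⟨inferInstance, ⟨fun x => ?_⟩⟩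
    obtain ⟨t', ht'⟩ := hh ((pullback.fst qΓ qΓ ≫ qΓ) x)
    obtain ⟨x', hx', -⟩ := Scheme.Pullback.exists_preimage_pullback
      (f := pullback.fst qΓ qΓ ≫ qΓ) (g := h) x t' ht'.symm
    have ea := P3 (pullback.fst (pullback.fst qΓ qΓ ≫ qΓ) h ≫ pullback.fst qΓ qΓ)
      (pullback.snd (pullback.fst qΓ qΓ ≫ qΓ) h) (by
        rw [← pullback.condition]; simp only [Category.assoc]; rfl)
    have eb := P3 (pullback.fst (pullback.fst qΓ qΓ ≫ qΓ) h ≫ pullback.snd qΓ qΓ)
      (pullback.snd (pullback.fst qΓ qΓ ≫ qΓ) h) (by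
        rw [← pullback.condition]
        have : pullback.snd qΓ qΓ ≫ Γ.ι ≫ q = pullback.fst qΓ qΓ ≫ qΓ := pullback.condition.symm
        simp only [Category.assoc]
        rw [this])
    have eab : pullback.fst (pullback.fst qΓ qΓ ≫ qΓ) h ≫ pullback.fst qΓ qΓ =
        pullback.fst (pullback.fst qΓ qΓ ≫ qΓ) h ≫ pullback.snd qΓ qΓ := by
      rw [← cancel_mono Γ.ι, ea, eb]
    have eπ : pullback.fst (pullback.fst qΓ qΓ ≫ qΓ) h =
        (pullback.fst (pullback.fst qΓ qΓ ≫ qΓ) h ≫ pullback.fst qΓ qΓ) ≫ pullback.diagonal qΓ := by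
      apply pullback.hom_ext
      · rw [Category.assoc, pullback.diagonal_fst, Category.comp_id]
      · rw [Category.assoc, pullback.diagonal_snd, Category.comp_id, eab]
    refine ⟨(pullback.fst (pullback.fst qΓ qΓ ≫ qΓ) h ≫ pullback.fst qΓ qΓ) x', ?_⟩
    rw [← Scheme.Hom.comp_apply, ← eπ, hx']
  haveI : IsOpenImmersion qΓ := IsOpenImmersion.of_flat_of_mono qΓ
  haveI : IsIso qΓ := (isIso_iff_isOpenImmersion_and_surjective qΓ).mpr ⟨inferInstance, inferInstance⟩
  refine ⟨inv qΓ ≫ Γ.ι, ?_, ?_⟩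
  · rw [Category.assoc]
    exact IsIso.inv_hom_id qΓ
  · have := P3 (h ≫ inv qΓ) (𝟙 T') (by
      rw [Category.assoc]
      show h ≫ inv qΓ ≫ qΓ = _
      rw [IsIso.inv_hom_id, Category.comp_id, Category.id_comp])
    rw [Category.id_comp] at this
    rw [← this, Category.assoc]

end descent

end Groth.Agent.Lib.Helper11.UD1
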