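import Groth.Agent.Lib.Helper11.UD1

/-!
# Helper11 UD2: descent of morphisms into étale schemes along submersive surjections
-/

set_option autoImplicit false

namespace Groth.Agent.Lib.Helper11.UD2

open CategoryTheory CategoryTheory.Limits AlgebraicGeometry

universe u

theorem existsUnique_hom {S S' X Y : Scheme.{u}} (g : S' ⟶ S)
    (p : X ⟶ S) (q : Y ⟶ S) [Etale q]
    (hh : Function.Surjective (pullback.fst p g))
    (hquot : Topology.IsQuotientMap (pullback.fst (pullback.snd q p) (pullback.fst p g)))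
    (tau : pullback p g ⟶ Y) (htau : tau ≫ q = pullback.fst p g ≫ p)
    (hcoc : pullback.fst (pullback.fst p g) (pullback.fst p g) ≫ tau =
      pullback.snd (pullback.fst p g) (pullback.fst p g) ≫ tau) :
    ∃! u : X ⟶ Y, u ≫ q = p ∧ tau = pullback.fst p g ≫ u := by
  haveI : Surjective (pullback.fst p g) := ⟨hh⟩
  let tau' : pullback p g ⟶ pullback q p := pullback.lift tau (pullback.fst p g) htau
  have htau'₁ : tau' ≫ pullback.fst q p = tau := pullback.lift_fst _ _ _
  have htau'₂ : tau' ≫ pullback.snd q p = pullback.fst p g := pullback.lift_snd _ _ _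
  let σ' : pullback p g ⟶ pullback (pullback.snd q p) (pullback.fst p g) :=
    pullback.lift tau' (𝟙 _) (by rw [htau'₂, Category.id_comp])
  have hσ'₁ : σ' ≫ pullback.fst (pullback.snd q p) (pullback.fst p g) = tau' := pullback.lift_fst _ _ _
  have hσ'₂ : σ' ≫ pullback.snd (pullback.snd q p) (pullback.fst p g) = 𝟙 _ := pullback.lift_snd _ _ _
  obtain ⟨σ, hσ1, hσ2⟩ := UD1.exists_section (pullback.snd q p) (pullback.fst p g) σ' hσ'₂ (by
    rw [hσ'₁]
    apply pullback.hom_ext
    · rw [Category.assoc, Category.assoc, htau'₁, hcoc]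
    · rw [Category.assoc, Category.assoc, htau'₂, pullback.condition]) hh hquot
  rw [hσ'₁] at hσ2
  refine ⟨σ ≫ pullback.fst q p, ⟨?_, ?_⟩, ?_⟩
  · rw [Category.assoc, pullback.condition, reassoc_of% hσ1]
  · rw [← reassoc_of% hσ2, htau'₁]
  · rintro u ⟨hu1, hu2⟩
    refine UD1.hom_ext_of_surjective q (pullback.fst p g) _ _ ?_ ?_
    · rw [hu1, Category.assoc, pullback.condition, reassoc_of% hσ1]
    · rw [← hu2, ← reassoc_of% hσ2, htau'₁]

/-- a base change of `p` along an étale map is a quotient map as soon as the standard ones are -/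
theorem isQuotientMap_of_isPullback {X S : Scheme.{u}} (p : X ⟶ S)
    (hp : ∀ U : Over S, Etale U.hom → Topology.IsQuotientMap (pullback.snd p U.hom).base)
    {Z Z' : Scheme.{u}} (a : Z' ⟶ Z) (b : Z' ⟶ X) (c : Z ⟶ S) [Etale c]
    (sq : IsPullback a b c p) : Topology.IsQuotientMap a := by
  have e : sq.flip.isoPullback.hom ≫ pullback.snd p c = a := sq.flip.isoPullback_hom_snd
  have h1 := hp (Over.mk c) ‹_›
  have h2 : Topology.IsQuotientMap (sq.flip.isoPullback.hom ≫ pullback.snd p c) := by
    rw [Scheme.Hom.comp_base]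
    exact h1.comp (Scheme.homeoOfIso sq.flip.isoPullback).isQuotientMap
  rw [e] at h2
  exact h2

end Groth.Agent.Lib.Helper11.UD2
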