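import Groth.Agent.Lib.Helper11.UD3
import Groth.Prelude.Def_SGA1
import Groth.Prelude.Def_FEt

/-!
# Helper11 UD4: full faithfulness of restriction of finite étale covers along universally
submersive morphisms with geometrically connected fibres
-/

set_option autoImplicit false

namespace Groth.Agent.Lib.Helper11.UD4

open CategoryTheory CategoryTheory.Limits AlgebraicGeometry

universe u

theorem univSubmersive_of_universallyClosed {X S : Scheme.{u}} (f : X ⟶ S) [UniversallyClosed f]
    [Surjective f] : SGA1.UnivSubmersive f := by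
  intro X' Y' i₁ i₂ f' sq
  haveI : UniversallyClosed f' := MorphismProperty.of_isPullback (P := @UniversallyClosed) sq.flip ‹_›
  haveI : Surjective f' := MorphismProperty.of_isPullback (P := @Surjective) sq.flip ‹_›
  exact f'.isClosedMap.isQuotientMap f'.continuous f'.surjective

theorem restrict_full_faithful {X S : Scheme.{u}} (f : X ⟶ S) (hf : SGA1.UnivSubmersive f)
    (hconn : ∀ (K : Type u) [Field K] [IsAlgClosed K] (ξ : Spec (CommRingCat.of K) ⟶ S),
      ConnectedSpace ↑(pullback f ξ)) :
    (FEt.restrict f).Full ∧ (FEt.restrict f).Faithful := by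
  have key : ∀ A B : FEt.Cat S, Function.Surjective (pullback.fst A.hom f) ∧
      Topology.IsQuotientMap (pullback.fst (pullback.snd B.hom A.hom) (pullback.fst A.hom f)) := by
    intro A B
    exact ⟨(hf (pullback.snd A.hom f) A.hom (pullback.fst A.hom f)
        (IsPullback.of_hasPullback A.hom f)).surjective,
      hf _ _ _ ((IsPullback.of_hasPullback (pullback.snd B.hom A.hom) (pullback.fst A.hom f)).paste_vert
        (IsPullback.of_hasPullback A.hom f))⟩
  constructor
  · refine ⟨fun {A B} k => ?_⟩
    haveI : Etale B.hom := B.prop.2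
    obtain ⟨hh, hquot⟩ := key A B
    let k' : pullback A.hom f ⟶ pullback B.hom f := k.left
    have hk : k' ≫ pullback.snd B.hom f = pullback.snd A.hom f := Over.w k.hom
    have htau : (k' ≫ pullback.fst B.hom f) ≫ B.hom = pullback.fst A.hom f ≫ A.hom := by
      rw [Category.assoc, pullback.condition, reassoc_of% hk, pullback.condition]
    obtain ⟨u, ⟨hu1, hu2⟩, -⟩ := UD2.existsUnique_hom f A.hom B.hom hh hquot
      (k' ≫ pullback.fst B.hom f) htau
      (UD3.cocycle_of_connected f hconn A.hom B.hom _ htau)
    refine ⟨MorphismProperty.Over.homMk u hu1 trivial, ?_⟩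
    apply MorphismProperty.Over.Hom.ext
    apply pullback.hom_ext
    · refine (pullback.lift_fst _ _ _).trans ?_
      exact hu2.symm
    · refine (pullback.lift_snd _ _ _).trans ?_
      exact hk.symm
  · refine ⟨fun {A B} u₁ u₂ h12 => ?_⟩
    haveI : Etale B.hom := B.prop.2
    obtain ⟨hh, -⟩ := key A B
    haveI : Surjective (pullback.fst A.hom f) := ⟨hh⟩
    apply MorphismProperty.Over.Hom.ext
    have h12' := congrArg (fun k => k.left ≫ pullback.fst B.hom f) h12
    have e₁ : ((FEt.restrict f).map u₁).left ≫ pullback.fst B.hom f =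
        pullback.fst A.hom f ≫ u₁.left := pullback.lift_fst _ _ _
    have e₂ : ((FEt.restrict f).map u₂).left ≫ pullback.fst B.hom f =
        pullback.fst A.hom f ≫ u₂.left := pullback.lift_fst _ _ _
    refine UD1.hom_ext_of_surjective B.hom (pullback.fst A.hom f) _ _ ?_ ?_
    · rw [Over.w u₁.hom, Over.w u₂.hom]
    · rw [← e₁, ← e₂]
      exact h12'

end Groth.Agent.Lib.Helper11.UD4
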