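import Groth.Agent.Lib.Helper11.UD3
import Groth.Prelude.Def_SGA1
import Mathlib.AlgebraicGeometry.ZariskisMainTheorem
import Mathlib.RingTheory.Unramified.LocalStructure

/-!
# Helper11 UD5: descent of universally closed / separated / quasi-compact / finite along
universally submersive morphisms (for étale morphisms)
-/

set_option autoImplicit false

namespace Groth.Agent.Lib.Helper11.UD5

open CategoryTheory CategoryTheory.Limits AlgebraicGeometry

universe u

theorem comp_eq_of_subset_E {Z Y S : Scheme.{u}} (q : Y ⟶ S) [Etale q] (a b : Z ⟶ Y)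
    (hab : a ≫ q = b ≫ q) (U : Z.Opens) (hU : (U : Set Z) ⊆ UD3.E q a b hab) :
    U.ι ≫ a = U.ι ≫ b := by
  have hab' : (U.ι ≫ a) ≫ q = (U.ι ≫ b) ≫ q := by rw [Category.assoc, Category.assoc, hab]
  apply UD3.eq_of_E_eq_univ q (U.ι ≫ a) (U.ι ≫ b) hab'
  have e : pullback.lift (U.ι ≫ a) (U.ι ≫ b) hab' = U.ι ≫ pullback.lift a b hab := by
    apply pullback.hom_ext
    · rw [pullback.lift_fst, Category.assoc, pullback.lift_fst]
    · rw [pullback.lift_snd, Category.assoc, pullback.lift_snd]
  ext z
  simp only [Set.mem_univ, iff_true]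
  show pullback.lift (U.ι ≫ a) (U.ι ≫ b) hab' z ∈ Set.range _
  rw [e, Scheme.Hom.comp_apply]
  exact hU z.2

theorem locallyQuasiFinite_of_etale {X Y : Scheme.{u}} (f : X ⟶ Y) [Etale f] :
    LocallyQuasiFinite f := by
  refine ⟨fun {U} hU {V} hV e => ?_⟩
  have h := HasRingHomProperty.appLE @Etale f ‹_› ⟨U, hU⟩ ⟨V, hV⟩ e
  algebraize [(f.appLE U V e).hom]
  show Algebra.QuasiFinite _ _
  infer_instance

section

variable {X S S' : Scheme.{u}} (g : S' ⟶ S) (hg : SGA1.UnivSubmersive g) (f : X ⟶ S)

include hg

theorem surjective_of_univSubmersive : Function.Surjective g :=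
  (hg (𝟙 S') (𝟙 S) g (IsPullback.id_vert g)).surjective

theorem universallyClosed_descent [UniversallyClosed (pullback.snd f g)] :
    UniversallyClosed f := by
  rw [universallyClosed_eq]
  intro XT T i₁ i₂ fT sq
  let gT := pullback.fst i₂ g
  have hq : Topology.IsQuotientMap gT :=
    hg (pullback.snd i₂ g) i₂ gT (IsPullback.of_hasPullback i₂ g)
  let a : pullback fT gT ⟶ pullback f g :=
    pullback.lift (pullback.fst fT gT ≫ i₁) (pullback.snd fT gT ≫ pullback.snd i₂ g) (by
      rw [Category.assoc, ← sq.w, pullback.condition_assoc, Category.assoc, pullback.condition])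
  have e1 : a ≫ pullback.fst f g = pullback.fst fT gT ≫ i₁ := pullback.lift_fst _ _ _
  have e2 : pullback.snd i₂ g ≫ g = gT ≫ i₂ := pullback.condition.symm
  have hleft : IsPullback a (pullback.snd fT gT) (pullback.snd f g) (pullback.snd i₂ g) := by
    refine IsPullback.of_right ?_ (pullback.lift_snd _ _ _) (IsPullback.of_hasPullback f g)
    rw [e1, e2]
    exact (IsPullback.of_hasPullback fT gT).paste_horiz sq.flip
  haveI : UniversallyClosed (pullback.snd fT gT) :=
    MorphismProperty.of_isPullback (P := @UniversallyClosed) hleft ‹_›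
  intro Z hZ
  rw [← hq.isClosed_preimage]
  have := Scheme.image_preimage_eq_of_isPullback (IsPullback.of_hasPullback fT gT) Z
  rw [← this]
  exact (pullback.snd fT gT).isClosedMap _ (hZ.preimage (pullback.fst fT gT).continuous)

theorem isSeparated_descent [Etale f] [IsSeparated (pullback.snd f g)] : IsSeparated f := by
  let c : pullback f f ⟶ S := pullback.fst f f ≫ f
  let pr : pullback c g ⟶ pullback f f := pullback.fst c g
  have hq : Topology.IsQuotientMap pr :=
    hg (pullback.snd c g) c pr (IsPullback.of_hasPullback c g)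
  let a : pullback c g ⟶ X := pr ≫ pullback.fst f f
  let b : pullback c g ⟶ X := pr ≫ pullback.snd f f
  have hab : a ≫ f = b ≫ f := by simp only [a, b, Category.assoc, pullback.condition]
  have ha : a ≫ f = pullback.snd c g ≫ g := by
    simp only [a, Category.assoc]; exact pullback.condition
  have hb : b ≫ f = pullback.snd c g ≫ g := hab ▸ ha
  let a' : pullback c g ⟶ pullback f g := pullback.lift a (pullback.snd c g) ha
  let b' : pullback c g ⟶ pullback f g := pullback.lift b (pullback.snd c g) hb
  have hab' : a' ≫ pullback.snd f g = b' ≫ pullback.snd f g := by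
    rw [pullback.lift_snd, pullback.lift_snd]
  have hE'closed : IsClosed (UD3.E (pullback.snd f g) a' b' hab') :=
    (pullback.diagonal (pullback.snd f g)).isClosedEmbedding.isClosed_range.preimage
      (pullback.lift a' b' hab').continuous
  have hEE' : UD3.E f a b hab = UD3.E (pullback.snd f g) a' b' hab' := by
    apply subset_antisymm
    · let U : (pullback c g).Opens := ⟨UD3.E f a b hab, UD3.isOpen_E f a b hab⟩
      have h1 : U.ι ≫ a = U.ι ≫ b := comp_eq_of_subset_E f a b hab U (fun _ h => h)
      have h2 : U.ι ≫ a' = U.ι ≫ b' := by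
        apply pullback.hom_ext
        · rw [Category.assoc, Category.assoc, pullback.lift_fst, pullback.lift_fst, h1]
        · rw [Category.assoc, Category.assoc, pullback.lift_snd, pullback.lift_snd]
      have := UD3.range_subset_E (pullback.snd f g) a' b' hab' U.ι h2
      rw [Scheme.Opens.range_ι] at this
      exact this
    · let U : (pullback c g).Opens := ⟨UD3.E (pullback.snd f g) a' b' hab',
        UD3.isOpen_E (pullback.snd f g) a' b' hab'⟩
      have h1 : U.ι ≫ a' = U.ι ≫ b' :=
        comp_eq_of_subset_E (pullback.snd f g) a' b' hab' U (fun _ h => h)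
      have h2 : U.ι ≫ a = U.ι ≫ b := by
        have := congrArg (· ≫ pullback.fst f g) h1
        simp only [Category.assoc] at this
        rw [pullback.lift_fst, pullback.lift_fst] at this
        exact this
      have := UD3.range_subset_E f a b hab U.ι h2
      rw [Scheme.Opens.range_ι] at this
      exact this
  have hlift : pullback.lift a b hab = pr := by
    apply pullback.hom_ext
    · rw [pullback.lift_fst]
    · rw [pullback.lift_snd]
  have hE : UD3.E f a b hab = pr ⁻¹' Set.range (pullback.diagonal f) := by
    unfold UD3.E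
    rw [hlift]
  have hclosed : IsClosed (Set.range (pullback.diagonal f)) := by
    rw [← hq.isClosed_preimage, ← hE, hEE']
    exact hE'closed
  haveI : IsOpenImmersion (pullback.diagonal f) := inferInstance
  exact ⟨IsClosedImmersion.of_isPreimmersion _ hclosed⟩

theorem quasiCompact_descent [QuasiCompact g] [QuasiCompact (pullback.snd f g)] :
    QuasiCompact f := by
  haveI : Surjective g := ⟨surjective_of_univSubmersive g hg⟩
  have hs : Function.Surjective (pullback.fst f g) := (inferInstance : Surjective (pullback.fst f g)).surj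
  refine ⟨fun U hU hUc => ?_⟩
  have h1 : IsCompact (g ⁻¹' U) := QuasiCompact.isCompact_preimage (f := g) U hU hUc
  have h2 : IsCompact (pullback.snd f g ⁻¹' (g ⁻¹' U)) :=
    QuasiCompact.isCompact_preimage (f := pullback.snd f g) _ (hU.preimage g.continuous) h1
  have h3 : pullback.fst f g '' (pullback.snd f g ⁻¹' (g ⁻¹' U)) = f ⁻¹' U := by
    have : pullback.snd f g ⁻¹' (g ⁻¹' U) = pullback.fst f g ⁻¹' (f ⁻¹' U) := by
      ext z
      simp only [Set.mem_preimage]
      rw [← Scheme.Hom.comp_apply, ← Scheme.Hom.comp_apply, pullback.condition]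
    rw [this, Set.image_preimage_eq _ hs]
  rw [← h3]
  exact h2.image (pullback.fst f g).continuous

theorem isFinite_descent [QuasiCompact g] [Etale f] [IsFinite (pullback.snd f g)] :
    IsFinite f := by
  haveI : UniversallyClosed f := universallyClosed_descent g hg f
  haveI : IsSeparated f := isSeparated_descent g hg f
  haveI : QuasiCompact f := quasiCompact_descent g hg f
  haveI : LocallyQuasiFinite f := locallyQuasiFinite_of_etale f
  haveI : IsProper f := {}
  exact IsFinite.of_isProper_of_locallyQuasiFinite f

end

end Groth.Agent.Lib.Helper11.UD5
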