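import Groth.Agent.Lib.Helper11.UD4
import Groth.Agent.Lib.Helper11.FBaseLib

/-!
# Helper11 UD6: pulling back finite étale `k`-schemes to a geometrically connected `k`-scheme
is fully faithful
-/

set_option autoImplicit false

namespace Groth.Agent.Lib.Helper11.UD6

open CategoryTheory CategoryTheory.Limits AlgebraicGeometry

universe u

theorem univSubmersive_of_universallyOpen {X S : Scheme.{u}} (f : X ⟶ S) [UniversallyOpen f]
    [Surjective f] : SGA1.UnivSubmersive f := by
  intro X' Y' i₁ i₂ f' sq
  haveI : UniversallyOpen f' := MorphismProperty.of_isPullback (P := @UniversallyOpen) sq.flip ‹_›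
  haveI : Surjective f' := MorphismProperty.of_isPullback (P := @Surjective) sq.flip ‹_›
  exact f'.isOpenMap.isQuotientMap f'.continuous f'.surjective

theorem restrict_full_faithful_field (k : Type u) [Field k] {X : Scheme.{u}}
    (f : X ⟶ Spec (CommRingCat.of k))
    [ConnectedSpace ↥(pullback f (Spec.map (CommRingCat.ofHom (algebraMap k (AlgebraicClosure k)))))] :
    (FEt.restrict f).Full ∧ (FEt.restrict f).Faithful := by
  haveI : Surjective f := by
    obtain ⟨z⟩ := (inferInstance : Nonempty
      ↥(pullback f (Spec.map (CommRingCat.ofHom (algebraMap k (AlgebraicClosure k))))))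
    exact ⟨fun y => ⟨pullback.fst f _ z, Subsingleton.elim _ _⟩⟩
  apply UD4.restrict_full_faithful f (univSubmersive_of_universallyOpen f)
  intro Ω _ _ ξ
  obtain ⟨φ, rfl⟩ := Spec.map_surjective ξ
  algebraize [φ.hom]
  let ψ : AlgebraicClosure k →ₐ[k] Ω := IsAlgClosed.lift
  have hgc : GeometricallyConnected (pullback.snd f
      (Spec.map (CommRingCat.ofHom (algebraMap k (AlgebraicClosure k))))) :=
    FBaseLib.geometricallyConnected_of_connectedSpace _
  have h1 : ConnectedSpace ↥(pullback (pullback.snd f
      (Spec.map (CommRingCat.ofHom (algebraMap k (AlgebraicClosure k)))))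
      (Spec.map (CommRingCat.ofHom ψ.toRingHom))) :=
    pullback_of_geometrically hgc.1 Ω _
  have e : Spec.map (CommRingCat.ofHom ψ.toRingHom) ≫
      Spec.map (CommRingCat.ofHom (algebraMap k (AlgebraicClosure k))) = Spec.map φ := by
    rw [← Spec.map_comp]
    congr 1
    ext x
    exact ψ.commutes x
  rw [← e]
  let i := pullbackLeftPullbackSndIso f
    (Spec.map (CommRingCat.ofHom (algebraMap k (AlgebraicClosure k))))
    (Spec.map (CommRingCat.ofHom ψ.toRingHom))
  exact i.hom.homeomorph.surjective.connectedSpace i.hom.continuous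

end Groth.Agent.Lib.Helper11.UD6
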