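import Mathlib

/-!
# Helper11 UD7: closure of the image of a closed set under a quasi-compact morphism consists of
specializations; descent of topological embeddings along flat surjective morphisms
-/

set_option autoImplicit false

namespace Groth.Agent.Lib.Helper11.UD7

open CategoryTheory CategoryTheory.Limits AlgebraicGeometry

universe u

theorem exists_specializes_of_mem_closure_comap {A R : Type*} [CommRing A] [CommRing R]
    (φ : A →+* R) (Z : Set (PrimeSpectrum R)) (hZ : IsClosed Z) (y : PrimeSpectrum A)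
    (hy : y ∈ closure (PrimeSpectrum.comap φ '' Z)) :
    ∃ z ∈ Z, PrimeSpectrum.comap φ z ⤳ y := by
  obtain ⟨I, rfl⟩ := (PrimeSpectrum.isClosed_iff_zeroLocus_ideal Z).mp hZ
  rw [PrimeSpectrum.closure_image_comap_zeroLocus] at hy
  have hy' : I.comap φ ≤ y.asIdeal := hy
  obtain ⟨p, hp, hpy⟩ := Ideal.exists_minimalPrimes_le hy'
  obtain ⟨p', hp'prime, hIp', hp'⟩ := Ideal.exists_comap_eq_of_mem_minimalPrimes φ p hp
  refine ⟨⟨p', hp'prime⟩, hIp', ?_⟩
  rw [← PrimeSpectrum.le_iff_specializes]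
  show (p'.comap φ) ≤ y.asIdeal
  rw [hp']
  exact hpy

theorem exists_specializes_of_mem_closure_spec {A R : CommRingCat.{u}} (φ : A ⟶ R)
    (Z : Set (Spec R)) (hZ : IsClosed Z) (y : Spec A)
    (hy : y ∈ closure ((Spec.map φ) '' Z)) :
    ∃ z ∈ Z, (Spec.map φ) z ⤳ y :=
  exists_specializes_of_mem_closure_comap φ.hom Z hZ y hy

theorem exists_specializes_of_mem_closure {X Y : Scheme.{u}} (f : X ⟶ Y) [QuasiCompact f]
    (Z : Set X) (hZ : IsClosed Z) (y : Y) (hy : y ∈ closure (f '' Z)) :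
    ∃ z ∈ Z, f z ⤳ y := by
  obtain ⟨_, ⟨U, hU, rfl⟩, hyU, -⟩ := Y.isBasis_affineOpens.exists_subset_of_mem_open
    (Set.mem_univ y) isOpen_univ
  have hVc : IsCompact ((f ⁻¹ᵁ U : X.Opens) : Set X) :=
    QuasiCompact.isCompact_preimage (f := f) _ U.2 hU.isCompact
  obtain ⟨R, g, hg⟩ := isCompact_iff_exists.mp hVc
  have hrange : Set.range (g ≫ f) ⊆ Set.range hU.fromSpec := by
    rw [hU.range_fromSpec]
    rintro _ ⟨r, rfl⟩
    have : g r ∈ ((f ⁻¹ᵁ U : X.Opens) : Set X) := by rw [← hg]; exact ⟨r, rfl⟩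
    rw [Scheme.Hom.comp_apply]
    exact this
  let k : Spec R ⟶ Spec Γ(Y, U) := IsOpenImmersion.lift hU.fromSpec (g ≫ f) hrange
  have hk : k ≫ hU.fromSpec = g ≫ f := IsOpenImmersion.lift_fac _ _ _
  obtain ⟨φ, hφ⟩ := Spec.map_surjective k
  have hyr : y ∈ Set.range hU.fromSpec := by rw [hU.range_fromSpec]; exact hyU
  obtain ⟨y', rfl⟩ := hyr
  have hmem : y' ∈ closure (k '' (g ⁻¹' Z)) := by
    rw [hU.fromSpec.isOpenEmbedding.isInducing.closure_eq_preimage_closure_image]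
    show hU.fromSpec y' ∈ closure (hU.fromSpec '' (k '' (g ⁻¹' Z)))
    have e1 : hU.fromSpec '' (k '' (g ⁻¹' Z)) = f '' Z ∩ (U : Set Y) := by
      ext w
      constructor
      · rintro ⟨_, ⟨r, hr, rfl⟩, rfl⟩
        rw [← Scheme.Hom.comp_apply, hk, Scheme.Hom.comp_apply]
        refine ⟨⟨g r, hr, rfl⟩, ?_⟩
        have : g r ∈ ((f ⁻¹ᵁ U : X.Opens) : Set X) := by rw [← hg]; exact ⟨r, rfl⟩
        exact this
      · rintro ⟨⟨z, hz, rfl⟩, hzU⟩
        have : z ∈ Set.range g := by rw [hg]; exact hzU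
        obtain ⟨r, rfl⟩ := this
        refine ⟨k r, ⟨r, hz, rfl⟩, ?_⟩
        rw [← Scheme.Hom.comp_apply, hk, Scheme.Hom.comp_apply]
    rw [e1]
    exact U.2.closure_inter ⟨hy, hyU⟩
  rw [← hφ] at hmem
  obtain ⟨r, hrZ, hr⟩ := exists_specializes_of_mem_closure_spec φ (g ⁻¹' Z)
    (hZ.preimage g.continuous) y' hmem
  refine ⟨g r, hrZ, ?_⟩
  have := hr.map hU.fromSpec.continuous
  rw [hφ, ← Scheme.Hom.comp_apply, hk, Scheme.Hom.comp_apply] at this
  exact this

theorem isEmbedding_descent {X Y Y' : Scheme.{u}} (f : X ⟶ Y)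
    (g : Y' ⟶ Y) [QuasiCompact f] [Flat g] [Surjective g]
    (h : Topology.IsEmbedding (pullback.snd f g).base) : Topology.IsEmbedding f.base := by
  have hinj : Function.Injective f := by
    intro x₁ x₂ h12
    obtain ⟨y', hy'⟩ := g.surjective (f x₁)
    obtain ⟨z₁, hz₁a, hz₁b⟩ := Scheme.Pullback.exists_preimage_pullback x₁ y' hy'.symm
    obtain ⟨z₂, hz₂a, hz₂b⟩ := Scheme.Pullback.exists_preimage_pullback x₂ y' (h12 ▸ hy'.symm)
    have : z₁ = z₂ := h.injective (hz₁b.trans hz₂b.symm)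
    rw [← hz₁a, ← hz₂a, this]
  refine ⟨⟨?_⟩, hinj⟩
  rw [TopologicalSpace.ext_iff_isClosed]
  intro Z
  rw [isClosed_induced_iff]
  constructor
  · intro hZ
    refine ⟨closure (f '' Z), isClosed_closure, ?_⟩
    apply subset_antisymm ?_ (fun z hz => subset_closure (Set.mem_image_of_mem _ hz))
    intro x hx
    obtain ⟨z, hzZ, hzx⟩ := exists_specializes_of_mem_closure f Z hZ (f x) hx
    obtain ⟨y', hy'⟩ := g.surjective (f x)
    rw [← hy'] at hzx
    obtain ⟨y₁', hy₁', hgy₁'⟩ := (Flat.generalizingMap g) hzx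
    obtain ⟨x', hx'1, hx'2⟩ := Scheme.Pullback.exists_preimage_pullback x y' hy'.symm
    obtain ⟨z', hz'1, hz'2⟩ := Scheme.Pullback.exists_preimage_pullback z y₁' hgy₁'.symm
    have hsp : z' ⤳ x' := h.isInducing.specializes_iff.mp (by
      show pullback.snd f g z' ⤳ pullback.snd f g x'
      rw [hz'2, hx'2]; exact hy₁')
    have hsp2 := hsp.map (pullback.fst f g).continuous
    rw [hz'1, hx'1] at hsp2
    exact hsp2.mem_closed hZ hzZ
  · rintro ⟨C, hC, rfl⟩
    exact hC.preimage f.continuous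

end Groth.Agent.Lib.Helper11.UD7
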