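import Mathlib
import Groth.Prelude.Def_Flat
import Groth.Agent.Lib.Helper11.GenColim
import Groth.Agent.Lib.Helper11.AWNRing2
import Groth.Agent.Lib.Helper11.UHTower2
import Groth.Agent.Lib.Helper11.SNRing
import Groth.Agent.S7402
import Groth.Agent.S7403

/-!
# Universal homeomorphisms are filtered colimits of finitely presented ones (helper11)
-/

set_option autoImplicit false
universe u
open CategoryTheory AlgebraicGeometry Polynomial TensorProduct

namespace Groth.Agent.Lib.Helper11.UHRing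

section basics

variable {A B W : Type u} [CommRing A] [CommRing B] [CommRing W]

theorem ResTriv.comp {φ : A →+* B} {ψ : B →+* W} (hφ : ResTriv φ) (hψ : ResTriv ψ) :
    ResTriv (ψ.comp φ) := by
  intro q c
  obtain ⟨b, t, ht, hc⟩ := hψ q c
  obtain ⟨a, s, hs, hb⟩ := hφ (PrimeSpectrum.comap ψ q) b
  obtain ⟨a', s', hs', ht'⟩ := hφ (PrimeSpectrum.comap ψ q) t
  have hs1 : ψ (φ s) ∉ q.asIdeal := hs
  have hs'1 : ψ (φ s') ∉ q.asIdeal := hs'
  have hb1 : ψ (φ s) * ψ b - ψ (φ a) ∈ q.asIdeal := by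
    have : ψ (φ s * b - φ a) ∈ q.asIdeal := hb
    rwa [map_sub, map_mul] at this
  have ht1 : ψ (φ s') * ψ t - ψ (φ a') ∈ q.asIdeal := by
    have : ψ (φ s' * t - φ a') ∈ q.asIdeal := ht'
    rwa [map_sub, map_mul] at this
  have ha' : ψ (φ a') ∉ q.asIdeal := by
    intro h
    have h2 : ψ (φ s') * ψ t ∈ q.asIdeal := by
      have := q.asIdeal.add_mem ht1 h
      rwa [sub_add_cancel] at this
    exact (q.isPrime.mem_or_mem h2).elim hs'1 ht
  refine ⟨s' * a, s * a', ?_, ?_⟩
  · show ψ (φ (s * a')) ∉ q.asIdeal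
    rw [map_mul, map_mul]
    exact fun h => (q.isPrime.mem_or_mem h).elim hs1 ha'
  · show ψ (φ (s * a')) * c - ψ (φ (s' * a)) ∈ q.asIdeal
    rw [map_mul, map_mul, map_mul, map_mul]
    have e : ψ (φ s) * ψ (φ a') * c - ψ (φ s') * ψ (φ a) =
        -(ψ (φ s) * c) * (ψ (φ s') * ψ t - ψ (φ a')) +
        ψ (φ s') * (ψ (φ s) * (ψ t * c - ψ b) + (ψ (φ s) * ψ b - ψ (φ a))) := by ring
    rw [e]
    exact q.asIdeal.add_mem (q.asIdeal.mul_mem_left _ ht1)
      (q.asIdeal.mul_mem_left _ (q.asIdeal.add_mem (q.asIdeal.mul_mem_left _ hc) hb1))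

end basics

section alg

variable {A B : Type u} [CommRing A] [CommRing B] [Algebra A B]
variable {C C' : Type u} [CommRing C] [CommRing C'] [Algebra A C] [Algebra A C']

theorem UH.algEquiv (e : C ≃ₐ[A] C') (h : UH (algebraMap A C)) : UH (algebraMap A C') := by
  have : algebraMap A C' = (e : C →+* C').comp (algebraMap A C) := by
    ext a; simp
  rw [this]
  exact h.comp (UH.of_bijective e.bijective)

theorem ResTriv.algEquiv (e : C ≃ₐ[A] C') (h : ResTriv (algebraMap A C)) :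
    ResTriv (algebraMap A C') := by
  have : algebraMap A C' = (e : C →+* C').comp (algebraMap A C) := by
    ext a; simp
  rw [this]
  exact h.comp_surjective e.surjective

theorem UH.tensor' (h : UH (algebraMap A C)) (h' : UH (algebraMap A C')) :
    UH (algebraMap A (C ⊗[A] C')) := by
  rw [IsScalarTower.algebraMap_eq A C (C ⊗[A] C')]
  exact h.comp (UH.tensor h')

theorem map_mem_resAlg {T : Type u} [CommRing T] [Algebra A T] (ι : C →ₐ[A] T)
    (h : ResTriv (algebraMap A C)) (q : PrimeSpectrum T) (c : C) :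
    ι c ∈ resAlg (A := A) q.asIdeal := by
  obtain ⟨a, s, hs, hsa⟩ := h (PrimeSpectrum.comap ι.toRingHom q) c
  refine ⟨a, s, ?_, ?_⟩
  · have : ι (algebraMap A C s) ∉ q.asIdeal := hs
    rwa [AlgHom.commutes] at this
  · have : ι (algebraMap A C s * c - algebraMap A C a) ∈ q.asIdeal := hsa
    rwa [map_sub, map_mul, AlgHom.commutes, AlgHom.commutes] at this

theorem ResTriv.tensor' (h : ResTriv (algebraMap A C)) (h' : ResTriv (algebraMap A C')) :
    ResTriv (algebraMap A (C ⊗[A] C')) := by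
  rw [resTriv_iff_resAlg]
  intro q
  rw [eq_top_iff]
  suffices H : ∀ z : C ⊗[A] C', z ∈ resAlg (A := A) q.asIdeal from fun z _ => H z
  intro z
  induction z using TensorProduct.induction_on with
  | zero => exact Subalgebra.zero_mem _
  | add x y hx hy => exact Subalgebra.add_mem _ hx hy
  | tmul c c' =>
    have e : c ⊗ₜ[A] c' = (Algebra.TensorProduct.includeLeft (R := A) (S := A) (A := C) (B := C') c) *
        (Algebra.TensorProduct.includeRight (R := A) (A := C) (B := C') c') := by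
      simp
    rw [e]
    exact Subalgebra.mul_mem _ (map_mem_resAlg _ h q c) (map_mem_resAlg _ h' q c')

theorem UH.quot (hB : UH (algebraMap A B)) (g : C →ₐ[A] B) (I : Ideal C)
    (hI : ∀ x ∈ I, g x = 0) (h : UH (algebraMap A C)) : UH (algebraMap A (C ⧸ I)) := by
  have hcomp : g.toRingHom.comp (algebraMap A C) = algebraMap A B := by
    ext a; exact g.commutes a
  have hg : UH g.toRingHom := UH.of_comp h (by rw [hcomp]; exact hB)
  rw [IsScalarTower.algebraMap_eq A C (C ⧸ I)]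
  refine h.comp (UH.of_surjective Ideal.Quotient.mk_surjective ?_)
  intro x hx
  rw [RingHom.mem_ker, Ideal.Quotient.algebraMap_eq, Ideal.Quotient.eq_zero_iff_mem] at hx
  exact hg.ker_le (hI x hx)

theorem ResTriv.quot (I : Ideal C) (h : ResTriv (algebraMap A C)) :
    ResTriv (algebraMap A (C ⧸ I)) := by
  rw [IsScalarTower.algebraMap_eq A C (C ⧸ I)]
  exact h.comp_surjective Ideal.Quotient.mk_surjective

end alg

section steps

variable {A B : Type u} [CommRing A] [CommRing B] [Algebra A B]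

theorem step_sq_cube (hB : UH (algebraMap A B)) (D : Type u) [CommRing D] [Algebra A D]
    (v : D →ₐ[A] B) (hfp : Algebra.FinitePresentation A D) (hUH : UH (algebraMap A D))
    (b : B) (d₂ d₃ : D) (h2 : v d₂ = b ^ 2) (h3 : v d₃ = b ^ 3) :
    ∃ (D₁ : Type u) (_ : CommRing D₁) (_ : Algebra A D₁) (v₁ : D₁ →ₐ[A] B),
      Algebra.FinitePresentation A D₁ ∧ UH (algebraMap A D₁) ∧
      (ResTriv (algebraMap A D) → ResTriv (algebraMap A D₁)) ∧
      v.range ≤ v₁.range ∧ b ∈ v₁.range := by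
  set I : Ideal D := Ideal.span {d₂ ^ 3 - d₃ ^ 2} with hI
  have hIfg : I.FG := ⟨{d₂ ^ 3 - d₃ ^ 2}, by simp [hI]⟩
  have hIv : ∀ x ∈ I, v x = 0 := by
    have hle : I ≤ RingHom.ker v.toRingHom := by
      rw [hI, Ideal.span_le]
      rintro _ rfl
      show v (d₂ ^ 3 - d₃ ^ 2) = 0
      rw [map_sub, map_pow, map_pow, h2, h3]; ring
    exact fun x hx => hle hx
  let v' : D ⧸ I →ₐ[A] B := Ideal.Quotient.liftₐ I v hIv
  set x : D ⧸ I := Ideal.Quotient.mk I d₂ with hx
  set y : D ⧸ I := Ideal.Quotient.mk I d₃ with hy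
  have hxy : x ^ 3 = y ^ 2 := by
    rw [hx, hy, ← map_pow, ← map_pow, Ideal.Quotient.eq]
    exact Ideal.subset_span rfl
  have hv'x : v' x = b ^ 2 := h2
  have hv'y : v' y = b ^ 3 := h3
  set S : Set (D ⧸ I)[X] := {X ^ 2 - C x, X ^ 3 - C y} with hS
  have hmem2 : X ^ 2 - C x ∈ S := by simp [hS]
  have hmem3 : X ^ 3 - C y ∈ S := by simp [hS]
  have hSfg : (Ideal.span S).FG :=
    Submodule.fg_span (by rw [hS]; exact (Set.finite_singleton _).insert _)
  have h12 := Groth.Agent.S7402.result (D ⧸ I) x y hxy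
  have hUH' : UH (algebraMap A (D ⧸ I)) := UH.quot hB v I hIv hUH
  have hUH1 : UH (algebraMap (D ⧸ I) ((D ⧸ I)[X] ⧸ Ideal.span S)) :=
    (isUnivHomeo_SpecMap_iff _).mp h12.1
  have hRT1 : ResTriv (algebraMap (D ⧸ I) ((D ⧸ I)[X] ⧸ Ideal.span S)) :=
    (residueFieldMap_surjective_iff _).mp h12.2
  haveI : Algebra.FinitePresentation A (D ⧸ I) := Algebra.FinitePresentation.quotient hIfg
  haveI : Algebra.FinitePresentation (D ⧸ I) ((D ⧸ I)[X] ⧸ Ideal.span S) :=
    Algebra.FinitePresentation.quotient hSfg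
  have hSv : ∀ f ∈ Ideal.span S, Polynomial.aevalTower v' b f = 0 := by
    have hle : Ideal.span S ≤ RingHom.ker (Polynomial.aevalTower v' b).toRingHom := by
      rw [Ideal.span_le]
      rintro f (rfl | rfl)
      · show Polynomial.aevalTower v' b (X ^ 2 - C x) = 0
        rw [map_sub, map_pow, Polynomial.aevalTower_X, Polynomial.aevalTower_C, hv'x, sub_self]
      · show Polynomial.aevalTower v' b (X ^ 3 - C y) = 0
        rw [map_sub, map_pow, Polynomial.aevalTower_X, Polynomial.aevalTower_C, hv'y, sub_self]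
    exact fun f hf => hle hf
  let v₁ : ((D ⧸ I)[X] ⧸ Ideal.span S) →ₐ[A] B :=
    Ideal.Quotient.liftₐ (Ideal.span S) (Polynomial.aevalTower v' b) hSv
  refine ⟨(D ⧸ I)[X] ⧸ Ideal.span S, inferInstance, inferInstance, v₁,
    Algebra.FinitePresentation.trans A (D ⧸ I) _, ?_, ?_, ?_, ?_⟩
  · rw [IsScalarTower.algebraMap_eq A (D ⧸ I) ((D ⧸ I)[X] ⧸ Ideal.span S)]
    exact hUH'.comp hUH1
  · intro hRT
    rw [IsScalarTower.algebraMap_eq A (D ⧸ I) ((D ⧸ I)[X] ⧸ Ideal.span S)]
    exact (ResTriv.quot I hRT).comp hRT1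
  · rintro _ ⟨d, rfl⟩
    refine ⟨Ideal.Quotient.mk (Ideal.span S) (C (Ideal.Quotient.mk I d)), ?_⟩
    show Polynomial.aevalTower v' b (C (Ideal.Quotient.mk I d)) = v d
    rw [Polynomial.aevalTower_C]
    rfl
  · refine ⟨Ideal.Quotient.mk (Ideal.span S) X, ?_⟩
    show Polynomial.aevalTower v' b X = b
    rw [Polynomial.aevalTower_X]

theorem step_prime (hB : UH (algebraMap A B)) (D : Type u) [CommRing D] [Algebra A D]
    (v : D →ₐ[A] B) (hfp : Algebra.FinitePresentation A D) (hUH : UH (algebraMap A D))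
    (b : B) (p : ℕ) (hp : p.Prime) (d₂ d₃ : D) (h2 : v d₂ = b ^ p) (h3 : v d₃ = (p : B) * b) :
    ∃ (D₁ : Type u) (_ : CommRing D₁) (_ : Algebra A D₁) (v₁ : D₁ →ₐ[A] B),
      Algebra.FinitePresentation A D₁ ∧ UH (algebraMap A D₁) ∧
      v.range ≤ v₁.range ∧ b ∈ v₁.range := by
  set I : Ideal D := Ideal.span {(p : D) ^ p * d₂ - d₃ ^ p} with hI
  have hIfg : I.FG := ⟨{(p : D) ^ p * d₂ - d₃ ^ p}, by simp [hI]⟩
  have hIv : ∀ x ∈ I, v x = 0 := by
    have hle : I ≤ RingHom.ker v.toRingHom := by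
      rw [hI, Ideal.span_le]
      rintro _ rfl
      show v ((p : D) ^ p * d₂ - d₃ ^ p) = 0
      rw [map_sub, map_mul, map_pow, map_pow, map_natCast, h2, h3]; ring
    exact fun x hx => hle hx
  let v' : D ⧸ I →ₐ[A] B := Ideal.Quotient.liftₐ I v hIv
  set x : D ⧸ I := Ideal.Quotient.mk I d₂ with hx
  set y : D ⧸ I := Ideal.Quotient.mk I d₃ with hy
  have hxy : ((p : ℕ) : D ⧸ I) ^ p * x = y ^ p := by
    rw [hx, hy, ← map_pow, ← map_natCast (Ideal.Quotient.mk I), ← map_pow, ← map_mul,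
      Ideal.Quotient.eq]
    exact Ideal.subset_span rfl
  have hv'x : v' x = b ^ p := h2
  have hv'y : v' y = (p : B) * b := h3
  set S : Set (D ⧸ I)[X] := {X ^ p - C x, C ((p : ℕ) : D ⧸ I) * X - C y} with hS
  have hSfg : (Ideal.span S).FG :=
    Submodule.fg_span (by rw [hS]; exact (Set.finite_singleton _).insert _)
  have h12 := Groth.Agent.S7403.result (D ⧸ I) p hp x y hxy
  have hUH' : UH (algebraMap A (D ⧸ I)) := UH.quot hB v I hIv hUH
  have hUH1 : UH (algebraMap (D ⧸ I) ((D ⧸ I)[X] ⧸ Ideal.span S)) :=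
    (isUnivHomeo_SpecMap_iff _).mp h12
  haveI : Algebra.FinitePresentation A (D ⧸ I) := Algebra.FinitePresentation.quotient hIfg
  haveI : Algebra.FinitePresentation (D ⧸ I) ((D ⧸ I)[X] ⧸ Ideal.span S) :=
    Algebra.FinitePresentation.quotient hSfg
  have hSv : ∀ f ∈ Ideal.span S, Polynomial.aevalTower v' b f = 0 := by
    have hle : Ideal.span S ≤ RingHom.ker (Polynomial.aevalTower v' b).toRingHom := by
      rw [Ideal.span_le]
      rintro f (rfl | rfl)
      · show Polynomial.aevalTower v' b (X ^ p - C x) = 0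
        rw [map_sub, map_pow, Polynomial.aevalTower_X, Polynomial.aevalTower_C, hv'x, sub_self]
      · show Polynomial.aevalTower v' b (C ((p : ℕ) : D ⧸ I) * X - C y) = 0
        rw [map_sub, map_mul, Polynomial.aevalTower_X, Polynomial.aevalTower_C,
          Polynomial.aevalTower_C, hv'y, map_natCast, sub_self]
    exact fun f hf => hle hf
  let v₁ : ((D ⧸ I)[X] ⧸ Ideal.span S) →ₐ[A] B :=
    Ideal.Quotient.liftₐ (Ideal.span S) (Polynomial.aevalTower v' b) hSv
  refine ⟨(D ⧸ I)[X] ⧸ Ideal.span S, inferInstance, inferInstance, v₁,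
    Algebra.FinitePresentation.trans A (D ⧸ I) _, ?_, ?_, ?_⟩
  · rw [IsScalarTower.algebraMap_eq A (D ⧸ I) ((D ⧸ I)[X] ⧸ Ideal.span S)]
    exact hUH'.comp hUH1
  · rintro _ ⟨d, rfl⟩
    refine ⟨Ideal.Quotient.mk (Ideal.span S) (C (Ideal.Quotient.mk I d)), ?_⟩
    show Polynomial.aevalTower v' b (C (Ideal.Quotient.mk I d)) = v d
    rw [Polynomial.aevalTower_C]
    rfl
  · refine ⟨Ideal.Quotient.mk (Ideal.span S) X, ?_⟩
    show Polynomial.aevalTower v' b X = b
    rw [Polynomial.aevalTower_X]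

theorem exists_tower_algebra (hB : UH (algebraMap A B)) (l : List B)
    (hl : TowerP (A := A) Step1 l) :
    ∃ (D : Type u) (_ : CommRing D) (_ : Algebra A D) (v : D →ₐ[A] B),
      Algebra.FinitePresentation A D ∧ UH (algebraMap A D) ∧
      (TowerP (A := A) Step0 l → ResTriv (algebraMap A D)) ∧
      Algebra.adjoin A {x | x ∈ l} ≤ v.range := by
  induction l using List.reverseRecOn with
  | nil =>
    refine ⟨A, inferInstance, inferInstance, Algebra.ofId A B, inferInstance, ?_, ?_, ?_⟩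
    · exact UH.of_bijective Function.bijective_id
    · intro _
      exact ResTriv.of_surjective Function.surjective_id
    · apply Algebra.adjoin_le
      intro x hx
      simp at hx
  | append_singleton l b ih =>
    obtain ⟨hl', hstep⟩ := TowerP.of_snoc stepMono1 hl
    obtain ⟨D, _, _, v, hfp, hUH, hRT, hle⟩ := ih hl'
    have hadj : ∀ (D₁ : Type u) [CommRing D₁] [Algebra A D₁] (v₁ : D₁ →ₐ[A] B),
        v.range ≤ v₁.range → b ∈ v₁.range →
        Algebra.adjoin A {x | x ∈ l ++ [b]} ≤ v₁.range := by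
      intro D₁ _ _ v₁ h1 h2
      apply Algebra.adjoin_le
      intro x hx
      rcases List.mem_append.mp hx with h | h
      · exact h1 (hle (Algebra.subset_adjoin h))
      · have : x = b := by simpa using h
        rw [this]
        exact h2
    by_cases h0 : Step0 b (Algebra.adjoin A {x | x ∈ l})
    · obtain ⟨d₂, hd₂⟩ := hle h0.1
      obtain ⟨d₃, hd₃⟩ := hle h0.2
      obtain ⟨D₁, _, _, v₁, hfp₁, hUH₁, hRT₁, hr, hb⟩ :=
        step_sq_cube hB D v hfp hUH b d₂ d₃ hd₂ hd₃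
      refine ⟨D₁, _, _, v₁, hfp₁, hUH₁, ?_, hadj D₁ v₁ hr hb⟩
      intro ht0
      exact hRT₁ (hRT (TowerP.of_snoc stepMono0 ht0).1)
    · rcases hstep with h | ⟨p, hp, hpb, hbp⟩
      · exact absurd h h0
      · obtain ⟨d₂, hd₂⟩ := hle hbp
        obtain ⟨d₃, hd₃⟩ := hle hpb
        obtain ⟨D₁, _, _, v₁, hfp₁, hUH₁, hr, hb⟩ :=
          step_prime hB D v hfp hUH b p hp d₂ d₃ hd₂ hd₃
        refine ⟨D₁, _, _, v₁, hfp₁, hUH₁, ?_, hadj D₁ v₁ hr hb⟩
        intro ht0
        exact absurd (TowerP.of_snoc stepMono0 ht0).2 h0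

theorem towerP_step1_of_step0 {l : List B} (h : TowerP (A := A) Step0 l) :
    TowerP (A := A) Step1 l := fun i => Or.inl (h i)

/-- the property "UH over `A`". -/
def PUH (A : Type u) [CommRing A] : ∀ (C : Type u) [CommRing C] [Algebra A C], Prop :=
  fun C _ _ => UH (algebraMap A C)

/-- the property "UH over `A` with trivial residue field extensions". -/
def PRT (A : Type u) [CommRing A] : ∀ (C : Type u) [CommRing C] [Algebra A C], Prop :=
  fun C _ _ => UH (algebraMap A C) ∧ ResTriv (algebraMap A C)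

theorem hyp_UH (hB : UH (algebraMap A B)) : GenColim.Hyp A B (PUH A) where
  iso C C' _ _ _ _ e h := UH.algEquiv e h
  tensor C C' _ _ _ _ _ _ h h' := UH.tensor' h h'
  quot C _ _ g I _ hI h := UH.quot hB g I hI h
  claim b := by
    obtain ⟨l, hl, hbl⟩ := towerUnion1_eq_top hB b
    obtain ⟨D, _, _, v, hfp, hUH, -, hle⟩ := exists_tower_algebra hB l hl
    obtain ⟨c, hc⟩ := hle hbl
    exact ⟨D, _, _, v, hfp, hUH, c, hc⟩

theorem hyp_RT (hB : UH (algebraMap A B)) (hRT : ResTriv (algebraMap A B)) :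
    GenColim.Hyp A B (PRT A) where
  iso C C' _ _ _ _ e h := ⟨UH.algEquiv e h.1, ResTriv.algEquiv e h.2⟩
  tensor C C' _ _ _ _ _ _ h h' := ⟨UH.tensor' h.1 h'.1, ResTriv.tensor' h.2 h'.2⟩
  quot C _ _ g I _ hI h := ⟨UH.quot hB g I hI h.1, ResTriv.quot I h.2⟩
  claim b := by
    obtain ⟨l, hl, hbl⟩ := towerUnion0_eq_top hB hRT b
    obtain ⟨D, _, _, v, hfp, hUH, hRT', hle⟩ :=
      exists_tower_algebra hB l (towerP_step1_of_step0 hl)
    obtain ⟨c, hc⟩ := hle hbl
    exact ⟨D, _, _, v, hfp, ⟨hUH, hRT' hl⟩, c, hc⟩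

end steps

end Groth.Agent.Lib.Helper11.UHRing
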