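import Mathlib
import Groth.Prelude.Def_Flat
import Groth.Prelude.Def_HTop2
import Groth.Agent.Lib.Helper11.UHSub
import Groth.Agent.Lib.Helper11.AWNScheme

/-!
# Factoring morphisms through finite universal homeomorphisms (helper11)
-/

set_option autoImplicit false
universe u
open CategoryTheory AlgebraicGeometry CategoryTheory.Limits

namespace Groth.Agent.Lib.Helper11.UHFactor

open Groth.Agent.Lib.Helper11.UHRing

theorem isUnivHomeo_comp {X Y Z : Scheme.{u}} (f : X ⟶ Y) (g : Y ⟶ Z)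
    (hf : FlatMor.IsUnivHomeo f) (hg : FlatMor.IsUnivHomeo g) : FlatMor.IsUnivHomeo (f ≫ g) := by
  rw [isUnivHomeo_iff] at hf hg ⊢
  obtain ⟨_, hf2, _⟩ := hf
  obtain ⟨_, hg2, _⟩ := hg
  exact ⟨inferInstance, MorphismProperty.comp_mem _ f g hf2 hg2, inferInstance⟩

theorem isUnivHomeo_of_comp_surjective {X Y Z : Scheme.{u}} (f : X ⟶ Y) (g : Y ⟶ Z)
    [Surjective f] (h : FlatMor.IsUnivHomeo (f ≫ g)) : FlatMor.IsUnivHomeo g := by
  rw [isUnivHomeo_iff] at h ⊢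
  obtain ⟨_, _, _⟩ := h
  exact ⟨UniversallyClosed.of_comp_surjective f g, universallyInjective_of_comp_surjective f g,
    Surjective.of_comp f g⟩

theorem isUnivHomeo_of_isClosedImmersion {X Y : Scheme.{u}} (f : X ⟶ Y) [IsClosedImmersion f]
    [Surjective f] : FlatMor.IsUnivHomeo f := by
  rw [isUnivHomeo_iff]
  exact ⟨inferInstance, inferInstance, inferInstance⟩

theorem injective_of_isUnivHomeo {X Y : Scheme.{u}} (f : X ⟶ Y) (h : FlatMor.IsUnivHomeo f) :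
    Function.Injective f := by
  rw [isUnivHomeo_iff] at h
  obtain ⟨_, _, _⟩ := h
  exact f.injective

theorem surjective_of_isUnivHomeo' {X Y : Scheme.{u}} (f : X ⟶ Y) (h : FlatMor.IsUnivHomeo f) :
    Surjective f := by
  rw [isUnivHomeo_iff] at h
  exact h.2.2

open Groth.Agent.Lib.Helper11.AWNScheme

theorem isFinite_of_isUnivHomeo {X Y : Scheme.{u}} (f : X ⟶ Y) (h : FlatMor.IsUnivHomeo f)
    [LocallyOfFiniteType f] : IsFinite f := by
  haveI := isAffineHom_of_isUnivHomeo f h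
  haveI : UniversallyClosed f := ((isUnivHomeo_iff f).mp h).1
  haveI : IsIntegralHom f := IsIntegralHom.iff_universallyClosed_and_isAffineHom.mpr
    ⟨inferInstance, inferInstance⟩
  exact (IsFinite.iff_isIntegralHom_and_locallyOfFiniteType f).mpr ⟨inferInstance, inferInstance⟩

/-- a morphism from (the source of) a universal homeomorphism `ν : T' ⟶ T` to a separated
`S`-scheme locally of finite type factors through a finite universal homeomorphism `T₁ ⟶ T`. -/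
theorem exists_factor {S X T T' : Scheme.{u}} (fX : X ⟶ S) [LocallyOfFiniteType fX]
    [IsSeparated fX] (fT : T ⟶ S) (ν : T' ⟶ T) (hν : FlatMor.IsUnivHomeo ν) (g : T' ⟶ X)
    (hg : g ≫ fX = ν ≫ fT) :
    ∃ (T₁ : Scheme.{u}) (π : T₁ ⟶ T) (_ : IsFinite π) (_ : FlatMor.IsUnivHomeo π)
      (g₁ : T₁ ⟶ X) (h : T' ⟶ T₁),
      Surjective h ∧ h ≫ π = ν ∧ g₁ ≫ fX = π ≫ fT ∧ h ≫ g₁ = g := by
  obtain ⟨hUC, hUI, hSurj⟩ := (isUnivHomeo_iff ν).mp hν
  haveI : IsAffineHom ν := isAffineHom_of_isUnivHomeo ν hν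
  let γ : T' ⟶ pullback fT fX := pullback.lift ν g hg.symm
  have hγ1 : γ ≫ pullback.fst fT fX = ν := pullback.lift_fst _ _ _
  have hγ2 : γ ≫ pullback.snd fT fX = g := pullback.lift_snd _ _ _
  haveI : QuasiCompact γ := by
    haveI : QuasiCompact (γ ≫ pullback.fst fT fX) := by rw [hγ1]; infer_instance
    exact QuasiCompact.of_comp γ (pullback.fst fT fX)
  haveI : UniversallyClosed γ := by
    haveI : UniversallyClosed (γ ≫ pullback.fst fT fX) := by rw [hγ1]; exact hUC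
    exact UniversallyClosed.of_comp_of_isSeparated γ (pullback.fst fT fX)
  haveI : Surjective γ.toImage := inferInstance
  have hπ : γ.toImage ≫ (γ.imageι ≫ pullback.fst fT fX) = ν := by
    rw [Scheme.Hom.toImage_imageι_assoc, hγ1]
  have hUHπ : FlatMor.IsUnivHomeo (γ.imageι ≫ pullback.fst fT fX) :=
    isUnivHomeo_of_comp_surjective γ.toImage _ (by rw [hπ]; exact hν)
  refine ⟨γ.image, γ.imageι ≫ pullback.fst fT fX, isFinite_of_isUnivHomeo _ hUHπ, hUHπ,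
    γ.imageι ≫ pullback.snd fT fX, γ.toImage, inferInstance, hπ, ?_, ?_⟩
  · rw [Category.assoc, Category.assoc, pullback.condition]
  · rw [Scheme.Hom.toImage_imageι_assoc, hγ2]

/-- two factorizations through finite universal homeomorphisms agree on a third. -/
theorem exists_dominating {X T T' : Scheme.{u}} [X.IsSeparated] (ν : T' ⟶ T)
    (hν : FlatMor.IsUnivHomeo ν) (T₁ T₂ : Scheme.{u}) (π₁ : T₁ ⟶ T) (π₂ : T₂ ⟶ T)
    [IsFinite π₁] [IsFinite π₂] (h1 : FlatMor.IsUnivHomeo π₁) (h2 : FlatMor.IsUnivHomeo π₂)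
    (g₁ : T₁ ⟶ X) (g₂ : T₂ ⟶ X) (h₁ : T' ⟶ T₁) (h₂ : T' ⟶ T₂)
    (e₁ : h₁ ≫ π₁ = ν) (e₂ : h₂ ≫ π₂ = ν) (e : h₁ ≫ g₁ = h₂ ≫ g₂) :
    ∃ (T₃ : Scheme.{u}) (π₃ : T₃ ⟶ T) (_ : IsFinite π₃) (_ : FlatMor.IsUnivHomeo π₃)
      (a₁ : T₃ ⟶ T₁) (a₂ : T₃ ⟶ T₂) (k : T' ⟶ T₃), Surjective k ∧ k ≫ π₃ = ν ∧
      a₁ ≫ π₁ = π₃ ∧ a₂ ≫ π₂ = π₃ ∧ a₁ ≫ g₁ = a₂ ≫ g₂ := by
  let q₁ := pullback.fst π₁ π₂
  let q₂ := pullback.snd π₁ π₂
  let E := equalizer (q₁ ≫ g₁) (q₂ ≫ g₂)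
  let ε : E ⟶ pullback π₁ π₂ := equalizer.ι (q₁ ≫ g₁) (q₂ ≫ g₂)
  let k₀ : T' ⟶ pullback π₁ π₂ := pullback.lift h₁ h₂ (e₁.trans e₂.symm)
  have hk₀1 : k₀ ≫ q₁ = h₁ := pullback.lift_fst _ _ _
  have hk₀2 : k₀ ≫ q₂ = h₂ := pullback.lift_snd _ _ _
  have hk₀ : k₀ ≫ (q₁ ≫ g₁) = k₀ ≫ (q₂ ≫ g₂) := by
    rw [← Category.assoc, ← Category.assoc, hk₀1, hk₀2, e]
  let k : T' ⟶ E := equalizer.lift k₀ hk₀
  have hk : k ≫ ε = k₀ := equalizer.lift_ι _ _
  have hUHq : FlatMor.IsUnivHomeo (q₁ ≫ π₁) :=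
    isUnivHomeo_comp _ _ (MorphismProperty.pullback_fst (P := FlatMor.IsUnivHomeo) π₁ π₂ h2) h1
  have hk₀ν : k₀ ≫ (q₁ ≫ π₁) = ν := by rw [← Category.assoc, hk₀1, e₁]
  haveI hνs : Surjective ν := surjective_of_isUnivHomeo' ν hν
  haveI : Surjective k₀ := by
    refine ⟨fun x => ?_⟩
    obtain ⟨t', ht'⟩ := ν.surjective ((q₁ ≫ π₁) x)
    refine ⟨t', injective_of_isUnivHomeo _ hUHq ?_⟩
    rw [← Scheme.Hom.comp_apply, hk₀ν, ht']
  haveI : Surjective ε := by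
    haveI : Surjective (k ≫ ε) := by rw [hk]; infer_instance
    exact Surjective.of_comp k ε
  haveI : Surjective k := by
    refine ⟨fun x => ?_⟩
    obtain ⟨t', ht'⟩ := k₀.surjective (ε x)
    refine ⟨t', ?_⟩
    have hinj : Function.Injective ε := ε.injective
    apply hinj
    rw [← Scheme.Hom.comp_apply, hk, ht']
  have hUHε : FlatMor.IsUnivHomeo ε := isUnivHomeo_of_isClosedImmersion ε
  refine ⟨E, ε ≫ q₁ ≫ π₁, inferInstance, isUnivHomeo_comp _ _ hUHε hUHq, ε ≫ q₁, ε ≫ q₂, k,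
    inferInstance, ?_, ?_, ?_, ?_⟩
  · rw [← Category.assoc, hk, hk₀ν]
  · rw [Category.assoc]
  · rw [Category.assoc]
    congr 1
    exact pullback.condition.symm
  · rw [Category.assoc, Category.assoc]
    exact equalizer.condition _ _

theorem residueFieldsIso_of_comp_surjective {X Y Z : Scheme.{u}} (f : X ⟶ Y) (g : Y ⟶ Z)
    [Surjective f] (H : HTop.ResidueFieldsIso (f ≫ g)) : HTop.ResidueFieldsIso g := by
  intro y
  obtain ⟨x, rfl⟩ := f.surjective y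
  have h1 : IsIso ((f ≫ g).residueFieldMap x) := H x
  rw [Scheme.residueFieldMap_comp] at h1
  rw [ConcreteCategory.isIso_iff_bijective] at h1 ⊢
  have hinj : Function.Injective (f.residueFieldMap x).hom := (f.residueFieldMap x).hom.injective
  refine ⟨(g.residueFieldMap (f x)).hom.injective, fun z => ?_⟩
  obtain ⟨u, hu⟩ := h1.2 ((f.residueFieldMap x).hom z)
  exact ⟨u, hinj hu⟩

end Groth.Agent.Lib.Helper11.UHFactor
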