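import Mathlib
import Groth.Prelude.Def_Flat
import Groth.Agent.Lib.Helper11.UHTower2

/-!
# Universal homeomorphisms and `p`-power roots (helper11)
-/

set_option autoImplicit false
universe u
open CategoryTheory AlgebraicGeometry

namespace Groth.Agent.Lib.Helper11.UHRing

variable {A B : Type u} [CommRing A] [CommRing B]

/-- `(⇐)` of the `p`-power criterion. -/
theorem UH_of_pow_mem (φ : A →+* B) (p : ℕ) (hp : p.Prime)
    (hker : RingHom.ker φ ≤ nilradical A)
    (hpow : ∀ b : B, ∃ n : ℕ, (p ^ n : B) * b ∈ φ.range ∧ b ^ (p ^ n) ∈ φ.range) : UH φ := by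
  refine ⟨?_, hker, ?_⟩
  · intro b
    obtain ⟨n, _, a, ha⟩ := hpow b
    refine ⟨Polynomial.X ^ (p ^ n) - Polynomial.C a,
      Polynomial.monic_X_pow_sub_C a (pow_ne_zero n hp.ne_zero), ?_⟩
    simp [ha]
  · intro K _ g₁ g₂ hg
    ext b
    obtain ⟨n, ⟨a₁, ha₁⟩, a₂, ha₂⟩ := hpow b
    have e1 : (p : K) ^ n * g₁ b = (p : K) ^ n * g₂ b := by
      have h1 : g₁ ((p ^ n : B) * b) = g₂ ((p ^ n : B) * b) := by
        rw [← ha₁]; exact RingHom.congr_fun hg a₁
      simpa using h1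
    have e2 : g₁ b ^ (p ^ n) = g₂ b ^ (p ^ n) := by
      rw [← map_pow, ← map_pow, ← ha₂]; exact RingHom.congr_fun hg a₂
    by_cases hpK : (p : K) = 0
    · haveI : Fact p.Prime := ⟨hp⟩
      haveI : CharP K p := by
        rw [CharP.charP_iff_prime_eq_zero hp]; exact hpK
      exact iterateFrobenius_inj K p n (by simpa [iterateFrobenius_def] using e2)
    · exact mul_left_cancel₀ (pow_ne_zero n hpK) e1

/-- base change of UH to a quotient. -/
theorem UH.quotient {φ : A →+* B} (h : UH φ) (J : Ideal A) :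
    UH (Ideal.quotientMap (J.map φ) φ Ideal.le_comap_map) := by
  set ψ := Ideal.quotientMap (J.map φ) φ Ideal.le_comap_map with hψ
  have hcomm : ψ.comp (Ideal.Quotient.mk J) = (Ideal.Quotient.mk (J.map φ)).comp φ := by
    ext a; simp [hψ]
  refine ⟨?_, ?_, ?_⟩
  · have h1 : ((Ideal.Quotient.mk (J.map φ)).comp φ).IsIntegral :=
      h.integral.trans _ _ (RingHom.isIntegral_of_surjective _ Ideal.Quotient.mk_surjective)
    rw [← hcomm] at h1
    exact RingHom.IsIntegral.tower_top _ _ h1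
  · intro x hx
    obtain ⟨a, rfl⟩ := Ideal.Quotient.mk_surjective x
    have h1 : φ a ∈ J.map φ := by
      have : ψ (Ideal.Quotient.mk J a) = 0 := hx
      rw [hψ, Ideal.quotientMap_mk] at this
      exact Ideal.Quotient.eq_zero_iff_mem.mp this
    have h2 : a ∈ J.radical := by
      rw [Ideal.radical_eq_sInf, Ideal.mem_sInf]
      rintro P ⟨hJP, hP⟩
      obtain ⟨Q, hQ⟩ := h.bijective_comap.2 ⟨P, hP⟩
      have hQ' : Q.asIdeal.comap φ = P := congrArg PrimeSpectrum.asIdeal hQ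
      have hle : J.map φ ≤ Q.asIdeal := by
        rw [Ideal.map_le_iff_le_comap, hQ']; exact hJP
      rw [← hQ']
      exact hle h1
    obtain ⟨k, hk⟩ := h2
    exact ⟨k, by rw [← map_pow]; exact Ideal.Quotient.eq_zero_iff_mem.mpr hk⟩
  · intro K _ g₁ g₂ hg
    have h1 := h.inj K (g₁.comp (Ideal.Quotient.mk (J.map φ))) (g₂.comp (Ideal.Quotient.mk (J.map φ)))
      (by
        rw [RingHom.comp_assoc, RingHom.comp_assoc, ← hcomm, ← RingHom.comp_assoc,
          ← RingHom.comp_assoc, hg])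
    exact Ideal.Quotient.ringHom_ext h1

/-- left cancellation: if `ψ` and `ψ ∘ φ` are UH then so is `φ`. -/
theorem UH.of_comp_left {C : Type u} [CommRing C] {φ : A →+* B} {ψ : B →+* C} (hψ : UH ψ)
    (h : UH (ψ.comp φ)) : UH φ := by
  refine ⟨?_, ?_, ?_⟩
  · intro b
    obtain ⟨P, hP, hP'⟩ := h.integral (ψ b)
    have h1 : ψ (Polynomial.eval₂ φ b P) = 0 := by
      rw [Polynomial.hom_eval₂]; exact hP'
    obtain ⟨N, hN⟩ := hψ.ker_le (show Polynomial.eval₂ φ b P ∈ RingHom.ker ψ from h1)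
    exact ⟨P ^ N, hP.pow N, by rw [Polynomial.eval₂_pow]; exact hN⟩
  · intro a ha
    apply h.ker_le
    rw [RingHom.mem_ker] at ha ⊢
    simp [ha]
  · rw [← universallyInjective_SpecMap_iff]
    haveI : Surjective (Spec.map (CommRingCat.ofHom ψ)) := ⟨hψ.bijective_comap.2⟩
    haveI : UniversallyInjective (Spec.map (CommRingCat.ofHom ψ) ≫
        Spec.map (CommRingCat.ofHom φ)) := by
      rw [← Spec.map_comp, ← CommRingCat.ofHom_comp]
      exact (universallyInjective_SpecMap_iff _).mpr h.inj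
    exact universallyInjective_of_comp_surjective (Spec.map (CommRingCat.ofHom ψ)) _

section CharP
variable [Algebra A B]

theorem pow_mem_mono (S : Subalgebra A B) (p : ℕ) (b : B) {n m : ℕ} (hnm : n ≤ m)
    (h : b ^ (p ^ n) ∈ S) : b ^ (p ^ m) ∈ S := by
  obtain ⟨k, rfl⟩ := Nat.exists_eq_add_of_le hnm
  rw [pow_add, pow_mul]
  exact pow_mem h _

/-- the elements having a `p`-power power in `A`, when `p = 0` in `B`. -/
def powSub (p : ℕ) (hp : p.Prime) (hpB : (p : B) = 0) : Subalgebra A B where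
  carrier := {b | ∃ n : ℕ, b ^ (p ^ n) ∈ (⊥ : Subalgebra A B)}
  mul_mem' := by
    rintro a b ⟨n, hn⟩ ⟨m, hm⟩
    refine ⟨max n m, ?_⟩
    rw [mul_pow]
    exact mul_mem (pow_mem_mono _ p a (le_max_left n m) hn)
      (pow_mem_mono _ p b (le_max_right n m) hm)
  add_mem' := by
    rintro a b ⟨n, hn⟩ ⟨m, hm⟩
    refine ⟨max n m, ?_⟩
    obtain ⟨r, hr⟩ := exists_add_pow_prime_pow_eq hp a b (max n m)
    rw [hr, hpB, zero_mul, zero_mul, zero_mul, add_zero]
    exact add_mem (pow_mem_mono _ p a (le_max_left n m) hn)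
      (pow_mem_mono _ p b (le_max_right n m) hm)
  algebraMap_mem' := fun r => ⟨0, by simpa using Subalgebra.algebraMap_mem _ r⟩

theorem exists_two_three (k : ℕ) (hk : 2 ≤ k) : ∃ u v : ℕ, k = 2 * u + 3 * v := by
  rcases Nat.even_or_odd k with ⟨t, ht⟩ | ⟨t, ht⟩
  · exact ⟨t, 0, by omega⟩
  · exact ⟨t - 1, 1, by omega⟩

/-- Step A: in characteristic `p`, a UH extension is `p`-radical. -/
theorem exists_pow_mem_of_UH_char (p : ℕ) (hp : p.Prime) (hpB : (p : B) = 0)
    (hUH : UH (algebraMap A B)) :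
    ∀ b : B, ∃ n : ℕ, b ^ (p ^ n) ∈ (algebraMap A B).range := by
  suffices h : ∀ b : B, b ∈ powSub (A := A) p hp hpB by
    intro b
    obtain ⟨n, hn⟩ := h b
    exact ⟨n, Algebra.mem_bot.mp hn⟩
  by_contra hcon
  push Not at hcon
  obtain ⟨b₀, hb₀⟩ := hcon
  set T := powSub (A := A) (B := B) p hp hpB with hT
  have hTmem : ∀ x : B, x ∈ T ↔ ∃ n : ℕ, x ^ (p ^ n) ∈ (⊥ : Subalgebra A B) := fun x => Iff.rfl
  rcases exists_sq_cube_or_prime_of_UH (UH_val_of_UH T hUH) (not_surjective_val T b₀ hb₀) with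
    ⟨b, hb, hb2, hb3⟩ | ⟨ℓ, b, hℓ, hb, hℓb, hbℓ⟩
  · apply hb
    obtain ⟨n, hn⟩ := (hTmem _).mp (mem_of_mem_range_val T _ hb2)
    obtain ⟨m, hm⟩ := (hTmem _).mp (mem_of_mem_range_val T _ hb3)
    have hn' := pow_mem_mono _ p (b ^ 2) (le_max_left n m) hn
    have hm' := pow_mem_mono _ p (b ^ 3) (le_max_right n m) hm
    set N := max n m
    obtain ⟨u, v, huv⟩ := exists_two_three p hp.two_le
    have hmem : b ∈ T := by
      refine ⟨N + 1, ?_⟩
      have e : b ^ p ^ (N + 1) = ((b ^ 2) ^ p ^ N) ^ u * ((b ^ 3) ^ p ^ N) ^ v := by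
        rw [pow_succ, ← pow_mul, ← pow_mul, ← pow_mul, ← pow_mul, ← pow_add]
        congr 1
        rw [huv]; ring
      rw [e]
      exact mul_mem (pow_mem hn' u) (pow_mem hm' v)
    exact ⟨⟨b, hmem⟩, rfl⟩
  · apply hb
    have hmem : b ∈ T := by
      by_cases hℓp : ℓ = p
      · subst hℓp
        obtain ⟨n, hn⟩ := (hTmem _).mp (mem_of_mem_range_val T _ hbℓ)
        refine ⟨n + 1, ?_⟩
        rw [pow_succ', pow_mul]
        exact hn
      · have hcop : Nat.Coprime ℓ p := (Nat.coprime_primes hℓ hp).mpr hℓp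
        have hgcd : (ℓ : ℤ).gcd (p : ℤ) = 1 := by
          rw [Int.gcd_natCast_natCast]; exact hcop
        have hbez := Int.gcd_eq_gcd_ab (ℓ : ℤ) (p : ℤ)
        rw [hgcd] at hbez
        have e : b = ((Int.gcdA ℓ p : ℤ) : B) * ((ℓ : B) * b) := by
          have h1 : ((1 : ℤ) : B) = ((ℓ : ℤ) * Int.gcdA ℓ p + (p : ℤ) * Int.gcdB ℓ p : ℤ) := by
            rw [← hbez]; simp
          push_cast at h1
          rw [hpB, zero_mul, add_zero] at h1
          calc b = 1 * b := (one_mul b).symm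
            _ = ((ℓ : B) * (Int.gcdA ℓ p : B)) * b := by rw [← h1]
            _ = _ := by ring
        rw [e]
        exact mul_mem (intCast_mem T _) (mem_of_mem_range_val T _ hℓb)
    exact ⟨⟨b, hmem⟩, rfl⟩

end CharP

/-- Step B: reduction to characteristic `p`. -/
theorem exists_pow_mem_of_UH_mul (φ : A →+* B) (p : ℕ) (hp : p.Prime) (hUH : UH φ)
    (hmul : ∀ b : B, ∃ n : ℕ, (p ^ n : B) * b ∈ φ.range) :
    ∀ b : B, ∃ n : ℕ, b ^ (p ^ n) ∈ φ.range := by
  classical
  intro b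
  algebraize [φ]
  have hUH' : UH (algebraMap A B) := hUH
  have hnat : ∀ k : ℕ, ((p : B) ^ k) ∈ (algebraMap A B).range := fun k =>
    ⟨(p : A) ^ k, by simp⟩
  set B₀ : Subalgebra A B := Algebra.adjoin A {b} with hB₀
  -- (1) uniform exponent
  have hbint : IsIntegral A b := hUH'.integral b
  obtain ⟨S, hS⟩ := hbint.fg_adjoin_singleton
  choose nn hnn using hmul
  set N := S.sup nn + 1 with hN
  have hNmem : ∀ β : B, β ∈ B₀ → (p ^ N : B) * β ∈ (algebraMap A B).range := by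
    intro β hβ
    let M : Submodule A B :=
      { carrier := {x | (p ^ N : B) * x ∈ (algebraMap A B).range}
        add_mem' := fun {x y} hx hy => by
          show (p ^ N : B) * (x + y) ∈ (algebraMap A B).range
          rw [mul_add]; exact add_mem hx hy
        zero_mem' := by
          show (p ^ N : B) * (0 : B) ∈ (algebraMap A B).range
          rw [mul_zero]; exact zero_mem _
        smul_mem' := fun c x hx => by
          show (p ^ N : B) * (c • x) ∈ (algebraMap A B).range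
          rw [Algebra.smul_def, mul_left_comm]
          exact mul_mem ⟨c, rfl⟩ hx }
    have hle : Submodule.span A (S : Set B) ≤ M := by
      rw [Submodule.span_le]
      intro x hx
      show (p ^ N : B) * x ∈ (algebraMap A B).range
      have hle' : nn x ≤ N := (Finset.le_sup hx).trans (Nat.le_succ _)
      obtain ⟨k, hk⟩ := Nat.exists_eq_add_of_le hle'
      rw [hk, pow_add, mul_comm ((p : B) ^ nn x), mul_assoc]
      exact mul_mem (hnat k) (hnn x)
    have : β ∈ Submodule.span A (S : Set B) := by rw [hS]; exact hβ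
    exact hle this
  -- (2) characteristic p
  set φ₀ : A →+* B₀ := algebraMap A B₀ with hφ₀
  have hUH₀ : UH φ₀ := UH.subalgebra B₀ hUH'
  set J : Ideal A := Ideal.span {(p : A)} with hJ
  have hUHq := hUH₀.quotient J
  set ψ := Ideal.quotientMap (J.map φ₀) φ₀ Ideal.le_comap_map with hψ
  letI : Algebra (A ⧸ J) (B₀ ⧸ J.map φ₀) := ψ.toAlgebra
  have hpmem : (p : B₀) ∈ J.map φ₀ := by
    have : φ₀ (p : A) ∈ J.map φ₀ := Ideal.mem_map_of_mem _ (Ideal.subset_span rfl)
    rwa [map_natCast] at this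
  have hp0 : (p : B₀ ⧸ J.map φ₀) = 0 := by
    have := Ideal.Quotient.eq_zero_iff_mem.mpr hpmem
    rwa [map_natCast] at this
  set b₀ : B₀ := ⟨b, Algebra.subset_adjoin (Set.mem_singleton b)⟩ with hb₀
  obtain ⟨n, x, hx⟩ := exists_pow_mem_of_UH_char (A := A ⧸ J) (B := B₀ ⧸ J.map φ₀) p hp hp0 hUHq
    (Ideal.Quotient.mk _ b₀)
  obtain ⟨a, rfl⟩ := Ideal.Quotient.mk_surjective x
  have hx' : Ideal.Quotient.mk (J.map φ₀) (φ₀ a) = Ideal.Quotient.mk (J.map φ₀) (b₀ ^ p ^ n) := by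
    rw [map_pow, ← hx]
    show _ = ψ (Ideal.Quotient.mk J a)
    rw [hψ, Ideal.quotientMap_mk]
  have hdvd : (p : B₀) ∣ b₀ ^ p ^ n - φ₀ a := by
    have h1 : b₀ ^ p ^ n - φ₀ a ∈ J.map φ₀ := by
      rw [← Ideal.Quotient.eq_zero_iff_mem, map_sub, sub_eq_zero, hx']
    rw [hJ, Ideal.map_span, Set.image_singleton, map_natCast] at h1
    exact Ideal.mem_span_singleton.mp h1
  -- (3) raise to a p-power
  have hdvd2 := dvd_sub_pow_of_dvd_sub hdvd (N - 1)
  have hN1 : N - 1 + 1 = N := by omega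
  rw [hN1] at hdvd2
  obtain ⟨β, hβ⟩ := hdvd2
  refine ⟨n + (N - 1), ?_⟩
  have e : b ^ p ^ (n + (N - 1)) = algebraMap A B (a ^ p ^ (N - 1)) + (p ^ N : B) * (β : B) := by
    have h2 := congrArg (Subtype.val) hβ
    have h5 : (((b₀ ^ p ^ n) ^ p ^ (N - 1) - φ₀ a ^ p ^ (N - 1) : B₀) : B) =
        (b ^ p ^ n) ^ p ^ (N - 1) - (algebraMap A B a) ^ p ^ (N - 1) := rfl
    have h6 : (((p : B₀) ^ N * β : B₀) : B) = (p : B) ^ N * (β : B) := by
      simp
    rw [h5, h6] at h2
    rw [pow_add, pow_mul, map_pow, ← h2]; ring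
  rw [e]
  exact add_mem ⟨_, rfl⟩ (hNmem β β.2)

end Groth.Agent.Lib.Helper11.UHRing
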