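import Mathlib
import Groth.Prelude.Def_Flat
import Groth.Agent.Lib.Helper11.UHSub

/-!
# The weak normalization of `A` in `B` as an equalizer (helper11)
-/

set_option autoImplicit false
universe u
open CategoryTheory AlgebraicGeometry
open scoped TensorProduct

namespace Groth.Agent.Lib.Helper11.UHRing

variable {A B : Type u} [CommRing A] [CommRing B] [Algebra A B]

variable (A B) in
/-- elements of `B` on which any two field-valued points agreeing on `A` agree. -/
def wnSub : Subalgebra A B where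
  carrier := {b | ∀ (K : Type u) [Field K] (g₁ g₂ : B →+* K),
    g₁.comp (algebraMap A B) = g₂.comp (algebraMap A B) → g₁ b = g₂ b}
  mul_mem' := fun {a b} ha hb K _ g₁ g₂ hg => by
    rw [map_mul, map_mul, ha K g₁ g₂ hg, hb K g₁ g₂ hg]
  add_mem' := fun {a b} ha hb K _ g₁ g₂ hg => by
    rw [map_add, map_add, ha K g₁ g₂ hg, hb K g₁ g₂ hg]
  algebraMap_mem' := fun r K _ g₁ g₂ hg => RingHom.congr_fun hg r

theorem mem_wnSub_iff_isNilpotent (b : B) :
    b ∈ wnSub A B ↔ IsNilpotent (b ⊗ₜ[A] (1 : B) - (1 : B) ⊗ₜ[A] b) := by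
  constructor
  · intro hb
    show _ ∈ nilradical (B ⊗[A] B)
    rw [nilradical_eq_sInf, Ideal.mem_sInf]
    intro P hP
    haveI : P.IsPrime := hP
    set ρ : B ⊗[A] B →+* P.ResidueField := algebraMap _ _ with hρ
    have h1 := hb P.ResidueField
      (ρ.comp (Algebra.TensorProduct.includeLeft : B →ₐ[A] B ⊗[A] B).toRingHom)
      (ρ.comp (Algebra.TensorProduct.includeRight : B →ₐ[A] B ⊗[A] B).toRingHom) (by
        ext a
        simp only [RingHom.comp_apply, AlgHom.toRingHom_eq_coe, RingHom.coe_coe, AlgHom.commutes])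
    have h2 : ρ (b ⊗ₜ[A] (1 : B) - (1 : B) ⊗ₜ[A] b) = 0 := by
      rw [map_sub, sub_eq_zero]
      exact h1
    exact Ideal.algebraMap_residueField_eq_zero.mp h2
  · intro hn K _ g₁ g₂ hg
    letI : Algebra A K := (g₁.comp (algebraMap A B)).toAlgebra
    let G₁ : B →ₐ[A] K := { g₁ with commutes' := fun _ => rfl }
    let G₂ : B →ₐ[A] K := { g₂ with commutes' := fun a => (RingHom.congr_fun hg a).symm }
    let T : B ⊗[A] B →ₐ[A] K := Algebra.TensorProduct.lift G₁ G₂ (fun _ _ => Commute.all _ _)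
    have h1 : IsNilpotent (T (b ⊗ₜ[A] (1 : B) - (1 : B) ⊗ₜ[A] b)) := hn.map T
    have h2 : T (b ⊗ₜ[A] (1 : B) - (1 : B) ⊗ₜ[A] b) = g₁ b - g₂ b := by
      rw [map_sub, Algebra.TensorProduct.lift_tmul, Algebra.TensorProduct.lift_tmul]
      simp [G₁, G₂]
    rw [h2] at h1
    exact sub_eq_zero.mp h1.eq_zero

/-- extension of a field-valued point along an integral extension, into an algebraic closure. -/
theorem exists_extension [Algebra.IsIntegral A B] (E : Subalgebra A B) {K : Type u} [Field K]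
    (h : E →+* K) :
    ∃ G : B →+* AlgebraicClosure K, ∀ e : E, G (e : B) = algebraMap K (AlgebraicClosure K) (h e) := by
  haveI : Algebra.IsIntegral E B := Algebra.IsIntegral.tower_top (R := A)
  set P : Ideal E := RingHom.ker h with hP
  haveI hPp : P.IsPrime := RingHom.ker_isPrime h
  have hle : (⊥ : Ideal B).comap (algebraMap E B) ≤ P := by
    intro e he
    have h0 : (e : B) = 0 := he
    have : e = 0 := Subtype.ext h0
    rw [this]; exact P.zero_mem
  obtain ⟨Q, _, hQp, hQ⟩ := Ideal.exists_ideal_over_prime_of_isIntegral P (⊥ : Ideal B) hle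
  haveI := hQp
  haveI : Q.LiesOver P := ⟨hQ.symm⟩
  let M := AlgebraicClosure K
  let h' : E ⧸ P →+* K := Ideal.Quotient.lift P h (fun a ha => ha)
  have h'inj : Function.Injective h' := by
    rw [injective_iff_map_eq_zero]
    intro x hx
    obtain ⟨e, rfl⟩ := Ideal.Quotient.mk_surjective x
    rw [Ideal.Quotient.lift_mk] at hx
    exact Ideal.Quotient.eq_zero_iff_mem.mpr hx
  letI : Algebra (E ⧸ P) M := ((algebraMap K M).comp h').toAlgebra
  haveI : FaithfulSMul (E ⧸ P) M := by
    rw [faithfulSMul_iff_algebraMap_injective]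
    exact (algebraMap K M).injective.comp h'inj
  let l : (B ⧸ Q) →ₐ[E ⧸ P] M := IsAlgClosed.lift
  refine ⟨l.toRingHom.comp (Ideal.Quotient.mk Q), ?_⟩
  intro e
  show l (Ideal.Quotient.mk Q (algebraMap E B e)) = algebraMap K M (h e)
  have h1 : Ideal.Quotient.mk Q (algebraMap E B e) =
      algebraMap (E ⧸ P) (B ⧸ Q) (Ideal.Quotient.mk P e) := by
    rw [Ideal.Quotient.algebraMap_mk_of_liesOver]
  rw [h1, l.commutes]
  rfl

theorem UH_wnSub [Algebra.IsIntegral A B] (hker : RingHom.ker (algebraMap A B) ≤ nilradical A) :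
    UH (algebraMap A (wnSub A B)) := by
  refine ⟨?_, ?_, ?_⟩
  · exact isIntegral_algebraMap_subalgebra _ (fun c _ => Algebra.IsIntegral.isIntegral c)
  · rw [ker_algebraMap_subalgebra]; exact hker
  · intro K _ h₁ h₂ hh
    obtain ⟨G₁, hG₁⟩ := exists_extension (wnSub A B) h₁
    obtain ⟨G₂, hG₂⟩ := exists_extension (wnSub A B) h₂
    have hG : G₁.comp (algebraMap A B) = G₂.comp (algebraMap A B) := by
      ext a
      have e1 := hG₁ (algebraMap A (wnSub A B) a)
      have e2 := hG₂ (algebraMap A (wnSub A B) a)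
      have e3 := RingHom.congr_fun hh a
      simp only [RingHom.comp_apply] at e3 ⊢
      have e4 : ((algebraMap A (wnSub A B) a : wnSub A B) : B) = algebraMap A B a := rfl
      rw [e4] at e1 e2
      rw [e1, e2, e3]
    ext e
    have h3 := e.2 (AlgebraicClosure K) G₁ G₂ hG
    rw [hG₁, hG₂] at h3
    exact (algebraMap K (AlgebraicClosure K)).injective h3

theorem le_wnSub_of_UH (C : Subalgebra A B) (hC : UH (algebraMap A C)) : C ≤ wnSub A B := by
  intro c hc K _ g₁ g₂ hg
  have h1 := hC.inj K (g₁.comp C.val.toRingHom) (g₂.comp C.val.toRingHom) (by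
    ext a
    exact RingHom.congr_fun hg a)
  exact RingHom.congr_fun h1 ⟨c, hc⟩

end Groth.Agent.Lib.Helper11.UHRing
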