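import Mathlib
import Groth.Prelude.Def_CAlg2
import Groth.Agent.Lib.Helper11.UHRing

/-!
# Geometrically unibranch local rings and field valued points (helper11)

* `PtInj φ` : for a ring map `φ : R → N` out of a local ring, field valued points of `N` lying over the
  closed point of `R` are determined by their restriction to `R`.
* `ptInj_of_local`, `local_of_ptInj`: for integral `φ`, `PtInj φ` iff `N` is local with purely inseparable
  residue field extension (elementwise form of `CAlg2.IsGeomUnibranch`).
* `isGeomUnibranch_iff_ptInj`: for a local domain `R` with fraction field `K`,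
  `IsGeomUnibranch R ↔ PtInj (R → integralClosure R K)`.
* `isGeomUnibranch_iff_of_atPrime`: for a domain `A` with fraction field `K`, a prime `p` and a localization
  `R` of `A` at `p`: `R` geometrically unibranch iff field valued points of `integralClosure A K` over `p`
  are determined by their restriction to `A`.
-/

set_option autoImplicit false
universe u
open IsLocalRing

namespace Groth.Agent.Lib.Helper11.Unibranch

/-- In a field of exponential characteristic `q`, `q^n`-th powers are injective. -/
theorem eq_of_pow_expChar_pow_eq {L : Type*} [Field L] (q : ℕ) [ExpChar L q] {a b : L} {n : ℕ}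
    (h : a ^ q ^ n = b ^ q ^ n) : a = b :=
  iterateFrobenius_inj L q n h

/-- Field valued points of `N` over the closed point of `R` are determined by their restriction. -/
def PtInj {R N : Type u} [CommRing R] [IsLocalRing R] [CommRing N] (φ : R →+* N) : Prop :=
  ∀ (L : Type u) [Field L] (g₁ g₂ : N →+* L), g₁.comp φ = g₂.comp φ →
    RingHom.ker (g₁.comp φ) = maximalIdeal R → g₁ = g₂

theorem ptInj_of_local {R N : Type u} [CommRing R] [IsLocalRing R] [CommRing N] (φ : R →+* N)
    (hint : φ.IsIntegral) [IsLocalRing N]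
    (hpi : ∀ (m' : Ideal N) [m'.IsMaximal], ∀ x : N ⧸ m', ∃ n : ℕ,
        x ^ (ringExpChar (N ⧸ m')) ^ n ∈ ((Ideal.Quotient.mk m').comp φ).range) : PtInj φ := by
  intro L _ g₁ g₂ hg hker
  have hmax : ∀ g : N →+* L, RingHom.ker (g.comp φ) = maximalIdeal R →
      RingHom.ker g = maximalIdeal N := by
    intro g hk
    haveI : (RingHom.ker g).IsPrime := RingHom.ker_isPrime g
    have h1 : ((RingHom.ker g).comap φ).IsMaximal := by
      rw [RingHom.comap_ker, hk]; infer_instance
    exact IsLocalRing.eq_maximalIdeal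
      (Ideal.isMaximal_of_isIntegral_of_isMaximal_comap' φ hint _ h1)
  have hk1 := hmax g₁ hker
  have hk2 := hmax g₂ (by rw [← hg]; exact hker)
  letI : Field (N ⧸ maximalIdeal N) := Ideal.Quotient.field _
  let gbar : N ⧸ maximalIdeal N →+* L := Ideal.Quotient.lift (maximalIdeal N) g₁
    (fun a ha => by rw [← RingHom.mem_ker, hk1]; exact ha)
  haveI : ExpChar L (ringExpChar (N ⧸ maximalIdeal N)) :=
    expChar_of_injective_ringHom gbar.injective _
  ext x
  obtain ⟨n, r, hr⟩ := hpi (maximalIdeal N) (Ideal.Quotient.mk (maximalIdeal N) x)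
  have hmem : φ r - x ^ (ringExpChar (N ⧸ maximalIdeal N)) ^ n ∈ maximalIdeal N := by
    rw [← Ideal.Quotient.eq]
    simpa using hr
  have e1 : g₁ (φ r) = g₁ x ^ (ringExpChar (N ⧸ maximalIdeal N)) ^ n := by
    have h1 : φ r - x ^ (ringExpChar (N ⧸ maximalIdeal N)) ^ n ∈ RingHom.ker g₁ := by
      rw [hk1]; exact hmem
    rw [RingHom.mem_ker, map_sub, sub_eq_zero, map_pow] at h1
    exact h1
  have e2 : g₂ (φ r) = g₂ x ^ (ringExpChar (N ⧸ maximalIdeal N)) ^ n := by
    have h1 : φ r - x ^ (ringExpChar (N ⧸ maximalIdeal N)) ^ n ∈ RingHom.ker g₂ := by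
      rw [hk2]; exact hmem
    rw [RingHom.mem_ker, map_sub, sub_eq_zero, map_pow] at h1
    exact h1
  have e3 : g₁ (φ r) = g₂ (φ r) := RingHom.congr_fun hg r
  exact eq_of_pow_expChar_pow_eq (ringExpChar (N ⧸ maximalIdeal N)) (by rw [← e1, ← e2, e3])

/-- A point of `N` with prescribed kernel `m'` and prescribed restriction to `R`, valued in an
algebraically closed field. -/
theorem exists_point_over {R N : Type u} [CommRing R] [IsLocalRing R] [CommRing N] (φ : R →+* N)
    (hint : φ.IsIntegral) (m' : Ideal N) [m'.IsMaximal] (Ω : Type u) [Field Ω] [IsAlgClosed Ω]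
    (j : R ⧸ maximalIdeal R →+* Ω) :
    ∃ g : N →+* Ω, RingHom.ker g = m' ∧
      g.comp φ = j.comp (Ideal.Quotient.mk (maximalIdeal R)) := by
  letI : Field (R ⧸ maximalIdeal R) := Ideal.Quotient.field _
  letI : Field (N ⧸ m') := Ideal.Quotient.field m'
  have hcomap : m'.comap φ = maximalIdeal R :=
    IsLocalRing.eq_maximalIdeal (Ideal.isMaximal_comap_of_isIntegral_of_isMaximal' φ hint m')
  let ψ : R ⧸ maximalIdeal R →+* N ⧸ m' :=
    Ideal.Quotient.lift _ ((Ideal.Quotient.mk m').comp φ) (fun a ha => by
      rw [RingHom.comp_apply, Ideal.Quotient.eq_zero_iff_mem, ← Ideal.mem_comap, hcomap]; exact ha)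
  have hψint : ψ.IsIntegral := by
    have h1 : ((Ideal.Quotient.mk m').comp φ).IsIntegral :=
      RingHom.IsIntegral.trans _ _ hint
        (RingHom.isIntegral_of_surjective _ Ideal.Quotient.mk_surjective)
    have h2 : ψ.comp (Ideal.Quotient.mk (maximalIdeal R)) = (Ideal.Quotient.mk m').comp φ := by
      ext r; rfl
    exact RingHom.IsIntegral.tower_top (Ideal.Quotient.mk (maximalIdeal R)) ψ (by rw [h2]; exact h1)
  letI := ψ.toAlgebra
  letI := j.toAlgebra
  haveI : Algebra.IsIntegral (R ⧸ maximalIdeal R) (N ⧸ m') := ⟨hψint⟩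
  haveI : Algebra.IsAlgebraic (R ⧸ maximalIdeal R) (N ⧸ m') := Algebra.IsIntegral.isAlgebraic
  let σ : N ⧸ m' →ₐ[R ⧸ maximalIdeal R] Ω := IsAlgClosed.lift
  refine ⟨σ.toRingHom.comp (Ideal.Quotient.mk m'), ?_, ?_⟩
  · rw [← RingHom.comap_ker, (RingHom.injective_iff_ker_eq_bot _).mp σ.toRingHom.injective,
      ← RingHom.ker_eq_comap_bot, Ideal.mk_ker]
  · ext r
    show σ (Ideal.Quotient.mk m' (φ r)) = j (Ideal.Quotient.mk _ r)
    have h3 : Ideal.Quotient.mk m' (φ r) =
      algebraMap (R ⧸ maximalIdeal R) (N ⧸ m') (Ideal.Quotient.mk _ r) := rfl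
    rw [h3, σ.commutes]; rfl

theorem local_of_ptInj {R N : Type u} [CommRing R] [IsLocalRing R] [CommRing N] [Nontrivial N]
    (φ : R →+* N) (hint : φ.IsIntegral) (h : PtInj φ) :
    IsLocalRing N ∧ ∀ (m' : Ideal N) [m'.IsMaximal], ∀ x : N ⧸ m', ∃ n : ℕ,
        x ^ (ringExpChar (N ⧸ m')) ^ n ∈ ((Ideal.Quotient.mk m').comp φ).range := by
  letI : Field (R ⧸ maximalIdeal R) := Ideal.Quotient.field _
  have hkerj : ∀ (Ω : Type u) [Field Ω] (j : R ⧸ maximalIdeal R →+* Ω),
      RingHom.ker (j.comp (Ideal.Quotient.mk (maximalIdeal R))) = maximalIdeal R := by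
    intro Ω _ j
    rw [← RingHom.comap_ker, (RingHom.injective_iff_ker_eq_bot j).mp j.injective,
      ← RingHom.ker_eq_comap_bot, Ideal.mk_ker]
  constructor
  · obtain ⟨m₀, hm₀⟩ := Ideal.exists_maximal N
    refine IsLocalRing.of_unique_max_ideal ⟨m₀, hm₀, fun m₁ hm₁ => ?_⟩
    haveI := hm₀; haveI := hm₁
    obtain ⟨g₀, hg₀, hg₀'⟩ := exists_point_over φ hint m₀
      (AlgebraicClosure (R ⧸ maximalIdeal R)) (algebraMap _ _)
    obtain ⟨g₁, hg₁, hg₁'⟩ := exists_point_over φ hint m₁
      (AlgebraicClosure (R ⧸ maximalIdeal R)) (algebraMap _ _)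
    have := h _ g₁ g₀ (hg₁'.trans hg₀'.symm) (by rw [hg₁']; exact hkerj _ _)
    rw [← hg₁, ← hg₀, this]
  · intro m' _ x
    letI : Field (N ⧸ m') := Ideal.Quotient.field m'
    have hcomap : m'.comap φ = maximalIdeal R :=
      IsLocalRing.eq_maximalIdeal (Ideal.isMaximal_comap_of_isIntegral_of_isMaximal' φ hint m')
    let ψ : R ⧸ maximalIdeal R →+* N ⧸ m' :=
      Ideal.Quotient.lift _ ((Ideal.Quotient.mk m').comp φ) (fun a ha => by
        rw [RingHom.comp_apply, Ideal.Quotient.eq_zero_iff_mem, ← Ideal.mem_comap, hcomap]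
        exact ha)
    letI := ψ.toAlgebra
    have e : ∀ (Ω : Type u) [Field Ω] (f : N ⧸ m' →+* Ω),
        (f.comp (Ideal.Quotient.mk m')).comp φ =
          (f.comp ψ).comp (Ideal.Quotient.mk (maximalIdeal R)) := by
      intro Ω _ f; ext r; rfl
    haveI : IsPurelyInseparable (R ⧸ maximalIdeal R) (N ⧸ m') := by
      haveI : Nonempty (N ⧸ m' →+* AlgebraicClosure (N ⧸ m')) := ⟨algebraMap _ _⟩
      apply IsPurelyInseparable.of_injective_comp_algebraMap (R ⧸ maximalIdeal R) (N ⧸ m')
        (AlgebraicClosure (N ⧸ m'))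
      intro f₁ f₂ hf
      have hf' : f₁.comp ψ = f₂.comp ψ := hf
      have key := h _ (f₁.comp (Ideal.Quotient.mk m')) (f₂.comp (Ideal.Quotient.mk m'))
        (by rw [e, e, hf']) (by rw [e]; exact hkerj _ _)
      exact Ideal.Quotient.ringHom_ext key
    obtain ⟨q, hq⟩ := ExpChar.exists (R ⧸ maximalIdeal R)
    haveI := hq
    haveI : ExpChar (N ⧸ m') q := expChar_of_injective_ringHom ψ.injective q
    have hq' : ringExpChar (N ⧸ m') = q := ringExpChar.eq _ q
    obtain ⟨n, y, hy⟩ := IsPurelyInseparable.pow_mem (R ⧸ maximalIdeal R) q x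
    obtain ⟨r, rfl⟩ := Ideal.Quotient.mk_surjective y
    exact ⟨n, r, by rw [hq']; exact hy⟩

/-- transport of `PtInj` along an isomorphism of the target. -/
theorem ptInj_of_ringEquiv {R N N' : Type u} [CommRing R] [IsLocalRing R] [CommRing N] [CommRing N']
    (φ : R →+* N) (φ' : R →+* N') (Ψ : N ≃+* N') (hΨ : Ψ.toRingHom.comp φ = φ') (h : PtInj φ) :
    PtInj φ' := by
  intro L _ g₁ g₂ hg hker
  subst hΨ
  have := h L (g₁.comp Ψ.toRingHom) (g₂.comp Ψ.toRingHom)
    (by rw [RingHom.comp_assoc, RingHom.comp_assoc, hg])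
    (by rw [RingHom.comp_assoc]; exact hker)
  ext y
  have h2 := RingHom.congr_fun this (Ψ.symm y)
  simpa using h2

set_option maxHeartbeats 800000 in
/-- A local domain is geometrically unibranch iff field valued points of its normalization over the
closed point are determined by their restriction. -/
theorem isGeomUnibranch_iff_ptInj (R : Type u) [CommRing R] [IsDomain R] [IsLocalRing R]
    (K : Type u) [Field K] [Algebra R K] [IsFractionRing R K] :
    CAlg2.IsGeomUnibranch R ↔ PtInj (algebraMap R (integralClosure R K)) := by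
  have hnil : nilradical R = ⊥ := nilradical_eq_zero R
  let ρ : R ≃+* CAlg2.red R := RingEquiv.ofBijective (Ideal.Quotient.mk (nilradical R))
    ⟨by rw [RingHom.injective_iff_ker_eq_bot, Ideal.mk_ker, hnil], Ideal.Quotient.mk_surjective⟩
  haveI hdom : IsDomain (CAlg2.red R) := ρ.symm.toMulEquiv.isDomain R
  let E : K ≃+* FractionRing (CAlg2.red R) := IsFractionRing.ringEquivOfRingEquiv ρ
  have hE : ∀ r, E (algebraMap R K r) =
      algebraMap (CAlg2.red R) (FractionRing (CAlg2.red R)) (ρ r) :=
    fun r => IsFractionRing.ringEquivOfRingEquiv_algebraMap ρ r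
  have hE' : ∀ r, E.symm (algebraMap (CAlg2.red R) (FractionRing (CAlg2.red R)) r) =
      algebraMap R K (ρ.symm r) := by
    intro r
    rw [RingEquiv.symm_apply_eq, hE, RingEquiv.apply_symm_apply]
  let Ψ : CAlg2.normRed R ≃+* integralClosure R K :=
    { toFun := fun x => ⟨E.symm x.1, IsIntegral.map_of_comp_eq ρ.symm.toRingHom E.symm.toRingHom
        (by ext r; exact (hE' r).symm) x.2⟩
      invFun := fun y => ⟨E y.1, IsIntegral.map_of_comp_eq ρ.toRingHom E.toRingHom
        (by ext r; exact (hE r).symm) y.2⟩
      left_inv := fun x => Subtype.ext (E.apply_symm_apply _)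
      right_inv := fun y => Subtype.ext (E.symm_apply_apply _)
      map_mul' := fun x y => Subtype.ext (map_mul E.symm _ _)
      map_add' := fun x y => Subtype.ext (map_add E.symm _ _) }
  let φR : R →+* CAlg2.normRed R :=
    (algebraMap (CAlg2.red R) (CAlg2.normRed R)).comp (Ideal.Quotient.mk (nilradical R))
  have hΨ : Ψ.toRingHom.comp φR = algebraMap R (integralClosure R K) := by
    ext r
    show E.symm (algebraMap (CAlg2.red R) (FractionRing (CAlg2.red R))
      (Ideal.Quotient.mk (nilradical R) r)) = algebraMap R K r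
    rw [hE']
    congr 1
    exact ρ.symm_apply_apply r
  have hΨ' : Ψ.symm.toRingHom.comp (algebraMap R (integralClosure R K)) = φR := by
    rw [← hΨ]; ext x; simp
  have hφint : φR.IsIntegral :=
    RingHom.IsIntegral.trans _ _
      (RingHom.isIntegral_of_surjective _ Ideal.Quotient.mk_surjective)
      (algebraMap_isIntegral_iff.mpr inferInstance)
  constructor
  · rintro ⟨⟨_, hloc⟩, hpi⟩
    haveI := hloc
    exact ptInj_of_ringEquiv φR _ Ψ hΨ (ptInj_of_local φR hφint hpi)
  · intro h
    obtain ⟨h1, h2⟩ := local_of_ptInj φR hφint (ptInj_of_ringEquiv _ φR Ψ.symm hΨ' h)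
    exact ⟨⟨hdom, h1⟩, h2⟩

set_option maxHeartbeats 1600000 in
/-- For a domain `A` with fraction field `K`, a prime `p` and a localization `R` of `A` at `p`:
`R` is geometrically unibranch iff field valued points of the normalization of `A` over `p` are determined
by their restriction to `A`. -/
theorem isGeomUnibranch_iff_of_atPrime {A : Type u} [CommRing A] [IsDomain A]
    (K : Type u) [Field K] [Algebra A K] [IsFractionRing A K] (p : Ideal A) [p.IsPrime]
    (R : Type u) [CommRing R] [IsLocalRing R] [Algebra A R] [IsLocalization.AtPrime R p] :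
    CAlg2.IsGeomUnibranch R ↔
      ∀ (L : Type u) [Field L] (g₁ g₂ : integralClosure A K →+* L),
        g₁.comp (algebraMap A (integralClosure A K)) = g₂.comp (algebraMap A (integralClosure A K)) →
        RingHom.ker (g₁.comp (algebraMap A (integralClosure A K))) = p → g₁ = g₂ := by
  classical
  haveI : IsDomain R := IsLocalization.isDomain_of_atPrime R p
  have hunits : ∀ y : p.primeCompl, IsUnit (algebraMap A K y) := fun y =>
    IsUnit.mk0 _ (by
      intro h0
      have : (y : A) = 0 := (IsFractionRing.injective A K) (by rw [h0, map_zero])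
      exact y.2 (this ▸ p.zero_mem))
  letI : Algebra R K := (IsLocalization.lift (M := p.primeCompl) hunits).toAlgebra
  haveI : IsScalarTower A R K :=
    IsScalarTower.of_algebraMap_eq (fun a => (IsLocalization.lift_eq hunits a).symm)
  haveI : IsFractionRing R K :=
    IsFractionRing.isFractionRing_of_isDomain_of_isLocalization p.primeCompl R K
  let ι : integralClosure A K →ₐ[A] integralClosure R K :=
    ((integralClosure A K).val).codRestrict ((integralClosure R K).restrictScalars A)
      (fun a => (a.2 : IsIntegral A a.1).tower_top)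
  letI : Algebra (integralClosure A K) (integralClosure R K) := ι.toRingHom.toAlgebra
  haveI : IsScalarTower (integralClosure A K) (integralClosure R K) K :=
    IsScalarTower.of_algebraMap_eq' rfl
  haveI : IsScalarTower A (integralClosure A K) (integralClosure R K) :=
    IsScalarTower.of_algebraMap_eq' ι.comp_algebraMap.symm
  haveI : IsLocalization (Algebra.algebraMapSubmonoid K p.primeCompl) K :=
    IsLocalization.of_le_isUnit (by
      rintro _ ⟨y, hy, rfl⟩
      exact hunits ⟨y, hy⟩)
  haveI hloc : IsLocalization (Algebra.algebraMapSubmonoid (integralClosure A K) p.primeCompl)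
      (integralClosure R K) :=
    IsLocalization.integralClosure (S := K) (Rf := R) (Sf := K) p.primeCompl
  have e : ∀ (L : Type u) [Field L] (G : integralClosure R K →+* L),
      (G.comp (algebraMap R (integralClosure R K))).comp (algebraMap A R) =
        (G.comp (algebraMap (integralClosure A K) (integralClosure R K))).comp
          (algebraMap A (integralClosure A K)) := by
    intro L _ G
    rw [RingHom.comp_assoc, RingHom.comp_assoc, ← IsScalarTower.algebraMap_eq A R,
      ← IsScalarTower.algebraMap_eq A (integralClosure A K)]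
  rw [isGeomUnibranch_iff_ptInj R K]
  constructor
  · intro hPt L _ g₁ g₂ hg hp
    have hu : ∀ (g : integralClosure A K →+* L),
        RingHom.ker (g.comp (algebraMap A (integralClosure A K))) = p →
        ∀ y : Algebra.algebraMapSubmonoid (integralClosure A K) p.primeCompl, IsUnit (g y) := by
      rintro g hk ⟨_, y, hy, rfl⟩
      apply IsUnit.mk0
      intro h0
      apply hy
      rw [← hk]
      exact RingHom.mem_ker.mpr h0
    have hk2 : RingHom.ker (g₂.comp (algebraMap A (integralClosure A K))) = p := hg ▸ hp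
    have hG₁ := IsLocalization.lift_comp (S := integralClosure R K) (hu g₁ hp)
    have hG₂ := IsLocalization.lift_comp (S := integralClosure R K) (hu g₂ hk2)
    have hGR : (IsLocalization.lift (S := integralClosure R K) (hu g₁ hp)).comp
          (algebraMap R (integralClosure R K)) =
        (IsLocalization.lift (S := integralClosure R K) (hu g₂ hk2)).comp
          (algebraMap R (integralClosure R K)) := by
      apply IsLocalization.ringHom_ext p.primeCompl
      rw [e, e, hG₁, hG₂, hg]
    have hkerG : RingHom.ker ((IsLocalization.lift (S := integralClosure R K) (hu g₁ hp)).comp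
          (algebraMap R (integralClosure R K))) = maximalIdeal R := by
      have hc : Ideal.under A (RingHom.ker ((IsLocalization.lift (S := integralClosure R K)
          (hu g₁ hp)).comp (algebraMap R (integralClosure R K)))) = p := by
        show Ideal.comap (algebraMap A R) _ = p
        rw [RingHom.comap_ker, e, hG₁, hp]
      rw [← IsLocalization.map_under p.primeCompl R (RingHom.ker _), hc]
      exact IsLocalization.AtPrime.map_eq_maximalIdeal p R
    have := hPt L _ _ hGR hkerG
    rw [← hG₁, ← hG₂, this]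
  · intro H L _ G₁ G₂ hG hker
    apply IsLocalization.ringHom_ext (Algebra.algebraMapSubmonoid (integralClosure A K) p.primeCompl)
    apply H L
    · rw [← e, ← e, hG]
    · rw [← e, ← RingHom.comap_ker, hker]
      exact IsLocalization.AtPrime.comap_maximalIdeal R p

end Groth.Agent.Lib.Helper11.Unibranch
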