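import Mathlib
import Groth.Prelude.Def_CAlg2
import Groth.Prelude.Def_Flat
import Groth.Agent.Lib.Helper11.Unibranch

/-!
# Normalization of geometrically unibranch integral schemes (helper11)

* `ringHom_eq_of_pi`: ring level: `A` a domain all of whose localizations at primes are geometrically
  unibranch, `F` a "purely inseparable extension of the fraction field"; then field valued points of
  `integralClosure A F` are determined by their restriction to `A`.
* `fromNormalization_of_affine`: a Zariski-local-at-target property holds for `f.fromNormalization` if it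
  holds for the affine pieces.
* `isUnivHomeo_fromNormalization`: scheme level consequence.
* `exists_bijective_app`: sections of `Spec R ⟶ Spec 𝒪_{Y,x} ⟶ Y` over an open containing `x`.
-/

set_option autoImplicit false
universe u
open CategoryTheory AlgebraicGeometry IsLocalRing TopologicalSpace

namespace Groth.Agent.Lib.Helper11.UnibranchSch
open Groth.Agent.Lib.Helper11.Unibranch Groth.Agent.Lib.Helper11.UHRing

set_option maxHeartbeats 1600000 in
theorem ringHom_eq_of_pi {A : Type u} [CommRing A] [IsDomain A] {F : Type u} [CommRing F]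
    [Nontrivial F] [Algebra A F]
    (hunit : ∀ s : A, s ≠ 0 → IsUnit (algebraMap A F s))
    (q : ℕ) (hq : q = 1 ∨ (q.Prime ∧ (q : A) = 0))
    (hpi : ∀ x : F, ∃ (n : ℕ) (a b : A), b ≠ 0 ∧
      algebraMap A F b * x ^ q ^ n = algebraMap A F a)
    (hA : ∀ (p : Ideal A) [p.IsPrime], ∃ (R : Type u) (_ : CommRing R) (_ : IsLocalRing R)
      (_ : Algebra A R) (_ : IsLocalization.AtPrime R p), CAlg2.IsGeomUnibranch R)
    (L : Type u) [Field L] (g₁ g₂ : integralClosure A F →+* L)
    (hg : g₁.comp (algebraMap A (integralClosure A F)) =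
      g₂.comp (algebraMap A (integralClosure A F))) : g₁ = g₂ := by
  classical
  have hu : ∀ y : nonZeroDivisors A, IsUnit (algebraMap A F y) :=
    fun y => hunit y (nonZeroDivisors.ne_zero y.2)
  letI : Algebra (FractionRing A) F := (IsLocalization.lift hu).toAlgebra
  haveI : IsScalarTower A (FractionRing A) F :=
    IsScalarTower.of_algebraMap_eq (fun a => (IsLocalization.lift_eq hu a).symm)
  have hιinj : Function.Injective (IsScalarTower.toAlgHom A (FractionRing A) F) :=
    (algebraMap (FractionRing A) F).injective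
  let j : integralClosure A (FractionRing A) →ₐ[A] integralClosure A F :=
    ((IsScalarTower.toAlgHom A (FractionRing A) F).comp
      (integralClosure A (FractionRing A)).val).codRestrict (integralClosure A F)
      (fun a => (a.2 : IsIntegral A a.1).map (IsScalarTower.toAlgHom A (FractionRing A) F))
  have e : ∀ g : integralClosure A F →+* L,
      (g.comp j.toRingHom).comp (algebraMap A (integralClosure A (FractionRing A))) =
        g.comp (algebraMap A (integralClosure A F)) := by
    intro g
    rw [RingHom.comp_assoc]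
    congr 1
    exact j.comp_algebraMap
  have h2 : g₁.comp j.toRingHom = g₂.comp j.toRingHom := by
    haveI : (RingHom.ker ((g₁.comp j.toRingHom).comp
        (algebraMap A (integralClosure A (FractionRing A))))).IsPrime := RingHom.ker_isPrime _
    obtain ⟨R, _, _, _, _, hR⟩ := hA (RingHom.ker ((g₁.comp j.toRingHom).comp
        (algebraMap A (integralClosure A (FractionRing A)))))
    refine (isGeomUnibranch_iff_of_atPrime (FractionRing A) _ R).mp hR L _ _ ?_ rfl
    rw [e, e, hg]
  ext b
  obtain ⟨n, a, s, hs, hb⟩ := hpi b.1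
  have hsK : algebraMap A (FractionRing A) s ≠ 0 :=
    (map_ne_zero_iff _ (IsFractionRing.injective A (FractionRing A))).mpr hs
  have hk : algebraMap (FractionRing A) F
      (algebraMap A (FractionRing A) a / algebraMap A (FractionRing A) s) = b.1 ^ q ^ n := by
    have h1 : algebraMap (FractionRing A) F
        (algebraMap A (FractionRing A) a / algebraMap A (FractionRing A) s) * algebraMap A F s =
        algebraMap A F a := by
      rw [IsScalarTower.algebraMap_apply A (FractionRing A) F s, ← map_mul,
        IsScalarTower.algebraMap_apply A (FractionRing A) F a]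
      congr 1
      exact div_mul_cancel₀ _ hsK
    apply (hunit s hs).mul_left_cancel
    rw [hb, mul_comm, h1]
  have hkint : IsIntegral A
      (algebraMap A (FractionRing A) a / algebraMap A (FractionRing A) s) := by
    have : IsIntegral A (IsScalarTower.toAlgHom A (FractionRing A) F
        (algebraMap A (FractionRing A) a / algebraMap A (FractionRing A) s)) := by
      show IsIntegral A (algebraMap (FractionRing A) F _)
      rw [hk]; exact (b.2 : IsIntegral A b.1).pow _
    exact (isIntegral_algHom_iff (IsScalarTower.toAlgHom A (FractionRing A) F) hιinj).mp this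
  have hj : j ⟨_, hkint⟩ = b ^ q ^ n := Subtype.ext hk
  have h3 : g₁ b ^ q ^ n = g₂ b ^ q ^ n := by
    rw [← map_pow, ← map_pow, ← hj]
    exact RingHom.congr_fun h2 ⟨_, hkint⟩
  rcases hq with rfl | ⟨hprime, hq0⟩
  · simpa using h3
  · haveI : CharP L q := (CharP.charP_iff_prime_eq_zero hprime).mpr (by
      have : (q : L) = g₁ (algebraMap A (integralClosure A F) (q : A)) := by simp
      rw [this, hq0, map_zero, map_zero])
    haveI : ExpChar L q := ExpChar.prime hprime
    exact eq_of_pow_expChar_pow_eq q h3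

set_option backward.isDefEq.respectTransparency false in
theorem fromNormalization_of_affine (P : MorphismProperty Scheme.{u}) [IsZariskiLocalAtTarget P]
    {X Y : Scheme.{u}} (f : X ⟶ Y) [QuasiCompact f] [QuasiSeparated f]
    (H : ∀ U : Y.affineOpens, P (Spec.map (f.normalizationDiagramMap.app (.op U.1)))) :
    P f.fromNormalization := by
  rw [IsZariskiLocalAtTarget.iff_of_iSup_eq_top (P := P) _ (iSup_affineOpens_eq_top _)]
  intro U
  let e := IsOpenImmersion.isoOfRangeEq (f.fromNormalization ⁻¹ᵁ U).ι
      (f.normalizationOpenCover.f U)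
      (by simpa using congr($(f.fromNormalization_preimage U).1))
  rw [← MorphismProperty.cancel_left_of_respectsIso P e.inv,
    ← MorphismProperty.cancel_right_of_respectsIso P _ U.2.isoSpec.hom]
  convert! H U
  rw [← cancel_mono U.2.fromSpec]
  simp [IsAffineOpen.isoSpec_hom, e, Scheme.Hom.ι_fromNormalization]

set_option maxHeartbeats 1600000 in
theorem isUnivHomeo_fromNormalization {X Y : Scheme.{u}} [IsIntegral Y] (f : X ⟶ Y)
    [QuasiCompact f] [QuasiSeparated f]
    (hY : ∀ y : Y, CAlg2.IsGeomUnibranch (Y.presheaf.stalk y))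
    (H : ∀ U : Y.affineOpens, (U : Y.Opens) ≠ ⊥ →
        Nontrivial Γ(X, f ⁻¹ᵁ U) ∧ (∀ s : Γ(Y, U), s ≠ 0 → IsUnit ((f.app U).hom s)) ∧
        ∃ q : ℕ, (q = 1 ∨ (q.Prime ∧ (q : Γ(Y, U)) = 0)) ∧
        ∀ x : Γ(X, f ⁻¹ᵁ U), ∃ (n : ℕ) (a b : Γ(Y, U)), b ≠ 0 ∧
          (f.app U).hom b * x ^ q ^ n = (f.app U).hom a) :
    FlatMor.IsUnivHomeo f.fromNormalization := by
  rw [isUnivHomeo_iff]
  have hint : ∀ U : Y.affineOpens,
      (f.normalizationDiagramMap.app (.op U.1)).hom.IsIntegral := by
    intro U
    letI := (f.app U.1).hom.toAlgebra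
    change (algebraMap Γ(Y, U.1) (integralClosure Γ(Y, U.1) Γ(X, f ⁻¹ᵁ U.1))).IsIntegral
    exact algebraMap_isIntegral_iff.mpr inferInstance
  have hker : ∀ U : Y.affineOpens,
      RingHom.ker (f.normalizationDiagramMap.app (.op U.1)).hom ≤ nilradical _ := by
    intro U
    letI := (f.app U.1).hom.toAlgebra
    change RingHom.ker (algebraMap Γ(Y, U.1) (integralClosure Γ(Y, U.1) Γ(X, f ⁻¹ᵁ U.1))) ≤ _
    by_cases hU : (U : Y.Opens) = ⊥
    · intro a _
      haveI : Subsingleton Γ(Y, U.1) :=
        CommRingCat.subsingleton_of_isTerminal (Y.sheaf.isTerminalOfEqEmpty hU)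
      rw [Subsingleton.elim a 0]; exact zero_mem _
    · obtain ⟨hnt, hunit, -⟩ := H U hU
      intro a ha
      by_contra hne
      have ha0 : a ≠ 0 := fun h => hne (h ▸ zero_mem _)
      have h1 := hunit a ha0
      have h2 : (f.app U.1).hom a = 0 := congrArg Subtype.val (RingHom.mem_ker.mp ha)
      rw [h2] at h1
      exact not_isUnit_zero h1
  refine ⟨inferInstance, ?_, ?_⟩
  · refine fromNormalization_of_affine @UniversallyInjective f fun U => ?_
    letI := (f.app U.1).hom.toAlgebra
    change UniversallyInjective (Spec.map (CommRingCat.ofHom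
      (algebraMap Γ(Y, U.1) (integralClosure Γ(Y, U.1) Γ(X, f ⁻¹ᵁ U.1)))))
    rw [universallyInjective_SpecMap_iff]
    intro L _ g₁ g₂ hg
    by_cases hU : (U : Y.Opens) = ⊥
    · haveI : Subsingleton Γ(Y, U.1) :=
        CommRingCat.subsingleton_of_isTerminal (Y.sheaf.isTerminalOfEqEmpty hU)
      have h1 : (1 : Γ(Y, U.1)) = 0 := Subsingleton.elim _ _
      have : (1 : L) = 0 := by
        calc (1 : L) = g₁ (algebraMap Γ(Y, U.1) _ (1 : Γ(Y, U.1))) := by simp
          _ = 0 := by rw [h1]; simp
      exact absurd this one_ne_zero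
    · obtain ⟨hnt, hunit, q, hq, hpi⟩ := H U hU
      haveI := hnt
      haveI : Nonempty U.1 := by
        obtain ⟨x, hx⟩ := (Opens.ne_bot_iff_nonempty _).mp hU
        exact ⟨⟨x, hx⟩⟩
      refine ringHom_eq_of_pi hunit q hq hpi ?_ L g₁ g₂ hg
      intro p _
      have hy : U.2.fromSpec ⟨p, inferInstance⟩ ∈ U.1 := by
        have := U.2.range_fromSpec
        rw [← SetLike.mem_coe, ← this]
        exact ⟨_, rfl⟩
      letI := TopCat.Presheaf.algebra_section_stalk Y.presheaf ⟨U.2.fromSpec ⟨p, inferInstance⟩, hy⟩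
      haveI : IsLocalization.AtPrime (Y.presheaf.stalk (U.2.fromSpec ⟨p, inferInstance⟩)) p :=
        U.2.isLocalization_stalk' ⟨p, inferInstance⟩ hy
      exact ⟨Y.presheaf.stalk (U.2.fromSpec ⟨p, inferInstance⟩), inferInstance, inferInstance,
        inferInstance, inferInstance, hY _⟩
  · refine fromNormalization_of_affine @Surjective f fun U => ?_
    exact ⟨comap_surjective_of_integral _ (hint U) (hker U)⟩

theorem bijective_res {X : Scheme.{u}} {V W : X.Opens} (h : V = W) (hle : V ≤ W) :
    Function.Bijective (X.presheaf.map (homOfLE hle).op).hom := by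
  subst h
  have : homOfLE hle = 𝟙 V := rfl
  rw [this, op_id, X.presheaf.map_id]
  exact Function.bijective_id

theorem exists_bijective_app {Y : Scheme.{u}} (x : Y) (R : CommRingCat.{u})
    (ψ : Y.presheaf.stalk x ⟶ R) (g : Spec R ⟶ Y) (hg : g = Spec.map ψ ≫ Y.fromSpecStalk x)
    (U : Y.Opens) (hx : x ∈ U) :
    ∃ ε : R →+* Γ(Spec R, g ⁻¹ᵁ U), Function.Bijective ε ∧
      (g.app U).hom = ε.comp (ψ.hom.comp (Y.presheaf.germ U x hx).hom) := by
  subst hg
  have htop : (Spec.map ψ ≫ Y.fromSpecStalk x) ⁻¹ᵁ U = ⊤ := by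
    ext z
    simp only [Opens.coe_top, Set.mem_univ, iff_true]
    have hz : (Y.fromSpecStalk x) ((Spec.map ψ) z) ⤳ x := by
      have : (Y.fromSpecStalk x) ((Spec.map ψ) z) ∈ Set.range (Y.fromSpecStalk x) := ⟨_, rfl⟩
      rw [Scheme.range_fromSpecStalk] at this; exact this
    exact hz.mem_open U.2 hx
  refine ⟨((Scheme.ΓSpecIso R).inv ≫ (Spec R).presheaf.map
    (homOfLE (le_top : (Spec.map ψ ≫ Y.fromSpecStalk x) ⁻¹ᵁ U ≤ ⊤)).op).hom, ?_, ?_⟩
  · rw [CommRingCat.hom_comp]
    exact (bijective_res htop le_top).comp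
      (ConcreteCategory.bijective_of_isIso (Scheme.ΓSpecIso R).inv)
  · rw [← CommRingCat.hom_comp, ← CommRingCat.hom_comp]
    congr 1
    rw [Scheme.Hom.comp_app, Scheme.fromSpecStalk_app hx]
    simp only [Category.assoc]
    congr 1
    rw [Scheme.Hom.naturality, ← Category.assoc, ← Category.assoc ψ, Scheme.ΓSpecIso_inv_naturality]
    rfl

end Groth.Agent.Lib.Helper11.UnibranchSch
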