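import Groth.Agent.Lib.Helper11.UnitsDefA
import Groth.Agent.Lib.Helper13.BaseChangeVanish

/-!
# Surjectivity on cohomology of units for a principal square-zero thickening of a flat scheme
-/

set_option autoImplicit false
universe u
open CategoryTheory CategoryTheory.Limits AlgebraicGeometry TopologicalSpace Opposite
open Scheme.Modules

noncomputable section

namespace Groth.Agent.Lib.Helper11.UnitsDefB

open Groth.Agent.Lib.Helper3 Groth.Agent.Lib.Helper11.PbKer Groth.Agent.Lib.Helper11.UnitsDefA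

section Coh

variable {X : TopCat.{u}}

theorem H_map_surjective_of_shortExact (S : ShortComplex (CohTop.Ab X)) (hS : S.ShortExact)
    (q : ℕ) (h : Subsingleton (Sheaf.H S.X₁ (q + 1))) :
    Function.Surjective (Sheaf.H.map S.g q) := by
  intro x₃
  have h0 : x₃.comp hS.extClass rfl = 0 := @Subsingleton.elim (Sheaf.H S.X₁ (q + 1)) h _ _
  obtain ⟨x₂, hx₂⟩ := Abelian.Ext.covariant_sequence_exact₃ _ hS x₃ rfl h0
  exact ⟨x₂, hx₂⟩

theorem subsingleton_H_of_iso {F G : CohTop.Ab X} (e : F ≅ G) (n : ℕ)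
    (h : Subsingleton (Sheaf.H G n)) : Subsingleton (Sheaf.H F n) := by
  refine ⟨fun a b => ?_⟩
  have h1 : Sheaf.H.map e.hom n a = Sheaf.H.map e.hom n b := Subsingleton.elim _ _
  have h2 := congrArg (Sheaf.H.map e.inv n) h1
  rwa [← Sheaf.H.map_comp_apply, ← Sheaf.H.map_comp_apply, e.hom_inv_id, Sheaf.H.map_id_apply,
    Sheaf.H.map_id_apply] at h2

theorem H_map_surjective_of_isIso {F G : CohTop.Ab X} (θ : F ⟶ G) [IsIso θ] (n : ℕ) :
    Function.Surjective (Sheaf.H.map θ n) := by
  intro y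
  refine ⟨Sheaf.H.map (inv θ) n y, ?_⟩
  rw [← Sheaf.H.map_comp_apply, IsIso.inv_hom_id, Sheaf.H.map_id_apply]

end Coh

section Units

variable {X Y Z : Scheme.{u}}

/-- `g_* O_Y^× ⟶ (e ≫ g)_* O_X^×` -/
def pushComap (e : X ⟶ Y) (g : Y ⟶ Z) : (CohTop.push g.base).obj (UnitsSh.unitsAb Y) ⟶
    (CohTop.push (e ≫ g).base).obj (UnitsSh.unitsAb X) :=
  (CohTop.push g.base).map (UnitsSh.comap e)

theorem comap_comp (e : X ⟶ Y) (g : Y ⟶ Z) :
    UnitsSh.comap (e ≫ g) = UnitsSh.comap g ≫ pushComap e g := by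
  apply Sheaf.hom_ext
  ext U s
  rfl

instance isIso_comap (e : X ⟶ Y) [IsIso e] : IsIso (UnitsSh.comap e) := by
  haveI : IsIso ((sheafToPresheaf _ _).map (UnitsSh.comap e)) := by
    change IsIso (Functor.whiskerRight e.c UnitsSh.unitsFunctor)
    haveI : ∀ U, IsIso ((Functor.whiskerRight e.c UnitsSh.unitsFunctor).app U) := by
      intro U
      change IsIso (UnitsSh.unitsFunctor.map (e.app U.unop))
      infer_instance
    exact NatIso.isIso_of_isIso_app _
  exact isIso_of_reflects_iso (UnitsSh.comap e) (sheafToPresheaf _ _)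

instance isIso_pushComap (e : X ⟶ Y) [IsIso e] (g : Y ⟶ Z) : IsIso (pushComap e g) := by
  unfold pushComap
  haveI := isIso_comap e
  exact Functor.map_isIso (CohTop.push g.base) (UnitsSh.comap e)

theorem surjective_comap_comp (e : X ⟶ Y) [IsIso e] (g : Y ⟶ Z) (q : ℕ)
    (h : Function.Surjective (Sheaf.H.map (UnitsSh.comap g) q)) :
    Function.Surjective (Sheaf.H.map (UnitsSh.comap (e ≫ g)) q) := by
  rw [comap_comp]
  intro y
  obtain ⟨y', hy'⟩ := H_map_surjective_of_isIso (pushComap e g) q y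
  obtain ⟨x, hx⟩ := h y'
  exact ⟨x, by rw [Sheaf.H.map_comp_apply, hx, hy']⟩

theorem surjective_of_eq (i i' : X ⟶ Y) (h : i = i') (q : ℕ)
    (hs : Function.Surjective (Sheaf.H.map (UnitsSh.comap i) q)) :
    Function.Surjective (Sheaf.H.map (UnitsSh.comap i') q) := by
  subst h; exact hs

end Units

section Main

variable {A B C : Type u} [CommRing A] [CommRing B] [CommRing C] (φ : A →+* B) (ψ : A →+* C)
variable {X' : Scheme.{u}} (f : X' ⟶ Spec (CommRingCat.of A)) [Flat f]
variable (t : A)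
variable (hφs : Function.Surjective φ) (hφ : RingHom.ker φ = Ideal.span {t})
variable (ht2 : t * t = 0)
variable (hψs : Function.Surjective ψ) (hψ : ∀ x, ψ x = 0 ↔ x * t = 0)

include hφs hφ ht2 hψs hψ in
theorem main (q : ℕ)
    (hvan : Subsingleton (Coh.HH (pullback f (Spec.map (CommRingCat.ofHom ψ)))
      (Coh.structureModule _) (q + 1))) :
    Function.Surjective (Sheaf.H.map (UnitsSh.comap
      (pullback.fst f (Spec.map (CommRingCat.ofHom φ)))) q) := by
  haveI := isClosedImmersion_ii φ f hφs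
  haveI := isClosedImmersion_ii ψ f hψs
  have hJ := JJ_sq φ f t hφs hφ ht2
  -- vanishing for the ideal module
  have hK : Subsingleton (Coh.HH X' (ClSub.idealMod (JJ φ f)) (q + 1)) := by
    obtain ⟨e⟩ := nonempty_iso φ ψ f t hφs hφ hψs hψ
    obtain ⟨e2⟩ := Groth.Agent.Lib.Helper13.BaseChangeVanish.nonempty_HH_equiv_push (ii ψ f)
      (Coh.structureModule _) (q + 1)
    have h3 : Subsingleton (Coh.HH X' ((Scheme.Modules.pushforward (ii ψ f)).obj
        (Coh.structureModule _)) (q + 1)) := e2.toEquiv.symm.subsingleton_congr.2 hvan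
    exact subsingleton_H_of_iso ((SheafOfModules.toSheaf X'.ringCatSheaf).mapIso e) (q + 1) h3
  have h1 : Function.Surjective (Sheaf.H.map (UnitsSh.comap (JJ φ f).subschemeι) q) :=
    H_map_surjective_of_shortExact _ (UnitsSq.shortExact (JJ φ f) hJ) q hK
  have h2 := surjective_comap_comp (ii φ f).toImage (JJ φ f).subschemeι q h1
  exact surjective_of_eq _ _ (ii φ f).toImage_imageι q h2

end Main

end Groth.Agent.Lib.Helper11.UnitsDefB
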