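import Groth.Agent.Lib.Helper11.UnitsDefB

/-!
# Split case: kernel of `H^q(O_{X'}^×) → H^q(i_* O_X^×)` for a retract
-/

set_option autoImplicit false
universe u
open CategoryTheory CategoryTheory.Limits AlgebraicGeometry TopologicalSpace Opposite
open Scheme.Modules

noncomputable section

namespace Groth.Agent.Lib.Helper11.UnitsDefC

open Groth.Agent.Lib.Helper3 Groth.Agent.Lib.Helper11.PbKer Groth.Agent.Lib.Helper11.UnitsDefA
  Groth.Agent.Lib.Helper11.UnitsDefB

section Coh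

variable {X : TopCat.{u}}

theorem H_map_zero {F G : CohTop.Ab X} (n : ℕ) (x : Sheaf.H F n) :
    Sheaf.H.map (0 : F ⟶ G) n x = 0 := by
  rw [Sheaf.H.map_apply, Abelian.Ext.mk₀_zero, Abelian.Ext.comp_zero]

theorem nonempty_ker_equiv_of_split (S : ShortComplex (CohTop.Ab X)) (hS : S.ShortExact)
    (σ : S.X₃ ⟶ S.X₂) (hσ : σ ≫ S.g = 𝟙 _) (q : ℕ) :
    Nonempty (Sheaf.H S.X₁ q ≃+ (Sheaf.H.map S.g q).ker) := by
  haveI := hS.mono_f
  let sp := ShortComplex.Splitting.ofExactOfSection S hS.exact σ hσ hS.mono_f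
  have hinj : Function.Injective (Sheaf.H.map S.f q) := by
    intro a b hab
    have := congrArg (Sheaf.H.map sp.r q) hab
    rwa [← Sheaf.H.map_comp_apply, ← Sheaf.H.map_comp_apply, sp.f_r, Sheaf.H.map_id_apply,
      Sheaf.H.map_id_apply] at this
  have hmem : ∀ x, Sheaf.H.map S.f q x ∈ (Sheaf.H.map S.g q).ker := by
    intro x
    rw [AddMonoidHom.mem_ker, ← Sheaf.H.map_comp_apply, S.zero, H_map_zero]
  let Φ : Sheaf.H S.X₁ q →+ (Sheaf.H.map S.g q).ker := (Sheaf.H.map S.f q).codRestrict _ hmem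
  refine ⟨AddEquiv.ofBijective Φ ⟨?_, ?_⟩⟩
  · intro a b hab
    exact hinj (congrArg Subtype.val hab)
  · rintro ⟨y, hy⟩
    rw [AddMonoidHom.mem_ker] at hy
    obtain ⟨x₁, hx₁⟩ := Abelian.Ext.covariant_sequence_exact₂ _ hS y hy
    exact ⟨x₁, Subtype.ext hx₁⟩

/-- cohomology of isomorphic sheaves -/
def HEquivOfIso {F G : CohTop.Ab X} (e : F ≅ G) (n : ℕ) : Sheaf.H F n ≃+ Sheaf.H G n :=
  AddMonoidHom.toAddEquiv (Sheaf.H.map e.hom n) (Sheaf.H.map e.inv n)
    (by ext x; change Sheaf.H.map e.inv n (Sheaf.H.map e.hom n x) = x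
        rw [← Sheaf.H.map_comp_apply, e.hom_inv_id, Sheaf.H.map_id_apply])
    (by ext x; change Sheaf.H.map e.hom n (Sheaf.H.map e.inv n x) = x
        rw [← Sheaf.H.map_comp_apply, e.inv_hom_id, Sheaf.H.map_id_apply])

theorem H_map_injective_of_isIso {F G : CohTop.Ab X} (θ : F ⟶ G) [IsIso θ] (n : ℕ) :
    Function.Injective (Sheaf.H.map θ n) := by
  intro a b hab
  have := congrArg (Sheaf.H.map (inv θ) n) hab
  rwa [← Sheaf.H.map_comp_apply, ← Sheaf.H.map_comp_apply, IsIso.hom_inv_id, Sheaf.H.map_id_apply,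
    Sheaf.H.map_id_apply] at this

end Coh

section Split

variable {X Z : Scheme.{u}} (ι : Z ⟶ X) (c' : X ⟶ Z) (hc : ι ≫ c' = 𝟙 Z)
  (hsurj : ∀ x : X, ∃ z : Z, ι z = x)

include hc hsurj in
theorem preimage_eq (U : X.Opens) : (c' ≫ ι) ⁻¹ᵁ U = U := by
  ext x
  obtain ⟨z, rfl⟩ := hsurj x
  have h1 : (ι ≫ c' ≫ ι) z = ι z := by rw [← Category.assoc, hc, Category.id_comp]
  have h2 : (c' ≫ ι) (ι z) = ι z := h1
  change (c' ≫ ι) (ι z) ∈ U ↔ ι z ∈ U
  rw [h2]

/-- `(c' ≫ ι)_* F ⟶ F` when `c' ≫ ι` is the identity on points -/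
def τ (F : CohTop.Ab X.toTopCat) : (CohTop.push (c' ≫ ι).base).obj F ⟶ F :=
  ⟨{ app := fun U => F.obj.map (eqToHom (preimage_eq ι c' hc hsurj U.unop).symm).op
     naturality := by
       intro U V f
       change F.obj.map ((Opens.map (c' ≫ ι).base).op.map f) ≫ F.obj.map _ =
         F.obj.map _ ≫ F.obj.map f
       rw [← Functor.map_comp, ← Functor.map_comp]
       congr 1 }⟩

/-- the section of `comap ι` defined by the retraction -/
def σ : (CohTop.push ι.base).obj (UnitsSh.unitsAb Z) ⟶ UnitsSh.unitsAb X :=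
  pushComap c' ι ≫ τ ι c' hc hsurj (UnitsSh.unitsAb X)

include hc hsurj in
theorem preimage_eq' (U : X.Opens) : c' ⁻¹ᵁ (ι ⁻¹ᵁ U) = U := preimage_eq ι c' hc hsurj U

theorem key (U : X.Opens) :
    c'.app (ι ⁻¹ᵁ U) ≫ X.presheaf.map (eqToHom (preimage_eq' ι c' hc hsurj U).symm).op ≫ ι.app U =
      𝟙 _ := by
  rw [ι.naturality, ← Category.assoc, ← Scheme.Hom.comp_app, Scheme.Hom.congr_app hc,
    Scheme.Hom.id_app]
  erw [Category.id_comp, ← Functor.map_comp]
  exact Z.presheaf.map_id _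

theorem σ_comap : σ ι c' hc hsurj ≫ UnitsSh.comap ι = 𝟙 _ := by
  apply Sheaf.hom_ext
  ext U s
  apply Additive.toMul.injective
  apply Units.ext
  exact congr($(key ι c' hc hsurj U.unop) (Additive.toMul s).val)

end Split

section Ker

variable {X Y Z : Scheme.{u}}

theorem ker_comap_comp (e : X ⟶ Y) [IsIso e] (g : Y ⟶ Z) (q : ℕ) :
    (Sheaf.H.map (UnitsSh.comap (e ≫ g)) q).ker = (Sheaf.H.map (UnitsSh.comap g) q).ker := by
  ext x
  rw [AddMonoidHom.mem_ker, AddMonoidHom.mem_ker, comap_comp, Sheaf.H.map_comp_apply]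
  constructor
  · intro h
    apply H_map_injective_of_isIso (pushComap e g) q
    rw [h, map_zero]
  · intro h
    rw [h, map_zero]

theorem nonempty_ker_equiv_of_eq {G : Type u} [AddCommGroup G] (i i' : X ⟶ Y) (h : i = i') (q : ℕ)
    (hs : Nonempty ((Sheaf.H.map (UnitsSh.comap i) q).ker ≃+ G)) :
    Nonempty ((Sheaf.H.map (UnitsSh.comap i') q).ker ≃+ G) := by
  subst h; exact hs

end Ker

section Main

variable {A B : Type u} [CommRing A] [CommRing B] (φ : A →+* B)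
variable {X' : Scheme.{u}} (f : X' ⟶ Spec (CommRingCat.of A)) [Flat f]
variable (t : A)
variable (hφs : Function.Surjective φ) (hφ : RingHom.ker φ = Ideal.span {t})
variable (ht2 : t * t = 0)
variable (hψ : ∀ x, φ x = 0 ↔ x * t = 0)

include hφs hφ ht2 in
theorem surjective_ii (x : X') : ∃ z, (ii φ f) z = x := by
  haveI : Surjective (Spec.map (CommRingCat.ofHom φ)) := by
    constructor
    intro y
    have h1 : Set.range (PrimeSpectrum.comap φ) = Set.univ := by
      rw [range_comap_of_surjective _ φ hφs, PrimeSpectrum.zeroLocus_eq_univ_iff, hφ]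
      intro a ha
      obtain ⟨b, rfl⟩ := Ideal.mem_span_singleton'.mp ha
      refine ⟨2, ?_⟩
      rw [mul_pow, pow_two t, ht2, mul_zero]
      exact zero_mem _
    have h2 : y ∈ Set.range (PrimeSpectrum.comap φ) := by rw [h1]; trivial
    obtain ⟨z, hz⟩ := h2
    exact ⟨z, hz⟩
  exact (inferInstance : Surjective (ii φ f)).surj x

include hφs hφ ht2 hψ in
theorem main (c' : X' ⟶ pullback f (Spec.map (CommRingCat.ofHom φ)))
    (hc : ii φ f ≫ c' = 𝟙 _) (q : ℕ) :
    Nonempty ((Sheaf.H.map (UnitsSh.comap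
      (pullback.fst f (Spec.map (CommRingCat.ofHom φ)))) q).ker ≃+
      Coh.HH (pullback f (Spec.map (CommRingCat.ofHom φ))) (Coh.structureModule _) q) := by
  haveI := isClosedImmersion_ii φ f hφs
  have hJ := JJ_sq φ f t hφs hφ ht2
  let e := (ii φ f).toImage
  have he : e ≫ (JJ φ f).subschemeι = ii φ f := (ii φ f).toImage_imageι
  have hι : (JJ φ f).subschemeι = inv e ≫ ii φ f := by
    rw [IsIso.eq_inv_comp]; exact he
  -- retraction for the subscheme
  have hcJ : (JJ φ f).subschemeι ≫ (c' ≫ e) = 𝟙 _ := by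
    rw [hι, Category.assoc, reassoc_of% hc, IsIso.inv_hom_id]
  have hsJ : ∀ x : X', ∃ z, (JJ φ f).subschemeι z = x := by
    intro x
    obtain ⟨z, hz⟩ := surjective_ii φ f t hφs hφ ht2 x
    refine ⟨e z, ?_⟩
    have : (e ≫ (JJ φ f).subschemeι) z = x := by rw [he]; exact hz
    exact this
  obtain ⟨E1⟩ := nonempty_ker_equiv_of_split _ (UnitsSq.shortExact (JJ φ f) hJ)
    (σ (JJ φ f).subschemeι (c' ≫ e) hcJ hsJ) (σ_comap (JJ φ f).subschemeι (c' ≫ e) hcJ hsJ) q
  obtain ⟨em⟩ := nonempty_iso φ φ f t hφs hφ hφs hψ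
  obtain ⟨E4⟩ := Groth.Agent.Lib.Helper13.BaseChangeVanish.nonempty_HH_equiv_push (ii φ f)
    (Coh.structureModule _) q
  let E3 := HEquivOfIso ((SheafOfModules.toSheaf X'.ringCatSheaf).mapIso em) q
  have E : Nonempty ((Sheaf.H.map (UnitsSh.comap (JJ φ f).subschemeι) q).ker ≃+
      Coh.HH (pullback f (Spec.map (CommRingCat.ofHom φ))) (Coh.structureModule _) q) :=
    ⟨E1.symm.trans (E3.trans E4.symm)⟩
  have E' : Nonempty ((Sheaf.H.map (UnitsSh.comap (e ≫ (JJ φ f).subschemeι)) q).ker ≃+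
      Coh.HH (pullback f (Spec.map (CommRingCat.ofHom φ))) (Coh.structureModule _) q) := by
    rw [ker_comap_comp]
    exact E
  exact nonempty_ker_equiv_of_eq _ _ he q E'

end Main

end Groth.Agent.Lib.Helper11.UnitsDefC
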