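import Groth.Agent.Lib.Helper11.UnitsDefC
import Groth.Agent.Lib.Helper13.ClosedEmbPush

/-!
# General lemmas for the filtration argument on units of an Artinian thickening
-/

set_option autoImplicit false
universe u v
open CategoryTheory CategoryTheory.Limits AlgebraicGeometry TopologicalSpace Opposite
open Scheme.Modules

noncomputable section

namespace Groth.Agent.Lib.Helper11.UnitsDefD

open Groth.Agent.Lib.Helper3 Groth.Agent.Lib.Helper11.PbKer Groth.Agent.Lib.Helper11.UnitsDefA
  Groth.Agent.Lib.Helper11.UnitsDefB Groth.Agent.Lib.Helper11.UnitsDefC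

section KerSeq

variable {C : Type u} [Category.{v} C] [Abelian C] {P Q R : C} (a : P ⟶ Q) (b : Q ⟶ R)

/-- `ker a ⟶ ker (a ≫ b)` -/
def kα : kernel a ⟶ kernel (a ≫ b) :=
  kernel.lift _ (kernel.ι a) (by rw [← Category.assoc, kernel.condition, zero_comp])

/-- `ker (a ≫ b) ⟶ ker b` -/
def kβ : kernel (a ≫ b) ⟶ kernel b :=
  kernel.lift _ (kernel.ι (a ≫ b) ≫ a) (by rw [Category.assoc, kernel.condition])

@[reassoc]
theorem kα_ι : kα a b ≫ kernel.ι (a ≫ b) = kernel.ι a := kernel.lift_ι _ _ _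

@[reassoc]
theorem kβ_ι : kβ a b ≫ kernel.ι b = kernel.ι (a ≫ b) ≫ a := kernel.lift_ι _ _ _

theorem kα_kβ : kα a b ≫ kβ a b = 0 := by
  rw [← cancel_mono (kernel.ι b), Category.assoc, kβ_ι, kα_ι_assoc, kernel.condition, zero_comp]

instance : Mono (kα a b) := mono_of_mono_fac (kα_ι a b)

theorem epi_kβ [Epi a] : Epi (kβ a b) := by
  have hlim : IsLimit (PullbackCone.mk (kernel.ι (a ≫ b)) (kβ a b) (kβ_ι a b).symm) := by
    refine PullbackCone.IsLimit.mk _
      (fun s => kernel.lift _ s.fst (by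
        rw [← Category.assoc, s.condition, Category.assoc, kernel.condition, comp_zero]))
      (fun s => kernel.lift_ι _ _ _) (fun s => ?_) (fun s m h1 h2 => ?_)
    · rw [← cancel_mono (kernel.ι b), Category.assoc, kβ_ι, kernel.lift_ι_assoc, s.condition]
    · rw [← cancel_mono (kernel.ι (a ≫ b)), kernel.lift_ι, h1]
  exact Abelian.epi_snd_of_isLimit a (kernel.ι b) hlim

theorem kerSeq_shortExact [Epi a] :
    (ShortComplex.mk (kα a b) (kβ a b) (kα_kβ a b)).ShortExact where
  exact := by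
    apply ShortComplex.exact_of_f_is_kernel
    refine KernelFork.IsLimit.ofι' _ _ (fun {T} k hk => ?_)
    have h0 : (k ≫ kernel.ι (a ≫ b)) ≫ a = 0 := by
      have := congrArg (fun m => m ≫ kernel.ι b) hk
      simp only [Category.assoc, kβ_ι, zero_comp] at this
      rw [Category.assoc]; exact this
    refine ⟨kernel.lift a (k ≫ kernel.ι (a ≫ b)) h0, ?_⟩
    rw [← cancel_mono (kernel.ι (a ≫ b))]
    change (kernel.lift a (k ≫ kernel.ι (a ≫ b)) h0 ≫ kα a b) ≫ kernel.ι (a ≫ b) = _
    rw [Category.assoc, kα_ι, kernel.lift_ι]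
  mono_f := inferInstanceAs (Mono (kα a b))
  epi_g := epi_kβ a b

end KerSeq

section Coh

variable {X : TopCat.{u}}

theorem subsingleton_H_middle (S : ShortComplex (CohTop.Ab X)) (hS : S.ShortExact) (q : ℕ)
    (h1 : Subsingleton (Sheaf.H S.X₁ q)) (h3 : Subsingleton (Sheaf.H S.X₃ q)) :
    Subsingleton (Sheaf.H S.X₂ q) := by
  have key : ∀ x : Sheaf.H S.X₂ q, x = 0 := by
    intro x
    have hx : x.comp (Abelian.Ext.mk₀ S.g) (add_zero q) = 0 :=
      @Subsingleton.elim (Sheaf.H S.X₃ q) h3 _ _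
    obtain ⟨x₁, hx₁⟩ := Abelian.Ext.covariant_sequence_exact₂ _ hS x hx
    have : x₁ = 0 := @Subsingleton.elim (Sheaf.H S.X₁ q) h1 _ _
    rw [← hx₁, this, Abelian.Ext.zero_comp]
  exact ⟨fun a b => (key a).trans (key b).symm⟩

end Coh

section SchIso

open Groth.Agent.Lib.Helper3.InvGen

theorem isIso_unitToPush {X Y : Scheme.{u}} (h : X ⟶ Y) [IsIso h] :
    IsIso (ClSub.unitToPush h) := by
  haveI : ((Scheme.Modules.pushforward h).obj (Coh.structureModule X)).IsQuasicoherent :=
    QCSec.isQuasicoherent_pushforward _ _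
  haveI : Mono (ClSub.unitToPush h) := by
    rw [QCProps.mono_iff_app_injective]
    intro W a b hab
    exact (ConcreteCategory.bijective_of_isIso (h.app W)).injective hab
  haveI : Epi (ClSub.unitToPush h) := by
    apply QCExact.epi_of_surjective_on_affine_cover
    intro x
    obtain ⟨V, hV, hxV⟩ := QCProps.exists_affine_nbhd x
    refine ⟨V, hV, hxV, fun s => ?_⟩
    obtain ⟨b, hb⟩ := (ConcreteCategory.bijective_of_isIso (h.app V)).surjective s
    exact ⟨ofFun V b, hb⟩
  exact isIso_of_mono_of_epi _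

theorem nonempty_HH_equiv_of_iso {X Y : Scheme.{u}} (e : X ≅ Y) (n : ℕ) :
    Nonempty (Coh.HH X (Coh.structureModule X) n ≃+ Coh.HH Y (Coh.structureModule Y) n) := by
  obtain ⟨E⟩ := Groth.Agent.Lib.Helper13.BaseChangeVanish.nonempty_HH_equiv_push e.hom
    (Coh.structureModule X) n
  haveI := isIso_unitToPush e.hom
  let em : Coh.structureModule Y ≅ (Scheme.Modules.pushforward e.hom).obj (Coh.structureModule X) :=
    asIso (ClSub.unitToPush e.hom)
  exact ⟨E.trans (HEquivOfIso ((SheafOfModules.toSheaf Y.ringCatSheaf).mapIso em) n).symm⟩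

end SchIso

section Epi

theorem epi_comap_of_nilpotent {Z X : Scheme.{u}} (i : Z ⟶ X) [IsClosedImmersion i]
    (hnil : ∀ (V : X.Opens), IsAffineOpen V → ∀ a : Γ(X, V), i.app V a = 0 → IsNilpotent a) :
    Epi (UnitsSh.comap i) := by
  haveI : Sheaf.IsLocallySurjective (UnitsSh.comap i) := by
    constructor
    intro U s x hx
    obtain ⟨V, hV, hxV, hVU⟩ := (Opens.isBasis_iff_nbhd.mp X.isBasis_affineOpens) hx
    refine ⟨V, homOfLE hVU, ?_, hxV⟩
    let u₀ : (Γ(Z, i ⁻¹ᵁ V))ˣ :=
      Additive.toMul ((((CohTop.push i.base).obj (UnitsSh.unitsAb Z)).obj.map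
        (homOfLE hVU).op) s)
    obtain ⟨a, ha⟩ := i.app_surjective V hV u₀.val
    obtain ⟨b, hb⟩ := i.app_surjective V hV (↑u₀⁻¹ : Γ(Z, i ⁻¹ᵁ V))
    have hn : IsNilpotent (a * b - 1) := by
      apply hnil V hV
      rw [map_sub, map_mul, ha, hb, map_one, Units.mul_inv, sub_self]
    have hu : IsUnit a := by
      have h1 : IsUnit (a * b) := by
        have : a * b = 1 + (a * b - 1) := by ring
        rw [this]; exact hn.isUnit_one_add
      exact isUnit_of_mul_isUnit_left h1
    refine ⟨(Additive.ofMul hu.unit : Additive (Γ(X, V))ˣ), ?_⟩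
    apply Additive.toMul.injective
    apply Units.ext
    exact ha
  exact Sheaf.epi_of_isLocallySurjective _

end Epi

section KerTransport

variable {X Y Z : Scheme.{u}}

theorem subsingleton_ker_comap_comp (e : X ⟶ Y) [IsIso e] (g : Y ⟶ Z) (q : ℕ)
    (h : Subsingleton (Sheaf.H (kernel (UnitsSh.comap g)) q)) :
    Subsingleton (Sheaf.H (kernel (UnitsSh.comap (e ≫ g))) q) := by
  rw [comap_comp]
  haveI : IsIso (pushComap e g) := isIso_pushComap e g
  haveI : Mono (pushComap e g) := inferInstance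
  exact subsingleton_H_of_iso (kernelCompMono (UnitsSh.comap g) (pushComap e g)) q h

theorem subsingleton_ker_of_eq (i i' : X ⟶ Y) (h : i = i') (q : ℕ)
    (hs : Subsingleton (Sheaf.H (kernel (UnitsSh.comap i)) q)) :
    Subsingleton (Sheaf.H (kernel (UnitsSh.comap i')) q) := by
  subst h; exact hs

theorem epi_comap_of_eq (i i' : X ⟶ Y) (h : i = i') (hs : Epi (UnitsSh.comap i)) :
    Epi (UnitsSh.comap i') := by
  subst h; exact hs

end KerTransport

section IdealModVan

variable {A B C : Type u} [CommRing A] [CommRing B] [CommRing C] (φ : A →+* B) (ψ : A →+* C)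
variable {X' : Scheme.{u}} (f : X' ⟶ Spec (CommRingCat.of A)) [Flat f]
variable (t : A)
variable (hφs : Function.Surjective φ) (hφ : RingHom.ker φ = Ideal.span {t})
variable (hψs : Function.Surjective ψ) (hψ : ∀ x, ψ x = 0 ↔ x * t = 0)

include hφs hφ hψs hψ in
theorem subsingleton_HH_idealMod (q : ℕ)
    (hvan : Subsingleton (Coh.HH (pullback f (Spec.map (CommRingCat.ofHom ψ)))
      (Coh.structureModule _) q)) :
    Subsingleton (Coh.HH X' (ClSub.idealMod (JJ φ f)) q) := by
  haveI := isClosedImmersion_ii ψ f hψs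
  obtain ⟨e⟩ := nonempty_iso φ ψ f t hφs hφ hψs hψ
  obtain ⟨e2⟩ := Groth.Agent.Lib.Helper13.BaseChangeVanish.nonempty_HH_equiv_push (ii ψ f)
    (Coh.structureModule _) q
  have h3 : Subsingleton (Coh.HH X' ((Scheme.Modules.pushforward (ii ψ f)).obj
      (Coh.structureModule _)) q) := e2.toEquiv.symm.subsingleton_congr.2 hvan
  exact subsingleton_H_of_iso ((SheafOfModules.toSheaf X'.ringCatSheaf).mapIso e) q h3

end IdealModVan

end Groth.Agent.Lib.Helper11.UnitsDefD
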