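import Groth.Agent.Lib.Helper11.UnitsDefD
import Groth.Agent.Lib.Helper13.PushAcyclic

/-!
# Units on a flat scheme over an Artinian local ring: filtration argument
-/

set_option autoImplicit false
universe u
open CategoryTheory CategoryTheory.Limits AlgebraicGeometry TopologicalSpace Opposite
open Scheme.Modules

noncomputable section

namespace Groth.Agent.Lib.Helper11.UnitsDefE

open Groth.Agent.Lib.Helper3 Groth.Agent.Lib.Helper11.PbKer Groth.Agent.Lib.Helper11.UnitsDefA
  Groth.Agent.Lib.Helper11.UnitsDefB Groth.Agent.Lib.Helper11.UnitsDefC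
  Groth.Agent.Lib.Helper11.UnitsDefD Groth.Agent.Lib.Helper13

theorem exists_iso_pasting {X S S₁ S₂ : Scheme.{u}} (f : X ⟶ S) (g : S₁ ⟶ S) (g' : S₂ ⟶ S₁)
    (g₂ : S₂ ⟶ S) (h : g' ≫ g = g₂) :
    ∃ Φ : pullback (pullback.snd f g) g' ≅ pullback f g₂,
      Φ.hom ≫ pullback.fst f g₂ = pullback.fst (pullback.snd f g) g' ≫ pullback.fst f g := by
  subst h
  exact ⟨pullbackLeftPullbackSndIso f g g', pullbackLeftPullbackSndIso_hom_fst f g g'⟩

section Step

variable {A : Type u} [CommRing A] [IsLocalRing A]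
variable {X' : Scheme.{u}} (f : X' ⟶ Spec (CommRingCat.of A)) [Flat f]

/-- the closed subscheme defined by `I` -/
abbrev iI (I : Ideal A) : pullback f (Spec.map (CommRingCat.ofHom (Ideal.Quotient.mk I))) ⟶ X' :=
  pullback.fst f (Spec.map (CommRingCat.ofHom (Ideal.Quotient.mk I)))

theorem step (I : Ideal A) (t : A) (hIm : I ≤ IsLocalRing.maximalIdeal A)
    (ht : t ∈ IsLocalRing.maximalIdeal A) (htI : t ∉ I)
    (hmt : ∀ x ∈ IsLocalRing.maximalIdeal A, x * t ∈ I) (q : ℕ)
    (hvan : Subsingleton (Coh.HH (pullback f (Spec.map (CommRingCat.ofHom (IsLocalRing.residue A))))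
      (Coh.structureModule _) q))
    (hepi : Epi (UnitsSh.comap (iI f I)))
    (hV : Subsingleton (Sheaf.H (kernel (UnitsSh.comap (iI f I))) q)) :
    Subsingleton (Sheaf.H (kernel (UnitsSh.comap (iI f (I ⊔ Ideal.span {t})))) q) := by
  set I' := I ⊔ Ideal.span {t} with hI'
  set g := Spec.map (CommRingCat.ofHom (Ideal.Quotient.mk I)) with hg
  set j := pullback.fst f g with hj
  set f'' := pullback.snd f g with hf''
  haveI : Flat f'' := inferInstance
  let φ'' : A ⧸ I →+* A ⧸ I' := Ideal.Quotient.factor le_sup_left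
  have hres : ∀ a : A, a ∈ I → IsLocalRing.residue A a = 0 := fun a ha =>
    (IsLocalRing.residue_eq_zero_iff a).mpr (hIm ha)
  let ψ'' : A ⧸ I →+* IsLocalRing.ResidueField A := Ideal.Quotient.lift I (IsLocalRing.residue A) hres
  let t'' : A ⧸ I := Ideal.Quotient.mk I t
  have hφs : Function.Surjective φ'' := Ideal.Quotient.factor_surjective _
  have hψs : Function.Surjective ψ'' :=
    Ideal.Quotient.lift_surjective_of_surjective I hres IsLocalRing.residue_surjective
  have hφ : RingHom.ker φ'' = Ideal.span {t''} := by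
    rw [Ideal.Quotient.factor_ker, Ideal.map_sup, Ideal.map_quotient_self, bot_sup_eq,
      Ideal.map_span, Set.image_singleton]
  have ht2 : t'' * t'' = 0 := by
    rw [← map_mul, Ideal.Quotient.eq_zero_iff_mem]; exact hmt t ht
  have hψ : ∀ x, ψ'' x = 0 ↔ x * t'' = 0 := by
    intro x
    obtain ⟨x, rfl⟩ := Ideal.Quotient.mk_surjective x
    rw [Ideal.Quotient.lift_mk, IsLocalRing.residue_eq_zero_iff, ← map_mul,
      Ideal.Quotient.eq_zero_iff_mem]
    constructor
    · exact hmt x
    · intro hx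
      by_contra hxm
      obtain ⟨u, rfl⟩ := IsLocalRing.notMem_maximalIdeal.mp hxm
      exact htI ((Ideal.unit_mul_mem_iff_mem I u.isUnit).mp hx)
  haveI := isClosedImmersion_ii φ'' f'' hφs
  haveI := isClosedImmersion_ii ψ'' f'' hψs
  have hJ := JJ_sq φ'' f'' t'' hφs hφ ht2
  set k := ii φ'' f'' with hk
  set ι'' := (JJ φ'' f'').subschemeι with hι''
  -- closed fibre
  have hvan'' : Subsingleton (Coh.HH (pullback f'' (Spec.map (CommRingCat.ofHom ψ'')))
      (Coh.structureModule _) q) := by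
    have hgg : Spec.map (CommRingCat.ofHom ψ'') ≫ g =
        Spec.map (CommRingCat.ofHom (IsLocalRing.residue A)) := by
      rw [hg, ← Spec.map_comp, ← CommRingCat.ofHom_comp, Ideal.Quotient.lift_comp_mk]
    obtain ⟨Φ, -⟩ := exists_iso_pasting f g (Spec.map (CommRingCat.ofHom ψ'')) _ hgg
    obtain ⟨E⟩ := nonempty_HH_equiv_of_iso Φ q
    exact E.toEquiv.subsingleton_congr.2 hvan
  have hK'' : Subsingleton (Coh.HH _ (ClSub.idealMod (JJ φ'' f'')) q) :=
    subsingleton_HH_idealMod φ'' ψ'' f'' t'' hφs hφ hψs hψ q hvan''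
  -- push the units sequence forward to `X'`
  have hS'' := UnitsSq.shortExact (JJ φ'' f'') hJ
  haveI : IsClosedImmersion j := by
    haveI : IsClosedImmersion g := IsClosedImmersion.spec_of_surjective _ Ideal.Quotient.mk_surjective
    infer_instance
  have hjc : Topology.IsClosedEmbedding j.base := j.isClosedEmbedding
  haveI := ClosedEmbPush.push_preservesFiniteColimits hjc
  have hS' := hS''.map_of_exact (CohTop.push j.base)
  have hK' : Subsingleton (Sheaf.H ((CohTop.push j.base).obj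
      (Coh.toAb (ClSub.idealMod (JJ φ'' f'')))) q) :=
    (ClosedEmbPush.HEquivPush hjc _ q).symm.toEquiv.subsingleton_congr.2 hK''
  -- kernel sequence
  set a := UnitsSh.comap j with ha
  set b := (CohTop.push j.base).map (UnitsSh.comap ι'') with hb
  haveI : Epi a := hepi
  have hks := kerSeq_shortExact a b
  have hkb : Subsingleton (Sheaf.H (kernel b) q) := by
    haveI := hS'.mono_f
    let e := IsLimit.conePointUniqueUpToIso hS'.exact.fIsKernel (kernelIsKernel b)
    exact subsingleton_H_of_iso e.symm q hK'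
  have hmid : Subsingleton (Sheaf.H (kernel (a ≫ b)) q) := subsingleton_H_middle _ hks q hV hkb
  have hmid' : Subsingleton (Sheaf.H (kernel (UnitsSh.comap (ι'' ≫ j))) q) := by
    rw [comap_comp]; exact hmid
  -- identify with the subscheme defined by `I'`
  have hgg' : Spec.map (CommRingCat.ofHom φ'') ≫ g =
      Spec.map (CommRingCat.ofHom (Ideal.Quotient.mk I')) := by
    rw [hg, ← Spec.map_comp, ← CommRingCat.ofHom_comp, Ideal.Quotient.factor_comp_mk]
  obtain ⟨Φ, hΦ⟩ := exists_iso_pasting f g (Spec.map (CommRingCat.ofHom φ'')) _ hgg'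
  have h1 : iI f I' = (Φ.inv ≫ k.toImage) ≫ (ι'' ≫ j) := by
    rw [Category.assoc, Scheme.Hom.toImage_imageι_assoc, Iso.eq_inv_comp]
    exact hΦ
  have h2 := subsingleton_ker_comap_comp (Φ.inv ≫ k.toImage) (ι'' ≫ j) q hmid'
  exact subsingleton_ker_of_eq _ _ h1.symm q h2

end Step

section Main

variable {A : Type u} [CommRing A] [IsLocalRing A] [IsArtinianRing A]
variable {X' : Scheme.{u}} (f : X' ⟶ Spec (CommRingCat.of A)) [Flat f]

theorem exists_pow_max_eq_bot : ∃ n : ℕ, (IsLocalRing.maximalIdeal A) ^ n = ⊥ := by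
  have := IsArtinianRing.isNilpotent_jacobson_bot (R := A)
  rw [IsLocalRing.jacobson_eq_maximalIdeal _ bot_ne_top] at this
  exact this

omit [Flat f] in
theorem nilpotent_of_app_eq_zero (I : Ideal A) (hI : I ≤ IsLocalRing.maximalIdeal A)
    (V : X'.Opens) (hV : IsAffineOpen V) (a : Γ(X', V)) (ha : (iI f I).app V a = 0) :
    IsNilpotent a := by
  obtain ⟨n, hn⟩ := exists_pow_max_eq_bot (A := A)
  have h1 := mem_map_of_app_eq_zero (Ideal.Quotient.mk I) f Ideal.Quotient.mk_surjective hV a ha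
  rw [Ideal.mk_ker] at h1
  refine ⟨n, ?_⟩
  have h2 : a ^ n ∈ (Ideal.map (ρ f V) I) ^ n := Ideal.pow_mem_pow h1 n
  rw [← Ideal.map_pow] at h2
  have h3 : I ^ n ≤ ⊥ := hn ▸ Ideal.pow_right_mono hI n
  have h4 : I ^ n = ⊥ := le_bot_iff.mp h3
  rw [h4, Ideal.map_bot] at h2
  exact h2

omit [Flat f] in
theorem epi_iI (I : Ideal A) (hI : I ≤ IsLocalRing.maximalIdeal A) :
    Epi (UnitsSh.comap (iI f I)) := by
  haveI : IsClosedImmersion (iI f I) := isClosedImmersion_ii _ f Ideal.Quotient.mk_surjective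
  exact epi_comap_of_nilpotent _ (nilpotent_of_app_eq_zero f I hI)

theorem exists_socle (I J : Ideal A) (hIJ : I < J) :
    ∃ t ∈ J, t ∉ I ∧ ∀ x ∈ IsLocalRing.maximalIdeal A, x * t ∈ I := by
  obtain ⟨n, hn⟩ := exists_pow_max_eq_bot (A := A)
  have hex : ∃ k : ℕ, (IsLocalRing.maximalIdeal A) ^ k * J ≤ I :=
    ⟨n, by rw [hn, Ideal.bot_mul]; exact bot_le⟩
  classical
  obtain ⟨k, hk, hmin⟩ : ∃ k : ℕ, (IsLocalRing.maximalIdeal A) ^ k * J ≤ I ∧
      ∀ k' < k, ¬ ((IsLocalRing.maximalIdeal A) ^ k' * J ≤ I) :=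
    ⟨Nat.find hex, Nat.find_spec hex, fun k' h => Nat.find_min hex h⟩
  have hk0 : k ≠ 0 := by
    rintro rfl
    rw [pow_zero, one_mul] at hk
    exact (not_le_of_gt hIJ) hk
  obtain ⟨k', rfl⟩ := Nat.exists_eq_succ_of_ne_zero hk0
  obtain ⟨t, htJ, htI⟩ := SetLike.not_le_iff_exists.mp (hmin k' (Nat.lt_succ_self k'))
  have htJ' : t ∈ J :=
    (Ideal.mul_le_right (I := IsLocalRing.maximalIdeal A ^ k') (J := J)) htJ
  refine ⟨t, htJ', htI, fun x hx => hk ?_⟩
  rw [pow_succ', mul_assoc]
  exact Ideal.mul_mem_mul hx htJ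

theorem ker_vanish (q : ℕ)
    (hvan : Subsingleton (Coh.HH (pullback f (Spec.map (CommRingCat.ofHom (IsLocalRing.residue A))))
      (Coh.structureModule _) q))
    (J : Ideal A) (hJ : J ≤ IsLocalRing.maximalIdeal A) :
    Subsingleton (Sheaf.H (kernel (UnitsSh.comap (iI f J))) q) := by
  have hQ : ∀ I : Ideal A, I ≤ J → Subsingleton (Sheaf.H (kernel (UnitsSh.comap (iI f I))) q) →
      Subsingleton (Sheaf.H (kernel (UnitsSh.comap (iI f J))) q) := by
    intro I
    refine IsNoetherian.induction (P := fun I : Ideal A => I ≤ J →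
      Subsingleton (Sheaf.H (kernel (UnitsSh.comap (iI f I))) q) →
      Subsingleton (Sheaf.H (kernel (UnitsSh.comap (iI f J))) q)) ?_ I
    intro I ih hIJ hV
    rcases eq_or_lt_of_le hIJ with rfl | hlt
    · exact hV
    · obtain ⟨t, htJ, htI, hmt⟩ := exists_socle I J hlt
      have hlt' : I < I ⊔ Ideal.span {t} := by
        refine lt_of_le_of_ne le_sup_left (fun h => htI ?_)
        rw [h]
        exact Ideal.mem_sup_right (Ideal.mem_span_singleton_self t)
      have hle' : I ⊔ Ideal.span {t} ≤ J :=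
        sup_le hIJ ((Ideal.span_singleton_le_iff_mem J).mpr htJ)
      exact ih _ hlt' hle' (step f I t (hIJ.trans hJ) (hJ htJ) htI hmt q hvan
        (epi_iI f I (hIJ.trans hJ)) hV)
  apply hQ ⊥ bot_le
  haveI : IsIso (CommRingCat.ofHom (Ideal.Quotient.mk (⊥ : Ideal A))) := by
    rw [ConcreteCategory.isIso_iff_bijective]
    refine ⟨(injective_iff_map_eq_zero _).mpr (fun a ha => ?_), Ideal.Quotient.mk_surjective⟩
    have : Ideal.Quotient.mk (⊥ : Ideal A) a = 0 := ha
    rwa [Ideal.Quotient.eq_zero_iff_mem, Ideal.mem_bot] at this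
  haveI : IsIso (Spec.map (CommRingCat.ofHom (Ideal.Quotient.mk (⊥ : Ideal A)))) := inferInstance
  haveI : IsIso (iI f ⊥) := inferInstance
  haveI := isIso_comap (iI f ⊥)
  exact Sheaf.subsingleton_H_of_isZero (isZero_kernel_of_mono _) q

theorem surjective_H (q : ℕ)
    (hvan : Subsingleton (Coh.HH (pullback f (Spec.map (CommRingCat.ofHom (IsLocalRing.residue A))))
      (Coh.structureModule _) (q + 1)))
    (J : Ideal A) (hJ : J ≤ IsLocalRing.maximalIdeal A) :
    Function.Surjective (Sheaf.H.map (UnitsSh.comap (iI f J)) q) := by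
  haveI := epi_iI f J hJ
  have hS : (ShortComplex.mk (kernel.ι (UnitsSh.comap (iI f J))) (UnitsSh.comap (iI f J))
      (kernel.condition _)).ShortExact :=
    { exact := ShortComplex.exact_kernel _
      mono_f := inferInstanceAs (Mono (kernel.ι (UnitsSh.comap (iI f J))))
      epi_g := inferInstanceAs (Epi (UnitsSh.comap (iI f J))) }
  exact H_map_surjective_of_shortExact _ hS q (ker_vanish f (q + 1) hvan J hJ)

end Main

end Groth.Agent.Lib.Helper11.UnitsDefE
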