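import Mathlib

/-!
# Units of Laurent polynomial rings over domains and units on `X × 𝔾_mⁿ`
-/

set_option autoImplicit false
universe u
open CategoryTheory CategoryTheory.Limits AlgebraicGeometry Opposite TensorProduct

namespace Groth.Agent.Lib.Helper11.UnitsTorus

section Algebra

open Finset in
/-- In a monoid algebra over a domain, with a two-unique-sums monoid, the factors of `1` are
monomials with unit coefficients. -/
theorem exists_single_of_mul_eq_one {A G : Type*} [CommRing A] [IsDomain A] [AddCommGroup G]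
    [TwoUniqueSums G] (f g : AddMonoidAlgebra A G) (h : f * g = 1) :
    ∃ (e : G) (a : A), IsUnit a ∧ f = AddMonoidAlgebra.single e a := by
  classical
  have hf : f ≠ 0 := by
    rintro rfl
    rw [zero_mul] at h
    exact zero_ne_one h
  have hg : g ≠ 0 := by
    rintro rfl
    rw [mul_zero] at h
    exact zero_ne_one h
  have hsf : f.coeff.support.Nonempty := by
    rw [Finsupp.support_nonempty_iff]
    exact fun h0 => hf (AddMonoidAlgebra.coeff_eq_zero.mp h0)
  have hsg : g.coeff.support.Nonempty := by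
    rw [Finsupp.support_nonempty_iff]
    exact fun h0 => hg (AddMonoidAlgebra.coeff_eq_zero.mp h0)
  have hone : ∀ x : G, (1 : AddMonoidAlgebra A G).coeff x ≠ 0 → x = 0 := by
    intro x hx
    by_contra hx0
    apply hx
    rw [AddMonoidAlgebra.one_def, AddMonoidAlgebra.coeff_single, Finsupp.single_apply,
      if_neg (Ne.symm hx0)]
  have hcard : ¬ (1 < #f.coeff.support * #g.coeff.support) := by
    intro hc
    obtain ⟨p1, h1, p2, h2, hne, hu1, hu2⟩ := TwoUniqueSums.uniqueAdd_of_one_lt_card hc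
    have c1 := AddMonoidAlgebra.coeff_mul_add_of_uniqueAdd hu1
    have c2 := AddMonoidAlgebra.coeff_mul_add_of_uniqueAdd hu2
    rw [h] at c1 c2
    have m1 := Finset.mem_product.mp h1
    have m2 := Finset.mem_product.mp h2
    have z1 : p1.1 + p1.2 = 0 := hone _ (by
      rw [c1]
      exact mul_ne_zero (Finsupp.mem_support_iff.mp m1.1) (Finsupp.mem_support_iff.mp m1.2))
    have z2 : p2.1 + p2.2 = 0 := hone _ (by
      rw [c2]
      exact mul_ne_zero (Finsupp.mem_support_iff.mp m2.1) (Finsupp.mem_support_iff.mp m2.2))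
    have := hu1 m2.1 m2.2 (z2.trans z1.symm)
    exact hne (Prod.ext this.1 this.2).symm
  have hpf := hsf.card_pos
  have hpg := hsg.card_pos
  have hc1 : #f.coeff.support = 1 := by
    by_contra hne
    have : 2 ≤ #f.coeff.support := by omega
    apply hcard
    calc 1 < 2 * 1 := by norm_num
      _ ≤ #f.coeff.support * #g.coeff.support := Nat.mul_le_mul this hpg
  have hc2 : #g.coeff.support = 1 := by
    by_contra hne
    have : 2 ≤ #g.coeff.support := by omega
    apply hcard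
    calc 1 < 1 * 2 := by norm_num
      _ ≤ #f.coeff.support * #g.coeff.support := Nat.mul_le_mul hpf this
  obtain ⟨e, he⟩ := Finset.card_eq_one.mp hc1
  obtain ⟨e', he'⟩ := Finset.card_eq_one.mp hc2
  have hfe := (Finsupp.support_eq_singleton.mp he).2
  have hge := (Finsupp.support_eq_singleton.mp he').2
  have hf' : f = AddMonoidAlgebra.single e (f.coeff e) := by
    apply AddMonoidAlgebra.coeff_injective
    rw [AddMonoidAlgebra.coeff_single]
    exact hfe
  have hg' : g = AddMonoidAlgebra.single e' (g.coeff e') := by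
    apply AddMonoidAlgebra.coeff_injective
    rw [AddMonoidAlgebra.coeff_single]
    exact hge
  refine ⟨e, f.coeff e, ?_, hf'⟩
  rw [hf', hg', AddMonoidAlgebra.single_mul_single, AddMonoidAlgebra.one_def] at h
  have h3 := congrArg (fun x => x.coeff (0 : G)) h
  simp only [AddMonoidAlgebra.coeff_single, Finsupp.single_apply, if_pos rfl] at h3
  split_ifs at h3 with h4
  · exact IsUnit.of_mul_eq_one _ h3
  · exact absurd h3 zero_ne_one

/-- `A ⊗_ℤ (ULift ℤ[G]) ≃ A[G]`. -/
noncomputable def rho (A : Type u) [CommRing A] (G : Type) [AddCommGroup G] :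
    A ⊗[ℤ] (ULift.{u} (AddMonoidAlgebra ℤ G)) ≃ₐ[A] AddMonoidAlgebra A G :=
  (Algebra.TensorProduct.congr (AlgEquiv.refl : A ≃ₐ[A] A)
    (ULift.algEquiv : ULift.{u} (AddMonoidAlgebra ℤ G) ≃ₐ[ℤ] AddMonoidAlgebra ℤ G)).trans
    (AddMonoidAlgebra.scalarTensorEquiv ℤ A)

lemma rho_symm_single (A : Type u) [CommRing A] (G : Type) [AddCommGroup G] (e : G) (a : A) :
    (rho A G).symm (AddMonoidAlgebra.single e a) =
      a ⊗ₜ[ℤ] (ULift.up (AddMonoidAlgebra.single e (1 : ℤ))) := by
  simp [rho]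
  rfl

end Algebra

section Geometry

variable (n : ℕ)

/-- coordinate ring of the split torus. -/
noncomputable abbrev L : CommRingCat.{u} := CommRingCat.of (ULift.{u} (AddMonoidAlgebra ℤ (Fin n → ℤ)))

/-- the split torus. -/
noncomputable abbrev T : Scheme.{u} := Spec (L.{u} n)

/-- monomial function `t^e` on the torus. -/
noncomputable def tmon (e : Fin n → ℤ) : Γ(T.{u} n, ⊤) :=
  (Scheme.ΓSpecIso (L.{u} n)).inv (ULift.up (AddMonoidAlgebra.single e 1))

/-- `pr₁^*(a) · pr₂^*(t^e)`. -/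
noncomputable def mon (Y : Scheme.{u}) (a : Γ(Y, ⊤)) (e : Fin n → ℤ) : Γ(Y ⨯ T.{u} n, ⊤) :=
  (prod.fst : Y ⨯ T.{u} n ⟶ Y).appTop a * (prod.snd : Y ⨯ T.{u} n ⟶ T.{u} n).appTop (tmon n e)

lemma appTop_comp_apply {X Y Z : Scheme.{u}} (f : X ⟶ Y) (g : Y ⟶ Z) (a : Γ(Z, ⊤)) :
    (f ≫ g).appTop a = f.appTop (g.appTop a) := by
  rw [Scheme.Hom.comp_appTop]
  rfl

lemma bc_mon {Y X : Scheme.{u}} (f : Y ⟶ X) (a : Γ(X, ⊤)) (e : Fin n → ℤ) :
    (prod.map f (𝟙 (T.{u} n))).appTop (mon n X a e) = mon n Y (f.appTop a) e := by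
  unfold mon
  rw [map_mul, ← appTop_comp_apply, ← appTop_comp_apply, prod.map_fst, prod.map_snd,
    Category.comp_id, appTop_comp_apply]

/-- augmentation `ℤ[G] → ℤ`. -/
noncomputable def aug : L.{u} n ⟶ CommRingCat.of (ULift.{u} ℤ) :=
  CommRingCat.ofHom (((AddMonoidAlgebra.lift ℤ (ULift.{u} ℤ) (Fin n → ℤ)) 1).toRingHom.comp
    (ULift.ringEquiv : ULift.{u} (AddMonoidAlgebra ℤ (Fin n → ℤ)) ≃+* _).toRingHom)

lemma aug_single (e : Fin n → ℤ) :
    (aug.{u} n) (ULift.up (AddMonoidAlgebra.single e 1)) = 1 := by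
  change (AddMonoidAlgebra.lift ℤ (ULift.{u} ℤ) (Fin n → ℤ) 1) (AddMonoidAlgebra.single e 1) = 1
  rw [AddMonoidAlgebra.lift_single]
  simp

/-- the constant map to the unit element of the torus. -/
noncomputable def tY (Y : Scheme.{u}) : Y ⟶ T.{u} n :=
  specULiftZIsTerminal.from Y ≫ Spec.map (aug.{u} n)

lemma tY_comp {Y X : Scheme.{u}} (f : Y ⟶ X) : f ≫ tY n X = tY n Y := by
  unfold tY
  rw [← Category.assoc]
  congr 1
  exact specULiftZIsTerminal.hom_ext _ _

lemma tY_tmon (Y : Scheme.{u}) (e : Fin n → ℤ) : (tY n Y).appTop (tmon n e) = 1 := by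
  unfold tY tmon
  rw [appTop_comp_apply]
  have := congrArg (fun φ => φ (ULift.up (AddMonoidAlgebra.single e (1 : ℤ))))
    (Scheme.ΓSpecIso_inv_naturality (aug.{u} n))
  rw [ConcreteCategory.comp_apply, ConcreteCategory.comp_apply] at this
  rw [← this, aug_single, map_one, map_one]

/-- the unit section. -/
noncomputable def sec (Y : Scheme.{u}) : Y ⟶ Y ⨯ T.{u} n := prod.lift (𝟙 Y) (tY n Y)

lemma sec_mon (Y : Scheme.{u}) (a : Γ(Y, ⊤)) (e : Fin n → ℤ) :
    (sec n Y).appTop (mon n Y a e) = a := by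
  unfold mon sec
  rw [map_mul, ← appTop_comp_apply, ← appTop_comp_apply, prod.lift_fst, prod.lift_snd, tY_tmon,
    mul_one]
  simp

lemma sec_bc {Y X : Scheme.{u}} (f : Y ⟶ X) :
    sec n Y ≫ prod.map f (𝟙 (T.{u} n)) = f ≫ sec n X := by
  unfold sec
  apply Limits.prod.hom_ext
  · rw [Category.assoc, prod.map_fst, prod.lift_fst_assoc, Category.assoc, prod.lift_fst,
      Category.id_comp, Category.comp_id]
  · rw [Category.assoc, prod.map_snd, Category.comp_id, prod.lift_snd, Category.assoc,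
      prod.lift_snd, tY_comp]

lemma key_toSpecΓ {Y : Scheme.{u}} {R : CommRingCat.{u}} (f : Y ⟶ Spec R) :
    Y.toSpecΓ ≫ Spec.map ((Scheme.ΓSpecIso R).inv ≫ f.appTop) = f := by
  rw [Spec.map_comp, ← Scheme.toSpecΓ_naturality_assoc, toSpecΓ_SpecMap_ΓSpecIso_inv,
    Category.comp_id]

/-- left inclusion into the tensor product. -/
noncomputable def inlHom (A B : CommRingCat.{u}) : A ⟶ CommRingCat.of (A ⊗[ℤ] B) :=
  CommRingCat.ofHom (Algebra.TensorProduct.includeLeft (S := ℤ)).toRingHom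

/-- right inclusion into the tensor product. -/
noncomputable def inrHom (A B : CommRingCat.{u}) : B ⟶ CommRingCat.of (A ⊗[ℤ] B) :=
  CommRingCat.ofHom (Algebra.TensorProduct.includeRight (R := ℤ)).toRingHom

/-- the copairing. -/
noncomputable def descHom {A B C : CommRingCat.{u}} (f : A ⟶ C) (g : B ⟶ C) :
    CommRingCat.of (A ⊗[ℤ] B) ⟶ C :=
  (CommRingCat.coproductCoconeIsColimit A B).desc (BinaryCofan.mk f g)

lemma inl_desc {A B C : CommRingCat.{u}} (f : A ⟶ C) (g : B ⟶ C) :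
    inlHom A B ≫ descHom f g = f :=
  (CommRingCat.coproductCoconeIsColimit A B).fac (BinaryCofan.mk f g) ⟨WalkingPair.left⟩

lemma inr_desc {A B C : CommRingCat.{u}} (f : A ⟶ C) (g : B ⟶ C) :
    inrHom A B ≫ descHom f g = g :=
  (CommRingCat.coproductCoconeIsColimit A B).fac (BinaryCofan.mk f g) ⟨WalkingPair.right⟩

lemma desc_uniq {A B C : CommRingCat.{u}} (f : A ⟶ C) (g : B ⟶ C)
    (m : CommRingCat.of (A ⊗[ℤ] B) ⟶ C) (h1 : inlHom A B ≫ m = f) (h2 : inrHom A B ≫ m = g) :
    m = descHom f g := by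
  apply (CommRingCat.coproductCoconeIsColimit A B).uniq (BinaryCofan.mk f g)
  rintro ⟨_ | _⟩
  · exact h1
  · exact h2

/-- `Spec (A ⊗ B)` is the product of `Spec A` and `Spec B`. -/
noncomputable def specTensorIsLimit (A B : CommRingCat.{u}) :
    IsLimit (BinaryFan.mk (Spec.map (inlHom A B)) (Spec.map (inrHom A B))) := by
  refine BinaryFan.isLimitMk
    (fun s => s.pt.toSpecΓ ≫ Spec.map (descHom ((Scheme.ΓSpecIso A).inv ≫ s.fst.appTop)
        ((Scheme.ΓSpecIso B).inv ≫ s.snd.appTop))) ?_ ?_ ?_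
  · intro s
    rw [Category.assoc, ← Spec.map_comp, inl_desc]
    exact key_toSpecΓ _
  · intro s
    rw [Category.assoc, ← Spec.map_comp, inr_desc]
    exact key_toSpecΓ _
  · intro s m h1 h2
    rw [← key_toSpecΓ m]
    congr 2
    apply desc_uniq
    · rw [Scheme.ΓSpecIso_inv_naturality_assoc, ← Scheme.Hom.comp_appTop, h1]
      rfl
    · rw [Scheme.ΓSpecIso_inv_naturality_assoc, ← Scheme.Hom.comp_appTop, h2]
      rfl

section Affine

variable (A : CommRingCat.{u})

/-- `Spec A × T ≅ Spec (A ⊗ L)`. -/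
noncomputable def prodIso : Spec A ⨯ T.{u} n ≅ Spec (CommRingCat.of (A ⊗[ℤ] (L.{u} n))) :=
  (prodIsProd (Spec A) (T.{u} n)).conePointUniqueUpToIso (specTensorIsLimit A (L.{u} n))

lemma prodIso_hom_fst : (prodIso n A).hom ≫ Spec.map (inlHom A (L.{u} n)) = prod.fst :=
  IsLimit.conePointUniqueUpToIso_hom_comp (prodIsProd (Spec A) (T.{u} n))
    (specTensorIsLimit A (L.{u} n)) ⟨WalkingPair.left⟩

lemma prodIso_hom_snd : (prodIso n A).hom ≫ Spec.map (inrHom A (L.{u} n)) = prod.snd :=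
  IsLimit.conePointUniqueUpToIso_hom_comp (prodIsProd (Spec A) (T.{u} n))
    (specTensorIsLimit A (L.{u} n)) ⟨WalkingPair.right⟩

/-- the ring isomorphism `A ⊗ L ≅ Γ(Spec A × T)`. -/
noncomputable def Psi : CommRingCat.of (A ⊗[ℤ] (L.{u} n)) ≅ Γ(Spec A ⨯ T.{u} n, ⊤) :=
  (Scheme.ΓSpecIso _).symm ≪≫ Scheme.Γ.mapIso (prodIso n A).op

lemma Psi_hom : (Psi n A).hom = (Scheme.ΓSpecIso _).inv ≫ (prodIso n A).hom.appTop := rfl

lemma inl_Psi : inlHom A (L.{u} n) ≫ (Psi n A).hom =
    (Scheme.ΓSpecIso A).inv ≫ (prod.fst : Spec A ⨯ T.{u} n ⟶ Spec A).appTop := by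
  rw [Psi_hom, Scheme.ΓSpecIso_inv_naturality_assoc, ← Scheme.Hom.comp_appTop, prodIso_hom_fst]

lemma inr_Psi : inrHom A (L.{u} n) ≫ (Psi n A).hom =
    (Scheme.ΓSpecIso (L.{u} n)).inv ≫ (prod.snd : Spec A ⨯ T.{u} n ⟶ T.{u} n).appTop := by
  rw [Psi_hom, Scheme.ΓSpecIso_inv_naturality_assoc, ← Scheme.Hom.comp_appTop, prodIso_hom_snd]

lemma Psi_tmul (a : A) (l : L.{u} n) :
    (Psi n A).hom (a ⊗ₜ[ℤ] l) =
      (prod.fst : Spec A ⨯ T.{u} n ⟶ Spec A).appTop ((Scheme.ΓSpecIso A).inv a) *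
        (prod.snd : Spec A ⨯ T.{u} n ⟶ T.{u} n).appTop ((Scheme.ΓSpecIso (L.{u} n)).inv l) := by
  have h0 : (a ⊗ₜ[ℤ] l : A ⊗[ℤ] (L.{u} n)) = (inlHom A (L.{u} n)) a * (inrHom A (L.{u} n)) l := by
    change a ⊗ₜ[ℤ] l = (a ⊗ₜ[ℤ] 1) * (1 ⊗ₜ[ℤ] l)
    rw [Algebra.TensorProduct.tmul_mul_tmul, _root_.mul_one, _root_.one_mul]
  have h1 := congrArg (fun φ => φ a) (inl_Psi n A)
  have h2 := congrArg (fun φ => φ l) (inr_Psi n A)
  simp only [ConcreteCategory.comp_apply] at h1 h2
  rw [h0, map_mul, h1, h2]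

lemma Psi_mon (a : A) (e : Fin n → ℤ) :
    (Psi n A).hom (a ⊗ₜ[ℤ] (ULift.up (AddMonoidAlgebra.single e 1) : L.{u} n)) =
      mon n (Spec A) ((Scheme.ΓSpecIso A).inv a) e :=
  Psi_tmul n A a _

lemma Psi_bijective : Function.Bijective (Psi n A).hom :=
  ConcreteCategory.bijective_of_isIso (Psi n A).hom

lemma rho_tmul (a : A) (e : Fin n → ℤ) :
    rho A (Fin n → ℤ) (a ⊗ₜ[ℤ] ULift.up (AddMonoidAlgebra.single e 1)) =
      AddMonoidAlgebra.single e a := by
  rw [← rho_symm_single, AlgEquiv.apply_symm_apply]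

/-- existence of the monomial decomposition in the affine integral case. -/
lemma exists_mon_affine [IsDomain A] (w : Γ(Spec A ⨯ T.{u} n, ⊤)) (hw : IsUnit w) :
    ∃ e : Fin n → ℤ, w = mon n (Spec A) ((sec n (Spec A)).appTop w) e := by
  obtain ⟨z, rfl⟩ := (Psi_bijective n A).2 w
  have hz : IsUnit z := by
    have := hw.map (Psi n A).inv.hom
    have h3 : (Psi n A).inv.hom ((Psi n A).hom z) = z := by
      have := congrArg (fun φ => φ z) (Psi n A).hom_inv_id
      simpa using this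
    rwa [h3] at this
  have hz' : IsUnit (rho A (Fin n → ℤ) z) := hz.map (rho A (Fin n → ℤ))
  obtain ⟨y, hy⟩ := hz'.exists_right_inv
  obtain ⟨e, a, -, hea⟩ := exists_single_of_mul_eq_one _ _ hy
  have hz2 : z = a ⊗ₜ[ℤ] ULift.up (AddMonoidAlgebra.single e 1) := by
    apply (rho A (Fin n → ℤ)).injective
    rw [hea, rho_tmul]
  refine ⟨e, ?_⟩
  have h4 : (Psi n A).hom z = mon n (Spec A) ((Scheme.ΓSpecIso A).inv a) e := by
    rw [hz2]
    exact Psi_mon n A a e
  rw [h4, sec_mon]

/-- uniqueness of the exponent. -/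
lemma mon_exp_unique [Nontrivial A] (b b' : Γ(Spec A, ⊤)) (e e' : Fin n → ℤ) (hb : IsUnit b)
    (h : mon n (Spec A) b e = mon n (Spec A) b' e') : e = e' := by
  obtain ⟨a, rfl⟩ : ∃ a, (Scheme.ΓSpecIso A).inv a = b :=
    (ConcreteCategory.bijective_of_isIso (Scheme.ΓSpecIso A).inv).2 b
  obtain ⟨a', rfl⟩ : ∃ a, (Scheme.ΓSpecIso A).inv a = b' :=
    (ConcreteCategory.bijective_of_isIso (Scheme.ΓSpecIso A).inv).2 b'
  rw [← Psi_mon, ← Psi_mon] at h
  have h2 := congrArg (rho A (Fin n → ℤ)) ((Psi_bijective n A).1 h)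
  rw [rho_tmul, rho_tmul] at h2
  have ha : a ≠ 0 := by
    intro ha0
    rw [ha0, map_zero] at hb
    have hb2 := hb.map (Scheme.ΓSpecIso A).hom.hom
    rw [map_zero] at hb2
    exact not_isUnit_zero hb2
  have h3 := congrArg (fun f => f.coeff e) h2
  simp only [AddMonoidAlgebra.coeff_single, Finsupp.single_apply] at h3
  by_contra hne
  have hne' : ¬ e' = e := fun h => hne h.symm
  rw [if_neg hne'] at h3
  simp only [if_true] at h3
  exact ha h3

end Affine

section Global

variable (X : Scheme.{u}) [IsIntegral X]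

/-- the generic point `Spec K ⟶ X`. -/
noncomputable abbrev etaK : Spec X.functionField ⟶ X := X.fromSpecStalk (genericPoint X)

lemma range_etaK_subset {Y : Scheme.{u}} (f : Y ⟶ X) [IsOpenImmersion f] [Nonempty Y] :
    Set.range (etaK X) ⊆ Set.range f := by
  intro y hy
  rw [Scheme.range_fromSpecStalk] at hy
  obtain ⟨w⟩ := ‹Nonempty Y›
  have h1 : genericPoint X ∈ Set.range f :=
    (genericPoint_specializes (f w)).mem_open f.isOpenEmbedding.isOpen_range ⟨w, rfl⟩
  exact (hy : y ⤳ genericPoint X).mem_open f.isOpenEmbedding.isOpen_range h1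

theorem exists_unique_mon (v : Γ(X ⨯ T.{u} n, ⊤)) (hv : IsUnit v) :
    ∃! p : (Γ(X, ⊤))ˣ × (Fin n → ℤ), v = mon n X (p.1 : Γ(X, ⊤)) p.2 := by
  have huniq : ∀ (a a' : Γ(X, ⊤)) (e e' : Fin n → ℤ), IsUnit a →
      mon n X a e = mon n X a' e' → e = e' := by
    intro a a' e e' ha h
    have h2 := congrArg (prod.map (etaK X) (𝟙 (T.{u} n))).appTop h
    rw [bc_mon, bc_mon] at h2
    exact mon_exp_unique n X.functionField _ _ _ _ (ha.map (etaK X).appTop.hom) h2
  -- the coefficient
  have hau : IsUnit ((sec n X).appTop v) := hv.map (sec n X).appTop.hom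
  -- the exponent, from the generic fibre
  obtain ⟨e, he⟩ := exists_mon_affine n X.functionField
    ((prod.map (etaK X) (𝟙 (T.{u} n))).appTop v) (hv.map (prod.map (etaK X) (𝟙 (T.{u} n))).appTop.hom)
  have hmain : v = mon n X ((sec n X).appTop v) e := by
    apply Scheme.OpenCover.ext_elem _ _ (X.affineOpenCover.openCover.pullback₁ prod.fst)
    intro i
    let R : CommRingCat.{u} := X.affineOpenCover.X i
    let f : Spec R ⟶ X := X.affineOpenCover.f i
    haveI : IsOpenImmersion f := X.affineOpenCover.map_prop i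
    let θ : pullback (prod.fst : X ⨯ T.{u} n ⟶ X) f ⟶ Spec R ⨯ T.{u} n :=
      prod.lift (pullback.snd _ _) (pullback.fst _ _ ≫ prod.snd)
    have hθ : θ ≫ prod.map f (𝟙 (T.{u} n)) = pullback.fst _ _ := by
      apply Limits.prod.hom_ext
      · rw [Category.assoc, prod.map_fst, prod.lift_fst_assoc, pullback.condition]
      · rw [Category.assoc, prod.map_snd, Category.comp_id, prod.lift_snd]
    have key : (prod.map f (𝟙 (T.{u} n))).appTop v =
        (prod.map f (𝟙 (T.{u} n))).appTop (mon n X ((sec n X).appTop v) e) := by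
      rw [bc_mon]
      rcases subsingleton_or_nontrivial R with hR | hR
      · haveI : IsEmpty (Spec R) := inferInstanceAs (IsEmpty (PrimeSpectrum R))
        haveI : IsEmpty ↥(Spec R ⨯ T.{u} n) :=
          Function.isEmpty (prod.fst : Spec R ⨯ T.{u} n ⟶ Spec R).base
        exact Subsingleton.elim _ _
      · haveI : Nonempty (Spec R) := inferInstanceAs (Nonempty (PrimeSpectrum R))
        haveI : IsIntegral (Spec R) := isIntegral_of_isOpenImmersion f
        haveI : IsDomain R := (affine_isIntegral_iff R).mp inferInstance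
        obtain ⟨e', he'⟩ := exists_mon_affine n R ((prod.map f (𝟙 (T.{u} n))).appTop v)
          (hv.map (prod.map f (𝟙 (T.{u} n))).appTop.hom)
        have hs : (sec n (Spec R)).appTop ((prod.map f (𝟙 (T.{u} n))).appTop v) =
            f.appTop ((sec n X).appTop v) := by
          rw [← appTop_comp_apply, sec_bc, appTop_comp_apply]
        rw [hs] at he'
        -- compare exponents on the generic fibre
        let g : Spec X.functionField ⟶ Spec R :=
          IsOpenImmersion.lift f (etaK X) (range_etaK_subset X f)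
        have hg : g ≫ f = etaK X := IsOpenImmersion.lift_fac _ _ _
        have h5 := congrArg (prod.map g (𝟙 (T.{u} n))).appTop he'
        rw [bc_mon, ← appTop_comp_apply, prod.map_map, hg, Category.comp_id,
          ← appTop_comp_apply, hg] at h5
        rw [he] at h5
        have hee : e = e' := mon_exp_unique n X.functionField _ _ _ _
          ((hv.map (prod.map (etaK X) (𝟙 (T.{u} n))).appTop.hom).map
            (sec n (Spec X.functionField)).appTop.hom) h5
        rw [hee]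
        exact he'
    have h6 := congrArg θ.appTop key
    rw [← appTop_comp_apply, ← appTop_comp_apply, hθ] at h6
    exact h6
  refine ⟨(hau.unit, e), ?_, ?_⟩
  · change v = mon n X (hau.unit : Γ(X, ⊤)) e
    rw [IsUnit.unit_spec]
    exact hmain
  · rintro ⟨a', e'⟩ hp
    change v = mon n X (a' : Γ(X, ⊤)) e' at hp
    have h7 : (sec n X).appTop v = (a' : Γ(X, ⊤)) := by
      rw [hp, sec_mon]
    have h8 : e' = e := by
      apply huniq (a' : Γ(X, ⊤)) ((sec n X).appTop v) e' e a'.isUnit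
      rw [← hp, ← hmain]
    refine Prod.ext ?_ h8
    apply Units.ext
    rw [IsUnit.unit_spec]
    exact h7.symm

end Global

end Geometry

end Groth.Agent.Lib.Helper11.UnitsTorus
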