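import Mathlib
import Groth.Agent.Lib.Helper11.MonoLib

open TensorProduct

attribute [local instance] Algebra.TensorProduct.rightAlgebra

namespace Groth.Agent.Lib.Helper11.UnramFib

theorem formallyUnramified_of_fibers {R S : Type*} [CommRing R] [CommRing S] [Algebra R S]
    [Algebra.FiniteType R S]
    (H : ∀ (p : Ideal R) [p.IsPrime], Algebra.FormallyUnramified p.ResidueField (p.Fiber S)) :
    Algebra.FormallyUnramified R S := by
  rw [Algebra.formallyUnramified_iff]
  by_contra hne
  rw [not_subsingleton_iff_nontrivial] at hne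
  have hsupp : (Module.support S Ω[S⁄R]).Nonempty := by
    rw [Set.nonempty_iff_ne_empty, Ne, Module.support_eq_empty_iff]
    exact not_subsingleton _
  obtain ⟨q, hq⟩ := hsupp
  rw [Module.mem_support_iff_nontrivial_residueField_tensorProduct] at hq
  let p : Ideal R := q.asIdeal.comap (algebraMap R S)
  haveI : p.IsPrime := Ideal.comap_isPrime _ _
  haveI := H p
  have h1 : Subsingleton ((p.Fiber S) ⊗[S] Ω[S⁄R]) :=
    (KaehlerDifferential.tensorKaehlerEquiv R p.ResidueField S (p.Fiber S)).subsingleton_congr.mpr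
      inferInstance
  let φ : p.Fiber S →ₐ[R] q.asIdeal.ResidueField :=
    Algebra.TensorProduct.lift
      (Ideal.ResidueField.mapₐ p q.asIdeal (Algebra.ofId R S) rfl)
      (IsScalarTower.toAlgHom R S q.asIdeal.ResidueField) (fun _ _ => .all _ _)
  letI : Algebra (p.Fiber S) q.asIdeal.ResidueField := φ.toRingHom.toAlgebra
  haveI : IsScalarTower S (p.Fiber S) q.asIdeal.ResidueField :=
    IsScalarTower.of_algebraMap_eq' (by
      ext x
      simp [RingHom.algebraMap_toAlgebra, φ])
  let e := AlgebraTensorModule.cancelBaseChange S (p.Fiber S) q.asIdeal.ResidueField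
    q.asIdeal.ResidueField Ω[S⁄R]
  have : Subsingleton (q.asIdeal.ResidueField ⊗[S] Ω[S⁄R]) := e.symm.injective.subsingleton
  exact not_subsingleton _ this


open AlgebraicGeometry CategoryTheory CategoryTheory.Limits

universe u

set_option backward.isDefEq.respectTransparency false in
theorem formallyUnramified_of_fiberToSpecResidueField {X Y : Scheme.{u}} (f : X ⟶ Y)
    [LocallyOfFiniteType f]
    (hf : ∀ y, FormallyUnramified (f.fiberToSpecResidueField y)) : FormallyUnramified f := by
  change id _
  wlog hY : ∃ R, Y = Spec R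
  · refine (IsZariskiLocalAtTarget.iff_of_openCover (P := @FormallyUnramified)
      Y.affineCover).mpr fun i ↦ this (f := pullback.snd _ _) (fun x ↦ ?_) ⟨_, rfl⟩
    refine (MorphismProperty.cancel_right_of_respectsIso @FormallyUnramified _
      (Spec.map ((Y.affineCover.f i).residueFieldMap _))).mp ?_
    let g : (pullback.snd f (Y.affineCover.f i)).fiber x ⟶ f.fiber (Y.affineCover.f i x) :=
      pullback.map _ _ _ _ (pullback.fst _ _) (Spec.map ((Y.affineCover.f i).residueFieldMap _))
        (Y.affineCover.f i) (by simp [pullback.condition]) (by simp)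
    have : IsOpenImmersion g := inferInstance
    have h2 : FormallyUnramified (g ≫ f.fiberToSpecResidueField _) :=
      MorphismProperty.comp_mem _ _ _ (inferInstanceAs (FormallyUnramified g)) (hf _)
    convert! h2 using 1
    simp [g, Scheme.Hom.fiberToSpecResidueField]
  obtain ⟨R, rfl⟩ := hY
  wlog hX : ∃ S, X = Spec S
  · refine (IsZariskiLocalAtSource.iff_of_openCover (P := @FormallyUnramified)
      X.affineCover).mpr fun i ↦ this _ _ (fun x ↦ ?_) ⟨_, rfl⟩
    let g : (X.affineCover.f i ≫ f).fiber x ⟶ f.fiber x :=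
      pullback.map _ _ _ _ (X.affineCover.f i) (𝟙 _) (𝟙 _) (by simp) (by simp)
    have : IsOpenImmersion g := inferInstance
    have h2 : FormallyUnramified (g ≫ f.fiberToSpecResidueField _) :=
      MorphismProperty.comp_mem _ _ _ (inferInstanceAs (FormallyUnramified g)) (hf _)
    convert h2
    simp [g, Scheme.Hom.fiberToSpecResidueField]
  obtain ⟨S, rfl⟩ := hX
  obtain ⟨φ, rfl⟩ := Spec.map_surjective f
  have hft : φ.hom.FiniteType := (HasRingHomProperty.Spec_iff (P := @LocallyOfFiniteType)).mp
    inferInstance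
  algebraize [φ.hom]
  simp only [HasRingHomProperty.Spec_iff (P := @FormallyUnramified), id_eq]
  show Algebra.FormallyUnramified R S
  refine formallyUnramified_of_fibers fun P hP ↦ ?_
  suffices FormallyUnramified (Spec.map <|
      CommRingCat.ofHom <| algebraMap P.ResidueField (P.Fiber S)) by
    simpa only [HasRingHomProperty.Spec_iff (P := @FormallyUnramified), CommRingCat.hom_ofHom,
      RingHom.formallyUnramified_algebraMap] using this
  obtain ⟨x, rfl⟩ : ∃ x : Spec R, P = x.asIdeal := ⟨⟨P, hP⟩, rfl⟩
  refine (MorphismProperty.arrow_mk_iso_iff _ (Arrow.isoMk ?_ ?_ ?_)).mp (hf x)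
  · refine asIso (pullback.map _ _ _ _ (𝟙 _) (Spec.map (Scheme.Spec.residueFieldIso _ x).inv) (𝟙 _)
      ?_ ?_) ≪≫ pullbackSymmetry _ _ ≪≫ pullbackSpecIso ..
    · simp; rfl
    · simp [← Spec.map_comp, Scheme.fromSpecResidueField, Spec.fromSpecStalk_eq]
  · exact asIso (Spec.map (Scheme.Spec.residueFieldIso _ x).inv)
  · simp [Scheme.Hom.fiberToSpecResidueField]


theorem universallyInjective_of_fibres_mono {X Y : Scheme.{u}} (f : X ⟶ Y)
    (hf : ∀ y, Mono (f.fiberToSpecResidueField y)) : UniversallyInjective f := by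
  refine ((tfae_universallyInjective f).out 0 1).mpr ?_
  intro K _ g₁ g₂ hg
  dsimp only at hg
  obtain ⟨⟨y, φ⟩, hφ⟩ := (Y.SpecToEquivOfField K).symm.surjective (g₁ ≫ f)
  simp only [Scheme.SpecToEquivOfField_symm_apply] at hφ
  let k₁ : Spec (.of K) ⟶ f.fiber y := pullback.lift g₁ (Spec.map φ) hφ.symm
  let k₂ : Spec (.of K) ⟶ f.fiber y :=
    pullback.lift g₂ (Spec.map φ) (by rw [← hg]; exact hφ.symm)
  have hk : k₁ = k₂ := by
    haveI := hf y
    rw [← cancel_mono (f.fiberToSpecResidueField y)]
    exact (pullback.lift_snd _ _ _).trans (pullback.lift_snd _ _ _).symm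
  calc g₁ = k₁ ≫ pullback.fst _ _ := (pullback.lift_fst _ _ _).symm
    _ = k₂ ≫ pullback.fst _ _ := by rw [hk]
    _ = g₂ := pullback.lift_fst _ _ _

theorem mono_of_fibres_mono {X Y : Scheme.{u}} (f : X ⟶ Y) [LocallyOfFiniteType f]
    (hf : ∀ y, Mono (f.fiberToSpecResidueField y)) : Mono f := by
  have h1 : ∀ y, FormallyUnramified (f.fiberToSpecResidueField y) := fun y => by
    haveI := hf y
    haveI : IsIso (pullback.diagonal (f.fiberToSpecResidueField y)) := inferInstance
    infer_instance
  haveI := formallyUnramified_of_fiberToSpecResidueField f h1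
  haveI := universallyInjective_of_fibres_mono f hf
  exact Groth.Agent.Lib.Helper11.MonoLib.mono_of_unramified_of_universallyInjective f

theorem mono_iff_fibres_mono {X Y : Scheme.{u}} (f : X ⟶ Y) [LocallyOfFiniteType f] :
    Mono f ↔ ∀ y : Y, Mono (f.fiberToSpecResidueField y) := by
  refine ⟨fun h y => ?_, mono_of_fibres_mono f⟩
  haveI := h
  exact pullback.snd_of_mono

/-- A closed immersion into a reduced one-point scheme is empty or an isomorphism. -/
theorem isEmpty_or_isIso_of_isClosedImmersion_subsingleton {Z W : Scheme.{u}}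
    (g : Z ⟶ W) [IsClosedImmersion g] [Subsingleton W] [IsReduced W] : IsEmpty Z ∨ IsIso g := by
  by_cases hZ : IsEmpty Z
  · exact Or.inl hZ
  · right
    rw [not_isEmpty_iff] at hZ
    obtain ⟨z⟩ := hZ
    haveI : Surjective g := ⟨fun y => ⟨z, Subsingleton.elim _ _⟩⟩
    exact isIso_of_isClosedImmersion_of_surjective g

/-- A closed immersion into the spectrum of a field is empty or an isomorphism. -/
theorem isEmpty_or_isIso_of_isClosedImmersion_residueField {Z Y : Scheme.{u}} (y : Y)
    (g : Z ⟶ Spec (Y.residueField y)) [IsClosedImmersion g] : IsEmpty Z ∨ IsIso g := by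
  haveI : Subsingleton ↥(Spec (Y.residueField y)) :=
    inferInstanceAs (Subsingleton (PrimeSpectrum (Y.residueField y)))
  exact isEmpty_or_isIso_of_isClosedImmersion_subsingleton g

end Groth.Agent.Lib.Helper11.UnramFib
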