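import Mathlib
import Groth.Prelude.Def_HTop

/-!
# Helper11: glueing standard V coverings Zariski-locally on an affine scheme
-/

set_option autoImplicit false
universe w u
open CategoryTheory CategoryTheory.Limits AlgebraicGeometry

namespace Groth.Agent.Lib.Helper11.VCover

/-- A morphism from the spectrum of a local ring factors through any open containing the image of
the closed point. -/
lemma range_subset_of_closedPoint_mem {X : Scheme.{u}} (V : CommRingCat.{u}) [IsLocalRing V]
    (g : Spec V ⟶ X) (W : X.Opens)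
    (h : g (IsLocalRing.closedPoint V : ↥(Spec V)) ∈ W) :
    Set.range ⇑g ⊆ Set.range ⇑W.ι := by
  rw [Scheme.Opens.range_ι]
  rintro _ ⟨y, rfl⟩
  have hy : y ⤳ (IsLocalRing.closedPoint V : ↥(Spec V)) :=
    IsLocalRing.specializes_closedPoint (R := V) y
  exact (hy.map g.continuous).mem_open W.isOpen h

/-- Zariski-local existence of refining standard V coverings on an affine scheme gives a global
refining standard V covering. -/
theorem exists_isStandardV_refinesOver_of_local {X Z : Scheme.{u}} [IsAffine X] (q : X ⟶ Z)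
    (E : PreZeroHypercover.{w} Z)
    (H : ∀ x : X, ∃ (W : X.Opens) (_ : IsAffineOpen W) (_ : x ∈ W)
      (K : PreZeroHypercover.{0} (W : Scheme.{u})),
        HTop.IsStandardV K ∧ HTop.RefinesOver (W.ι ≫ q) K E) :
    ∃ F : PreZeroHypercover.{0} X, HTop.IsStandardV F ∧ HTop.RefinesOver q F E := by
  choose W hW hxW K hK hKE using H
  obtain ⟨t, ht⟩ := isCompact_univ.elim_finite_subcover (fun x : X => ((W x : X.Opens) : Set X))
    (fun x => (W x).isOpen) (fun x _ => Set.mem_iUnion.mpr ⟨x, hxW x⟩)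
  have hcov : ∀ x : X, ∃ k : Fin t.card, x ∈ W (t.equivFin.symm k).1 := by
    intro x
    have hx := ht (Set.mem_univ x)
    simp only [Set.mem_iUnion] at hx
    obtain ⟨y, hyt, hxy⟩ := hx
    refine ⟨t.equivFin ⟨y, hyt⟩, ?_⟩
    rw [Equiv.symm_apply_apply]
    exact hxy
  let pts : Fin t.card → X := fun k => (t.equivFin.symm k).1
  let F : PreZeroHypercover.{0} X :=
    { I₀ := Σ k : Fin t.card, (K (pts k)).I₀
      X := fun kl => (K (pts kl.1)).X kl.2
      f := fun kl => (K (pts kl.1)).f kl.2 ≫ (W (pts kl.1)).ι }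
  refine ⟨F, ⟨inferInstance, ?_, ?_, ?_⟩, ?_⟩
  · haveI : ∀ k : Fin t.card, Finite (K (pts k)).I₀ := fun k => (hK (pts k)).finite_index
    show Finite (Σ k : Fin t.card, (K (pts k)).I₀)
    infer_instance
  · rintro ⟨k, l⟩
    exact (hK (pts k)).isAffine_obj l
  · intro V _ _ g
    obtain ⟨k, hk⟩ := hcov (g (IsLocalRing.closedPoint V : ↥(Spec V)))
    have hr := range_subset_of_closedPoint_mem V g (W (pts k)) hk
    obtain ⟨W', hW'd, hW'v, φ, hφ, l, g'', hg''⟩ :=
      (hK (pts k)).lift V (IsOpenImmersion.lift (W (pts k)).ι g hr)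
    refine ⟨W', hW'd, hW'v, φ, hφ, ⟨k, l⟩, g'', ?_⟩
    show g'' ≫ (K (pts k)).f l ≫ (W (pts k)).ι = Spec.map φ ≫ g
    rw [← Category.assoc, hg'', Category.assoc, IsOpenImmersion.lift_fac]
  · rintro ⟨k, l⟩
    obtain ⟨i, h, hh⟩ := hKE (pts k) l
    refine ⟨i, h, ?_⟩
    show h ≫ E.f i = ((K (pts k)).f l ≫ (W (pts k)).ι) ≫ q
    rw [hh, Category.assoc]


open IsLocalRing in
/-- A specialization `z' ⤳ z` in a scheme is realized by a valuation ring (in the same universe). -/
theorem exists_valuationRing_of_specializes {Z : Scheme.{u}} {z' z : Z} (h : z' ⤳ z) :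
    ∃ (A : CommRingCat.{u}) (_ : IsDomain A) (_ : ValuationRing A) (a : Spec A ⟶ Z),
      a (closedPoint A) = z ∧ a (⟨⊥, Ideal.isPrime_bot⟩ : PrimeSpectrum A) = z' := by
  let ψ : Z.presheaf.stalk z ⟶ Z.residueField z' :=
    Z.presheaf.stalkSpecializes h ≫ Z.residue z'
  obtain ⟨A, hA, hA_local⟩ := exists_factor_valuationRing ψ.hom
  let ψA : Z.presheaf.stalk z ⟶ .of A := CommRingCat.ofHom (ψ.hom.codRestrict _ hA)
  have w : Z.fromSpecResidueField z' =
      Spec.map (CommRingCat.ofHom (algebraMap A (Z.residueField z'))) ≫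
        Spec.map ψA ≫ Z.fromSpecStalk z := by
    rw [Scheme.fromSpecResidueField, ← Scheme.SpecMap_stalkSpecializes_fromSpecStalk h]
    simp_rw [← Spec.map_comp_assoc]
    rfl
  refine ⟨.of A, inferInstance, inferInstance, Spec.map ψA ≫ Z.fromSpecStalk z, ?_, ?_⟩
  · rw [Scheme.Hom.comp_apply]
    have : Spec.map ψA (closedPoint A) = closedPoint (Z.presheaf.stalk z) :=
      comap_closedPoint (S := A) (ψ.hom.codRestrict A.toSubring hA)
    rw [this, Z.fromSpecStalk_closedPoint]
  · have h1 : Spec.map (CommRingCat.ofHom (algebraMap A (Z.residueField z')))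
        (closedPoint (Z.residueField z')) = (⟨⊥, Ideal.isPrime_bot⟩ : PrimeSpectrum A) := by
      apply PrimeSpectrum.ext
      show Ideal.comap (algebraMap A (Z.residueField z'))
        (closedPoint (Z.residueField z')).asIdeal = ⊥
      rw [show (closedPoint (Z.residueField z')).asIdeal = ⊥ from IsLocalRing.maximalIdeal_eq_bot]
      exact Ideal.comap_bot_of_injective _ (IsFractionRing.injective A (Z.residueField z'))
    rw [← h1, ← Scheme.Hom.comp_apply, ← w]
    exact Scheme.fromSpecResidueField_apply z' _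

open IsLocalRing in
/-- A specialization over `Spec V` lying over (generic point ⤳ closed point) gives an extension of
valuation rings. -/
theorem exists_isExtVal_of_specializes (V : CommRingCat.{u}) [IsDomain V] [ValuationRing V]
    {Z : Scheme.{u}} (p : Z ⟶ Spec V) {z' z : Z} (h : z' ⤳ z)
    (hz : p z = closedPoint V) (hz' : p z' = (⟨⊥, Ideal.isPrime_bot⟩ : PrimeSpectrum V)) :
    ∃ (W : CommRingCat.{u}) (_ : IsDomain W) (_ : ValuationRing W) (φ : V ⟶ W),
      HTop.IsExtVal V W φ ∧ ∃ l : Spec W ⟶ Z, l ≫ p = Spec.map φ := by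
  obtain ⟨A, hAd, hAv, a, ha1, ha2⟩ := exists_valuationRing_of_specializes h
  refine ⟨A, hAd, hAv, Spec.preimage (a ≫ p), ⟨?_, ?_⟩, a, (Spec.map_preimage _).symm⟩
  · rw [RingHom.injective_iff_ker_eq_bot, RingHom.ker_eq_comap_bot]
    have : Spec.map (Spec.preimage (a ≫ p)) (⟨⊥, Ideal.isPrime_bot⟩ : PrimeSpectrum A) =
        (⟨⊥, Ideal.isPrime_bot⟩ : PrimeSpectrum V) := by
      rw [Spec.map_preimage, Scheme.Hom.comp_apply, ha2, hz']
    exact congrArg PrimeSpectrum.asIdeal this
  · rw [isLocalHom_iff_comap_closedPoint]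
    have : Spec.map (Spec.preimage (a ≫ p)) (closedPoint A) = closedPoint V := by
      rw [Spec.map_preimage, Scheme.Hom.comp_apply, ha1, hz]
    exact this

open IsLocalRing in
/-- an injective ring map sends the generic point to the generic point -/
lemma specMap_bot_of_injective {V W : CommRingCat.{u}} [IsDomain V] [IsDomain W] (φ : V ⟶ W)
    (hφ : Function.Injective φ.hom) :
    Spec.map φ (⟨⊥, Ideal.isPrime_bot⟩ : PrimeSpectrum W) = (⟨⊥, Ideal.isPrime_bot⟩ : PrimeSpectrum V) := by
  apply PrimeSpectrum.ext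
  show Ideal.comap φ.hom ⊥ = ⊥
  exact Ideal.comap_bot_of_injective _ hφ

open IsLocalRing in
/-- a local ring map sends the closed point to the closed point -/
lemma specMap_closedPoint_of_isLocalHom {V W : CommRingCat.{u}} [IsLocalRing V] [IsLocalRing W]
    (φ : V ⟶ W) (hφ : IsLocalHom φ.hom) :
    Spec.map φ (closedPoint W) = closedPoint V :=
  comap_closedPoint (S := W) φ.hom

end Groth.Agent.Lib.Helper11.VCover
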