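import Mathlib
import Groth.Prelude
import Groth.Agent.Lib.Helper11.VeryStableB
import Groth.Agent.Lib.Helper22.SmoothJZ2

/-!
# The sheaf of differentials of a smooth integral curve over a field has rank one (helper11)
-/

set_option autoImplicit false
set_option linter.style.haveILetI false
set_option linter.unusedSectionVars false
universe u
open CategoryTheory CategoryTheory.Limits AlgebraicGeometry TopologicalSpace Opposite
open Scheme.Modules MonoidalCategory

namespace Groth.Agent.Lib.Helper11.VeryStableC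

open Groth.Agent.Lib.Helper11.VeryStableA Groth.Agent.Lib.Helper11.VeryStableB
open Groth.Agent.Lib.Helper3.InvMonoidal

/-- on a smooth integral curve over a field, a module isomorphic to the sheaf of differentials is
finite locally free of rank one -/
theorem rank_one_omega (k : Type u) [Field k] {X : Scheme.{u}} (q : X ⟶ Spec (CommRingCat.of k))
    [IsIntegral X] [Smooth q] [QuasiSeparated q]
    (hdim : topologicalKrullDim X = 1) {K : X.Modules} (eK : K ≅ Omega.sheaf q) :
    FlatMod.IsFinLocFreeOfRank 1 K := by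
  intro x
  obtain ⟨U, n, hxU, ⟨φ⟩, hn⟩ := Groth.Agent.S5019.main q (Omega.sheaf q) (OmegaSh.dOmega q)
    (Groth.Agent.S5005.result q) x
  have h1 := Groth.Agent.Lib.Helper22.SmoothJZ.fibreDimAt_eq_of_irreducible_field k q 1
    (by rw [hdim]; rfl) x
  have hn1 : n = 1 := by
    rw [h1] at hn
    exact_mod_cast hn.symm
  subst hn1
  exact ⟨U, hxU, ⟨(Scheme.Modules.restrictFunctor U.ι).mapIso eK ≪≫ φ⟩⟩

/-- the full criterion -/
theorem not_veryStable_iff (k : Type u) [Field k] {X : Scheme.{u}}
    [X.Over (Spec (CommRingCat.of k))] [IsIntegral X]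
    [IsProper (X ↘ Spec (CommRingCat.of k))] [Smooth (X ↘ Spec (CommRingCat.of k))]
    (hdim : topologicalKrullDim X = 1)
    (K : X.Modules) (eK : K ≅ Omega.sheaf (X ↘ Spec (CommRingCat.of k)))
    (E : X.Modules) (hE : FlatMod.IsFinLocFreeOfRank 2 E) :
    (¬ ∀ α : E ⟶ CohB1.tensorMod E K,
        α ≫ (CohB1.sheafifyMod X).map
          (MonoidalCategoryStruct.whiskerRight (C := CohB1.PMod X) α.val (CohB1.toPMod K)) = 0 →
          α = 0) ↔
      ∃ (L : X.Modules) (j : L ⟶ E), PicF.IsInvertible L ∧ Mono j ∧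
        PicF.IsInvertible (cokernel j) ∧ ∃ β : cokernel j ⟶ CohB1.tensorMod L K, β ≠ 0 := by
  have hK1 : FlatMod.IsFinLocFreeOfRank 1 K :=
    rank_one_omega k (X ↘ Spec (CommRingCat.of k)) hdim eK
  constructor
  · intro h
    by_contra hcon
    apply h
    intro α hnil
    by_contra hα0
    have hnil' : α ≫ tensorMap α (𝟙 K) = 0 := (congrArg (fun t => α ≫ t) (hconv α)).trans hnil
    exact hcon (exists_sub_of_nilpotent k (le_of_eq hdim) hE hK1 α hα0 hnil')
  · rintro ⟨L, j, -, hj, -, β, hβ⟩
    haveI := hj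
    exact not_veryStable_of_sub (hasLocBases_of_rank hK1) j β hβ

end Groth.Agent.Lib.Helper11.VeryStableC
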