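import Mathlib
import Groth.Agent.Lib.Helper11.KPts
import Groth.Agent.Lib.Helper11.KPts3

/-!
# WD1: words in a morphism `f : X ⟶ G` and the subgroup of `G(k)` they generate (helper11).
-/

set_option autoImplicit false
universe u
open CategoryTheory AlgebraicGeometry Opposite MonoidalCategory CartesianMonoidalCategory MonObj

namespace Groth.Agent.Lib.Helper11.WD1

open Groth.Agent.Lib.Helper11

local notation "𝕊" => Spec (CommRingCat.of _)

/-- a signed value -/
noncomputable def sgn {k : Type u} [Field k] {G T : Over (Spec (CommRingCat.of k))} [GrpObj G]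
    (b : Bool) (a : T ⟶ G) : T ⟶ G := if b then a else a⁻¹

theorem comp_sgn {k : Type u} [Field k] {G T T' : Over (Spec (CommRingCat.of k))} [GrpObj G]
    (t : T' ⟶ T) (b : Bool) (a : T ⟶ G) : t ≫ sgn b a = sgn b (t ≫ a) := by
  unfold sgn
  split_ifs
  · rfl
  · rw [GrpObj.comp_inv]

/-- iterated power -/
noncomputable def pw {k : Type u} [Field k] (X : Over (Spec (CommRingCat.of k))) :
    ℕ → Over (Spec (CommRingCat.of k))
  | 0 => 𝟙_ _
  | n + 1 => X ⊗ pw X n

/-- tuple map -/
noncomputable def tup {k : Type u} [Field k] {X T : Over (Spec (CommRingCat.of k))} :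
    (n : ℕ) → (Fin n → (T ⟶ X)) → (T ⟶ pw X n)
  | 0, _ => toUnit T
  | n + 1, x => lift (x 0) (tup n (fun j => x j.succ))

/-- universal word -/
noncomputable def uw {k : Type u} [Field k] {X G : Over (Spec (CommRingCat.of k))} [GrpObj G]
    (f : X ⟶ G) : (n : ℕ) → (Fin n → Bool) → (pw X n ⟶ G)
  | 0, _ => 1
  | n + 1, ε => sgn (ε 0) (fst X (pw X n) ≫ f) * (snd X (pw X n) ≫ uw f n (fun j => ε j.succ))

theorem step {k : Type u} [Field k] {X G T P : Over (Spec (CommRingCat.of k))} [GrpObj G]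
    (f : X ⟶ G) (a : T ⟶ X) (t : T ⟶ P) (b : Bool) (w : P ⟶ G) :
    lift a t ≫ (sgn b (fst X P ≫ f) * (snd X P ≫ w)) = sgn b (a ≫ f) * (t ≫ w) := by
  rw [MonObj.comp_mul, comp_sgn, lift_fst_assoc, lift_snd_assoc]

theorem tup_uw {k : Type u} [Field k] {X G T : Over (Spec (CommRingCat.of k))} [GrpObj G]
    (f : X ⟶ G) : ∀ (n : ℕ) (x : Fin n → (T ⟶ X)) (ε : Fin n → Bool),
    tup n x ≫ uw f n ε = (List.ofFn fun j : Fin n => sgn (ε j) (x j ≫ f)).prod
  | 0, x, ε => by
    simp only [uw, List.ofFn_zero, List.prod_nil]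
    exact MonObj.comp_one _
  | n + 1, x, ε => by
    rw [List.ofFn_succ, List.prod_cons, ← tup_uw f n (fun j => x j.succ) (fun j => ε j.succ)]
    exact step f (x 0) (tup n fun j => x j.succ) (ε 0) (uw f n fun j => ε j.succ)

theorem exists_tup {k : Type u} [Field k] {X T : Over (Spec (CommRingCat.of k))} :
    ∀ (n : ℕ) (q : T ⟶ pw X n), ∃ x : Fin n → (T ⟶ X), q = tup n x
  | 0, q => ⟨fun j => j.elim0, toUnit_unique _ _⟩
  | n + 1, q => by
    obtain ⟨x', hx'⟩ := exists_tup n (q ≫ snd X (pw X n))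
    refine ⟨Fin.cons (q ≫ fst X (pw X n)) x', ?_⟩
    have h1 : q = lift (q ≫ fst X (pw X n)) (q ≫ snd X (pw X n)) :=
      (lift_comp_fst_snd (show T ⟶ X ⊗ pw X n from q)).symm
    have h2 : tup (n + 1) (Fin.cons (q ≫ fst X (pw X n)) x' : Fin (n + 1) → (T ⟶ X)) =
        lift (q ≫ fst X (pw X n)) (tup n x') := by
      simp only [tup, Fin.cons_zero, Fin.cons_succ]
    rw [h2, ← hx']
    exact h1

theorem lft_pw {k : Type u} [Field k] (X : Over (Spec (CommRingCat.of k)))
    [LocallyOfFiniteType X.hom] : ∀ n : ℕ, LocallyOfFiniteType (pw X n).hom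
  | 0 => by
    change LocallyOfFiniteType (𝟙 _)
    infer_instance
  | n + 1 => by
    haveI := lft_pw X n
    change LocallyOfFiniteType (X ⊗ pw X n).hom
    rw [← Over.w (snd X (pw X n))]
    change LocallyOfFiniteType (Limits.pullback.snd X.hom (pw X n).hom ≫ (pw X n).hom)
    infer_instance

/-- lifting a `k`-point of `H` through `φ : Y ⟶ H` when its image point is in the range -/
theorem exists_kpt_lift {k : Type u} [Field k] [IsAlgClosed k]
    {Y H : Over (Spec (CommRingCat.of k))} [LocallyOfFiniteType Y.hom] (φ : Y ⟶ H)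
    (g : 𝟙_ (Over (Spec (CommRingCat.of k))) ⟶ H) (y : Y.left)
    (p₀ : (𝟙_ (Over (Spec (CommRingCat.of k)))).left) (h : φ.left.base y = g.left.base p₀) :
    ∃ Q : 𝟙_ (Over (Spec (CommRingCat.of k))) ⟶ Y, Q ≫ φ = g := by
  let F := Limits.pullback φ.left g.left
  let sn : F ⟶ Spec (CommRingCat.of k) := Limits.pullback.snd φ.left g.left
  haveI : LocallyOfFiniteType (φ.left ≫ H.hom) := by rw [Over.w φ]; infer_instance
  haveI : LocallyOfFiniteType φ.left := locallyOfFiniteType_of_comp φ.left H.hom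
  haveI : LocallyOfFiniteType sn := by
    change LocallyOfFiniteType (Limits.pullback.snd φ.left g.left)
    infer_instance
  obtain ⟨r₀, -, -⟩ := Scheme.Pullback.exists_preimage_pullback (f := φ.left) (g := g.left) y p₀ h
  haveI : JacobsonSpace F := LocallyOfFiniteType.jacobsonSpace sn
  obtain ⟨r₁, hr₁⟩ : ∃ r₁ : F, IsClosed ({r₁} : Set F) := by
    by_contra hne
    have h1 : closedPoints F = ∅ :=
      Set.eq_empty_iff_forall_notMem.mpr fun r hr => hne ⟨r, hr⟩
    have h2 := closure_closedPoints (X := F)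
    rw [h1, closure_empty] at h2
    have h3 : r₀ ∈ (∅ : Set F) := by rw [h2]; exact Set.mem_univ r₀
    exact h3
  obtain ⟨r, hr, -⟩ := KPts.exists_point_of_isClosed k k sn r₁ hr₁
  have hr' : r ≫ sn = 𝟙 _ := hr.trans KPts3.algebraMap_self_spec
  have hcond : Limits.pullback.fst φ.left g.left ≫ φ.left = sn ≫ g.left := Limits.pullback.condition
  refine ⟨Over.homMk (r ≫ Limits.pullback.fst φ.left g.left) ?_, ?_⟩
  · change (r ≫ Limits.pullback.fst φ.left g.left) ≫ Y.hom = 𝟙 _
    rw [← Over.w φ, Category.assoc, ← Category.assoc (Limits.pullback.fst φ.left g.left), hcond,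
      Category.assoc, ← Category.assoc r, hr', Category.id_comp]
    exact Over.w g
  · ext1
    change (r ≫ Limits.pullback.fst φ.left g.left) ≫ φ.left = g.left
    rw [Category.assoc, hcond, ← Category.assoc, hr', Category.id_comp]

end Groth.Agent.Lib.Helper11.WD1
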