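import Mathlib

/-!
# WD2: words in a morphism `f : X ⟶ H` over a general base; bounded word length on a
quasi-compact group (helper11).
-/

set_option autoImplicit false
universe u
open CategoryTheory AlgebraicGeometry Opposite MonoidalCategory CartesianMonoidalCategory MonObj

namespace Groth.Agent.Lib.Helper11.WD2

variable {S : Scheme.{u}}

/-- a signed value -/
noncomputable def sgn {G T : Over S} [GrpObj G] (b : Bool) (a : T ⟶ G) : T ⟶ G :=
  if b then a else a⁻¹

theorem comp_sgn {G T T' : Over S} [GrpObj G] (t : T' ⟶ T) (b : Bool) (a : T ⟶ G) :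
    t ≫ sgn b a = sgn b (t ≫ a) := by
  unfold sgn
  split_ifs
  · rfl
  · rw [GrpObj.comp_inv]

/-- iterated power -/
noncomputable def pw (X : Over S) : ℕ → Over S
  | 0 => 𝟙_ _
  | n + 1 => X ⊗ pw X n

/-- tuple map -/
noncomputable def tup {X T : Over S} : (n : ℕ) → (Fin n → (T ⟶ X)) → (T ⟶ pw X n)
  | 0, _ => toUnit T
  | n + 1, x => lift (x 0) (tup n (fun j => x j.succ))

/-- universal word -/
noncomputable def uw {X G : Over S} [GrpObj G] (f : X ⟶ G) :
    (n : ℕ) → (Fin n → Bool) → (pw X n ⟶ G)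
  | 0, _ => 1
  | n + 1, ε => sgn (ε 0) (fst X (pw X n) ≫ f) * (snd X (pw X n) ≫ uw f n (fun j => ε j.succ))

theorem step {X G T P : Over S} [GrpObj G] (f : X ⟶ G) (a : T ⟶ X) (t : T ⟶ P) (b : Bool)
    (w : P ⟶ G) :
    lift a t ≫ (sgn b (fst X P ≫ f) * (snd X P ≫ w)) = sgn b (a ≫ f) * (t ≫ w) := by
  rw [MonObj.comp_mul, comp_sgn, lift_fst_assoc, lift_snd_assoc]

theorem tup_uw {X G T : Over S} [GrpObj G] (f : X ⟶ G) :
    ∀ (n : ℕ) (x : Fin n → (T ⟶ X)) (ε : Fin n → Bool),
    tup n x ≫ uw f n ε = (List.ofFn fun j : Fin n => sgn (ε j) (x j ≫ f)).prod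
  | 0, x, ε => by
    simp only [uw, List.ofFn_zero, List.prod_nil]
    exact MonObj.comp_one _
  | n + 1, x, ε => by
    rw [List.ofFn_succ, List.prod_cons, ← tup_uw f n (fun j => x j.succ) (fun j => ε j.succ)]
    exact step f (x 0) (tup n fun j => x j.succ) (ε 0) (uw f n fun j => ε j.succ)

theorem exists_tup {X T : Over S} :
    ∀ (n : ℕ) (q : T ⟶ pw X n), ∃ x : Fin n → (T ⟶ X), q = tup n x
  | 0, q => ⟨fun j => j.elim0, toUnit_unique _ _⟩
  | n + 1, q => by
    obtain ⟨x', hx'⟩ := exists_tup n (q ≫ snd X (pw X n))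
    refine ⟨Fin.cons (q ≫ fst X (pw X n)) x', ?_⟩
    have h1 : q = lift (q ≫ fst X (pw X n)) (q ≫ snd X (pw X n)) :=
      (lift_comp_fst_snd (show T ⟶ X ⊗ pw X n from q)).symm
    have h2 : tup (n + 1) (Fin.cons (q ≫ fst X (pw X n)) x' : Fin (n + 1) → (T ⟶ X)) =
        lift (q ≫ fst X (pw X n)) (tup n x') := by
      simp only [tup, Fin.cons_zero, Fin.cons_succ]
    rw [h2, ← hx']
    exact h1

/-- the set of points under words of a given shape is the range of the universal word -/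
theorem mem_range_uw_iff {X G : Over S} [GrpObj G] (f : X ⟶ G) (n : ℕ) (ε : Fin n → Bool)
    (h : G.left) :
    h ∈ Set.range (uw f n ε).left.base ↔
      ∃ (T : Over S) (p : T.left) (x : Fin n → (T ⟶ X)),
        ((List.ofFn fun j : Fin n => if ε j then x j ≫ f else (x j ≫ f)⁻¹).prod :
          T ⟶ G).left.base p = h := by
  constructor
  · rintro ⟨q, rfl⟩
    obtain ⟨x, hx⟩ := exists_tup n (𝟙 (pw X n))
    refine ⟨pw X n, q, x, ?_⟩
    have e1 : (List.ofFn fun j : Fin n => if ε j then x j ≫ f else (x j ≫ f)⁻¹).prod =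
        tup n x ≫ uw f n ε := (tup_uw f n x ε).symm
    rw [e1, ← hx, Category.id_comp]
  · rintro ⟨T, p, x, rfl⟩
    have e1 : (List.ofFn fun j : Fin n => if ε j then x j ≫ f else (x j ≫ f)⁻¹).prod =
        tup n x ≫ uw f n ε := (tup_uw f n x ε).symm
    rw [e1]
    exact ⟨(tup n x).left.base p, rfl⟩

theorem lofp_pw (X : Over S) [LocallyOfFinitePresentation X.hom] :
    ∀ n : ℕ, LocallyOfFinitePresentation (pw X n).hom
  | 0 => by
    change LocallyOfFinitePresentation (𝟙 _)
    infer_instance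
  | n + 1 => by
    haveI := lofp_pw X n
    change LocallyOfFinitePresentation (X ⊗ pw X n).hom
    rw [← Over.w (snd X (pw X n))]
    change LocallyOfFinitePresentation
      (Limits.pullback.snd X.hom (pw X n).hom ≫ (pw X n).hom)
    infer_instance

end Groth.Agent.Lib.Helper11.WD2
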