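import Mathlib
import Groth.Agent.Lib.Helper11.WD2
import Groth.Agent.Lib.Helper11.RFP7

/-!
# WD3: bounded word length on a quasi-compact group via the constructible topology (helper11).
-/

set_option autoImplicit false
universe u
open CategoryTheory AlgebraicGeometry Opposite MonoidalCategory CartesianMonoidalCategory MonObj
open Topology TopologicalSpace

namespace Groth.Agent.Lib.Helper11.WD3

open Groth.Agent.Lib.Helper11

section Top
variable {Y : Type*} [TopologicalSpace Y]

theorem isOpen_constr_of_isConstructible [CompactSpace Y] {s : Set Y} (hs : IsConstructible s) :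
    IsOpen[constructibleTopology Y] s ∧ IsOpen[constructibleTopology Y] sᶜ := by
  induction hs using IsConstructible.empty_union_induction with
  | open_retrocompact U hUo hUc =>
    refine ⟨hUc.isCompact.isOpen_constructibleTopology_of_isOpen hUo, ?_⟩
    exact IsCompact.isOpen_constructibleTopology_of_isClosed
      (by rw [compl_compl]; exact hUc.isCompact) hUo.isClosed_compl
  | union s hs t ht hs' ht' =>
    refine ⟨@IsOpen.union _ _ _ (constructibleTopology Y) hs'.1 ht'.1, ?_⟩
    rw [Set.compl_union]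
    exact @IsOpen.inter _ (constructibleTopology Y) _ _ hs'.2 ht'.2
  | compl s hs hs' => exact ⟨hs'.2, by rw [compl_compl]; exact hs'.1⟩

theorem finite_subcover [CompactSpace Y] [QuasiSober Y] [PrespectralSpace Y]
    [QuasiSeparatedSpace Y] {I : Type*} (A : I → Set Y)
    (hA : ∀ i, IsOpen[constructibleTopology Y] (A i))
    (hcov : ∀ y, ∃ i, y ∈ A i) : ∃ t : Finset I, ∀ y, ∃ i ∈ t, y ∈ A i := by
  haveI : CompactSpace (WithConstructibleTopology Y) := inferInstance
  obtain ⟨t, ht⟩ := (isCompact_univ (X := WithConstructibleTopology Y)).elim_finite_subcover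
    (fun i => WithTopology.ofTopology ⁻¹' A i) (fun i => (WithTopology.isOpen_iff _).mpr (hA i))
    (fun y _ => by
      obtain ⟨i, hi⟩ := hcov y.ofTopology
      exact Set.mem_iUnion.mpr ⟨i, hi⟩)
  refine ⟨t, fun y => ?_⟩
  have := ht (Set.mem_univ (WithTopology.toTopology _ y))
  simp only [Set.mem_iUnion] at this
  obtain ⟨i, hi, hy⟩ := this
  exact ⟨i, hi, hy⟩

end Top

theorem resLE_base_apply {P H : Scheme.{u}} (φ : P ⟶ H) (U : H.Opens) (V : P.Opens)
    (e : V ≤ φ ⁻¹ᵁ U) (x : V.toScheme) :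
    U.ι.base ((φ.resLE U V e).base x) = φ.base (V.ι.base x) := by
  have h1 := Scheme.Hom.resLE_comp_ι φ e
  have h2 : (φ.resLE U V e ≫ U.ι).base x = (V.ι ≫ φ).base x := by rw [h1]
  rw [Scheme.Hom.comp_base, Scheme.Hom.comp_base] at h2
  exact h2

theorem isOpen_constr_range {P H : Scheme.{u}} (φ : P ⟶ H) [LocallyOfFinitePresentation φ]
    (U : H.Opens) (hU : IsAffineOpen U) :
    IsOpen[constructibleTopology U.toScheme]
      {u : U.toScheme | U.ι.base u ∈ Set.range φ.base} := by
  haveI : IsAffine U.toScheme := hU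
  have key : {u : U.toScheme | U.ι.base u ∈ Set.range φ.base} =
      ⋃ (V : {V : P.Opens // IsAffineOpen V ∧ V ≤ φ ⁻¹ᵁ U}),
        Set.range (φ.resLE U V.1 V.2.2).base := by
    ext u
    simp only [Set.mem_ofPred_eq, Set.mem_iUnion, Set.mem_range]
    constructor
    · rintro ⟨q, hq⟩
      have hqU : q ∈ φ ⁻¹ᵁ U := by
        show φ.base q ∈ U
        rw [hq]
        exact u.2
      obtain ⟨_, ⟨V, hV, rfl⟩, hqV, hVU⟩ :=
        P.isBasis_affineOpens.exists_subset_of_mem_open hqU (φ ⁻¹ᵁ U).isOpen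
      have hVU : V ≤ φ ⁻¹ᵁ U := hVU
      refine ⟨⟨V, hV, hVU⟩, ⟨q, hqV⟩, ?_⟩
      apply U.ι.isOpenEmbedding.injective
      exact (resLE_base_apply φ U V hVU ⟨q, hqV⟩).trans hq
    · rintro ⟨V, x, rfl⟩
      exact ⟨V.1.ι.base x, (resLE_base_apply φ U V.1 V.2.2 x).symm⟩
  rw [key]
  refine @isOpen_iUnion _ _ (constructibleTopology _) _ (fun V => ?_)
  haveI : IsAffine V.1.toScheme := V.2.1
  have h3 := (φ.resLE U V.1 V.2.2).isConstructible_image (s := Set.univ) IsConstructible.univ
  rw [Set.image_univ] at h3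
  exact (isOpen_constr_of_isConstructible h3).1

variable {S : Scheme.{u}}

theorem lofp_uw {X H : Over S} [GrpObj H] [LocallyOfFinitePresentation X.hom]
    [LocallyOfFinitePresentation H.hom] (f : X ⟶ H) (n : ℕ) (ε : Fin n → Bool) :
    LocallyOfFinitePresentation (WD2.uw f n ε).left := by
  haveI := WD2.lofp_pw X n
  haveI : LocallyOfFinitePresentation ((WD2.uw f n ε).left ≫ H.hom) := by
    rw [Over.w]
    infer_instance
  exact RFP7.lofp_of_comp (WD2.uw f n ε).left H.hom

theorem bound {X H : Over S} [GrpObj H] [LocallyOfFinitePresentation X.hom]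
    [LocallyOfFinitePresentation H.hom] [CompactSpace H.left] (f : X ⟶ H)
    (hs : ∀ h : H.left, ∃ (n : ℕ) (ε : Fin n → Bool),
      h ∈ Set.range (WD2.uw f n ε).left.base) :
    ∃ N : ℕ, ∀ h : H.left, ∃ (m : ℕ) (_ : m ≤ N) (ε : Fin m → Bool),
      h ∈ Set.range (WD2.uw f m ε).left.base := by
  classical
  -- finite affine cover of H
  obtain ⟨c, hc⟩ := (isCompact_univ (X := H.left)).elim_finite_subcover
    (fun V : H.left.affineOpens => (V.1 : Set H.left))
    (fun V => V.1.isOpen) (fun h _ => by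
      obtain ⟨_, ⟨V, hV, rfl⟩, hhV, -⟩ :=
        H.left.isBasis_affineOpens.exists_subset_of_mem_open (Set.mem_univ h) isOpen_univ
      exact Set.mem_iUnion.mpr ⟨⟨V, hV⟩, hhV⟩)
  -- for each affine open, a finite set of shapes suffices
  have hV : ∀ V : H.left.affineOpens, ∃ t : Finset (Σ n : ℕ, (Fin n → Bool)),
      ∀ u : V.1.toScheme, ∃ i ∈ t, V.1.ι.base u ∈ Set.range (WD2.uw f i.1 i.2).left.base := by
    intro V
    haveI : IsAffine V.1.toScheme := V.2
    refine finite_subcover (Y := V.1.toScheme)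
      (fun i : (Σ n : ℕ, (Fin n → Bool)) =>
        {u : V.1.toScheme | V.1.ι.base u ∈ Set.range (WD2.uw f i.1 i.2).left.base})
      (fun i => ?_) (fun u => ?_)
    · haveI := lofp_uw f i.1 i.2
      exact isOpen_constr_range (WD2.uw f i.1 i.2).left V.1 V.2
    · obtain ⟨n, ε, h⟩ := hs (V.1.ι.base u)
      exact ⟨⟨n, ε⟩, h⟩
  choose t ht using hV
  refine ⟨c.sup (fun V => (t V).sup (fun i => i.1)), fun h => ?_⟩
  have h1 := hc (Set.mem_univ h)
  simp only [Set.mem_iUnion] at h1
  obtain ⟨V, hVc, hhV⟩ := h1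
  obtain ⟨i, hi, hu⟩ := ht V ⟨h, hhV⟩
  refine ⟨i.1, ?_, i.2, hu⟩
  exact (Finset.le_sup (f := fun i : (Σ n : ℕ, (Fin n → Bool)) => i.1) hi).trans
    (Finset.le_sup (f := fun V => (t V).sup (fun i => i.1)) hVc)

end Groth.Agent.Lib.Helper11.WD3
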