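import Mathlib

/-!
# Order of vanishing and open immersions
-/

set_option autoImplicit false
universe u
open CategoryTheory AlgebraicGeometry TopologicalSpace

namespace Groth.Agent.Lib.Helper11.WDivOrd

section Algebra

/-- `Ring.ord` is invariant under ring isomorphisms. -/
lemma ord_ringEquiv {R R' : Type*} [CommRing R] [CommRing R'] (e : R ≃+* R') (x : R) :
    Ring.ord R' (e x) = Ring.ord R x := by
  unfold Ring.ord
  have hIJ : Ideal.span {e x} = (Ideal.span {x}).map (e : R →+* R') := by
    rw [Ideal.map_span, Set.image_singleton]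
    rfl
  let q : R ⧸ Ideal.span {x} ≃+* R' ⧸ Ideal.span {e x} :=
    Ideal.quotientEquiv (Ideal.span {x}) (Ideal.span {e x}) e hIJ
  haveI := RingHomInvPair.of_ringEquiv e
  haveI := RingHomInvPair.of_ringEquiv_symm e
  let f : (R ⧸ Ideal.span {x}) ≃ₛₗ[(e : R →+* R')] (R' ⧸ Ideal.span {e x}) :=
    { q.toAddEquiv with
      map_smul' := by
        intro r m
        obtain ⟨m, rfl⟩ := Ideal.Quotient.mk_surjective m
        change q (r • Ideal.Quotient.mk _ m) = e r • q (Ideal.Quotient.mk _ m)
        rw [Algebra.smul_def, Algebra.smul_def, map_mul]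
        rfl }
  apply WithBot.coe_injective
  rw [Module.coe_length, Module.coe_length]
  exact (Order.krullDim_eq_of_orderIso (Submodule.orderIsoMapComap f)).symm

variable {R R' K K' : Type*} [CommRing R] [CommRing R'] [Field K] [Field K'] [Algebra R K]
  [Algebra R' K'] [IsFractionRing R K] [IsFractionRing R' K'] [IsNoetherianRing R]
  [IsNoetherianRing R'] [Ring.KrullDimLE 1 R] [Ring.KrullDimLE 1 R'] [Nontrivial R] [Nontrivial R']

lemma ordMonoidWithZeroHom_ringEquiv (e : R ≃+* R') (x : R) :
    Ring.ordMonoidWithZeroHom R' (e x) = Ring.ordMonoidWithZeroHom R x := by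
  by_cases hx : x ∈ nonZeroDivisors R
  · have hx' : e x ∈ nonZeroDivisors R' := by
      rw [mem_nonZeroDivisors_iff] at hx ⊢
      constructor
      · intro y hy
        have := hx.1 (e.symm y) (by rw [← e.symm_apply_apply x, ← map_mul, hy, map_zero])
        simpa using this
      · intro y hy
        have := hx.2 (e.symm y) (by rw [← e.symm_apply_apply x, ← map_mul, hy, map_zero])
        simpa using this
    rw [Ring.ordMonoidWithZeroHom_eq_ord hx, Ring.ordMonoidWithZeroHom_eq_ord hx', ord_ringEquiv]
  · have hx' : e x ∉ nonZeroDivisors R' := by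
      intro h
      apply hx
      rw [mem_nonZeroDivisors_iff] at h ⊢
      constructor
      · intro y hy
        have := h.1 (e y) (by rw [← map_mul, hy, map_zero])
        simpa using this
      · intro y hy
        have := h.2 (e y) (by rw [← map_mul, hy, map_zero])
        simpa using this
    rw [Ring.ordMonoidWithZeroHom_eq_zero hx, Ring.ordMonoidWithZeroHom_eq_zero hx']

/-- `Ring.ordFrac` is invariant under compatible isomorphisms. -/
lemma ordFrac_ringEquiv (e : R ≃+* R') (φ : K →+* K')
    (h : ∀ r, φ (algebraMap R K r) = algebraMap R' K' (e r)) (x : K) :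
    Ring.ordFrac R' (φ x) = Ring.ordFrac R x := by
  obtain ⟨a, b, hb, rfl⟩ := IsFractionRing.div_surjective (A := R) x
  have hdomR : IsDomain R := (IsFractionRing.injective R K).isDomain (algebraMap R K)
  have hdomR' : IsDomain R' := (IsFractionRing.injective R' K').isDomain (algebraMap R' K')
  rw [map_div₀, map_div₀, map_div₀, h, h]
  have hb0 : b ≠ 0 := nonZeroDivisors.ne_zero hb
  have hb0' : e b ≠ 0 := by simpa using hb0
  by_cases ha : a = 0
  · subst ha
    simp
  · have ha' : e a ≠ 0 := by simpa using ha
    rw [Ring.ordFrac_eq_ord R ha, Ring.ordFrac_eq_ord R hb0, Ring.ordFrac_eq_ord R' ha',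
      Ring.ordFrac_eq_ord R' hb0', ordMonoidWithZeroHom_ringEquiv, ordMonoidWithZeroHom_ringEquiv]

end Algebra

section Geometry

variable {V X : Scheme.{u}} [IsIntegral X] (j : V ⟶ X) [IsOpenImmersion j] [Nonempty V]

include j in
lemma isIntegral_source : IsIntegral V := isIntegral_of_isOpenImmersion j

variable [IsIntegral V]

lemma gen_specializes : j (genericPoint V) ⤳ genericPoint X :=
  specializes_of_eq (genericPoint_eq_of_isOpenImmersion j)

/-- the map of function fields induced by an open immersion. -/
noncomputable def ffmap : X.functionField ⟶ V.functionField :=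
  X.presheaf.stalkSpecializes (gen_specializes j) ≫ j.stalkMap (genericPoint V)

instance : IsIso (ffmap j) := by
  unfold ffmap
  haveI : IsIso (X.presheaf.stalkSpecializes (gen_specializes j)) := by
    have h2 : genericPoint X ⤳ j (genericPoint V) :=
      specializes_of_eq (genericPoint_eq_of_isOpenImmersion j).symm
    refine ⟨X.presheaf.stalkSpecializes h2, ?_, ?_⟩
    · rw [TopCat.Presheaf.stalkSpecializes_comp]
      exact TopCat.Presheaf.stalkSpecializes_refl _ _
    · rw [TopCat.Presheaf.stalkSpecializes_comp]
      exact TopCat.Presheaf.stalkSpecializes_refl _ _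
  infer_instance

lemma ffmap_algebraMap (v : V) (r : X.presheaf.stalk (j v)) :
    (ffmap j).hom (algebraMap (X.presheaf.stalk (j v)) X.functionField r) =
      algebraMap (V.presheaf.stalk v) V.functionField ((j.stalkMap v).hom r) := by
  have hv : genericPoint V ⤳ v := genericPoint_specializes v
  have hx : genericPoint X ⤳ j v := genericPoint_specializes (j v)
  have key : X.presheaf.stalkSpecializes hx ≫ ffmap j =
      j.stalkMap v ≫ V.presheaf.stalkSpecializes hv := by
    unfold ffmap
    rw [← Category.assoc, TopCat.Presheaf.stalkSpecializes_comp,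
      ← Scheme.Hom.stalkSpecializes_stalkMap]
  exact congrArg (fun ψ => ψ.hom r) key

variable [IsLocallyNoetherian X]

include j in
lemma isLocallyNoetherian_source : IsLocallyNoetherian V := isLocallyNoetherian_of_isOpenImmersion j

variable [IsLocallyNoetherian V]

/-- Orders of vanishing are compatible with open immersions. -/
theorem ord_ffmap (v : V) (f : X.functionField) :
    Scheme.ord ((ffmap j).hom f) v = Scheme.ord f (j v) := by
  have hco : Order.coheight (j v) = Order.coheight v := coheight_eq_of_isOpenImmersion j
  by_cases hv : Order.coheight v = 1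
  · have hx : Order.coheight (j v) = 1 := hco.trans hv
    rw [Scheme.ord_eq_ordHom_of_coheight_eq_one hv, Scheme.ord_eq_ordHom_of_coheight_eq_one hx]
    congr 2
    unfold Scheme.ordHom
    haveI : Ring.KrullDimLE 1 (X.presheaf.stalk (j v)) := krullDimLE_of_coheight_le hx.le
    haveI : Ring.KrullDimLE 1 (V.presheaf.stalk v) := krullDimLE_of_coheight_le hv.le
    exact ordFrac_ringEquiv (asIso (j.stalkMap v)).commRingCatIsoToRingEquiv (ffmap j).hom
      (fun r => ffmap_algebraMap j v r) f
  · have hx : Order.coheight (j v) ≠ 1 := fun h => hv (hco.symm.trans h)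
    rw [Scheme.ord_eq_zero_of_coheight_neq_one hv, Scheme.ord_eq_zero_of_coheight_neq_one hx]

end Geometry

end Groth.Agent.Lib.Helper11.WDivOrd
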