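import Mathlib

/-!
# Weil divisors on the spectrum of a Noetherian UFD are principal
-/

set_option autoImplicit false
universe u
open CategoryTheory AlgebraicGeometry TopologicalSpace

namespace Groth.Agent.Lib.Helper11.WDivUFD

section General

variable {X : Scheme.{u}} [IsIntegral X] [IsLocallyNoetherian X]

lemma ord_one (y : X) : Scheme.ord (1 : X.functionField) y = 0 := by
  have h := Scheme.ord_mul (x := y) (f := (1 : X.functionField)) (g := 1) one_ne_zero one_ne_zero
  rw [mul_one] at h
  omega

lemma ord_inv (y : X) (g : X.functionField) (hg : g ≠ 0) :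
    Scheme.ord g⁻¹ y = - Scheme.ord g y := by
  have h := Scheme.ord_mul (x := y) hg (inv_ne_zero hg)
  rw [mul_inv_cancel₀ hg, ord_one] at h
  omega

lemma ord_pow (y : X) (g : X.functionField) (hg : g ≠ 0) (n : ℕ) :
    Scheme.ord (g ^ n) y = n * Scheme.ord g y := by
  induction n with
  | zero => simp [ord_one]
  | succ n ih =>
    rw [pow_succ, Scheme.ord_mul (pow_ne_zero n hg) hg, ih]
    push_cast
    ring

lemma ord_zpow (y : X) (g : X.functionField) (hg : g ≠ 0) (n : ℤ) :
    Scheme.ord (g ^ n) y = n * Scheme.ord g y := by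
  cases n with
  | ofNat n =>
    rw [Int.ofNat_eq_natCast, zpow_natCast, ord_pow y g hg]
  | negSucc n =>
    rw [zpow_negSucc, ord_inv y _ (pow_ne_zero _ hg), ord_pow y g hg, Int.negSucc_eq]
    push_cast
    ring

lemma ord_prod {ι : Type*} (y : X) (S : Finset ι) (F : ι → X.functionField)
    (hF : ∀ i ∈ S, F i ≠ 0) :
    Scheme.ord (∏ i ∈ S, F i) y = ∑ i ∈ S, Scheme.ord (F i) y := by
  classical
  induction S using Finset.induction_on with
  | empty => simp [ord_one]
  | insert a S ha ih =>
    rw [Finset.prod_insert ha, Finset.sum_insert ha,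
      Scheme.ord_mul (hF a (Finset.mem_insert_self a S))
        (Finset.prod_ne_zero_iff.mpr (fun i hi => hF i (Finset.mem_insert_of_mem hi))),
      ih (fun i hi => hF i (Finset.mem_insert_of_mem hi))]

end General

section Spec

variable (A : Type u) [CommRing A] [IsDomain A]

/-- the global section of an element. -/
noncomputable def sec (a : A) : Γ(Spec (CommRingCat.of A), ⊤) :=
  (Scheme.ΓSpecIso (CommRingCat.of A)).inv a

instance instNonemptyTop : Nonempty (⊤ : (Spec (CommRingCat.of A)).Opens) :=
  ⟨⟨genericPoint _, trivial⟩⟩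

/-- the rational function of an element. -/
noncomputable def frac (a : A) : (Spec (CommRingCat.of A)).functionField :=
  (Spec (CommRingCat.of A)).germToFunctionField ⊤ (sec A a)

lemma frac_ne_zero (a : A) (ha : a ≠ 0) : frac A a ≠ 0 := by
  intro h
  apply ha
  have h1 : sec A a = 0 := by
    apply (Spec (CommRingCat.of A)).germToFunctionField_injective ⊤
    rw [map_zero]
    exact h
  have h2 := congrArg (Scheme.ΓSpecIso (CommRingCat.of A)).hom h1
  rw [map_zero] at h2
  unfold sec at h2
  rw [← h2]
  exact (congrArg (fun φ => φ a) (Scheme.ΓSpecIso (CommRingCat.of A)).inv_hom_id).symm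

variable [IsNoetherianRing A]

lemma ord_frac_of_notMem (a : A) (y : Spec (CommRingCat.of A)) (hy : a ∉ y.asIdeal) :
    Scheme.ord (frac A a) y = 0 := by
  let U : (Spec (CommRingCat.of A)).Opens := (Spec (CommRingCat.of A)).basicOpen (sec A a)
  have hyU : y ∈ U := by
    change y ∈ (Spec (CommRingCat.of A)).basicOpen ((Scheme.ΓSpecIso (CommRingCat.of A)).inv a)
    rw [basicOpen_eq_of_affine]
    exact hy
  haveI : Nonempty U := ⟨⟨y, hyU⟩⟩
  let t : Γ(Spec (CommRingCat.of A), U) :=
    (Spec (CommRingCat.of A)).presheaf.map (homOfLE le_top).op (sec A a)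
  have ht : IsUnit t :=
    (Spec (CommRingCat.of A)).toRingedSpace.isUnit_res_basicOpen (sec A a)
  have hg : (Spec (CommRingCat.of A)).germToFunctionField U t = frac A a := by
    change (Spec (CommRingCat.of A)).presheaf.germ U (genericPoint _) _
      ((Spec (CommRingCat.of A)).presheaf.map (homOfLE le_top).op (sec A a)) =
      (Spec (CommRingCat.of A)).presheaf.germ ⊤ (genericPoint _) _ (sec A a)
    exact TopCat.Presheaf.germ_res_apply _ _ _ _ _
  rw [← hg]
  exact Scheme.ord_of_isUnit ht hyU

lemma ord_frac_of_span_eq (π : A) (hπ : π ≠ 0) (x : Spec (CommRingCat.of A))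
    (hx : Order.coheight x = 1) (hspan : x.asIdeal = Ideal.span {π}) :
    Scheme.ord (frac A π) x = 1 := by
  rw [Scheme.ord_eq_iff hx (frac_ne_zero A π hπ)]
  unfold Scheme.ordHom
  haveI : Ring.KrullDimLE 1 ((Spec (CommRingCat.of A)).presheaf.stalk x) :=
    krullDimLE_of_coheight_le hx.le
  let g := (Spec (CommRingCat.of A)).presheaf.germ ⊤ x trivial (sec A π)
  have hfg : frac A π = algebraMap ((Spec (CommRingCat.of A)).presheaf.stalk x)
      (Spec (CommRingCat.of A)).functionField g :=
    (Scheme.algebraMap_germ_eq_germToFunctionField _ (U := ⊤) (x := x) trivial (sec A π)).symm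
  have hg0 : g ≠ 0 := by
    intro h0
    apply frac_ne_zero A π hπ
    rw [hfg, h0, map_zero]
  rw [hfg, Ring.ordFrac_eq_ord _ hg0]
  apply Ring.ordMonoidWithZeroHom_eq_coe _ (mem_nonZeroDivisors_of_ne_zero hg0)
  -- `ord g = 1` since `g` generates the maximal ideal
  letI k : Algebra A ((Spec (CommRingCat.of A)).presheaf.stalk x) :=
    StructureSheaf.stalkAlgebra A x
  haveI : IsLocalization.AtPrime ((Spec (CommRingCat.of A)).presheaf.stalk x) x.asIdeal :=
    StructureSheaf.IsLocalization.to_stalk A x
  have hgalg : g = algebraMap A ((Spec (CommRingCat.of A)).presheaf.stalk x) π := rfl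
  have hmax : (Ideal.span {g}).IsMaximal := by
    have h1 := IsLocalization.AtPrime.map_eq_maximalIdeal x.asIdeal
      ((Spec (CommRingCat.of A)).presheaf.stalk x)
    rw [hspan, Ideal.map_span, Set.image_singleton, ← hgalg] at h1
    rw [h1]
    exact IsLocalRing.maximalIdeal.isMaximal _
  rw [Nat.cast_one, Ring.ord, Module.length_eq_one_iff]
  rw [isSimpleModule_iff_isSimpleModule_of_algebraMap_surjective
    (S := (Spec (CommRingCat.of A)).presheaf.stalk x ⧸ Ideal.span {g}) Ideal.Quotient.mk_surjective]
  let := Ideal.Quotient.field (Ideal.span {g})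
  exact instIsSimpleModule _

variable [UniqueFactorizationMonoid A]

lemma exists_span_eq (x : Spec (CommRingCat.of A)) (hx : Order.coheight x = 1) :
    ∃ π : A, π ≠ 0 ∧ x.asIdeal = Ideal.span {π} := by
  have hht : x.asIdeal.height = 1 := by
    rw [idealHeight_eq_coheight (CommRingCat.of A) x, hx]
  have hne : x.asIdeal ≠ ⊥ := by
    intro h
    rw [h, Ideal.height_bot] at hht
    exact zero_ne_one hht
  obtain ⟨π, hπmem, hπ⟩ := Ideal.IsPrime.exists_mem_prime_of_ne_bot x.isPrime hne
  have hπ0 : π ≠ 0 := hπ.ne_zero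
  refine ⟨π, hπ0, ?_⟩
  haveI : (Ideal.span {π}).IsPrime := (Ideal.span_singleton_prime hπ0).mpr hπ
  have hle : Ideal.span {π} ≤ x.asIdeal := (Ideal.span_singleton_le_iff_mem _).mpr hπmem
  symm
  apply Ideal.eq_of_le_of_height_le _ hle
  rw [hht]
  have hlt : (⊥ : Ideal A) < Ideal.span {π} := by
    rw [bot_lt_iff_ne_bot]
    intro h
    exact hπ0 (Ideal.span_singleton_eq_bot.mp h)
  have := Ideal.height_strict_mono_of_isPrime hlt
  rw [Ideal.height_bot] at this
  exact Order.one_le_iff_pos.mpr this

theorem exists_frac_ord_eq (D : ↥(Spec (CommRingCat.of A)) → ℤ)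
    (hD : ∀ x, Order.coheight x ≠ 1 → D x = 0) (hfin : {x | D x ≠ 0}.Finite) :
    ∃ f : ↑(Spec (CommRingCat.of A)).functionField, f ≠ 0 ∧
      ∀ x : ↥(Spec (CommRingCat.of A)), Order.coheight x = 1 → Scheme.ord f x = D x := by
  classical
  have hex : ∀ x : ↥(Spec (CommRingCat.of A)), ∃ π : A, π ≠ 0 ∧
      (Order.coheight x = 1 → x.asIdeal = Ideal.span {π}) := by
    intro x
    by_cases hx : Order.coheight x = 1
    · obtain ⟨π, h0, h1⟩ := exists_span_eq A x hx
      exact ⟨π, h0, fun _ => h1⟩
    · exact ⟨1, one_ne_zero, fun h => absurd h hx⟩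
  choose P hP0 hP using hex
  let S := hfin.toFinset
  refine ⟨∏ x ∈ S, (frac A (P x)) ^ (D x), ?_, ?_⟩
  · rw [Finset.prod_ne_zero_iff]
    intro x _
    exact zpow_ne_zero _ (frac_ne_zero A _ (hP0 x))
  · intro y hy
    rw [ord_prod y S _ (fun x _ => zpow_ne_zero _ (frac_ne_zero A _ (hP0 x)))]
    have hterm : ∀ x ∈ S, Scheme.ord ((frac A (P x)) ^ (D x)) y = if x = y then D y else 0 := by
      intro x hxS
      have hx1 : Order.coheight x = 1 := by
        by_contra hne
        have hx0 : D x ≠ 0 := by simpa [S] using hxS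
        exact hx0 (hD x hne)
      rw [ord_zpow y _ (frac_ne_zero A _ (hP0 x))]
      split_ifs with hxy
      · subst hxy
        rw [ord_frac_of_span_eq A (P x) (hP0 x) x hx1 (hP x hx1), mul_one]
      · have hnm : P x ∉ y.asIdeal := by
          intro hmem
          apply hxy
          have hle : x.asIdeal ≤ y.asIdeal := by
            rw [hP x hx1]
            exact (Ideal.span_singleton_le_iff_mem _).mpr hmem
          have hhx : x.asIdeal.height = 1 := by
            rw [idealHeight_eq_coheight (CommRingCat.of A) x, hx1]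
          have hhy : y.asIdeal.height = 1 := by
            rw [idealHeight_eq_coheight (CommRingCat.of A) y, hy]
          have := Ideal.eq_of_le_of_height_le _ hle (by rw [hhx, hhy])
          exact PrimeSpectrum.ext this
        rw [ord_frac_of_notMem A (P x) y hnm, mul_zero]
    rw [Finset.sum_congr rfl hterm, Finset.sum_ite_eq' S y]
    split_ifs with hyS
    · rfl
    · have : ¬ D y ≠ 0 := by simpa [S] using hyS
      exact (not_not.mp this).symm

end Spec

end Groth.Agent.Lib.Helper11.WDivUFD
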