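import Mathlib
import Groth.Prelude.Def_WeilRes
import Groth.Prelude.Def_GmPts

/-!
# Sections of the Weil restriction of `𝔾_m` over a semilocal base
-/

set_option autoImplicit false
universe u
open CategoryTheory CategoryTheory.Limits AlgebraicGeometry Opposite

namespace Groth.Agent.Lib.Helper11.WeilGm

noncomputable section

variable (A : Type u) [CommRing A] (B : Type u) [CommRing B] [Algebra A B]

/-- the base `Spec A` -/
abbrev S : Scheme.{u} := Spec (CommRingCat.of A)
/-- the cover `Spec B` -/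
abbrev S' : Scheme.{u} := Spec (CommRingCat.of B)
/-- the structure map -/
abbrev f : S' B ⟶ S A := Spec.map (CommRingCat.ofHom (algebraMap A B))

variable {A}

/-- the closed point `Spec A/m` as an `S`-scheme -/
abbrev T (m : Ideal A) : Over (S A) := Over.mk (Spec.map (CommRingCat.ofHom (Ideal.Quotient.mk m)))

variable (A) in
/-- the base as an `S`-scheme -/
abbrev T₀ : Over (S A) := Over.mk (𝟙 (S A))

/-- the inclusion of the closed point -/
abbrev t (m : Ideal A) : T m ⟶ T₀ A := Over.homMk (Spec.map (CommRingCat.ofHom (Ideal.Quotient.mk m)))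

/-- the projection of the base change of an `S`-scheme to `S'` -/
abbrev σ (X : Over (S A)) : (Red.bc (f A B) X).left ⟶ S' B := pullback.snd X.hom (f A B)

/-- `B → Γ(X ×_S S')` -/
def ψ (X : Over (S A)) : B →+* Γ((Red.bc (f A B) X).left, ⊤) :=
  ((Scheme.ΓSpecIso (CommRingCat.of B)).inv ≫ (σ B X).appTop).hom

theorem ψ_apply (X : Over (S A)) (b : B) :
    ψ B X b = (σ B X).appTop ((Scheme.ΓSpecIso (CommRingCat.of B)).inv b) := rfl

instance (m : Ideal A) : IsClosedImmersion (σ B (T m)) := by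
  have : IsClosedImmersion (T m).hom :=
    IsClosedImmersion.spec_of_quotient_mk (R := CommRingCat.of A) m
  exact MorphismProperty.pullback_snd _ _ this

theorem ψ_surjective (m : Ideal A) : Function.Surjective (ψ B (T m)) := by
  have h1 : Function.Surjective ((σ B (T m)).app ⊤) :=
    (σ B (T m)).app_surjective ⊤ (isAffineOpen_top _)
  have h2 : Function.Surjective (Scheme.ΓSpecIso (CommRingCat.of B)).inv :=
    (ConcreteCategory.bijective_of_isIso (Scheme.ΓSpecIso (CommRingCat.of B)).inv).2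
  exact h1.comp h2

theorem ψ_algebraMap (m : Ideal A) (a : A) (ha : a ∈ m) : ψ B (T m) (algebraMap A B a) = 0 := by
  have h0 : σ B (T m) ≫ f A B = pullback.fst (T m).hom (f A B) ≫ (T m).hom :=
    pullback.condition.symm
  have h1 : (Scheme.ΓSpecIso (CommRingCat.of B)).inv (algebraMap A B a) =
      (f A B).appTop ((Scheme.ΓSpecIso (CommRingCat.of A)).inv a) := by
    have := Scheme.ΓSpecIso_inv_naturality (CommRingCat.ofHom (algebraMap A B))
    exact congr($this a)
  have h2 : (T m).hom.appTop ((Scheme.ΓSpecIso (CommRingCat.of A)).inv a) = 0 := by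
    have := Scheme.ΓSpecIso_inv_naturality (CommRingCat.ofHom (Ideal.Quotient.mk m))
    have h3 := congr($this a)
    have h4 : (CommRingCat.ofHom (Ideal.Quotient.mk m)) a = 0 := Ideal.Quotient.eq_zero_iff_mem.mpr ha
    refine h3.symm.trans ?_
    change (Scheme.ΓSpecIso _).inv ((CommRingCat.ofHom (Ideal.Quotient.mk m)) a) = 0
    rw [h4, map_zero]
  rw [ψ_apply, h1]
  change ((f A B).appTop ≫ (σ B (T m)).appTop) _ = 0
  rw [← Scheme.Hom.comp_appTop, h0, Scheme.Hom.comp_appTop]
  change (pullback.fst (T m).hom (f A B)).appTop ((T m).hom.appTop _) = 0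
  rw [h2, map_zero]


theorem isCoprime_ker (m m' : MaximalSpectrum A) (h : m ≠ m') :
    IsCoprime (RingHom.ker (ψ B (T m.asIdeal))) (RingHom.ker (ψ B (T m'.asIdeal))) := by
  have hne : m.asIdeal ≠ m'.asIdeal := fun e => h (MaximalSpectrum.ext e)
  have hsup : m.asIdeal ⊔ m'.asIdeal = ⊤ := m.isMaximal.coprime_of_ne m'.isMaximal hne
  obtain ⟨a, ha, a', ha', haa'⟩ := Submodule.mem_sup.mp (hsup ▸ Submodule.mem_top : (1 : A) ∈ m.asIdeal ⊔ m'.asIdeal)
  rw [Ideal.isCoprime_iff_exists]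
  refine ⟨algebraMap A B a, ψ_algebraMap B _ a ha, algebraMap A B a', ψ_algebraMap B _ a' ha', ?_⟩
  rw [← map_add, haa', map_one]

variable [Finite (MaximalSpectrum A)]

theorem exists_lift (x : ∀ m : MaximalSpectrum A, Γ((Red.bc (f A B) (T m.asIdeal)).left, ⊤)) :
    ∃ r : B, ∀ m : MaximalSpectrum A, ψ B (T m.asIdeal) r = x m := by
  choose y hy using fun m : MaximalSpectrum A => ψ_surjective B m.asIdeal (x m)
  obtain ⟨r, hr⟩ := Ideal.exists_forall_sub_mem_ideal
    (I := fun m : MaximalSpectrum A => RingHom.ker (ψ B (T m.asIdeal)))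
    (fun m m' h => isCoprime_ker B m m' h) y
  refine ⟨r, fun m => ?_⟩
  have := hr m
  rw [RingHom.mem_ker, map_sub, sub_eq_zero] at this
  rw [this, hy]

variable [Algebra.IsIntegral A B]

omit [Finite (MaximalSpectrum A)] in
theorem isUnit_of_forall (r : B) (hr : ∀ m : MaximalSpectrum A, IsUnit (ψ B (T m.asIdeal) r)) :
    IsUnit r := by
  by_contra hnu
  obtain ⟨n, hn, hrn⟩ := exists_max_ideal_of_mem_nonunits (mem_nonunits_iff.mpr hnu)
  haveI := hn
  have hm : (n.comap (algebraMap A B)).IsMaximal :=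
    Ideal.isMaximal_comap_of_isIntegral_of_isMaximal n
  let m : MaximalSpectrum A := ⟨n.comap (algebraMap A B), hm⟩
  let p : S' B := (⟨n, hn.isPrime⟩ : PrimeSpectrum B)
  haveI : Nontrivial (A ⧸ m.asIdeal) := Ideal.Quotient.nontrivial_iff.mpr hm.ne_top
  obtain ⟨q⟩ : Nonempty (PrimeSpectrum (A ⧸ m.asIdeal)) := inferInstance
  have hq : (T m.asIdeal).hom (q : Spec (CommRingCat.of (A ⧸ m.asIdeal))) = (f A B) p := by
    apply PrimeSpectrum.ext
    change q.asIdeal.comap (Ideal.Quotient.mk m.asIdeal) = n.comap (algebraMap A B)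
    symm
    apply hm.eq_of_le (Ideal.comap_ne_top _ q.isPrime.ne_top)
    intro a ha
    rw [Ideal.mem_comap]
    have : Ideal.Quotient.mk m.asIdeal a = 0 := Ideal.Quotient.eq_zero_iff_mem.mpr ha
    rw [this]
    exact Ideal.zero_mem _
  obtain ⟨z, -, hz⟩ := Scheme.Pullback.exists_preimage_pullback
    (f := (T m.asIdeal).hom) (g := f A B) _ _ hq
  have h1 : z ∈ (Red.bc (f A B) (T m.asIdeal)).left.basicOpen (ψ B (T m.asIdeal) r) := by
    rw [Scheme.basicOpen_of_isUnit _ (hr m)]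
    trivial
  rw [ψ_apply] at h1
  have h2 : z ∈ (σ B (T m.asIdeal)) ⁻¹ᵁ
      ((S' B).basicOpen ((Scheme.ΓSpecIso (CommRingCat.of B)).inv r)) := by
    rw [Scheme.preimage_basicOpen]
    exact h1
  have h3 : p ∈ (S' B).basicOpen ((Scheme.ΓSpecIso (CommRingCat.of B)).inv r) := by
    rw [← hz]
    exact h2
  rw [basicOpen_eq_of_affine] at h3
  exact h3 hrn


theorem main
    (P : Over (S A)) (q : Red.bc (f A B) P ⟶ Red.Gm (S' B))
    (hP : WeilRes.IsWeilRes (f A B) (Red.Gm (S' B)) P q)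
    (u : ∀ m : MaximalSpectrum A, Spec (CommRingCat.of (A ⧸ m.asIdeal)) ⟶ P.left)
    (hu : ∀ m : MaximalSpectrum A, u m ≫ P.hom =
      (Spec.map (CommRingCat.ofHom (Ideal.Quotient.mk m.asIdeal)))) :
    ∃ s : S A ⟶ P.left, s ≫ P.hom = 𝟙 (S A) ∧
      ∀ m : MaximalSpectrum A,
        (Spec.map (CommRingCat.ofHom (Ideal.Quotient.mk m.asIdeal))) ≫ s = u m := by
  let u' : ∀ m : MaximalSpectrum A, T m.asIdeal ⟶ P := fun m => Over.homMk (u m) (hu m)
  let x : ∀ m : MaximalSpectrum A, Γ((Red.bc (f A B) (T m.asIdeal)).left, ⊤) := fun m =>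
    Red.gmFn (WeilRes.restr (f A B) q (T m.asIdeal) (u' m))
  obtain ⟨r, hr⟩ := exists_lift B x
  have hru : IsUnit r := isUnit_of_forall B r (fun m => by
    rw [hr m]; exact GmPts.isUnit_gmFn _)
  let v₀ : (Γ((Red.bc (f A B) (T₀ A)).left, ⊤))ˣ := Units.map (ψ B (T₀ A) : B →* _) hru.unit
  obtain ⟨g, hg⟩ := (hP (T₀ A)).2 (GmPts.ptOfUnit v₀)
  refine ⟨g.left, Over.w g, fun m => ?_⟩
  have key : t m.asIdeal ≫ g = u' m := by
    apply (hP (T m.asIdeal)).1
    rw [WeilRes.restr_comp, hg]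
    apply GmPts.gmFn_injective
    change Red.gmFn _ = Red.gmFn _
    rw [GmPts.gmFn_comp, GmPts.gmFn_ptOfUnit]
    change ((Over.pullback (f A B)).map (t m.asIdeal)).left.appTop (ψ B (T₀ A) r) = x m
    rw [← hr m, ψ_apply, ψ_apply]
    have hw : ((Over.pullback (f A B)).map (t m.asIdeal)).left ≫ σ B (T₀ A) = σ B (T m.asIdeal) :=
      Over.w ((Over.pullback (f A B)).map (t m.asIdeal))
    rw [← hw, Scheme.Hom.comp_appTop]
    rfl
  exact congrArg CommaMorphism.left key

end

end Groth.Agent.Lib.Helper11.WeilGm
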