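import Mathlib

/-!
# WordLaw: the derived series and lower central series of a group vanish iff the iterated
commutator words do (helper11).
-/

set_option autoImplicit false

namespace Groth.Agent.Lib.Helper11.WordLaw

open scoped commutatorElement

variable {Γ : Type*} [Group Γ]

/-- conjugation-invariant sets -/
def ConjInv (S : Set Γ) : Prop := ∀ g a, a ∈ S → g * a * g⁻¹ ∈ S

/-- the set of commutators of elements of two sets -/
def cset (S₁ S₂ : Set Γ) : Set Γ := {c | ∃ a ∈ S₁, ∃ b ∈ S₂, c = ⁅a, b⁆}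

theorem conjInv_univ : ConjInv (Set.univ : Set Γ) := fun _ _ _ => trivial

theorem conjInv_cset {S₁ S₂ : Set Γ} (h₁ : ConjInv S₁) (h₂ : ConjInv S₂) :
    ConjInv (cset S₁ S₂) := by
  rintro g _ ⟨a, ha, b, hb, rfl⟩
  refine ⟨g * a * g⁻¹, h₁ g a ha, g * b * g⁻¹, h₂ g b hb, ?_⟩
  simp only [commutatorElement_def]
  group

theorem normal_closure {S : Set Γ} (h : ConjInv S) : (Subgroup.closure S).Normal := by
  refine ⟨fun n hn g => ?_⟩
  induction hn using Subgroup.closure_induction with
  | mem x hx => exact Subgroup.subset_closure (h g x hx)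
  | one => simp
  | mul x y _ _ hx hy =>
    have : g * (x * y) * g⁻¹ = (g * x * g⁻¹) * (g * y * g⁻¹) := by group
    rw [this]
    exact Subgroup.mul_mem _ hx hy
  | inv x _ hx =>
    have : g * x⁻¹ * g⁻¹ = (g * x * g⁻¹)⁻¹ := by group
    rw [this]
    exact Subgroup.inv_mem _ hx

theorem comm_closure_le (S₁ S₂ : Set Γ) (N : Subgroup Γ) [hN : N.Normal]
    (h : ∀ a ∈ S₁, ∀ b ∈ S₂, ⁅a, b⁆ ∈ N) :
    ⁅Subgroup.closure S₁, Subgroup.closure S₂⁆ ≤ N := by
  have hA : ∀ g ∈ Subgroup.closure S₁, ∀ b ∈ S₂, ⁅g, b⁆ ∈ N := by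
    intro g hg b hb
    induction hg using Subgroup.closure_induction with
    | mem x hx => exact h x hx b hb
    | one => rw [commutatorElement_one_left]; exact N.one_mem
    | mul x y _ _ hx hy =>
      have : ⁅x * y, b⁆ = (x * ⁅y, b⁆ * x⁻¹) * ⁅x, b⁆ := by
        simp only [commutatorElement_def]; group
      rw [this]
      exact N.mul_mem (hN.conj_mem _ hy x) hx
    | inv x _ hx =>
      have : ⁅x⁻¹, b⁆ = x⁻¹ * ⁅x, b⁆⁻¹ * x⁻¹⁻¹ := by
        simp only [commutatorElement_def]; group
      rw [this]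
      exact hN.conj_mem _ (N.inv_mem hx) x⁻¹
  rw [Subgroup.commutator_le]
  intro g hg h' hh'
  induction hh' using Subgroup.closure_induction with
  | mem x hx => exact hA g hg x hx
  | one => rw [commutatorElement_one_right]; exact N.one_mem
  | mul x y _ _ hx hy =>
    have : ⁅g, x * y⁆ = ⁅g, x⁆ * (x * ⁅g, y⁆ * x⁻¹) := by
      simp only [commutatorElement_def]; group
    rw [this]
    exact N.mul_mem hx (hN.conj_mem _ hy x)
  | inv x _ hx =>
    have : ⁅g, x⁻¹⁆ = x⁻¹ * ⁅g, x⁆⁻¹ * x⁻¹⁻¹ := by
      simp only [commutatorElement_def]; group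
    rw [this]
    exact hN.conj_mem _ (N.inv_mem hx) x⁻¹

/-- values of the `n`-th derived word -/
def dV : ℕ → Set Γ
  | 0 => Set.univ
  | n + 1 => cset (dV n) (dV n)

/-- values of the `n`-th lower central word -/
def lV : ℕ → Set Γ
  | 0 => Set.univ
  | n + 1 => cset (lV n) Set.univ

theorem conjInv_dV (n : ℕ) : ConjInv (dV (Γ := Γ) n) := by
  induction n with
  | zero => exact conjInv_univ
  | succ n ih => exact conjInv_cset ih ih

theorem conjInv_lV (n : ℕ) : ConjInv (lV (Γ := Γ) n) := by
  induction n with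
  | zero => exact conjInv_univ
  | succ n ih => exact conjInv_cset ih conjInv_univ

theorem dV_subset (n : ℕ) : dV n ⊆ (derivedSeries Γ n : Set Γ) := by
  induction n with
  | zero => intro a _; exact Subgroup.mem_top a
  | succ n ih =>
    rintro _ ⟨a, ha, b, hb, rfl⟩
    rw [derivedSeries_succ]
    exact Subgroup.commutator_mem_commutator (ih ha) (ih hb)

theorem derivedSeries_le (n : ℕ) : derivedSeries Γ n ≤ Subgroup.closure (dV n) := by
  induction n with
  | zero =>
    show derivedSeries Γ 0 ≤ Subgroup.closure Set.univ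
    rw [Subgroup.closure_univ]
    exact le_top
  | succ n ih =>
    rw [derivedSeries_succ]
    haveI := normal_closure (conjInv_dV (Γ := Γ) (n + 1))
    refine (Subgroup.commutator_mono ih ih).trans (comm_closure_le _ _ _ ?_)
    intro a ha b hb
    exact Subgroup.subset_closure ⟨a, ha, b, hb, rfl⟩

theorem derivedSeries_eq_bot_iff (n : ℕ) :
    derivedSeries Γ n = ⊥ ↔ ∀ a ∈ dV (Γ := Γ) n, a = 1 := by
  constructor
  · intro h a ha
    have := dV_subset n ha
    rw [h] at this
    exact Subgroup.mem_bot.mp this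
  · intro h
    rw [eq_bot_iff]
    refine (derivedSeries_le n).trans ?_
    rw [Subgroup.closure_le]
    intro a ha
    exact Subgroup.mem_bot.mpr (h a ha)

theorem lV_subset (n : ℕ) : lV n ⊆ ((⊤ : Subgroup Γ).lowerCentralSeries n : Set Γ) := by
  induction n with
  | zero => intro a _; exact Subgroup.mem_top a
  | succ n ih =>
    rintro _ ⟨a, ha, b, _, rfl⟩
    rw [Subgroup.lowerCentralSeries_succ]
    exact Subgroup.commutator_mem_commutator (ih ha) (Subgroup.mem_top b)

theorem lowerCentralSeries_le (n : ℕ) :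
    (⊤ : Subgroup Γ).lowerCentralSeries n ≤ Subgroup.closure (lV n) := by
  induction n with
  | zero =>
    show (⊤ : Subgroup Γ).lowerCentralSeries 0 ≤ Subgroup.closure Set.univ
    rw [Subgroup.closure_univ]
    exact le_top
  | succ n ih =>
    rw [Subgroup.lowerCentralSeries_succ]
    haveI := normal_closure (conjInv_lV (Γ := Γ) (n + 1))
    have h2 : (⊤ : Subgroup Γ) ≤ Subgroup.closure Set.univ := by
      rw [Subgroup.closure_univ]
    refine (Subgroup.commutator_mono ih h2).trans (comm_closure_le _ _ _ ?_)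
    intro a ha b hb
    exact Subgroup.subset_closure ⟨a, ha, b, hb, rfl⟩

theorem lowerCentralSeries_eq_bot_iff (n : ℕ) :
    (⊤ : Subgroup Γ).lowerCentralSeries n = ⊥ ↔ ∀ a ∈ lV (Γ := Γ) n, a = 1 := by
  constructor
  · intro h a ha
    have := lV_subset n ha
    rw [h] at this
    exact Subgroup.mem_bot.mp this
  · intro h
    rw [eq_bot_iff]
    refine (lowerCentralSeries_le n).trans ?_
    rw [Subgroup.closure_le]
    intro a ha
    exact Subgroup.mem_bot.mpr (h a ha)

end Groth.Agent.Lib.Helper11.WordLaw
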