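import Groth.Agent.Lib.Helper11.ZetaLine

/-!
# Zeta function under finite base field extension
-/

set_option autoImplicit false
universe u
open CategoryTheory AlgebraicGeometry Limits

namespace Groth.Agent.Lib.Helper11.ZetaBC

open Groth.Agent.Lib.Helper11.ZetaPts Groth.Agent.Lib.Helper11.ZetaPart
  Groth.Agent.Lib.Helper11.ZetaLine

namespace ExpK

open PowerSeries

variable {K : Type*} [Field K] [Algebra ℚ K]

theorem one_subst {a : K⟦X⟧} (ha : HasSubst a) : (1 : K⟦X⟧).subst a = 1 := by
  rw [← coe_substAlgHom ha, map_one]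

theorem constantCoeff_exp_subst {a : K⟦X⟧} (ha : constantCoeff a = 0) :
    constantCoeff ((exp K).subst a) = 1 := by
  have hsa : HasSubst a := HasSubst.of_constantCoeff_zero' ha
  have h : (exp K).subst a = (exp K - 1).subst a + 1 := by
    rw [subst_sub hsa, one_subst hsa, sub_add_cancel]
  rw [h, map_add, map_one]
  have := constantCoeff_subst_eq_zero (a := a) ha (exp K - 1) (by simp)
  rw [show constantCoeff ((exp K - 1).subst a) = 0 from this, zero_add]

theorem exp_subst_add {a b : K⟦X⟧} (ha : constantCoeff a = 0) (hb : constantCoeff b = 0) :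
    (exp K).subst (a + b) = (exp K).subst a * (exp K).subst b := by
  haveI : CharZero K := algebraRat.charZero K
  have hsa : HasSubst a := HasSubst.of_constantCoeff_zero' ha
  have hsb : HasSubst b := HasSubst.of_constantCoeff_zero' hb
  have hab : constantCoeff (a + b) = 0 := by rw [map_add, ha, hb, add_zero]
  have hsab : HasSubst (a + b) := HasSubst.of_constantCoeff_zero' hab
  apply Groth.Agent.Lib.Helper18.ExpLog.eq_of_derivative_eq_mul (d⁄dX K (a + b))
  · rw [derivative_subst hsab, derivative_exp]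
  · rw [Derivation.leibniz, derivative_subst hsa, derivative_subst hsb, derivative_exp, map_add,
      smul_eq_mul, smul_eq_mul]
    ring
  · rw [map_mul, constantCoeff_exp_subst hab, constantCoeff_exp_subst ha,
      constantCoeff_exp_subst hb, mul_one]

theorem exp_subst_zero : (exp K).subst (0 : K⟦X⟧) = 1 := by
  have h0 : constantCoeff (0 : K⟦X⟧) = 0 := map_zero _
  have h := exp_subst_add (K := K) h0 h0
  rw [add_zero] at h
  have hu : IsUnit ((exp K).subst (0 : K⟦X⟧)) := by
    rw [isUnit_iff_constantCoeff, constantCoeff_exp_subst h0]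
    exact isUnit_one
  have h2 : (exp K).subst (0 : K⟦X⟧) * 1 = (exp K).subst (0 : K⟦X⟧) * (exp K).subst (0 : K⟦X⟧) := by
    rw [mul_one]; exact h
  exact (hu.mul_left_cancel h2).symm

theorem exp_subst_sum {ι : Type*} (s : Finset ι) (a : ι → K⟦X⟧)
    (ha : ∀ i ∈ s, constantCoeff (a i) = 0) :
    (exp K).subst (∑ i ∈ s, a i) = ∏ i ∈ s, (exp K).subst (a i) := by
  classical
  induction s using Finset.induction_on with
  | empty => rw [Finset.sum_empty, Finset.prod_empty, exp_subst_zero]
  | insert i s hi ih =>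
    rw [Finset.sum_insert hi, Finset.prod_insert hi, exp_subst_add (ha i (Finset.mem_insert_self i s)),
      ih (fun j hj => ha j (Finset.mem_insert_of_mem hj))]
    rw [map_sum]
    exact Finset.sum_eq_zero fun j hj => ha j (Finset.mem_insert_of_mem hj)

end ExpK

variable {k : Type u} [Field k] {X : Scheme.{u}} (f : X ⟶ Spec (CommRingCat.of k))
  (k' : Type u) [Field k'] [Algebra k k']

/-- the base change of `f` to `k'`. -/
noncomputable abbrev fBC : pullback f (Spec.map (CommRingCat.ofHom (algebraMap k k'))) ⟶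
    Spec (CommRingCat.of k') :=
  pullback.snd f (Spec.map (CommRingCat.ofHom (algebraMap k k')))

/-- points of the base change over `k'` are points of `X` over `k`. -/
noncomputable def ptsBCEquiv (k'' : Type u) [Field k''] [Algebra k' k''] [Algebra k k'']
    [IsScalarTower k k' k''] : Pts (fBC f k') k'' ≃ Pts f k'' where
  toFun g := ⟨g.1 ≫ pullback.fst _ _, by
    rw [Category.assoc, pullback.condition, ← Category.assoc, g.2, ← Spec.map_comp,
      ← CommRingCat.ofHom_comp, ← IsScalarTower.algebraMap_eq]⟩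
  invFun g := ⟨pullback.lift g.1 (Spec.map (CommRingCat.ofHom (algebraMap k' k''))) (by
    rw [g.2, ← Spec.map_comp, ← CommRingCat.ofHom_comp, ← IsScalarTower.algebraMap_eq]),
    pullback.lift_snd _ _ _⟩
  left_inv g := by
    apply Subtype.ext
    apply pullback.hom_ext
    · exact pullback.lift_fst _ _ _
    · rw [pullback.lift_snd]; exact g.2.symm
  right_inv g := by
    apply Subtype.ext
    exact pullback.lift_fst _ _ _

lemma pointCount_bc (k'' : Type u) [Field k''] [Algebra k' k''] [Algebra k k'']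
    [IsScalarTower k k' k''] :
    SgaExt.pointCount (fBC f k') k'' = SgaExt.pointCount f k'' := by
  rw [pointCount_eq, pointCount_eq, Nat.card_congr (ptsBCEquiv f k' k'')]

section Count

variable [Finite k] [QuasiCompact f] [LocallyOfFiniteType f] [Finite k']

lemma nPts_bc (m : ℕ) :
    Zeta.nPts (fBC f k') m = Zeta.nPts f (Module.finrank k k' * m) := by
  rcases Nat.eq_zero_or_pos m with rfl | hm
  · simp [Zeta.nPts]
  · obtain ⟨k'', _, _, _, hk''⟩ := exists_ext (k := k') m hm
    letI : Algebra k k'' := ((algebraMap k' k'').comp (algebraMap k k')).toAlgebra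
    haveI : IsScalarTower k k' k'' := IsScalarTower.of_algebraMap_eq (fun _ => rfl)
    have h1 := pointCount_eq_nPts (fBC f k') k''
    have h2 := pointCount_eq_nPts f k''
    rw [hk''] at h1
    rw [← Module.finrank_mul_finrank k k' k'', hk''] at h2
    rw [← h1, ← h2, pointCount_bc]

end Count

section Main

variable [Finite k] [QuasiCompact f] [LocallyOfFiniteType f] [Finite k']

lemma sum_pow_primitiveRoot {r : ℕ} (hr : 0 < r) {ξ : ℂ} (hξ : IsPrimitiveRoot ξ r) (n : ℕ) :
    ∑ i ∈ Finset.range r, (ξ ^ i) ^ n = if r ∣ n then (r : ℂ) else 0 := by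
  have h1 : ∀ i, (ξ ^ i) ^ n = (ξ ^ n) ^ i := fun i => by rw [← pow_mul, ← pow_mul, mul_comm]
  simp only [h1]
  split_ifs with h
  · rw [(hξ.pow_eq_one_iff_dvd n).mpr h]
    simp
  · have hne : ξ ^ n ≠ 1 := fun h' => h ((hξ.pow_eq_one_iff_dvd n).mp h')
    rw [geom_sum_eq hne, ← pow_mul, mul_comm, pow_mul, hξ.pow_eq_one, one_pow, sub_self, zero_div]

open PowerSeries in
theorem zetaFun_bc (ξ : ℂ) (hξ : IsPrimitiveRoot ξ (Module.finrank k k')) :
    PowerSeries.subst ((PowerSeries.X : PowerSeries ℂ) ^ Module.finrank k k')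
        (PowerSeries.map (algebraMap ℚ ℂ) (Zeta.zetaFun (fBC f k'))) =
      ∏ i ∈ Finset.range (Module.finrank k k'),
        PowerSeries.rescale (ξ ^ i) (PowerSeries.map (algebraMap ℚ ℂ) (Zeta.zetaFun f)) := by
  have hnb := nPts_bc f k'
  have hrpos0 : 0 < Module.finrank k k' := Module.finrank_pos
  generalize Module.finrank k k' = r at hξ hnb hrpos0 ⊢
  have hrpos : 0 < r := hrpos0
  have hL0 : constantCoeff (Zeta.logZeta f) = 0 := constantCoeff_logZeta f
  have hL'0 : constantCoeff (Zeta.logZeta (fBC f k')) = 0 := constantCoeff_logZeta _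
  have hm0 : ∀ {g : PowerSeries ℚ}, constantCoeff g = 0 → constantCoeff (map (algebraMap ℚ ℂ) g) = 0 := by
    intro g hg
    rw [← coeff_zero_eq_constantCoeff_apply, coeff_map, coeff_zero_eq_constantCoeff_apply, hg,
      map_zero]
  have hsL : HasSubst (Zeta.logZeta f) := HasSubst.of_constantCoeff_zero' hL0
  have hsL' : HasSubst (Zeta.logZeta (fBC f k')) := HasSubst.of_constantCoeff_zero' hL'0
  have hsmL : HasSubst (map (algebraMap ℚ ℂ) (Zeta.logZeta f)) :=
    HasSubst.of_constantCoeff_zero' (hm0 hL0)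
  have hsmL' : HasSubst (map (algebraMap ℚ ℂ) (Zeta.logZeta (fBC f k'))) :=
    HasSubst.of_constantCoeff_zero' (hm0 hL'0)
  have hX : HasSubst ((PowerSeries.X : PowerSeries ℂ) ^ r) := HasSubst.X_pow hrpos.ne'
  have hms : ∀ {g : PowerSeries ℚ}, HasSubst g →
      map (algebraMap ℚ ℂ) (subst g (exp ℚ)) = subst (map (algebraMap ℚ ℂ) g) (exp ℂ) := by
    intro g hg
    have := map_subst (a := g) hg (h := algebraMap ℚ ℂ) (exp ℚ)
    rw [map_exp] at this
    exact this
  have lhs : subst ((PowerSeries.X : PowerSeries ℂ) ^ r) (map (algebraMap ℚ ℂ) (Zeta.zetaFun (fBC f k'))) =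
      subst (subst ((PowerSeries.X : PowerSeries ℂ) ^ r) (map (algebraMap ℚ ℂ) (Zeta.logZeta (fBC f k')))) (exp ℂ) := by
    unfold Zeta.zetaFun
    rw [hms hsL', subst_comp_subst_apply hsmL' hX]
  have rhs : ∀ i : ℕ, rescale (ξ ^ i) (map (algebraMap ℚ ℂ) (Zeta.zetaFun f)) =
      subst (rescale (ξ ^ i) (map (algebraMap ℚ ℂ) (Zeta.logZeta f))) (exp ℂ) := by
    intro i
    unfold Zeta.zetaFun
    rw [hms hsL, rescale_eq_subst, rescale_eq_subst,
      subst_comp_subst_apply hsmL (HasSubst.smul_X' _)]
  rw [lhs, Finset.prod_congr rfl (fun i _ => rhs i), ← ExpK.exp_subst_sum]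
  · congr 1
    ext n
    rw [coeff_subst_X_pow hrpos.ne', map_sum]
    simp only [coeff_rescale, coeff_map]
    rw [← Finset.sum_mul, sum_pow_primitiveRoot hrpos hξ n]
    split_ifs with h
    · obtain ⟨m, rfl⟩ := h
      rw [Nat.mul_div_cancel_left m hrpos]
      simp only [Zeta.logZeta, coeff_mk, hnb m, Algebra.algebraMap_self, RingHom.id_apply]
      rcases Nat.eq_zero_or_pos m with rfl | hm
      · simp
      · have hm' : (m : ℂ) ≠ 0 := by exact_mod_cast hm.ne'
        have hr' : (r : ℂ) ≠ 0 := by exact_mod_cast hrpos.ne'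
        simp only [map_div₀, map_natCast, Nat.cast_mul, map_mul]
        field_simp
    · simp
  · intro i _
    rw [← coeff_zero_eq_constantCoeff_apply, coeff_rescale, pow_zero, one_mul,
      coeff_zero_eq_constantCoeff_apply, hm0 hL0]

end Main

end Groth.Agent.Lib.Helper11.ZetaBC
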