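import Groth.Agent.Lib.Helper11.ZetaPts

/-!
# Galois action on the closed points of `X_{k̄}`
-/

set_option autoImplicit false
universe u
open CategoryTheory AlgebraicGeometry Limits

namespace Groth.Agent.Lib.Helper11.ZetaGal

open Groth.Agent.Lib.Helper11.ZetaPts

section FieldTheory

lemma exists_algEquiv_comp_eq {k E K : Type*} [Field k] [Field E] [Field K] [Algebra k E]
    [Algebra k K] [Normal k K] (ι ι' : E →ₐ[k] K) :
    ∃ σ : K ≃ₐ[k] K, ∀ e, σ (ι e) = ι' e := by
  let χ : ι.fieldRange ≃ₐ[k] ι'.fieldRange :=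
    (AlgEquiv.ofInjectiveField ι).symm.trans (AlgEquiv.ofInjectiveField ι')
  refine ⟨χ.liftNormal K, fun e => ?_⟩
  have h := χ.liftNormal_commutes K (AlgEquiv.ofInjectiveField ι e)
  have h2 : χ (AlgEquiv.ofInjectiveField ι e) = AlgEquiv.ofInjectiveField ι' e := by
    change ((AlgEquiv.ofInjectiveField ι).symm.trans (AlgEquiv.ofInjectiveField ι'))
      (AlgEquiv.ofInjectiveField ι e) = _
    rw [AlgEquiv.trans_apply, AlgEquiv.symm_apply_apply]
  rw [h2] at h
  exact h

end FieldTheory

section Closed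

/-- In an affine scheme integral over the spectrum of a field, every point is closed. -/
lemma isClosed_singleton_of_isIntegralHom_field {Z : Scheme.{u}} [IsAffine Z]
    {F : CommRingCat.{u}} (hF : IsField F) (g : Z ⟶ Spec F) [IsIntegralHom g] (w : Z) :
    IsClosed ({w} : Set Z) := by
  let ψ : F ⟶ Γ(Z, ⊤) := (Scheme.ΓSpecIso F).inv ≫ g.appTop
  have hψ : ψ.hom.IsIntegral := by
    have h1 : g.appTop.hom.IsIntegral := IsIntegralHom.isIntegral_app g ⊤ (isAffineOpen_top _)
    have h2 : (Scheme.ΓSpecIso F).inv.hom.IsIntegral :=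
      RingHom.isIntegral_of_surjective _
        (ConcreteCategory.bijective_of_isIso (Scheme.ΓSpecIso F).inv).2
    exact RingHom.IsIntegral.trans _ _ h2 h1
  let w' : Spec Γ(Z, ⊤) := Z.isoSpec.hom w
  have hmax : (w' : PrimeSpectrum Γ(Z, ⊤)).asIdeal.IsMaximal := by
    apply Ideal.isMaximal_of_isIntegral_of_isMaximal_comap' ψ.hom hψ
    haveI : IsSimpleOrder (Ideal F) := Ring.isField_iff_isSimpleOrder_ideal.mp hF
    have hJ : (Ideal.comap ψ.hom (w' : PrimeSpectrum Γ(Z, ⊤)).asIdeal) = ⊥ :=
      (eq_bot_or_eq_top _).resolve_right (Ideal.IsPrime.ne_top inferInstance)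
    rw [hJ]
    exact Ideal.isMaximal_def.mpr isCoatom_bot
  have hcl : IsClosed ({w'} : Set (Spec Γ(Z, ⊤))) :=
    (PrimeSpectrum.isClosed_singleton_iff_isMaximal _).mpr hmax
  have hpre : ({w} : Set Z) = Z.isoSpec.hom ⁻¹' {w'} := by
    ext z
    simp only [Set.mem_singleton_iff, Set.mem_preimage]
    constructor
    · rintro rfl; rfl
    · intro h
      exact (Z.isoSpec.hom.homeomorph.injective h)
  rw [hpre]
  exact hcl.preimage Z.isoSpec.hom.continuous

/-- For an integral morphism, points over closed points are closed. -/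
lemma isClosed_of_isClosed_image {Y X : Scheme.{u}} (π : Y ⟶ X) [IsIntegralHom π] (y : Y)
    (hx : IsClosed ({π y} : Set X)) : IsClosed ({y} : Set Y) := by
  haveI : IsIntegralHom (π.fiberToSpecResidueField (π y)) :=
    MorphismProperty.pullback_snd _ _ inferInstance
  have h1 := isClosed_singleton_of_isIntegralHom_field (Field.toIsField _)
    (π.fiberToSpecResidueField (π y)) (π.asFiber y)
  -- transport along the homeomorphism
  have h2 : IsClosed ({⟨y, rfl⟩} : Set (π ⁻¹' {π y})) := by
    have := (π.fiberHomeo (π y)).isClosedMap _ h1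
    rw [Set.image_singleton] at this
    convert this using 2
    apply Subtype.ext
    simp [Scheme.Hom.asFiber]
  have h3 : IsClosed (π ⁻¹' {π y}) := hx.preimage π.continuous
  have h4 := h3.isClosedEmbedding_subtypeVal.isClosedMap _ h2
  rwa [Set.image_singleton] at h4

end Closed

section Main

variable {k : Type u} [Field k] {X : Scheme.{u}} (f : X ⟶ Spec (CommRingCat.of k))
variable (K : Type u) [Field K] [Algebra k K]

/-- `Spec K ⟶ Spec k`. -/
noncomputable abbrev sK : Spec (CommRingCat.of K) ⟶ Spec (CommRingCat.of k) :=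
  Spec.map (CommRingCat.ofHom (algebraMap k K))

/-- `X_K`. -/
noncomputable abbrev Xb : Scheme.{u} := pullback f (sK (k := k) K)

noncomputable abbrev p1 : Xb f K ⟶ X := pullback.fst f (sK (k := k) K)

noncomputable abbrev p2 : Xb f K ⟶ Spec (CommRingCat.of K) := pullback.snd f (sK (k := k) K)

instance sK_surjective : Surjective (sK (k := k) K) :=
  ⟨fun z => ⟨IsLocalRing.closedPoint K, Subsingleton.elim (α := PrimeSpectrum k) _ _⟩⟩

lemma p1_surjective : Function.Surjective (p1 f K) :=
  (inferInstance : Surjective (pullback.fst f (sK (k := k) K))).surj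

section Alg

variable [Algebra.IsAlgebraic k K]

instance sK_integral : IsIntegralHom (sK (k := k) K) := by
  rw [IsIntegralHom.SpecMap_iff]
  exact algebraMap_isIntegral_iff.mpr inferInstance

lemma isClosed_of_isClosed_p1 (y : Xb f K) (hx : IsClosed ({p1 f K y} : Set X)) :
    IsClosed ({y} : Set (Xb f K)) :=
  isClosed_of_isClosed_image (p1 f K) y hx

lemma isClosed_p1_of_isClosed (y : Xb f K) (hy : IsClosed ({y} : Set (Xb f K))) :
    IsClosed ({p1 f K y} : Set X) := by
  have := (p1 f K).isClosedMap _ hy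
  rwa [Set.image_singleton] at this

end Alg

/-- `K`-points of `X_K` over `K`. -/
abbrev Q : Type u := { h : Spec (CommRingCat.of K) ⟶ Xb f K // h ≫ p2 f K = 𝟙 _ }

/-- `K`-points of `X_K` are `K`-points of `X`. -/
noncomputable def qEquiv : Q f K ≃ Pts f K where
  toFun h := ⟨h.1 ≫ p1 f K, by
    rw [Category.assoc, pullback.condition, ← Category.assoc, h.2, Category.id_comp]⟩
  invFun g := ⟨pullback.lift g.1 (𝟙 _) (by rw [g.2, Category.id_comp]), pullback.lift_snd _ _ _⟩
  left_inv h := by
    apply Subtype.ext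
    apply pullback.hom_ext
    · rw [pullback.lift_fst]
    · rw [pullback.lift_snd, h.2]
  right_inv g := by
    apply Subtype.ext
    exact pullback.lift_fst _ _ _

variable [IsAlgClosed K] [LocallyOfFiniteType f]

/-- closed points of `X_K` are `K`-points. -/
noncomputable def cpEquiv : Q f K ≃ closedPoints (Xb f K) := pointEquivClosedPoint (p2 f K)

lemma cpEquiv_apply (h : Q f K) : ((cpEquiv f K h : closedPoints (Xb f K)) : Xb f K) =
    h.1 (IsLocalRing.closedPoint K) := rfl

/-- closed points of `X_K` correspond to pairs of a point of `X` and an embedding of its residue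
field. -/
noncomputable def cpSigma : closedPoints (Xb f K) ≃ Σ x : X, H f K x :=
  (cpEquiv f K).symm.trans ((qEquiv f K).trans (ptsEquiv f K))

lemma cpSigma_fst (y : closedPoints (Xb f K)) : (cpSigma f K y).1 = p1 f K y.1 := by
  obtain ⟨h, rfl⟩ := (cpEquiv f K).surjective y
  change (ptsEquiv f K (qEquiv f K ((cpEquiv f K).symm (cpEquiv f K h)))).1 = _
  rw [Equiv.symm_apply_apply, cpEquiv_apply]
  rfl

/-- the `K`-point attached to a point and an embedding of its residue field. -/
noncomputable def ptOf (x : X) (ι : H f K x) : Pts f K := (ptsEquiv f K).symm ⟨x, ι⟩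

/-- the underlying morphism of an embedding. -/
noncomputable def homOf (x : X) (ι : H f K x) : X.residueField x ⟶ CommRingCat.of K :=
  ((equivH f K x).symm ι).1

lemma homOf_apply (x : X) (ι : H f K x) (a : X.residueField x) :
    (homOf f K x ι).hom a = (letI := alg f x; ι a) := rfl

lemma ptOf_val (x : X) (ι : H f K x) :
    (ptOf f K x ι).1 = Spec.map (homOf f K x ι) ≫ X.fromSpecResidueField x := rfl

lemma cpSigma_symm_val (x : X) (ι : H f K x) :
    (((cpSigma f K).symm ⟨x, ι⟩ : closedPoints (Xb f K)) : Xb f K) =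
      ((qEquiv f K).symm (ptOf f K x ι)).1 (IsLocalRing.closedPoint K) := rfl

section Galois

variable (τ : (K ≃ₐ[k] K) → (Xb f K ⟶ Xb f K))
  (hτ1 : ∀ σ, τ σ ≫ p1 f K = p1 f K)
  (hτ2 : ∀ σ, τ σ ≫ p2 f K = p2 f K ≫ Spec.map (CommRingCat.ofHom (σ : K →+* K)))

include hτ2 in
lemma galQ_aux (σ : K ≃ₐ[k] K) (h : Q f K) :
    (Spec.map (CommRingCat.ofHom (σ.symm : K →+* K)) ≫ h.1 ≫ τ σ) ≫ p2 f K = 𝟙 _ := by
  rw [Category.assoc, Category.assoc, hτ2, ← Category.assoc h.1, h.2, Category.id_comp,
    ← Spec.map_comp, ← CommRingCat.ofHom_comp]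
  have : ((σ.symm : K →+* K).comp (σ : K →+* K)) = RingHom.id K := by
    ext a
    simp
  rw [this]
  exact Spec.map_id _

/-- the Galois action on `K`-points. -/
noncomputable def galQ (σ : K ≃ₐ[k] K) (h : Q f K) : Q f K :=
  ⟨Spec.map (CommRingCat.ofHom (σ.symm : K →+* K)) ≫ h.1 ≫ τ σ, galQ_aux f K τ hτ2 σ h⟩

lemma galQ_apply (σ : K ≃ₐ[k] K) (h : Q f K) :
    (galQ f K τ hτ2 σ h).1 (IsLocalRing.closedPoint K) = τ σ (h.1 (IsLocalRing.closedPoint K)) := by
  change (τ σ) (h.1 ((Spec.map (CommRingCat.ofHom (σ.symm : K →+* K)))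
    (IsLocalRing.closedPoint K))) = _
  rw [eq_closedPoint K ((Spec.map (CommRingCat.ofHom (σ.symm : K →+* K)))
    (IsLocalRing.closedPoint K))]

include hτ1 in
lemma qEquiv_galQ (σ : K ≃ₐ[k] K) (h : Q f K) :
    (qEquiv f K (galQ f K τ hτ2 σ h)).1 =
      Spec.map (CommRingCat.ofHom (σ.symm : K →+* K)) ≫ (qEquiv f K h).1 := by
  change (Spec.map (CommRingCat.ofHom (σ.symm : K →+* K)) ≫ h.1 ≫ τ σ) ≫ p1 f K =
    Spec.map (CommRingCat.ofHom (σ.symm : K →+* K)) ≫ h.1 ≫ p1 f K
  rw [Category.assoc, Category.assoc, hτ1]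

include hτ1 hτ2 in
/-- The Galois group acts transitively on the closed points of a fibre of `X_K → X`. -/
theorem exists_gal_eq [Normal k K] (y y' : Xb f K) (hy : IsClosed ({y} : Set (Xb f K)))
    (hy' : IsClosed ({y'} : Set (Xb f K))) (hyy : p1 f K y = p1 f K y') :
    ∃ σ : K ≃ₐ[k] K, τ σ y = y' := by
  obtain ⟨⟨x, ι⟩, hz⟩ := (cpSigma f K).symm.surjective ⟨y, hy⟩
  obtain ⟨⟨x', ι'⟩, hz'⟩ := (cpSigma f K).symm.surjective ⟨y', hy'⟩
  have hx : x = p1 f K y := by
    have := cpSigma_fst f K ((cpSigma f K).symm ⟨x, ι⟩)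
    rw [Equiv.apply_symm_apply, hz] at this
    exact this
  have hx' : x' = p1 f K y' := by
    have := cpSigma_fst f K ((cpSigma f K).symm ⟨x', ι'⟩)
    rw [Equiv.apply_symm_apply, hz'] at this
    exact this
  have hxx : x = x' := by rw [hx, hx', hyy]
  subst hxx
  letI := alg f x
  obtain ⟨σ₀, hσ₀⟩ := exists_algEquiv_comp_eq ι ι'
  refine ⟨σ₀.symm, ?_⟩
  have e1 : y = ((qEquiv f K).symm (ptOf f K x ι)).1 (IsLocalRing.closedPoint K) := by
    rw [← cpSigma_symm_val, hz]
  have e2 : y' = ((qEquiv f K).symm (ptOf f K x ι')).1 (IsLocalRing.closedPoint K) := by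
    rw [← cpSigma_symm_val, hz']
  rw [e1, e2, ← galQ_apply f K τ hτ2]
  suffices key : galQ f K τ hτ2 σ₀.symm ((qEquiv f K).symm (ptOf f K x ι)) =
      (qEquiv f K).symm (ptOf f K x ι') by rw [key]
  apply (qEquiv f K).injective
  rw [Equiv.apply_symm_apply]
  apply Subtype.ext
  rw [qEquiv_galQ f K τ hτ1 hτ2, Equiv.apply_symm_apply, ptOf_val, ptOf_val, ← Category.assoc,
    ← Spec.map_comp]
  congr 2
  ext a
  change (σ₀.symm.symm : K →+* K) ((homOf f K x ι).hom a) = (homOf f K x ι').hom a
  rw [homOf_apply, homOf_apply]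
  exact hσ₀ a

end Galois

section Card

variable [Algebra.IsAlgebraic k K] [PerfectField k]

/-- the fibre of `X_K → X` over a closed point `x` has `[κ(x) : k]` points. -/
theorem card_fibre (x : X) (hx : IsClosed ({x} : Set X)) :
    Nat.card {y : Xb f K // p1 f K y = x} = deg f x := by
  have e1 : {y : Xb f K // p1 f K y = x} ≃ {y : closedPoints (Xb f K) // p1 f K y.1 = x} :=
    { toFun := fun y => ⟨⟨y.1, isClosed_of_isClosed_p1 f K y.1 (by rw [y.2]; exact hx)⟩, y.2⟩
      invFun := fun y => ⟨y.1.1, y.2⟩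
      left_inv := fun y => rfl
      right_inv := fun y => rfl }
  have e2 : {y : closedPoints (Xb f K) // p1 f K y.1 = x} ≃
      {z : Σ x' : X, H f K x' // z.1 = x} :=
    (cpSigma f K).subtypeEquiv (fun y => by rw [cpSigma_fst])
  have e3 : {z : Σ x' : X, H f K x' // z.1 = x} ≃ H f K x := Equiv.sigmaSubtype x
  rw [Nat.card_congr (e1.trans (e2.trans e3))]
  letI := alg f x
  haveI : Module.Finite k (X.residueField x) :=
    Module.finite_of_finrank_pos (deg_pos_of_isClosed f x hx)
  haveI : Algebra.IsSeparable k (X.residueField x) :=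
    Algebra.IsAlgebraic.isSeparable_of_perfectField
  exact AlgHom.natCard_of_splits k (X.residueField x) K (fun _ => IsAlgClosed.splits _)

end Card

section Sum

variable [Algebra.IsAlgebraic k K] [PerfectField k]

lemma finite_fibre (x : X) (hx : IsClosed ({x} : Set X)) :
    {y : Xb f K | p1 f K y = x}.Finite := by
  have h := card_fibre f K x hx
  have hpos := deg_pos_of_isClosed f x hx
  have hf : Finite {y : Xb f K // p1 f K y = x} := Nat.finite_of_card_ne_zero (by omega)
  exact (Set.finite_coe_iff (s := {y : Xb f K | p1 f K y = x})).mp hf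

lemma finite_support_comp (c : X → ℕ) (hfin : (Function.support c).Finite)
    (hcl : ∀ x, c x ≠ 0 → IsClosed ({x} : Set X)) :
    (Function.support (fun y : Xb f K => c (p1 f K y))).Finite := by
  have h1 : (⋃ x ∈ Function.support c, {y : Xb f K | p1 f K y = x}).Finite :=
    hfin.biUnion (fun x hx => finite_fibre f K x (hcl x hx))
  refine h1.subset ?_
  intro y hy
  simp only [Set.mem_iUnion, Set.mem_ofPred_eq]
  exact ⟨p1 f K y, hy, rfl⟩

lemma finsum_comp_p1 (c : X → ℕ) (hfin : (Function.support c).Finite)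
    (hcl : ∀ x, c x ≠ 0 → IsClosed ({x} : Set X)) :
    ∑ᶠ y : Xb f K, c (p1 f K y) = ∑ᶠ x, c x * deg f x := by
  classical
  have hfin2 := finite_support_comp f K c hfin hcl
  have e1 : ∑ᶠ y : Xb f K, c (p1 f K y) = ∑ y ∈ hfin2.toFinset, c (p1 f K y) :=
    finsum_eq_sum_of_support_subset _ (by simp)
  have e2 : ∑ᶠ x, c x * deg f x = ∑ x ∈ hfin.toFinset, c x * deg f x := by
    apply finsum_eq_sum_of_support_subset
    intro x hx
    simp only [Set.Finite.coe_toFinset, Function.mem_support] at hx ⊢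
    intro h0
    apply hx
    rw [h0, zero_mul]
  rw [e1, e2]
  have hmaps : ∀ y ∈ hfin2.toFinset, p1 f K y ∈ hfin.toFinset := by
    intro y hy
    simp only [Set.Finite.mem_toFinset, Function.mem_support] at hy ⊢
    exact hy
  rw [← Finset.sum_fiberwise_of_maps_to hmaps]
  apply Finset.sum_congr rfl
  intro x hx
  have hx0 : c x ≠ 0 := by simpa using hx
  have h3 : ∀ y ∈ hfin2.toFinset.filter (fun y => p1 f K y = x), c (p1 f K y) = c x := by
    intro y hy
    rw [(Finset.mem_filter.mp hy).2]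
  rw [Finset.sum_congr rfl h3, Finset.sum_const, smul_eq_mul, mul_comm]
  congr 1
  have hmem : ∀ y, y ∈ hfin2.toFinset.filter (fun y => p1 f K y = x) ↔ p1 f K y = x := by
    intro y
    simp only [Finset.mem_filter, Set.Finite.mem_toFinset, Function.mem_support]
    constructor
    · exact fun h => h.2
    · intro h
      exact ⟨by rw [h]; exact hx0, h⟩
  rw [← card_fibre f K x (hcl x hx0)]
  letI : Fintype {y : Xb f K // p1 f K y = x} := Fintype.subtype _ hmem
  rw [Nat.card_eq_fintype_card, Fintype.subtype_card]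

end Sum

section Final

variable [PerfectField k] [Normal k K]
  (τ : (K ≃ₐ[k] K) → (Xb f K ⟶ Xb f K))
  (hτ1 : ∀ σ, τ σ ≫ p1 f K = p1 f K)
  (hτ2 : ∀ σ, τ σ ≫ p2 f K = p2 f K ≫ Spec.map (CommRingCat.ofHom (σ : K →+* K)))

include hτ1 hτ2 in
theorem bijOn_main (n : ℕ) :
    Set.BijOn (fun c : X → ℕ => c ∘ (p1 f K).base)
      {c : X → ℕ | (Function.support c).Finite ∧ (∀ x, c x ≠ 0 → IsClosed ({x} : Set X)) ∧
        ∑ᶠ x, c x * EGA4loc.residueDegree f x = n}
      {d : ↑(Xb f K) → ℕ | (Function.support d).Finite ∧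
        (∀ y, d y ≠ 0 → IsClosed ({y} : Set _)) ∧
        ∑ᶠ y, d y = n ∧ ∀ σ y, d ((τ σ).base y) = d y} := by
  refine ⟨?_, ?_, ?_⟩
  · rintro c ⟨hfin, hcl, hsum⟩
    simp_rw [residueDegree_eq_deg] at hsum
    refine ⟨finite_support_comp f K c hfin hcl, ?_, ?_, ?_⟩
    · intro y hy
      exact isClosed_of_isClosed_p1 f K y (hcl _ hy)
    · rw [← hsum, ← finsum_comp_p1 f K c hfin hcl]
      rfl
    · intro σ y
      change c ((τ σ ≫ p1 f K).base y) = c ((p1 f K).base y)
      rw [hτ1]
  · intro c _ c' _ h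
    funext x
    obtain ⟨y, rfl⟩ := p1_surjective f K x
    exact congrFun h y
  · rintro d ⟨hfin, hcl, hsum, hinv⟩
    have L : ∀ y y' : Xb f K, p1 f K y = p1 f K y' → d y = d y' := by
      intro y y' h
      by_cases hy : IsClosed ({y} : Set (Xb f K))
      · have hy' : IsClosed ({y'} : Set (Xb f K)) :=
          isClosed_of_isClosed_p1 f K y' (h ▸ isClosed_p1_of_isClosed f K y hy)
        obtain ⟨σ, rfl⟩ := exists_gal_eq f K τ hτ1 hτ2 y y' hy hy' h
        exact (hinv σ y).symm
      · have hy' : ¬ IsClosed ({y'} : Set (Xb f K)) := fun hc =>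
          hy (isClosed_of_isClosed_p1 f K y (h.symm ▸ isClosed_p1_of_isClosed f K y' hc))
        have h0 : d y = 0 := by
          by_contra hne
          exact hy (hcl y hne)
        have h0' : d y' = 0 := by
          by_contra hne
          exact hy' (hcl y' hne)
        rw [h0, h0']
    let c : X → ℕ := fun x => d (Function.surjInv (p1_surjective f K) x)
    have hc : ∀ y, c (p1 f K y) = d y := fun y =>
      L _ _ (Function.surjInv_eq (p1_surjective f K) _)
    have hfinc : (Function.support c).Finite := by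
      refine (hfin.image (p1 f K)).subset ?_
      intro x hx
      exact ⟨Function.surjInv (p1_surjective f K) x, hx,
        Function.surjInv_eq (p1_surjective f K) x⟩
    have hclc : ∀ x, c x ≠ 0 → IsClosed ({x} : Set X) := by
      intro x hx
      have := isClosed_p1_of_isClosed f K _ (hcl _ hx)
      rwa [Function.surjInv_eq (p1_surjective f K) x] at this
    refine ⟨c, ⟨hfinc, hclc, ?_⟩, funext hc⟩
    simp_rw [residueDegree_eq_deg]
    rw [← finsum_comp_p1 f K c hfinc hclc, ← hsum]
    exact finsum_congr hc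

end Final

end Main

end Groth.Agent.Lib.Helper11.ZetaGal
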