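import Groth.Agent.Lib.Helper11.ZetaPart

/-!
# Zeta function of the affine line over `X`
-/

set_option autoImplicit false
universe u
open CategoryTheory AlgebraicGeometry

namespace Groth.Agent.Lib.Helper11.ZetaLine

open Groth.Agent.Lib.Helper11.ZetaPts Groth.Agent.Lib.Helper11.ZetaPart

variable {k : Type u} [Field k] {X : Scheme.{u}} (f : X ⟶ Spec (CommRingCat.of k))

/-- structure map of the affine line over `X`. -/
noncomputable abbrev fA : 𝔸(PUnit.{u + 1}; X) ⟶ Spec (CommRingCat.of k) :=
  (𝔸(PUnit.{u + 1}; X) ↘ X) ≫ f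

noncomputable def ptsLineEquiv (k' : Type u) [Field k'] [Algebra k k'] :
    Pts (fA f) k' ≃ Pts f k' × (PUnit.{u + 1} → Γ(Spec (CommRingCat.of k'), ⊤)) where
  toFun g := (⟨g.1 ≫ (𝔸(PUnit.{u + 1}; X) ↘ X), by rw [Category.assoc]; exact g.2⟩,
    fun i => g.1.appTop (AffineSpace.coord X i))
  invFun p := ⟨AffineSpace.homOfVector p.1.1 p.2, by
    rw [AffineSpace.homOfVector_over_assoc]; exact p.1.2⟩
  left_inv g := by
    apply Subtype.ext
    apply AffineSpace.hom_ext
    · simp
    · intro i; simp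
  right_inv p := by
    apply Prod.ext
    · apply Subtype.ext; simp
    · funext i; simp

lemma pointCount_line (k' : Type u) [Field k'] [Algebra k k'] :
    SgaExt.pointCount (fA f) k' = SgaExt.pointCount f k' * Nat.card k' := by
  rw [pointCount_eq, pointCount_eq, Nat.card_congr (ptsLineEquiv f k'), Nat.card_prod,
    Nat.card_congr (Equiv.punitArrowEquiv _),
    Nat.card_congr (Scheme.ΓSpecIso (CommRingCat.of k')).commRingCatIsoToRingEquiv.toEquiv]

section Count

variable [Finite k] [QuasiCompact f] [LocallyOfFiniteType f]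

lemma exists_ext (m : ℕ) (hm : 0 < m) :
    ∃ (k' : Type u) (_ : Field k') (_ : Algebra k k') (_ : Finite k'), Module.finrank k k' = m := by
  obtain ⟨p, hp⟩ := CharP.exists k
  haveI : Fact p.Prime := ⟨CharP.char_is_prime k p⟩
  haveI : NeZero m := ⟨hm.ne'⟩
  refine ⟨ULift.{u} (FiniteField.Extension k p m), inferInstance, inferInstance, inferInstance, ?_⟩
  rw [ULift.moduleEquiv.finrank_eq, FiniteField.finrank_extension]

lemma nPts_line (m : ℕ) : Zeta.nPts (fA f) m = Nat.card k ^ m * Zeta.nPts f m := by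
  rcases Nat.eq_zero_or_pos m with rfl | hm
  · simp [Zeta.nPts]
  · obtain ⟨k', _, _, _, hk'⟩ := exists_ext (k := k) m hm
    have h1 := pointCount_eq_nPts (fA f) k'
    have h2 := pointCount_eq_nPts f k'
    rw [hk'] at h1 h2
    rw [← h1, ← h2, pointCount_line, Module.natCard_eq_pow_finrank (K := k) (V := k'), hk', mul_comm]

lemma logZeta_line :
    Zeta.logZeta (fA f) = PowerSeries.rescale (Nat.card k : ℚ) (Zeta.logZeta f) := by
  ext m
  rw [PowerSeries.coeff_rescale]
  simp only [Zeta.logZeta, PowerSeries.coeff_mk]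
  rw [nPts_line f m]
  push_cast
  ring

theorem zetaFun_line :
    Zeta.zetaFun (fA f) = PowerSeries.rescale (Nat.card k : ℚ) (Zeta.zetaFun f) := by
  unfold Zeta.zetaFun
  rw [logZeta_line f]
  have hL : PowerSeries.HasSubst (Zeta.logZeta f) :=
    PowerSeries.HasSubst.of_constantCoeff_zero' (constantCoeff_logZeta f)
  have hq : PowerSeries.HasSubst (((Nat.card k : ℚ)) • (PowerSeries.X : PowerSeries ℚ)) :=
    PowerSeries.HasSubst.smul_X' _
  rw [PowerSeries.rescale_eq_subst, PowerSeries.rescale_eq_subst,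
    PowerSeries.subst_comp_subst_apply hL hq]

end Count

end Groth.Agent.Lib.Helper11.ZetaLine
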