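import Groth.Agent.Lib.Helper11.ZetaPts
import Groth.Agent.Lib.Helper18.ExpLog

/-!
# Zeta functions: multiplicativity along partitions, affine line
-/

set_option autoImplicit false
universe u
open CategoryTheory AlgebraicGeometry

namespace Groth.Agent.Lib.Helper11.ZetaPart

open Groth.Agent.Lib.Helper11.ZetaPts

variable {k : Type u} [Field k] {X : Scheme.{u}} (f : X ⟶ Spec (CommRingCat.of k))

lemma constantCoeff_logZeta : PowerSeries.constantCoeff (Zeta.logZeta f) = 0 := by
  rw [← PowerSeries.coeff_zero_eq_constantCoeff_apply, Zeta.logZeta, PowerSeries.coeff_mk]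
  simp

section Partition

variable [Finite k] [QuasiCompact f] [LocallyOfFiniteType f]
  {ι : Type u} [Fintype ι] (Y : ι → Scheme.{u}) (g : ∀ i, Y i ⟶ X) [∀ i, IsImmersion (g i)]
  (hpart : ∀ x : X, IsClosed ({x} : Set X) → ∃! i, x ∈ Set.range (g i).base)

omit [Finite k] [QuasiCompact f] [LocallyOfFiniteType f] [Fintype ι] in
lemma deg_immersion (i : ι) (y : Y i) : deg (g i ≫ f) y = deg f (g i y) :=
  deg_comp f (g i) y (residueFieldMap_bijective_of_isImmersion (g i) y)

include hpart in
omit [Finite k] [QuasiCompact f] [Fintype ι] in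
lemma part_bijective (e : ℕ) (he : 0 < e) :
    Function.Bijective (fun p : (Σ i, {y : Y i // deg (g i ≫ f) y = e}) =>
      (⟨g p.1 p.2.1, by rw [← deg_immersion]; exact p.2.2⟩ : {x : X // deg f x = e})) := by
  constructor
  · rintro ⟨i, y, hy⟩ ⟨i', y', hy'⟩ h
    have hxy : g i y = g i' y' := congrArg Subtype.val h
    have hcl : IsClosed ({g i y} : Set X) :=
      isClosed_of_deg_pos f _ (by rw [← deg_immersion, hy]; exact he)
    obtain ⟨i₀, -, hi₀⟩ := hpart _ hcl
    have h1 : i = i₀ := hi₀ i ⟨y, rfl⟩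
    have h2 : i' = i₀ := hi₀ i' ⟨y', hxy.symm⟩
    subst h1
    subst h2
    have : y = y' := (g i').isEmbedding.injective hxy
    subst this
    rfl
  · rintro ⟨x, hx⟩
    have hcl : IsClosed ({x} : Set X) := isClosed_of_deg_pos f _ (by rw [hx]; exact he)
    obtain ⟨i, ⟨y, hy⟩, -⟩ := hpart _ hcl
    refine ⟨⟨i, y, ?_⟩, Subtype.ext hy⟩
    rw [deg_immersion]
    change deg f ((g i).base y) = e
    rw [hy, hx]

include hpart in
lemma degCount_sum (e : ℕ) (he : 0 < e) :
    Zeta.degCount f e = ∑ i, Zeta.degCount (g i ≫ f) e := by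
  haveI : NeZero e := ⟨he.ne'⟩
  haveI : ∀ i, Finite {y : Y i // deg (g i ≫ f) y = e} := fun i =>
    Finite.of_injective (fun y => (⟨g i y.1, by rw [← deg_immersion]; exact y.2⟩ : {x : X // deg f x = e}))
      (fun y y' h => Subtype.ext ((g i).isEmbedding.injective (congrArg Subtype.val h)))
  rw [degCount_eq f e he, ← Nat.card_congr (Equiv.ofBijective _ (part_bijective f Y g hpart e he)),
    Nat.card_sigma]
  exact Finset.sum_congr rfl fun i _ => (degCount_eq (g i ≫ f) e he).symm

include hpart in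
lemma nPts_sum (m : ℕ) : Zeta.nPts f m = ∑ i, Zeta.nPts (g i ≫ f) m := by
  unfold Zeta.nPts
  rw [Finset.sum_comm]
  refine Finset.sum_congr rfl fun e he => ?_
  rw [degCount_sum f Y g hpart e (Nat.pos_of_mem_divisors he), Finset.mul_sum]

include hpart in
lemma logZeta_sum : Zeta.logZeta f = ∑ i, Zeta.logZeta (g i ≫ f) := by
  ext m
  rw [map_sum]
  simp only [Zeta.logZeta, PowerSeries.coeff_mk]
  rw [nPts_sum f Y g hpart m, Nat.cast_sum, Finset.sum_div]

include hpart in
theorem zetaFun_prod : Zeta.zetaFun f = ∏ i, Zeta.zetaFun (g i ≫ f) := by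
  unfold Zeta.zetaFun
  rw [logZeta_sum f Y g hpart]
  exact Groth.Agent.Lib.Helper18.ExpLog.exp_subst_sum Finset.univ _
    (fun i _ => constantCoeff_logZeta _)

end Partition

end Groth.Agent.Lib.Helper11.ZetaPart
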