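import Mathlib
import Groth.Prelude.Def_W4c1zetahwZeta
import Groth.Prelude.Def_SgaExt

/-!
# Points of schemes of finite type over finite fields: degrees, finiteness, counting
-/

set_option autoImplicit false
universe u
open CategoryTheory AlgebraicGeometry

namespace Groth.Agent.Lib.Helper11.ZetaPts

/-! ### generalities on `finrank` and `toAlgebra` -/

theorem finrank_comp_toAlgebra {K A B : Type*} [Field K] [Field A] [Field B] (φ : K →+* A) (ψ : A →+* B) :
    (let _ := (ψ.comp φ).toAlgebra; Module.finrank K B) =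
      (let _ := φ.toAlgebra; Module.finrank K A) * (let _ := ψ.toAlgebra; Module.finrank A B) := by
  let _ := φ.toAlgebra
  let _ := ψ.toAlgebra
  let _ := (ψ.comp φ).toAlgebra
  have : IsScalarTower K A B := IsScalarTower.of_algebraMap_eq (fun x => rfl)
  exact (Module.finrank_mul_finrank K A B).symm

theorem finrank_toAlgebra_of_bijective {K A : Type*} [Field K] [Field A] (φ : K →+* A)
    (h : Function.Bijective φ) : (let _ := φ.toAlgebra; Module.finrank K A) = 1 := by
  let _ := φ.toAlgebra
  have e : K ≃ₗ[K] A := (AlgEquiv.ofBijective (Algebra.ofId K A) h).toLinearEquiv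
  change Module.finrank K A = 1
  rw [← e.finrank_eq, Module.finrank_self]

variable {k : Type u} [Field k] {X : Scheme.{u}} (f : X ⟶ Spec (CommRingCat.of k))

/-- The structure map `k → κ(x)`. -/
noncomputable def φ (x : X) : CommRingCat.of k ⟶ X.residueField x :=
  Spec.preimage (X.fromSpecResidueField x ≫ f)

lemma Spec_map_φ (x : X) : Spec.map (φ f x) = X.fromSpecResidueField x ≫ f := Spec.map_preimage _

/-- The `k`-algebra structure on `κ(x)`. -/
@[reducible] noncomputable def alg (x : X) : Algebra k (X.residueField x) := (φ f x).hom.toAlgebra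

/-- The degree `[κ(x) : k]`. -/
noncomputable def deg (x : X) : ℕ := @Module.finrank k (X.residueField x) _ _ (alg f x).toModule

lemma φ_comp {Y : Scheme.{u}} (g : Y ⟶ X) (y : Y) :
    φ (g ≫ f) y = φ f (g y) ≫ g.residueFieldMap y := by
  apply Spec.map_injective
  rw [Spec.map_comp, Spec_map_φ, Spec_map_φ,
    Scheme.Hom.SpecMap_residueFieldMap_fromSpecResidueField_assoc]

lemma deg_comp {Y : Scheme.{u}} (g : Y ⟶ X) (y : Y)
    (hb : Function.Bijective (g.residueFieldMap y).hom) :
    deg (g ≫ f) y = deg f (g y) := by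
  have h := finrank_comp_toAlgebra (φ f (g y)).hom (g.residueFieldMap y).hom
  have h1 := finrank_toAlgebra_of_bijective _ hb
  have e : (φ (g ≫ f) y).hom = (g.residueFieldMap y).hom.comp (φ f (g y)).hom := by
    rw [φ_comp]; rfl
  unfold deg alg
  simp only at h h1
  rw [h1, mul_one] at h
  rw [← h]
  exact congrArg (fun ψ : k →+* Y.residueField y =>
    @Module.finrank k (Y.residueField y) _ _ (ψ.toAlgebra).toModule) e

lemma residueFieldMap_bijective_of_isImmersion {Y : Scheme.{u}} (g : Y ⟶ X) [IsImmersion g] (y : Y) :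
    Function.Bijective (g.residueFieldMap y).hom := by
  refine ⟨(g.residueFieldMap y).hom.injective, ?_⟩
  have h1 : Function.Surjective (g.stalkMap y ≫ Y.residue y).hom := by
    rw [CommRingCat.hom_comp, RingHom.coe_comp]
    exact (Y.residue_surjective y).comp (g.stalkMap_surjective y)
  rw [← Scheme.residue_residueFieldMap, CommRingCat.hom_comp, RingHom.coe_comp] at h1
  exact Function.Surjective.of_comp h1

/-- The canonical map `k → κ(y)` for a point of `Spec k` is bijective. -/
lemma φ_id_bijective (y : Spec (CommRingCat.of k)) :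
    Function.Bijective (φ (𝟙 (Spec (CommRingCat.of k))) y).hom := by
  refine ⟨(φ (𝟙 _) y).hom.injective, ?_⟩
  have hy : IsClosed ({y} : Set (Spec (CommRingCat.of k))) := isClosed_discrete _
  rw [isClosed_singleton_iff_isClosedImmersion] at hy
  have h2 : IsClosedImmersion (Spec.map (φ (𝟙 (Spec (CommRingCat.of k))) y)) := by
    rw [Spec_map_φ, Category.comp_id]; exact hy
  have h3 := (IsClosedImmersion.isAffine_surjective_of_isAffine
    (Spec.map (φ (𝟙 (Spec (CommRingCat.of k))) y))).2
  have h4 : φ (𝟙 (Spec (CommRingCat.of k))) y =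
      (Scheme.ΓSpecIso _).inv ≫ (Spec.map (φ (𝟙 (Spec (CommRingCat.of k))) y)).appTop ≫
        (Scheme.ΓSpecIso _).hom := by
    rw [Scheme.ΓSpecIso_naturality, Iso.inv_hom_id_assoc]
  rw [h4, CommRingCat.hom_comp, CommRingCat.hom_comp, RingHom.coe_comp, RingHom.coe_comp]
  exact (ConcreteCategory.bijective_of_isIso (Scheme.ΓSpecIso _).hom).2.comp
    (h3.comp (ConcreteCategory.bijective_of_isIso (Scheme.ΓSpecIso _).inv).2)

lemma residueDegree_eq_deg (x : X) : EGA4loc.residueDegree f x = deg f x := by
  have h := finrank_comp_toAlgebra (φ (𝟙 (Spec (CommRingCat.of k))) (f x)).hom (f.residueFieldMap x).hom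
  have h1 := finrank_toAlgebra_of_bijective _ (φ_id_bijective (f x))
  have e : (φ f x).hom = (f.residueFieldMap x).hom.comp (φ (𝟙 (Spec (CommRingCat.of k))) (f x)).hom := by
    have := φ_comp (𝟙 (Spec (CommRingCat.of k))) f x
    rw [Category.comp_id] at this
    rw [this]; rfl
  unfold EGA4loc.residueDegree deg alg
  simp only at h h1
  rw [h1, one_mul] at h
  rw [← h]
  exact congrArg (fun ψ : k →+* X.residueField x =>
    @Module.finrank k (X.residueField x) _ _ (ψ.toAlgebra).toModule) e.symm

/-! ### `k'`-valued points -/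

/-- The `k'`-valued points of `X` over `k`. -/
abbrev Pts (k' : Type u) [Field k'] [Algebra k k'] : Type u :=
  { g : Spec (CommRingCat.of k') ⟶ X // g ≫ f = Spec.map (CommRingCat.ofHom (algebraMap k k')) }

lemma pointCount_eq (k' : Type u) [Field k'] [Algebra k k'] :
    SgaExt.pointCount f k' = Nat.card (Pts f k') := rfl

/-- Affine case, `Spec` form. -/
lemma finite_pts_Spec (A : CommRingCat.{u}) (h : Spec A ⟶ Spec (CommRingCat.of k))
    [LocallyOfFiniteType h] (k' : Type u) [Field k'] [Algebra k k'] [Finite k'] :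
    Finite (Pts h k') := by
  classical
  obtain ⟨θ, rfl⟩ := Spec.map_surjective h
  have hθ : θ.hom.FiniteType := (HasRingHomProperty.Spec_iff (P := @LocallyOfFiniteType)).mp ‹_›
  letI := θ.hom.toAlgebra
  have hft : Algebra.FiniteType k A := hθ
  obtain ⟨s, hs⟩ := hft.out
  -- map a point to the restriction of its ring map to `s`
  let F : Pts (Spec.map θ) k' → (s → k') := fun g a => (Spec.preimage g.1).hom a.1
  refine Finite.of_injective F ?_
  intro g₁ g₂ h12
  apply Subtype.ext
  obtain ⟨γ₁, hγ₁⟩ := Spec.map_surjective g₁.1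
  obtain ⟨γ₂, hγ₂⟩ := Spec.map_surjective g₂.1
  have c₁ : θ ≫ γ₁ = CommRingCat.ofHom (algebraMap k k') := by
    apply Spec.map_injective; rw [Spec.map_comp, hγ₁]; exact g₁.2
  have c₂ : θ ≫ γ₂ = CommRingCat.ofHom (algebraMap k k') := by
    apply Spec.map_injective; rw [Spec.map_comp, hγ₂]; exact g₂.2
  let a₁ : A →ₐ[k] k' := { γ₁.hom with commutes' := fun r => congrArg (fun ψ => ψ.hom r) c₁ }
  let a₂ : A →ₐ[k] k' := { γ₂.hom with commutes' := fun r => congrArg (fun ψ => ψ.hom r) c₂ }
  have hag : a₁ = a₂ := by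
    apply AlgHom.ext_of_adjoin_eq_top hs
    intro a ha
    have := congrFun h12 ⟨a, ha⟩
    simp only [F, ← hγ₁, ← hγ₂, Spec.preimage_map] at this
    exact this
  rw [← hγ₁, ← hγ₂]
  congr 1
  ext a
  exact congrArg (fun ψ : A →ₐ[k] k' => ψ a) hag

/-- Affine case. -/
lemma finite_pts_affine {W : Scheme.{u}} [IsAffine W] (h : W ⟶ Spec (CommRingCat.of k))
    [LocallyOfFiniteType h] (k' : Type u) [Field k'] [Algebra k k'] [Finite k'] :
    Finite (Pts h k') := by
  haveI : LocallyOfFiniteType (W.isoSpec.inv ≫ h) := inferInstance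
  haveI := finite_pts_Spec Γ(W, ⊤) (W.isoSpec.inv ≫ h) k'
  let F : Pts h k' → Pts (W.isoSpec.inv ≫ h) k' := fun g =>
    ⟨g.1 ≫ W.isoSpec.hom, by rw [Category.assoc, Iso.hom_inv_id_assoc]; exact g.2⟩
  refine Finite.of_injective F ?_
  intro g₁ g₂ h12
  apply Subtype.ext
  have := congrArg Subtype.val h12
  simp only [F] at this
  exact (cancel_mono W.isoSpec.hom).mp this

lemma eq_closedPoint (k' : Type u) [Field k'] (z : Spec (CommRingCat.of k')) :
    z = IsLocalRing.closedPoint k' := Subsingleton.elim _ _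

/-- Finiteness of the set of `k'`-points for `X` quasi-compact of finite type over `k`. -/
theorem finite_pts [QuasiCompact f] [LocallyOfFiniteType f]
    (k' : Type u) [Field k'] [Algebra k k'] [Finite k'] : Finite (Pts f k') := by
  classical
  haveI : CompactSpace X := QuasiCompact.compactSpace_of_compactSpace f
  let 𝒰 := X.affineCover.finiteSubcover
  haveI : ∀ j, IsAffine (𝒰.X j) := fun j => by
    change IsAffine (X.affineCover.X _); infer_instance
  haveI : ∀ j, Finite (Pts (𝒰.f j ≫ f) k') := fun j => finite_pts_affine _ k'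
  -- every point factors through some chart
  have key : ∀ g : Pts f k', ∃ j, ∃ g' : Pts (𝒰.f j ≫ f) k', g'.1 ≫ 𝒰.f j = g.1 := by
    intro g
    obtain ⟨j, y, hy⟩ := 𝒰.exists_eq (g.1 (IsLocalRing.closedPoint k'))
    have hr : Set.range g.1 ⊆ Set.range (𝒰.f j) := by
      rintro _ ⟨z, rfl⟩
      rw [eq_closedPoint k' z]
      exact ⟨y, hy⟩
    refine ⟨j, ⟨IsOpenImmersion.lift (𝒰.f j) g.1 hr, ?_⟩, IsOpenImmersion.lift_fac _ _ _⟩
    rw [IsOpenImmersion.lift_fac_assoc]
    exact g.2
  choose J G hG using key
  let F : Pts f k' → Σ j, Pts (𝒰.f j ≫ f) k' := fun g => ⟨J g, G g⟩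
  refine Finite.of_injective F ?_
  intro g₁ g₂ h12
  apply Subtype.ext
  rw [← hG g₁, ← hG g₂]
  have h1 : J g₁ = J g₂ := congrArg Sigma.fst h12
  have h2 : HEq (G g₁) (G g₂) := (Sigma.mk.inj_iff.mp h12).2
  generalize G g₁ = a at h2 ⊢
  generalize G g₂ = b at h2 ⊢
  generalize J g₁ = j₁ at h1 a b h2 ⊢
  subst h1
  rw [eq_of_heq h2]

/-! ### points and residue fields -/

/-- `k`-algebra maps `κ(x) → k'`. -/
abbrev H (k' : Type u) [Field k'] [Algebra k k'] (x : X) : Type u :=
  @AlgHom k (X.residueField x) k' _ _ _ (alg f x) _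

/-- ring maps `κ(x) → k'` compatible with the structure maps. -/
abbrev H' (k' : Type u) [Field k'] [Algebra k k'] (x : X) : Type u :=
  { ι : X.residueField x ⟶ CommRingCat.of k' // φ f x ≫ ι = CommRingCat.ofHom (algebraMap k k') }

noncomputable def equivH (k' : Type u) [Field k'] [Algebra k k'] (x : X) : H' f k' x ≃ H f k' x :=
  letI := alg f x
  { toFun := fun ι => { ι.1.hom with commutes' := fun r => congrArg (fun ψ => ψ.hom r) ι.2 }
    invFun := fun a => ⟨CommRingCat.ofHom a.toRingHom, by
      ext r; exact a.commutes r⟩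
    left_inv := fun ι => by apply Subtype.ext; rfl
    right_inv := fun a => by ext; rfl }

lemma pts_iff (k' : Type u) [Field k'] [Algebra k k'] (g : Spec (CommRingCat.of k') ⟶ X) :
    g ≫ f = Spec.map (CommRingCat.ofHom (algebraMap k k')) ↔
      φ f (Scheme.SpecToEquivOfField k' X g).1 ≫ (Scheme.SpecToEquivOfField k' X g).2 =
        CommRingCat.ofHom (algebraMap k k') := by
  have hg : g = Spec.map (Scheme.SpecToEquivOfField k' X g).2 ≫
      X.fromSpecResidueField (Scheme.SpecToEquivOfField k' X g).1 :=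
    ((Scheme.SpecToEquivOfField k' X).left_inv g).symm
  generalize Scheme.SpecToEquivOfField k' X g = y at hg
  subst hg
  rw [Category.assoc, ← Spec_map_φ, ← Spec.map_comp, Spec.map_inj]

/-- `k'`-points correspond to pairs of a point and an embedding of its residue field. -/
noncomputable def ptsEquiv (k' : Type u) [Field k'] [Algebra k k'] :
    Pts f k' ≃ Σ x : X, H f k' x :=
  ((Scheme.SpecToEquivOfField k' X).subtypeEquiv (fun g => pts_iff f k' g)).trans
    (({ toFun := fun y => ⟨y.1.1, y.1.2, y.2⟩
        invFun := fun z => ⟨⟨z.1, z.2.1⟩, z.2.2⟩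
        left_inv := fun y => by rcases y with ⟨⟨x, b⟩, h⟩; rfl
        right_inv := fun z => by rcases z with ⟨x, b, h⟩; rfl } :
      { y : (Σ x : X, X.residueField x ⟶ CommRingCat.of k') //
        φ f y.1 ≫ y.2 = CommRingCat.ofHom (algebraMap k k') } ≃ Σ x : X, H' f k' x).trans
      (Equiv.sigmaCongrRight fun x => equivH f k' x))

lemma card_H [Finite k] (k' : Type u) [Field k'] [Algebra k k'] [Finite k'] (x : X)
    (h : deg f x ∣ Module.finrank k k') : Nat.card (H f k' x) = deg f x := by
  letI := alg f x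
  exact FiniteField.natCard_algHom_of_finrank_dvd h

lemma nonempty_H_iff [Finite k] (k' : Type u) [Field k'] [Algebra k k'] [Finite k'] (x : X) :
    Nonempty (H f k' x) ↔ deg f x ∣ Module.finrank k k' := by
  letI := alg f x
  exact FiniteField.nonempty_algHom_iff_finrank_dvd

/-! ### closed points and degrees -/

lemma isClosed_of_deg_pos [LocallyOfFiniteType f] (x : X) (h : 0 < deg f x) :
    IsClosed ({x} : Set X) := by
  haveI : JacobsonSpace X := LocallyOfFiniteType.jacobsonSpace f
  letI := alg f x
  haveI : Module.Finite k (X.residueField x) := Module.finite_of_finrank_pos h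
  have h1 : IsFinite (Spec.map (φ f x)) := by
    rw [IsFinite.SpecMap_iff]
    exact ‹Module.Finite k (X.residueField x)›
  rw [Spec_map_φ] at h1
  haveI : LocallyOfFiniteType (X.fromSpecResidueField x ≫ f) := inferInstance
  haveI : LocallyOfFiniteType (X.fromSpecResidueField x) :=
    locallyOfFiniteType_of_comp (X.fromSpecResidueField x) f
  exact isClosed_singleton_iff_locallyOfFiniteType.mpr inferInstance

lemma deg_pos_of_isClosed [LocallyOfFiniteType f] (x : X) (hx : IsClosed ({x} : Set X)) :
    0 < deg f x := by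
  haveI := isClosed_singleton_iff_isClosedImmersion.mp hx
  haveI : LocallyOfFiniteType (X.fromSpecResidueField x ≫ f) := inferInstance
  have h1 : IsFinite (X.fromSpecResidueField x ≫ f) :=
    isFinite_iff_locallyOfFiniteType_of_jacobsonSpace.mpr inferInstance
  rw [← Spec_map_φ, IsFinite.SpecMap_iff] at h1
  letI := alg f x
  haveI : Module.Finite k (X.residueField x) := h1
  exact Module.finrank_pos

lemma degCount_eq [LocallyOfFiniteType f] (e : ℕ) (he : 0 < e) :
    Zeta.degCount f e = Nat.card {x : X // deg f x = e} := by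
  unfold Zeta.degCount
  refine Nat.card_congr (Equiv.subtypeEquivRight fun x => ?_)
  rw [residueDegree_eq_deg]
  exact ⟨fun h => h.2, fun h => ⟨isClosed_of_deg_pos f x (h ▸ he), h⟩⟩

/-! ### finiteness and counting -/

section Count

variable [Finite k] [QuasiCompact f] [LocallyOfFiniteType f]

lemma finite_sigma (k' : Type u) [Field k'] [Algebra k k'] [Finite k'] :
    Finite (Σ x : X, H f k' x) := by
  haveI := finite_pts f k'
  exact Finite.of_equiv _ (ptsEquiv f k')

/-- The set of points whose degree divides `[k' : k]` is finite. -/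
lemma finite_dvd (k' : Type u) [Field k'] [Algebra k k'] [Finite k'] :
    {x : X | deg f x ∣ Module.finrank k k'}.Finite := by
  haveI := finite_sigma f k'
  have : {x : X | deg f x ∣ Module.finrank k k'} ⊆ Set.range (fun p : Σ x : X, H f k' x => p.1) := by
    intro x hx
    obtain ⟨h⟩ := (nonempty_H_iff f k' x).mpr hx
    exact ⟨⟨x, h⟩, rfl⟩
  exact (Set.finite_range _).subset this

/-- The set of points of a given positive degree is finite. -/
lemma finite_deg_eq (e : ℕ) (he : 0 < e) : {x : X | deg f x = e}.Finite := by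
  by_cases hne : {x : X | deg f x = e}.Nonempty
  · obtain ⟨x₀, hx₀⟩ := hne
    letI := alg f x₀
    haveI : Module.Finite k (X.residueField x₀) :=
      Module.finite_of_finrank_pos (by rw [show Module.finrank k (X.residueField x₀) = e from hx₀]; exact he)
    haveI : Finite (X.residueField x₀) := Module.finite_of_finite k
    refine (finite_dvd f (X.residueField x₀)).subset ?_
    intro x hx
    change deg f x ∣ Module.finrank k (X.residueField x₀)
    rw [show Module.finrank k (X.residueField x₀) = e from hx₀, show deg f x = e from hx]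
  · rw [Set.not_nonempty_iff_eq_empty] at hne
    rw [hne]; exact Set.finite_empty

instance (e : ℕ) [NeZero e] : Finite {x : X // deg f x = e} :=
  (finite_deg_eq f e (NeZero.pos e)).to_subtype

/-- The number of `k'`-points is `∑_{e ∣ r} e · #{closed points of degree e}`. -/
theorem pointCount_eq_nPts (k' : Type u) [Field k'] [Algebra k k'] [Finite k'] :
    SgaExt.pointCount f k' = Zeta.nPts f (Module.finrank k k') := by
  classical
  set r := Module.finrank k k' with hr
  have hrpos : 0 < r := Module.finrank_pos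
  haveI := finite_sigma f k'
  let Tf : Finset X := (finite_dvd f k').toFinset
  have hTf : ∀ x, x ∈ Tf ↔ deg f x ∣ r := fun x => by simp [Tf, hr]
  -- restrict the sigma type to `Tf`
  let E : (Σ x : X, H f k' x) ≃ Σ x : {x // x ∈ Tf}, H f k' x.1 :=
    { toFun := fun p => ⟨⟨p.1, (hTf p.1).mpr ((nonempty_H_iff f k' p.1).mp ⟨p.2⟩)⟩, p.2⟩
      invFun := fun q => ⟨q.1.1, q.2⟩
      left_inv := fun p => rfl
      right_inv := fun q => rfl }
  haveI : ∀ x : X, Finite (H f k' x) := fun x =>
    Finite.of_injective (fun h => (⟨x, h⟩ : Σ x : X, H f k' x)) sigma_mk_injective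
  rw [pointCount_eq, Nat.card_congr (ptsEquiv f k'), Nat.card_congr E, Nat.card_sigma,
    Finset.sum_coe_sort Tf (fun x => Nat.card (H f k' x))]
  have h1 : ∑ x ∈ Tf, Nat.card (H f k' x) = ∑ x ∈ Tf, deg f x :=
    Finset.sum_congr rfl fun x hx => card_H f k' x ((hTf x).mp hx)
  rw [h1, Zeta.nPts]
  have hmaps : ∀ x ∈ Tf, deg f x ∈ r.divisors := fun x hx =>
    Nat.mem_divisors.mpr ⟨(hTf x).mp hx, hrpos.ne'⟩
  rw [← Finset.sum_fiberwise_of_maps_to hmaps]
  refine Finset.sum_congr rfl fun e he => ?_
  have hepos : 0 < e := Nat.pos_of_mem_divisors he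
  rw [degCount_eq f e hepos]
  have hcard : Nat.card {x : X // deg f x = e} = (Tf.filter fun x => deg f x = e).card := by
    refine Nat.subtype_card _ fun x => ?_
    rw [Finset.mem_filter, hTf]
    exact ⟨fun h => h.2, fun h => ⟨h ▸ Nat.dvd_of_mem_divisors he, h⟩⟩
  rw [hcard, Finset.sum_congr rfl (fun x hx => (Finset.mem_filter.mp hx).2), Finset.sum_const,
    smul_eq_mul, mul_comm]

end Count

end Groth.Agent.Lib.Helper11.ZetaPts
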