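import Groth.Agent.Lib.Helper16.Mero.ZeroScheme
import Groth.Agent.Lib.Helper3.QCExact

/-!
# The support of the zero scheme of a regular (mono) section of an invertible module (helper11)

`support_zeroScheme`: for `L` invertible and `s : O_X ⟶ L` a monomorphism, the support of
`PicF2.zeroScheme L s` is the complement of `CohB1.genLocus L s`.
-/

set_option autoImplicit false
set_option linter.unusedSectionVars false
set_option linter.style.haveILetI false
universe u
open CategoryTheory AlgebraicGeometry TopologicalSpace Opposite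

namespace Groth.Agent.Lib.Helper11.ZsConnA

open H16Mero Mero
open Groth.Agent.Lib.Helper3 Groth.Agent.Lib.Helper3.InvGen Groth.Agent.Lib.Helper3.QCSec

variable {X : Scheme.{u}}

theorem smul_sec_eq_zero_of_mono {L : X.Modules} {s : Coh.structureModule X ⟶ L} (hs : Mono s)
    {W : X.Opens} (r : Γ(X, W)) (h : r • sec s W = 0) : r = 0 := by
  haveI := hs
  rw [← app_eq_smul_sec] at h
  have h2 : s.app W (ofFun W r) = s.app W (ofFun W 0) := by
    rw [h]
    exact (QCExact.app_zero s W).symm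
  exact ofFun_injective W (QCExact.injective_sections s W h2)

theorem exists_smul_eq_of_mem_stalkIdeal' {L : X.Modules}
    {s : Coh.structureModule X ⟶ L} (hs : Mono s) {V : X.Opens}
    {a : Γ(X, V)} (ha : a ∈ stalkIdeal (zeroStalkIdeal L s) V) (m : Γ(L, V)) :
    ∃ b : Γ(X, V), a • m = b • sec s V := by
  have hloc : ∀ y : V, ∃ (W : X.Opens) (hWV : W ≤ V) (_ : y.1 ∈ W) (B : Γ(X, W)),
      res L hWV (a • m) = B • sec s W := by
    intro y
    obtain ⟨β, hβ⟩ := ha y.1 y.2 (L.presheaf.germ V y.1 y.2 m)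
    obtain ⟨W₁, hyW₁, B₁, rfl⟩ := TopCat.Presheaf.exists_germ_eq X.presheaf β
    have hy' : y.1 ∈ V ⊓ W₁ := Opens.mem_inf.mpr ⟨y.2, hyW₁⟩
    have hl : V ⊓ W₁ ≤ V := inf_le_left
    have hr : V ⊓ W₁ ≤ W₁ := inf_le_right
    have hgerm : L.presheaf.germ (V ⊓ W₁) y.1 hy' (res L hl (a • m)) =
        L.presheaf.germ (V ⊓ W₁) y.1 hy' (rres X hr B₁ • sec s (V ⊓ W₁)) := by
      rw [TopCat.Presheaf.germ_res_apply, Mero.germ_smul, Mero.germ_smul,
        TopCat.Presheaf.germ_res_apply, ← sgerm_eq s hy']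
      exact hβ
    obtain ⟨W, hyW, i, i', hres⟩ := TopCat.Presheaf.germ_eq L.presheaf y.1 hy' hy' _ _ hgerm
    have hle : W ≤ V ⊓ W₁ := i.le
    refine ⟨W, hle.trans hl, hyW, rres X (hle.trans hr) B₁, ?_⟩
    calc res L (hle.trans hl) (a • m) = res L hle (res L hl (a • m)) := (res_res L hle hl _).symm
      _ = res L hle (rres X hr B₁ • sec s (V ⊓ W₁)) := hres
      _ = rres X (hle.trans hr) B₁ • sec s W := by rw [res_smul, rres_rres, res_sec]
  choose W hWV hyW B hB using hloc
  have hcompat : ∀ i j : V, rres X (inf_le_left : W i ⊓ W j ≤ W i) (B i) =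
      rres X (inf_le_right : W i ⊓ W j ≤ W j) (B j) := by
    intro i j
    have h1 : (rres X (inf_le_left : W i ⊓ W j ≤ W i) (B i) -
        rres X (inf_le_right : W i ⊓ W j ≤ W j) (B j)) • sec s (W i ⊓ W j) = 0 := by
      rw [sub_smul, sub_eq_zero]
      have e1 : res L ((inf_le_left : W i ⊓ W j ≤ W i).trans (hWV i)) (a • m) =
          rres X (inf_le_left : W i ⊓ W j ≤ W i) (B i) • sec s (W i ⊓ W j) := by
        rw [← res_res L (inf_le_left : W i ⊓ W j ≤ W i) (hWV i), hB i, res_smul, res_sec]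
      have e2 : res L ((inf_le_right : W i ⊓ W j ≤ W j).trans (hWV j)) (a • m) =
          rres X (inf_le_right : W i ⊓ W j ≤ W j) (B j) • sec s (W i ⊓ W j) := by
        rw [← res_res L (inf_le_right : W i ⊓ W j ≤ W j) (hWV j), hB j, res_smul, res_sec]
      rw [← e1, ← e2]
    exact sub_eq_zero.mp (smul_sec_eq_zero_of_mono hs _ h1)
  have hcov : V ≤ ⨆ i, W i := fun y hy => Opens.mem_iSup.mpr ⟨⟨y, hy⟩, hyW ⟨y, hy⟩⟩
  obtain ⟨b, hb⟩ := fun_glue W V hWV hcov B hcompat
  refine ⟨b, sec_eq_of_locally_eq L W V hWV hcov _ _ (fun i => ?_)⟩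
  rw [hB i, res_smul, hb i, res_sec]

/-- On an affine open where `L` has a generator `ε` and `s = c • ε`, the ideal of `Z(s)` is `(c)`. -/
theorem zeroScheme_ideal_eq_span' {L : X.Modules} (hL : PicF.IsInvertible L)
    {s : Coh.structureModule X ⟶ L} (hs : Mono s) {U : X.Opens} (hU : IsAffineOpen U)
    {ε : Γ(L, U)} (hg : IsGen L U ε) {c : Γ(X, U)} (hc : sec s U = c • ε) :
    (PicF2.zeroScheme L s).ideal ⟨U, hU⟩ = Ideal.span {c} := by
  apply le_antisymm
  · intro a ha
    have ha' : a ∈ PicF2.zeroIdealOn L s U :=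
      Scheme.IdealSheafData.ideal_ofIdeals_le _ ⟨U, hU⟩ ha
    obtain ⟨b, hb⟩ : ∃ b : Γ(X, U), a • ε = b • sec s U := ha' ε
    have hb' : a • ε = (b * c) • ε := by
      rw [mul_smul, ← hc]
      exact hb
    rw [Ideal.mem_span_singleton']
    exact ⟨b, (hg.self.smul_inj hb').symm⟩
  · obtain ⟨J, hJ⟩ := exists_zeroIdealSheaf hL s
    have hJle : J ≤ PicF2.zeroScheme L s := by
      apply Scheme.IdealSheafData.le_ofIdeals_iff.mpr
      intro V a ha
      rw [hJ V] at ha
      intro m
      exact exists_smul_eq_of_mem_stalkIdeal' hs ha m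
    rw [Ideal.span_singleton_le_iff_mem]
    apply hJle ⟨U, hU⟩
    rw [hJ]
    intro y hy
    exact germ_mem_zeroStalkIdeal hg hc hy

/-- the support of the zero scheme of a regular section is the complement of the locus where
the section generates. -/
theorem mem_support_zeroScheme_iff {L : X.Modules} (hL : PicF.IsInvertible L)
    {s : Coh.structureModule X ⟶ L} (hs : Mono s) (x : X) :
    x ∈ (PicF2.zeroScheme L s).support ↔ x ∉ CohB1.genLocus L s := by
  obtain ⟨U, ε, hU, hxU, hg⟩ := exists_affine_isGen hL x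
  obtain ⟨c, hc⟩ := hg.self.exists_coord (sec s U)
  rw [Scheme.IdealSheafData.mem_support_iff_of_mem (U := ⟨U, hU⟩) hxU,
    zeroScheme_ideal_eq_span' hL hs hU hg hc.symm]
  have h1 : CohB1.genLocus L s ⊓ U = X.basicOpen c := genLocus_inf_eq_basicOpen s hg c hc.symm
  rw [Scheme.mem_zeroLocus_iff]
  constructor
  · intro h hx
    apply h c (Ideal.subset_span rfl)
    rw [← h1]
    exact ⟨hx, hxU⟩
  · intro h f hf hxf
    apply h
    obtain ⟨b, rfl⟩ := Ideal.mem_span_singleton'.mp hf
    have h2 : x ∈ X.basicOpen c := by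
      have := X.basicOpen_mul b c
      have h3 : x ∈ X.basicOpen b ⊓ X.basicOpen c := by rw [← this]; exact hxf
      exact h3.2
    rw [← h1] at h2
    exact h2.1

end Groth.Agent.Lib.Helper11.ZsConnA
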