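import Groth.Agent.Lib.Helper3.InvMonoidal
import Groth.Agent.Lib.Helper3.InvTensor
import Groth.Agent.Lib.Helper17.PbFlat
import Groth.Agent.Lib.Helper11.ZsConnA

/-!
# The contraction `M^m ⟶ O_X` with a section of the inverse module (helper11)

For `e : L ⊗ M ≅ O_X` and a section `s : O_X ⟶ L`:
* `phi e s : M ⟶ O_X`, `μ ↦ e(s ⊗ μ)`;
* `Phi φ m : M^m ⟶ O_X`, the `m`-fold contraction, with local formula `Phi_lpow`;
* `mono_Phi`, `basicOpen_phi`.
-/

set_option autoImplicit false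
set_option linter.unusedSectionVars false
set_option linter.style.haveILetI false
universe u
open CategoryTheory CategoryTheory.Limits AlgebraicGeometry TopologicalSpace Opposite
open Scheme.Modules

noncomputable section

namespace Groth.Agent.Lib.Helper11.ZsConnB

open Groth.Agent.Lib.Helper3 Groth.Agent.Lib.Helper3.QCSec Groth.Agent.Lib.Helper3.InvGen
  Groth.Agent.Lib.Helper3.InvTensor Groth.Agent.Lib.Helper3.InvMonoidal

variable {X : Scheme.{u}} {L M : X.Modules}

/-- contraction with the section `s`: `M ⟶ O_X`, `μ ↦ e(s ⊗ μ)` -/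
def phi (e : CohB1.tensorMod L M ≅ Coh.structureModule X) (s : Coh.structureModule X ⟶ L) :
    M ⟶ Coh.structureModule X :=
  (unitorL M).inv ≫ tensorMap s (𝟙 M) ≫ e.hom

theorem phi_app (e : CohB1.tensorMod L M ≅ Coh.structureModule X)
    (s : Coh.structureModule X ⟶ L) (U : X.Opens) (μ : Γ(M, U)) :
    (phi e s).app U μ = e.hom.app U (tm L M U (sec s U) μ) := by
  have h1 : (unitorL M).inv.app U μ = tm _ _ U (ofFun U 1) μ := by
    have h := unitorL_hom_tm M U μ 1
    rw [one_smul] at h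
    rw [← h, iso_inv_hom_app, h]
  change e.hom.app U ((tensorMap s (𝟙 M)).app U ((unitorL M).inv.app U μ)) = _
  rw [h1, tensorMap_tm]
  rfl

/-- `e(ε ⊗ μ)` is a unit for generators `ε`, `μ` -/
theorem isUnit_pair (e : CohB1.tensorMod L M ≅ Coh.structureModule X) {U : X.Opens}
    {ε : Γ(L, U)} {μ : Γ(M, U)} (hε : IsGen L U ε) (hμ : IsGen M U μ) :
    IsUnit (toFun U (e.hom.app U (tm L M U ε μ))) := by
  obtain ⟨r, hr⟩ := (isGen_tm hε hμ).self.exists_coord (e.inv.app U (ofFun U 1))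
  have h1 := congrArg (e.hom.app U) hr
  rw [Scheme.Modules.Hom.app_smul, iso_hom_inv_app] at h1
  have h2 : r * toFun U (e.hom.app U (tm L M U ε μ)) = 1 := by
    have h3 : ofFun U (r * toFun U (e.hom.app U (tm L M U ε μ))) = ofFun U 1 := by
      rw [← smul_ofFun]
      exact h1
    exact ofFun_injective U h3
  exact IsUnit.of_mul_eq_one r ((mul_comm _ _).trans h2)

/-- the value of `phi` on a generator is a unit times the coordinate of `s` -/
theorem phi_gen (e : CohB1.tensorMod L M ≅ Coh.structureModule X)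
    (s : Coh.structureModule X ⟶ L) {U : X.Opens} {ε : Γ(L, U)} {μ : Γ(M, U)}
    (c : Γ(X, U)) (hc : sec s U = c • ε) :
    toFun U ((phi e s).app U μ) = c * toFun U (e.hom.app U (tm L M U ε μ)) := by
  rw [phi_app, hc, tm_smul_left, Scheme.Modules.Hom.app_smul]
  rfl

/-- one contraction step `M^(j+1) ⟶ M^j` -/
def step (φ : M ⟶ Coh.structureModule X) (j : ℕ) :
    CohB1.tensorPow M (j + 1) ⟶ CohB1.tensorPow M j :=
  tensorMap (𝟙 (CohB1.tensorPow M j)) φ ≫ (SecTwist.unitorR (CohB1.tensorPow M j)).hom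

theorem step_lpow (φ : M ⟶ Coh.structureModule X) (j : ℕ) {U : X.Opens} (μ : Γ(M, U)) :
    (step φ j).app U (lpow M μ (j + 1)) = toFun U (φ.app U μ) • lpow M μ j := by
  change (SecTwist.unitorR (CohB1.tensorPow M j)).hom.app U
    ((tensorMap (𝟙 (CohB1.tensorPow M j)) φ).app U (lpow M μ (j + 1))) = _
  rw [lpow_succ, tensorMap_tm]
  exact unitorR_hom_tm (CohB1.tensorPow M j) U (lpow M μ j) (toFun U (φ.app U μ))

/-- the `m`-fold contraction `M^m ⟶ O_X` -/
def Phi (φ : M ⟶ Coh.structureModule X) : (m : ℕ) → (CohB1.tensorPow M m ⟶ Coh.structureModule X)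
  | 0 => 𝟙 _
  | j + 1 => step φ j ≫ Phi φ j

theorem Phi_lpow (φ : M ⟶ Coh.structureModule X) (m : ℕ) {U : X.Opens} (μ : Γ(M, U)) :
    (Phi φ m).app U (lpow M μ m) = ofFun U (toFun U (φ.app U μ) ^ m) := by
  induction m with
  | zero =>
    rw [pow_zero]
    rfl
  | succ j ih =>
    change (Phi φ j).app U ((step φ j).app U (lpow M μ (j + 1))) = _
    rw [step_lpow, Scheme.Modules.Hom.app_smul, ih, smul_ofFun, ← pow_succ']

/-- the value of `Phi` on a multiple of the generator -/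
theorem Phi_smul_lpow (φ : M ⟶ Coh.structureModule X) (m : ℕ) {U : X.Opens} (μ : Γ(M, U))
    (r : Γ(X, U)) :
    (Phi φ m).app U (r • lpow M μ m) = ofFun U (r * toFun U (φ.app U μ) ^ m) := by
  rw [Scheme.Modules.Hom.app_smul, Phi_lpow, smul_ofFun]

/-- `Phi` is a monomorphism when the values of `φ` on local generators are nonzerodivisors -/
theorem mono_Phi (φ : M ⟶ Coh.structureModule X) (m : ℕ)
    (hφ : ∀ x : X, ∃ (U : X.Opens) (μ : Γ(M, U)), x ∈ U ∧ IsGen M U μ ∧
      ∀ (V : X.Opens) (hV : V ≤ U) (r : Γ(X, V)),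
        r * toFun V (φ.app V (res M hV μ)) = 0 → r = 0) :
    Mono (Phi φ m) := by
  apply Groth.Agent.Lib.Helper17.PbFlat.mono_of_injective_on_basis
  intro W x hx
  obtain ⟨U, μ, hxU, hg, hnzd⟩ := hφ x
  refine ⟨W ⊓ U, ⟨hx, hxU⟩, inf_le_left, ?_⟩
  have hV : W ⊓ U ≤ U := inf_le_right
  have hgV : IsGenAt (CohB1.tensorPow M m) (W ⊓ U) (lpow M (res M hV μ) m) := by
    have := (isGen_lpow hg m) (W ⊓ U) hV
    rwa [lpow_res] at this
  rw [injective_iff_map_eq_zero]
  intro t ht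
  obtain ⟨r, rfl⟩ := hgV.exists_coord t
  have ht' : (Phi φ m).app (W ⊓ U) (r • lpow M (res M hV μ) m) = 0 := ht
  rw [Phi_smul_lpow] at ht'
  have h0 : r * toFun (W ⊓ U) (φ.app (W ⊓ U) (res M hV μ)) ^ m = 0 := ofFun_injective _ ht'
  have hr : ∀ j : ℕ, r * toFun (W ⊓ U) (φ.app (W ⊓ U) (res M hV μ)) ^ j = 0 → r = 0 := by
    intro j
    induction j with
    | zero => intro h; rwa [pow_zero, mul_one] at h
    | succ j ih =>
      intro h
      apply ih
      apply hnzd (W ⊓ U) hV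
      rw [mul_assoc, ← pow_succ]
      exact h
  rw [hr m h0, zero_smul]

end Groth.Agent.Lib.Helper11.ZsConnB
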